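import Cfsg.Agent.L.Q4B2
import Cfsg.Agent.H1.Q4Base
import Cfsg.Agent.H3.FCProps

set_option autoImplicit false
set_option linter.unusedSectionVars false

/-! S3404, case B3: counting and group-theoretic tools. -/

namespace CfsgH9.Q4C

open Subgroup CfsgH5 CfsgH6 CfsgFT CfsgH1.Q4 CfsgL.Q4B

universe u

theorem dvd_of_blocks {α : Type*} [Finite α] (D : α → Set α) (m : ℕ) (S : Set α)
    (h1 : ∀ p ∈ S, p ∈ D p ∧ D p ⊆ S ∧ (D p).ncard = m) (h2 : ∀ p ∈ S, ∀ q ∈ D p, D q = D p) :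
    m ∣ S.ncard := by
  induction hn : S.ncard using Nat.strong_induction_on generalizing S with
  | _ n ih =>
  rcases S.eq_empty_or_nonempty with rfl | ⟨p, hp⟩
  · rw [← hn]; simp
  obtain ⟨a1, a2, a3⟩ := h1 p hp
  have e := Set.ncard_sdiff_add_ncard_of_subset a2
  have l : 0 < (D p).ncard := (Set.ncard_pos (Set.toFinite _)).2 ⟨p, a1⟩
  rw [← hn, ← e, a3]
  refine (Nat.dvd_add_left dvd_rfl).2 (ih _ (by omega) (S \ D p) (fun q hq => ?_)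
    (fun q hq => h2 q hq.1) rfl)
  obtain ⟨b1, b2, b3⟩ := h1 q hq.1
  exact ⟨b1, fun r hr => ⟨b2 hr, fun hr' => hq.2 (by rwa [← h2 p hp r hr', h2 q hq.1 r hr])⟩, b3⟩

variable {G : Type u} {Ω : Type*} [Group G] [Finite G] [MulAction G Ω] [Finite Ω]

theorem orb (J : Subgroup G) (p : Ω) :
    Nat.card (MulAction.stabilizer G p ⊓ J : Subgroup G) * {q | ∃ g ∈ J, g • p = q}.ncard =
      Nat.card J := by
  rw [← card_inf_mul_relIndex (MulAction.stabilizer G p) J]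
  congr 1
  refine Eq.trans ?_ (MulAction.index_stabilizer J p).symm
  congr 1
  ext y
  exact ⟨fun ⟨g, hg, e⟩ => ⟨⟨g, hg⟩, e⟩, fun ⟨g, e⟩ => ⟨g, g.2, e⟩⟩

theorem cls (J : Subgroup G) (x : G) :
    Nat.card (C1 x ⊓ J : Subgroup G) * {y | ∃ g ∈ J, g * x * g⁻¹ = y}.ncard = Nat.card J := by
  let act : MulAction G G :=
    { smul := fun g y => g * y * g⁻¹
      one_smul := fun y => by change 1 * y * 1⁻¹ = y; simp
      mul_smul := fun a b y => by change a * b * y * (a * b)⁻¹ = a * (b * y * b⁻¹) * a⁻¹; group }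
  have h1 : C1 x = @MulAction.stabilizer G G _ act x := by
    ext g
    exact mem_C1_iff_conj
  rw [h1]
  exact @orb G G _ _ act _ J x

/-- an abelian group of odd order inverted by `t` splits under an involution `s`. -/
theorem split {A : Subgroup G} {s t : G} (ho : ∀ a ∈ A, Odd (orderOf a))
    (hc : ∀ a ∈ A, ∀ b ∈ A, Commute a b) (ss : s * s = 1) (hs : ∀ a ∈ A, s * a * s⁻¹ ∈ A)
    (ht : ∀ a ∈ A, t * a * t⁻¹ = a⁻¹) :
    (∀ a ∈ A, ∃ u ∈ A ⊓ C1 s, ∃ v ∈ A ⊓ C1 (s * t), a = u * v) ∧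
      Nat.card (A ⊓ C1 s : Subgroup G) * Nat.card (A ⊓ C1 (s * t) : Subgroup G) = Nat.card A := by
  have k : ∀ a ∈ A, ∃ u ∈ A ⊓ C1 s, ∃ v ∈ A ⊓ C1 (s * t), a = u * v := fun a ha => by
    obtain ⟨m, hm, rfl⟩ := CfsgSZ.pt_sqrt (ho a ha)
    have m1 : m ∈ A := zpowers_le.2 ha hm
    have m2 := hs m m1
    have e : s * (s * m * s⁻¹) * s⁻¹ = m := by
      rw [show s * (s * m * s⁻¹) * s⁻¹ = (s * s) * m * (s * s)⁻¹ by group, ss]; simp
    have c := (hc _ m1 _ m2).eq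
    refine ⟨_, ⟨A.mul_mem m1 m2, mem_C1_iff_conj'.2 ?_⟩, _, ⟨A.mul_mem (A.inv_mem m2) m1,
      mem_C1_iff_conj'.2 ?_⟩, by group⟩
    · rw [← conj_mul, e, c]
    · rw [show ∀ z, s * t * z * (s * t)⁻¹ = s * (t * z * t⁻¹) * s⁻¹ by intro z; group,
        ht _ (mul_mem (inv_mem m2) m1), mul_inv_rev, inv_inv, ← conj_mul, e, ← conj_inv]
  have hb : (A ⊓ C1 s) ⊓ (A ⊓ C1 (s * t)) = ⊥ := eq_bot_iff.2 fun a ⟨h1, h2⟩ => by
    have e : a ∈ C1 t := by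
      simpa using mem_C1_comm.1 (mul_mem (inv_mem (mem_C1_comm.1 h1.2)) (mem_C1_comm.1 h2.2))
    refine CfsgSZ.pt_eq_one (ho a h1.1) ?_
    nth_rewrite 2 [← mem_C1_iff_conj'.1 e]
    rw [ht a h1.1, mul_inv_cancel]
  refine ⟨k, ?_⟩
  rw [← card_sup_of_inf_eq_bot (Or.inl fun a ha b hb => by rwa [(hc a ha.1 b hb.1).eq,
    mul_inv_cancel_right]) hb]
  refine congrArg (fun K : Subgroup G => Nat.card K)
    (le_antisymm (sup_le inf_le_left inf_le_left) fun a ha => ?_)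
  obtain ⟨u, hu, v, hv, rfl⟩ := k a ha
  exact mul_mem_sup hu hv

theorem fix_two {k x : G} (k3 : k ^ 3 = 1) {n : ℕ} (hx : orderOf x = 2 ^ n)
    (h : k * x * k⁻¹ ∈ zpowers x) : k * x * k⁻¹ = x := by
  obtain ⟨m, hm⟩ := h
  replace hm : x ^ m = k * x * k⁻¹ := hm
  have e : x ^ (m * m * m) = x ^ (1 : ℤ) := by
    rw [zpow_mul, zpow_mul, hm, conj_zpow, hm, conj_zpow, conj_zpow, hm,
      show k * (k * (k * x * k⁻¹) * k⁻¹) * k⁻¹ = k ^ 3 * x * (k ^ 3)⁻¹ by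
        rw [pow_three]; group, k3]
    simp
  rw [zpow_eq_zpow_iff_modEq, hx, Int.modEq_iff_dvd] at e
  have c : IsCoprime ((2 ^ n : ℕ) : ℤ) (m * (m + 1) + 1) := by
    push_cast
    exact (Int.isCoprime_two_left.2 (Int.even_mul_succ_self m).add_one).pow_left
  rw [← hm]
  conv_rhs => rw [← zpow_one x]
  rw [zpow_eq_zpow_iff_modEq, hx, Int.modEq_iff_dvd]
  exact c.dvd_of_dvd_mul_right (by rwa [show (1 - m) * (m * (m + 1) + 1) = 1 - m * m * m by ring])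

/-- a `2`-group complement with an automorphism of order three -/
theorem quat {W : Subgroup G} {k τ : G} (hW : CfsgH3.IsFC W) (h2 : IsPGroup 2 W) (k3 : k ^ 3 = 1)
    (ττ : τ * τ = 1) (hn : ∀ w ∈ W, k * w * k⁻¹ ∈ W)
    (hc : ∀ w ∈ W, k * w * k⁻¹ = w → w = 1 ∨ w = τ) :
    Nat.card W = 8 ∨ ∀ w ∈ W, w = 1 ∨ w = τ := by
  haveI := Fact.mk Nat.prime_two
  rcases hW.cyclic_or_quaternion h2 with c | ⟨-, n, h1, ⟨e⟩⟩
  · obtain ⟨x, hx⟩ := IsCyclic.exists_generator (α := W)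
    obtain ⟨n, e⟩ := IsPGroup.iff_orderOf.1 h2 x
    have m : ∀ w ∈ W, w ∈ zpowers (x : G) := fun w hw =>
      let ⟨i, e⟩ := hx ⟨w, hw⟩
      ⟨i, congrArg Subtype.val e⟩
    have e1 := fix_two k3 ((orderOf_coe x).trans e) (m _ (hn x x.2))
    refine Or.inr fun w hw => hc w hw ?_
    obtain ⟨i, rfl⟩ := m w hw
    simp only
    rw [← conj_zpow, e1]
  haveI : NeZero (2 ^ n) := ⟨by positivity⟩
  rcases h1.eq_or_lt with rfl | h1
  · left
    rw [Nat.card_congr e.toEquiv, Nat.card_eq_fintype_card, QuaternionGroup.card]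
    rfl
  exfalso
  have l : 2 ^ 2 ≤ 2 ^ n := Nat.pow_le_pow_right two_pos h1
  let x := e.symm (.a 1)
  have o : orderOf (x : G) = 2 * 2 ^ n := by
    rw [orderOf_coe, MulEquiv.orderOf_eq, QuaternionGroup.orderOf_a_one]
  have o' : orderOf (e ⟨_, hn x x.2⟩) = 2 * 2 ^ n := by
    rw [MulEquiv.orderOf_eq, ← orderOf_coe, ← o]
    exact (MulAut.conj k).orderOf_eq _
  have e1 := fix_two (x := (x : G)) k3 (n := n + 1) (by rw [o, pow_succ']) (by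
    rcases hb : e ⟨_, hn x x.2⟩ with i | i
    · rw [← ZMod.natCast_zmod_val i, ← QuaternionGroup.a_one_pow, ← MulEquiv.eq_symm_apply,
        map_pow] at hb
      rw [show k * x * k⁻¹ = x ^ i.val from congrArg Subtype.val hb]
      exact npow_mem_zpowers _ _
    · rw [hb, QuaternionGroup.orderOf_xa] at o'
      omega)
  have : orderOf (x : G) ∣ 2 := orderOf_dvd_of_pow_eq_one (by
    rcases hc _ x.2 e1 with e2 | e2 <;> rw [e2]
    exacts [one_pow 2, (sq τ).trans ττ])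
  have := Nat.le_of_dvd two_pos this
  omega

theorem pow_act {u k : G} {B : Set Ω} (hk : ∀ z ∈ B, k • z ∈ B) (h : ∀ z ∈ B, u • z = k • z) (n : ℕ) :
    ∀ z ∈ B, u ^ n • z = k ^ n • z := by
  induction n with
  | zero => simp
  | succ n ih => intro z hz; rw [pow_succ, pow_succ, mul_smul, mul_smul, h z hz, ih _ (hk z hz)]

theorem perm7 (hf : ∀ g : G, (∀ x : Ω, g • x = x) → g = 1)
    (h4 : ∀ {a b c d a' b' c' d' : Ω}, D4 a b c d → D4 a' b' c' d' →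
      ∃ g : G, g • a = a' ∧ g • b = b' ∧ g • c = c' ∧ g • d = d')
    (h7 : Nat.card Ω = 7) {τ : G} {a b x y : Ω} (h : D4 a b x y) (h1 : τ • x = y) (h2 : τ • y = x)
    (h3 : ∀ z, z ≠ x → z ≠ y → τ • z = z) : Nonempty (G ≃* Equiv.Perm (Fin 7)) := by
  classical
  have := Fintype.ofFinite Ω
  refine ⟨(MulEquiv.ofBijective (MulAction.toPermHom G Ω) ⟨(injective_iff_map_eq_one _).2
    fun g e => hf g fun z => congrArg (fun σ : Equiv.Perm Ω => σ z) e, ?_⟩).trans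
    (Finite.equivFinOfCardEq h7).permCongrHom⟩
  rw [← MonoidHom.range_eq_top, eq_top_iff, ← Equiv.Perm.closure_isSwap, closure_le]
  rintro _ ⟨p, q, hpq, rfl⟩
  obtain ⟨c, -, hc⟩ := exists_not_mem_of_lt (S := Set.univ) (T := {p, q})
    (by rw [Set.ncard_univ, Set.ncard_pair hpq]; omega)
  simp only [Set.mem_insert_iff, Set.mem_singleton_iff, not_or] at hc
  obtain ⟨d, -, hd⟩ := exists_not_mem_of_lt (S := Set.univ) (T := {c, p, q})
    (by rw [Set.ncard_univ, ncard3 hc.1 hc.2 hpq]; omega)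
  simp only [Set.mem_insert_iff, Set.mem_singleton_iff, not_or] at hd
  obtain ⟨g, -, -, rfl, rfl⟩ := h4 h ⟨Ne.symm hd.1, hc.1, hc.2, hd.2.1, hd.2.2, hpq⟩
  refine ⟨g * τ * g⁻¹, Equiv.ext fun z => ?_⟩
  obtain ⟨z, rfl⟩ := MulAction.surjective g z
  change (g * τ * g⁻¹) • g • z = _
  by_cases e1 : z = x
  · rw [e1, conj_smul h1, Equiv.swap_apply_left]
  by_cases e2 : z = y
  · rw [e2, conj_smul h2, Equiv.swap_apply_right]
  rw [conj_smul (h3 z e1 e2), Equiv.swap_apply_of_ne_of_ne (smul_ne e1) (smul_ne e2)]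

variable {τ k k' w : G} {B : Set Ω}

theorem W_cop (F : BB G Ω) (ht : Iv τ) (hB : B.ncard = 4) (h1 : τ ∈ St G B)
    (hw : w ∈ St G B ⊓ C1 τ) : (orderOf w).Coprime F.κ := by
  by_cases h : w ∈ F.K B
  · rw [F.fpf hB h1 (F.notK hB ht) h (mem_C1.1 hw.2).symm, orderOf_one]; exact Nat.coprime_one_left _
  · exact F.cop hB hw.1 h

theorem W_conj (hk : Commute k τ) (h : ∀ z ∈ B, k • z ∈ B) (hw : w ∈ St G B ⊓ C1 τ) :
    k * w * k⁻¹ ∈ St G B ⊓ C1 τ :=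
  ⟨image_eq_of_maps h ▸ conj_mem_St.2 hw.1,
    (C1 τ).mul_mem ((C1 τ).mul_mem (mem_C1.2 hk) hw.2) ((C1 τ).inv_mem (mem_C1.2 hk))⟩

/-- elements of order three of `C(τ)` that act equally on `B` are conjugate under `C_{H_B}(τ)`. -/
theorem conj3 (F : BB G Ω) (h3 : 3 ∣ F.κ) (ht : Iv τ) (hB : B.ncard = 4) (h1 : τ ∈ St G B)
    (c : Commute k τ) (c' : Commute k' τ) (k3 : k ^ 3 = 1) (k3' : k' ^ 3 = 1)
    (hk : ∀ z ∈ B, k • z ∈ B) (e : ∀ z ∈ B, k' • z = k • z) :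
    ∃ w ∈ St G B ⊓ C1 τ, w * k * w⁻¹ = k' := by
  have := Fact.mk Nat.prime_three
  have hk' : ∀ z ∈ B, k' • z ∈ B := fun z hz => e z hz ▸ hk z hz
  have m : k⁻¹ * k' ∈ St G B ⊓ C1 τ := ⟨fun z hz => by rw [mul_smul, e z hz, inv_smul_smul],
    (C1 τ).mul_mem ((C1 τ).inv_mem (mem_C1.2 c)) (mem_C1.2 c')⟩
  have o : ∀ w ∈ St G B ⊓ C1 τ, w ^ 3 = 1 → w = 1 := fun w hw h => orderOf_eq_one_iff.1
    (Nat.eq_one_of_dvd_coprimes ((W_cop F ht hB h1 hw).coprime_dvd_right h3) dvd_rfl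
      (orderOf_dvd_of_pow_eq_one h))
  obtain ⟨_, ⟨w, hw, rfl⟩, h⟩ := exists_commute Nat.prime_three 1 (g := k')
    (S := {y | ∃ g ∈ St G B ⊓ C1 τ, g * k * g⁻¹ = y}) (by
      rintro _ ⟨w, hw, rfl⟩
      exact ⟨_, mul_mem (W_conj c' hk' hw) (W_conj c hk m), by group⟩)
    (fun _ _ => by rw [pow_one, k3']; exact Commute.one_left _) fun h => by
      obtain ⟨u, hu, h⟩ := exists_mem_orderOf_eq Nat.prime_three (h.trans (Dvd.intro_left _ (cls _ k)))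
      rw [o u hu (h ▸ pow_orderOf_eq_one u), orderOf_one] at h
      omega
  refine ⟨w, hw, inv_mul_eq_one.1 (o _ ?_ ?_)⟩
  · rw [show (w * k * w⁻¹)⁻¹ * k' = w * (k⁻¹ * w⁻¹ * k⁻¹⁻¹) * (k⁻¹ * k') by group]
    exact mul_mem (mul_mem hw (W_conj c.inv_left (inv_maps hk) (inv_mem hw))) m
  · rw [h.symm.inv_left.mul_pow, inv_pow, conj_pow, k3, k3']; group

/-- the end-game configuration of type I. -/
structure EG (F : BB G Ω) (τ : G) (x y a b : Ω) : Prop extends Cf τ x y a b where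
  hn : Odd (Nat.card Ω)
  semi : ∀ {r : G} {p : Ω}, F.Rm τ x y a b r → τ • p = p → r • p = p → p ≠ a → p ≠ b → r = 1
  r3 : ∀ {r : G}, F.Rm τ x y a b r → r ^ 3 = 1
  three : 3 ∣ F.κ
  card : {r | F.Rm τ x y a b r}.ncard + 2 = (Fx Ω τ).ncard
  phi : (Fx Ω τ).ncard = 5 ∨ (Fx Ω τ).ncard = 11
  ev : ∀ {B : Set Ω} {k : G}, B.ncard = 4 → k ∈ F.K B → k ≠ 1 → (Fx Ω k).ncard % 2 = 0 → Fx Ω k = B
  fr : ∀ {r : G}, F.Rm τ x y a b r → r ≠ 1 → Fx Ω r = {a, b, x, y}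
  move : ∀ {k k' : G} {p p' : Ω}, F.Rm τ x y a b k → k ≠ 1 → F.Rm τ x y a b k' → k' ≠ 1 →
    τ • p = p → p ≠ a → p ≠ b → τ • p' = p' → p' ≠ a → p' ≠ b →
    ∃ g : G, Commute g τ ∧ g * k * g⁻¹ = k' ∧ g • a = a ∧ g • p = p'

end CfsgH9.Q4C
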