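import Cfsg.Agent.H9.Loc3Q
import Cfsg.Agent.H9.S6Fin
import Cfsg.Agent.H5.Suzuki2
import Cfsg.Agent.S3333

/-! Sections isomorphic to `S₆`. -/

set_option autoImplicit false

namespace CfsgH9

open Subgroup CfsgH5 CfsgH6 CfsgFT CfsgH8 CfsgH7 E7

universe u
variable {G : Type u} [Group G] [Finite G]

section lift

variable {X Q : Type*} [Group X] [Group Q] {π : X →* Q} {S : X}
  (hc : ∀ ζ, π ζ = 1 → ∀ g, g * ζ = ζ * g) (hL : ∀ g ζ, π ζ = 1 → g * S * g⁻¹ = S * ζ → ζ = 1)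
include hc hL

theorem lift_eq {a b : X} (ha : IsConj S a) (hb : IsConj S b) (e : π a = π b) : a = b := by
  obtain ⟨g, rfl⟩ := isConj_iff.1 ha
  obtain ⟨k, rfl⟩ := isConj_iff.1 hb
  have e1 : π (g * S * g⁻¹ * (k * S * k⁻¹)⁻¹) = 1 := by rw [map_mul, map_inv, e, mul_inv_cancel]
  refine mul_inv_eq_one.1 (hL (k⁻¹ * g) _ e1 ?_)
  have e2 := hc _ e1 (k * S)⁻¹
  have e3 := hc _ e1 S
  generalize hζ : g * S * g⁻¹ * (k * S * k⁻¹)⁻¹ = ζ at e2 e3 ⊢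
  have e4 : g * S * g⁻¹ = ζ * (k * S * k⁻¹) := by rw [← hζ]; group
  calc k⁻¹ * g * S * (k⁻¹ * g)⁻¹ = k⁻¹ * (g * S * g⁻¹) * k := by group
    _ = S * ((k * S)⁻¹ * ζ) * (k * S) := by rw [e4]; group
    _ = S * ζ := by rw [e2]; group

theorem lift_comm {a b : X} (ha : IsConj S a) (e : π a * π b = π b * π a) : a * b = b * a := by
  have := lift_eq hc hL (ha.trans (isConj_iff.2 ⟨b, rfl⟩)) ha (by
    rw [map_mul, map_mul, ← e, map_inv, mul_inv_cancel_right])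
  rw [← mul_inv_eq_iff_eq_mul.1 this]

theorem lift_braid {a b : X} (ha : IsConj S a) (hb : IsConj S b) (h1 : a * a = 1) (h2 : b * b = 1)
    (e : (π a * π b) ^ 3 = 1) : (a * b) ^ 3 = 1 := by
  have k1 := inv_eq_of_mul_eq_one_right h1
  have k2 := inv_eq_of_mul_eq_one_right h2
  have := lift_eq hc hL (ha.trans (isConj_iff.2 ⟨a * b, rfl⟩)) hb (by
    rw [_root_.mul_inv_rev, k1, k2, ← mul_left_inj (π b), ← map_mul π b b, h2, map_one, ← e, pow_three']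
    simp only [map_mul, mul_assoc])
  rw [_root_.mul_inv_rev, k1, k2] at this
  rw [pow_three', ← h2]
  nth_rewrite 4 [← this]
  group

end lift

namespace E7.Tup

variable {p q s t : G} (h : Tup p q s t)
include h

omit [Finite G] in
theorem b9 : B9 p q := ⟨h.p3, h.q3, h.pq, h.p1, h.ind⟩

omit [Finite G] in
theorem sp' : s * p * s⁻¹ = p⁻¹ := by
  rw [inv_eq_of_mul_eq_one_right h.ss]
  exact eq_inv_of_mul_eq_one_left (by rw [← h.sp]; group)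

omit [Finite G] in
theorem tq' : t * q * t⁻¹ = q⁻¹ := by
  rw [inv_eq_of_mul_eq_one_right h.tt]
  exact eq_inv_of_mul_eq_one_left (by rw [← h.tq]; group)

omit [Finite G] in
theorem conj_s : p * s * p⁻¹ = s * p := by
  have h1 : p * s = s * p⁻¹ := by
    rw [← h.sp', inv_eq_of_mul_eq_one_right h.ss, ← mul_assoc, ← mul_assoc, h.ss, one_mul]
  rw [h1, mul_assoc, ← _root_.mul_inv_rev, inv_eq_of_mul_eq_one_right ((pow_three' p).symm.trans h.p3)]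

omit [Finite G] in
theorem conj_t : q * t * q⁻¹ = t * q := by
  have h1 : q * t = t * q⁻¹ := by
    rw [← h.tq', inv_eq_of_mul_eq_one_right h.tt, ← mul_assoc, ← mul_assoc, h.tt, one_mul]
  rw [h1, mul_assoc, ← _root_.mul_inv_rev, inv_eq_of_mul_eq_one_right ((pow_three' q).symm.trans h.q3)]

theorem d8_core {τ : G} (h1 : τ * τ = 1) (h2 : τ * p * τ⁻¹ = q) (h3 : τ * s * τ⁻¹ = t)
    (hN : ∀ g ∈ N (D9 p q), ∃ w ∈ [1, s, t, s * t, τ, s * τ, t * τ, s * t * τ], g * w⁻¹ ∈ D9 p q)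
    (hC : ∀ y ∈ D9 p q, y ≠ 1 → C1 y ≤ N (D9 p q)) :
    (D9 p q).Normal ∨ Nonempty (G ≃* Equiv.Perm (Fin 6)) := by
  have hb := h.b9
  have mp := left_mem_D9 p q
  have mq := right_mem_D9 p q
  have inv3 : ∀ y : G, y ^ 3 = 1 → y⁻¹ = y → y = 1 := fun y e1 e2 => by
    rwa [pow_three', mul_eq_one_iff_eq_inv.2 e2.symm, one_mul] at e1
  have tp := mul_inv_eq_iff_eq_mul.2 h.tp
  have sq := mul_inv_eq_iff_eq_mul.2 h.sq
  have h4 : τ * q * τ⁻¹ = p := by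
    rw [← h2, show τ * (τ * p * τ⁻¹) * τ⁻¹ = τ * τ * p * (τ * τ)⁻¹ by group, h1]; simp
  have cj2 : ∀ a b y : G, a * b * y * (a * b)⁻¹ = a * (b * y * b⁻¹) * a⁻¹ := fun a b y => by group
  have cji : ∀ a y : G, a * y⁻¹ * a⁻¹ = (a * y * a⁻¹)⁻¹ := fun a y => by group
  have key : ∀ w ∈ [1, s, t, s * t, τ, s * τ, t * τ, s * t * τ], w ∈ C (D9 p q) → w = 1 := by
    intro w hw e
    have e1 := mem_C1_iff_conj.1 (C_le_C1 mp e)
    have e2 := mem_C1_iff_conj.1 (C_le_C1 mq e)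
    simp only [List.mem_cons, List.not_mem_nil, or_false] at hw
    rcases hw with rfl | rfl | rfl | rfl | rfl | rfl | rfl | rfl
    · rfl
    · exact absurd (inv3 _ h.p3 (h.sp'.symm.trans e1)) h.p1
    · exact absurd (inv3 _ h.q3 (h.tq'.symm.trans e2)) hb.b1
    · rw [cj2, tp, h.sp'] at e1; exact absurd (inv3 _ h.p3 e1) h.p1
    · exact absurd (by rw [← e1, h2]; exact mem_zpowers _) h.ind
    · rw [cj2, h2, sq] at e1; exact absurd (e1 ▸ mem_zpowers _) h.ind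
    · rw [cj2, h2, h.tq'] at e1; exact absurd (e1 ▸ by simp) h.ind
    · rw [cj2, cj2, h2, h.tq', cji, sq] at e1; exact absurd (e1 ▸ by simp) h.ind
  have mN : ∀ {g : G}, g * p * g⁻¹ ∈ D9 p q → g * q * g⁻¹ ∈ D9 p q → g ∈ N (D9 p q) := fun e1 e2 =>
    mem_N_of_cj_le (by
      rw [D9, CfsgFT.cj_sup, cj_zpowers, cj_zpowers]
      exact sup_le (zpowers_le.2 e1) (zpowers_le.2 e2))
  have sN : s ∈ N (D9 p q) := mN (h.sp' ▸ inv_mem mp) (sq.symm ▸ mq)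
  have τN : τ ∈ N (D9 p q) := mN (h2.symm ▸ mq) (h4.symm ▸ mp)
  have tN : t ∈ N (D9 p q) := h3 ▸ mul_mem (mul_mem τN sN) (inv_mem τN)
  obtain ⟨Q, _, _, π, hπ⟩ : ∃ (Q : Type u) (_ : Group Q) (_ : Finite Q) (π : N (D9 p q) →* Q),
      Sec _ (D9 p q) π ∧ Nonempty (Q ≃* normalizer (D9 p q : Set G) ⧸
        (D9 p q).subgroupOf (normalizer (D9 p q : Set G))) :=
    ⟨_, inferInstance, inferInstance, QuotientGroup.mk' _, ⟨le_N _, QuotientGroup.mk'_surjective _,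
      fun g => QuotientGroup.eq_one_iff (N := (D9 p q).subgroupOf (N (D9 p q))) g⟩, ⟨MulEquiv.refl _⟩⟩
  obtain ⟨hπ, ⟨e0⟩⟩ := hπ
  have hne : ∀ w : N (D9 p q), (w : G) ∈ [1, s, t, s * t, τ, s * τ, t * τ, s * t * τ] → π w = 1 →
      (w : G) = 1 := fun w hw e => key _ hw (hb.ab ((hπ.ker w).1 e))
  have s1 : s ≠ 1 := fun e => h.p1 (inv3 _ h.p3 (by simpa [e] using h.sp'.symm))
  obtain ⟨e1⟩ := dihedral_of_two_involutions (π ⟨τ, τN⟩) (π ⟨s, sN⟩)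
    (by rw [← map_mul, hπ.ker]; exact show τ * τ ∈ _ from h1 ▸ one_mem _)
    (by rw [← map_mul, hπ.ker]; exact show s * s ∈ _ from h.ss ▸ one_mem _)
    (fun e => h.ind (by
      have := hne ⟨τ, τN⟩ (by simp) e
      simp only at this
      rw [← h2, this]; simp)) (fun e => s1 (hne ⟨s, sN⟩ (by simp) e)) (by
    rw [eq_top_iff]
    intro y _
    obtain ⟨g, rfl⟩ := hπ.surj y
    obtain ⟨w, hw, e⟩ := hN g g.2
    have m1 : π ⟨τ, τN⟩ ∈ closure {π ⟨τ, τN⟩, π ⟨s, sN⟩} := subset_closure (by simp)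
    have m2 : π ⟨s, sN⟩ ∈ closure {π ⟨τ, τN⟩, π ⟨s, sN⟩} := subset_closure (by simp)
    have m3 : π ⟨t, tN⟩ ∈ closure {π ⟨τ, τN⟩, π ⟨s, sN⟩} := by
      have := mul_mem (mul_mem m1 m2) (inv_mem m1)
      rwa [← map_inv, ← map_mul, ← map_mul, show (⟨τ, τN⟩ * ⟨s, sN⟩ * ⟨τ, τN⟩⁻¹ : N (D9 p q)) =
        ⟨t, tN⟩ from Subtype.ext h3] at this
    simp only [List.mem_cons, List.not_mem_nil, or_false] at hw
    rcases hw with rfl | rfl | rfl | rfl | rfl | rfl | rfl | rfl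
    · rw [(hπ.eq_iff (k := 1)).2 e, map_one]; exact one_mem _
    · rwa [(hπ.eq_iff (k := ⟨_, sN⟩)).2 e]
    · rwa [(hπ.eq_iff (k := ⟨_, tN⟩)).2 e]
    · rw [(hπ.eq_iff (k := ⟨_, sN⟩ * ⟨_, tN⟩)).2 e, map_mul]; exact mul_mem m2 m3
    · rwa [(hπ.eq_iff (k := ⟨_, τN⟩)).2 e]
    · rw [(hπ.eq_iff (k := ⟨_, sN⟩ * ⟨_, τN⟩)).2 e, map_mul]; exact mul_mem m2 m1
    · rw [(hπ.eq_iff (k := ⟨_, tN⟩ * ⟨_, τN⟩)).2 e, map_mul]; exact mul_mem m3 m1
    · rw [(hπ.eq_iff (k := ⟨_, sN⟩ * ⟨_, tN⟩ * ⟨_, τN⟩)).2 e, map_mul, map_mul]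
      exact mul_mem (mul_mem m2 m3) m1)
  have h5 : (⟨s, sN⟩ * ⟨τ, τN⟩ : N (D9 p q)) ^ 2 = ⟨s, sN⟩ * ⟨t, tN⟩ := Subtype.ext (by
    change (s * τ) ^ 2 = s * t
    rw [← h3, inv_eq_of_mul_eq_one_right h1, pow_two]; group)
  have h6 : orderOf (π ⟨s, sN⟩ * π ⟨τ, τN⟩) = 2 ^ (1 + 1) := by
    haveI : Fact (Nat.Prime 2) := ⟨Nat.prime_two⟩
    refine orderOf_eq_prime_pow (fun e => ?_) ?_
    · rw [← map_mul, ← map_pow, pow_one, h5] at e
      have := hne _ (by simp) e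
      refine h.p1 (inv3 _ h.p3 ?_)
      rw [← h.sp', ← tp, ← cj2, show s * t = 1 from this]
      simp [tp]
    · rw [← map_mul, ← map_pow, show 2 ^ (1 + 1) = 2 * 2 by rfl, pow_mul, h5, hπ.ker, coe_pow, coe_mul,
        pow_two, mul_assoc, ← mul_assoc t, ← h.st, mul_assoc, h.tt, mul_one, h.ss]
      exact one_mem _
  rw [h6] at e1
  have hS : SylIn 3 (D9 p q) ⊤ := sylIn_of_sq hb.isPGroup le_top fun g _ hg => Or.inr (by
    rw [← coe_pow (x := ⟨g, hg⟩), ← hπ.ker, map_pow, ← map_eq_one_iff _ e1.injective, map_pow]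
    exact (by decide : ∀ y : DihedralGroup 4, y ^ 4 = 1) _)
  obtain ⟨P, hP⟩ := hS.exists_sylow
  refine Cfsg.Agent.S3333.result P _ hP.symm hb.card (le_antisymm (fun g hg => ?_) hb.ab)
    (e0.symm.trans e1) hC
  obtain ⟨w, hw, e⟩ := hN g (C_le_N _ hg)
  simpa [key w hw (by simpa using mul_mem (inv_mem (hb.ab e)) hg)] using e

theorem d8_sec {τ : G} {X Z : Subgroup G} (hZ : Z ≤ X) (hc : X ≤ C Z) (mp : p ∈ X) (ms : s ∈ X)
    (mτ : τ ∈ X) (h1 : τ * τ = 1) (h2 : τ * p * τ⁻¹ = q) (h3 : τ * s * τ⁻¹ = t)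
    (hi : D9 p q ⊓ Z = ⊥)
    (hN : ∀ g ∈ X, g ∈ N (D9 p q ⊔ Z) →
      ∃ w ∈ [1, s, t, s * t, τ, s * τ, t * τ, s * t * τ], g * w⁻¹ ∈ D9 p q ⊔ Z)
    (hC : ∀ y ∈ D9 p q, y ≠ 1 → ∀ g ∈ X, g * y * g⁻¹ * y⁻¹ ∈ Z → g ∈ N (D9 p q ⊔ Z))
    (hL : ∀ g ∈ X, ∀ ζ ∈ Z, g * s * g⁻¹ = s * ζ → ζ = 1) :
    X ≤ N (D9 p q ⊔ Z) ∨ ∃ z, S6 s (s * p) z (t * q) t ∧ z ∈ X ∧
      ∀ g ∈ X, ∃ ζ ∈ Z, ∃ k ∈ K6 s (s * p) z (t * q) t, g = ζ * k := by
  obtain ⟨Q, _, _, π, hπ⟩ := exists_sec hZ (nrm_of_le_C hc)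
  have mq : q ∈ X := h2 ▸ mul_mem (mul_mem mτ mp) (inv_mem mτ)
  have mt : t ∈ X := h3 ▸ mul_mem (mul_mem mτ ms) (inv_mem mτ)
  have hE : D9 p q ⊔ Z ≤ X := sup_le (D9_le mp mq) hZ
  let P : X := ⟨p, mp⟩
  let R : X := ⟨q, mq⟩
  let S : X := ⟨s, ms⟩
  let T : X := ⟨t, mt⟩
  let U : X := ⟨τ, mτ⟩
  have hb : ∀ y ∈ D9 p q, y ∈ Z → y = 1 := fun y e1 e2 => mem_bot.1 (hi ▸ mem_inf.2 ⟨e1, e2⟩)
  have hT : Tup (π P) (π R) (π S) (π T) := by
    refine ⟨?_, ?_, ?_, fun e => h.p1 (hb _ (left_mem_D9 p q) ((hπ.ker P).1 e)), fun e => ?_, ?_, ?_,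
      ?_, ?_, ?_, ?_, ?_⟩
    on_goal 4 =>
      obtain ⟨n, e⟩ := mem_zpowers_iff.1 e
      rw [← map_zpow, hπ.eq_iff] at e
      exact h.ind (mul_inv_eq_one.1 (hb _ (mul_mem (zpow_mem (left_mem_D9 p q) n)
        (inv_mem (right_mem_D9 p q))) e) ▸ zpow_mem (mem_zpowers p) n)
    all_goals simp only [← map_mul, ← map_pow]
    all_goals first
      | exact congrArg π (Subtype.ext (by first | exact h.pq | exact h.st | exact h.sq | exact h.tp))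
      | exact (congrArg π (Subtype.ext (by
          first | exact h.p3 | exact h.q3 | exact h.ss | exact h.tt | exact h.sp |
            exact h.tq))).trans (map_one π)
  have hD0 : img π (D9 p q ⊔ Z) = img π (D9 p q) := by
    rw [img_sup π (D9_le mp mq) hZ, sup_eq_left]
    intro y hy
    obtain ⟨g, hg, hg', e⟩ := mem_img'.1 hy
    rw [← e, (hπ.ker _).2 hg]; exact one_mem _
  have hD : img π (D9 p q ⊔ Z) = D9 (π P) (π R) := by
    rw [hD0, D9, D9, img_sup π (zpowers_le.2 mp) (zpowers_le.2 mq),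
      img_zpowers π mp, img_zpowers π mq]
  rcases hT.d8_core (τ := π U) (by rw [← map_mul, hπ.ker]; exact show τ * τ ∈ _ from h1 ▸ one_mem _)
    (by rw [← map_inv, ← map_mul, ← map_mul]; exact congrArg π (Subtype.ext h2))
    (by rw [← map_inv, ← map_mul, ← map_mul]; exact congrArg π (Subtype.ext h3)) (fun g hg => by
      obtain ⟨g, rfl⟩ := hπ.surj g
      rw [← hD, hπ.mem_N le_sup_right hE] at hg
      obtain ⟨w, hw, e⟩ := hN g g.2 hg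
      obtain ⟨w, hw', rfl⟩ : ∃ w' ∈ [1, S, T, S * T, U, S * U, T * U, S * T * U], (w' : G) = w :=
        List.mem_map.1 hw
      refine ⟨π w, by simpa using List.mem_map_of_mem (f := π) hw', ?_⟩
      rwa [← hD, ← map_inv, ← map_mul, hπ.mem_img le_sup_right]) (fun y hy y1 g hg => by
      obtain ⟨g, rfl⟩ := hπ.surj g
      rw [← hD, hπ.mem_N le_sup_right hE]
      rw [← hD, hD0] at hy
      obtain ⟨y', hy1, hy', e⟩ := mem_img'.1 hy
      subst e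
      rw [mem_C1_iff_conj, ← map_inv, ← map_mul, ← map_mul, hπ.eq_iff] at hg
      exact hC y' hy1 (fun e => y1 (by simp only [e]; exact map_one π)) g g.2 hg) with h4 | ⟨⟨φ⟩⟩
  · exact Or.inl fun g hg => (hπ.mem_N le_sup_right hE (g := ⟨g, hg⟩)).1 (by
      rw [hD]
      change _ ∈ normalizer _
      rw [normalizer_eq_top]; trivial)
  right
  obtain ⟨z, hz, hK⟩ := exists_z_of_perm φ hT
  have c1 : ∀ ζ, π ζ = 1 → ∀ g, g * ζ = ζ * g := fun ζ e g =>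
    Subtype.ext (mem_C.1 (hc g.2) _ ((hπ.ker ζ).1 e)).symm
  have c2 : ∀ g ζ, π ζ = 1 → g * S * g⁻¹ = S * ζ → ζ = 1 := fun g ζ e e1 =>
    Subtype.ext (hL g g.2 ζ ((hπ.ker ζ).1 e) (congrArg Subtype.val e1))
  have i1 : IsConj S (S * P) := isConj_iff.2 ⟨P, Subtype.ext h.conj_s⟩
  have i2 : IsConj S T := isConj_iff.2 ⟨U, Subtype.ext h3⟩
  have i3 : IsConj S (T * R) := i2.trans (isConj_iff.2 ⟨R, Subtype.ext h.conj_t⟩)
  obtain ⟨w, hw⟩ := hπ.surj (π S * π P * z)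
  have i4 : IsConj S (w * (S * P) * w⁻¹) := i1.trans (isConj_iff.2 ⟨w, rfl⟩)
  have e4 : π (w * (S * P) * w⁻¹) = z := by
    rw [map_mul, map_mul, map_inv, hw, map_mul, _root_.mul_inv_rev, inv_eq_of_mul_eq_one_right hz.cc,
      inv_eq_of_mul_eq_one_right hz.bb, ← mul_left_inj z, hz.cc, ← hz.bc, pow_three']
    simp only [mul_assoc]
  have e5 : S * P * (S * P) = 1 := Subtype.ext h.sp
  have e6 : w * (S * P) * w⁻¹ * (w * (S * P) * w⁻¹) = 1 := by rw [conj_mul, e5]; simp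
  generalize w * (S * P) * w⁻¹ = y at i4 e4 e6
  subst e4
  have m6 := mem_K6 s (s * p) y (t * q) t
  refine ⟨y, h.s6 (congrArg Subtype.val e6)
    (congrArg Subtype.val (lift_comm c1 c2 (IsConj.refl S) hz.ac))
    (congrArg Subtype.val (lift_comm c1 c2 i4 hz.ce))
    (congrArg Subtype.val (lift_braid c1 c2 i1 i4 e5 e6 (by rw [map_mul]; exact hz.bc)))
    (congrArg Subtype.val (lift_braid c1 c2 i4 i3 e6 (Subtype.ext h.tq)
      (by rw [map_mul]; exact hz.cd))), y.2, fun g hg => ?_⟩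
  obtain ⟨k, hk, hk', e⟩ := mem_img'.1 (K6_le (K := img π (K6 s (s * p) y (t * q) t))
    (mem_img_of_mem π ms m6.1) (by rw [← map_mul]; exact mem_img_of_mem π (S * P).2 m6.2.1)
    (mem_img_of_mem π y.2 m6.2.2.1) (by rw [← map_mul]; exact mem_img_of_mem π (T * R).2 m6.2.2.2.1)
    (mem_img_of_mem π mt m6.2.2.2.2) (hK.ge (mem_top (π ⟨g, hg⟩))))
  exact ⟨_, hπ.eq_iff.1 e.symm, k, hk, by simp⟩

end E7.Tup

end CfsgH9
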