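import Cfsg.Agent.H9.T3D1
import Cfsg.Agent.H7.Loc12
import Cfsg.Agent.H2.T3Def

/-! The centralizer of `d` in the 3-local frame of `Ω⁺₈(2).3`. -/

set_option autoImplicit false

namespace CfsgH2.T3

open Subgroup CfsgH5 CfsgH6 CfsgFT CfsgH7 CfsgH9 Matrix

universe u

namespace D6

def up (v : P43.V3) : V4 := ![v 0, v 1, v 2, 0]
def dv : V4 := ![0, 0, 0, 1]

theorem dot_iso {A : M4} (h : Aᵀ * A = 1) (v : V4) : (A *ᵥ v) ⬝ᵥ (A *ᵥ v) = v ⬝ᵥ v := by
  rw [dotProduct_mulVec, vecMul_mulVec, h, vecMul_one]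

theorem zero_of (w : P43.V3) : ∀ k : V4, k = 0 ∨ k = dv ∨ k = -dv →
    (k + up w) ⬝ᵥ (k + up w) = up w ⬝ᵥ up w → k = 0 := by
  rintro k (rfl | rfl | rfl) <;> revert w <;> decide +kernel

theorem dec : ∀ v : V4, v + -up ![v 0, v 1, v 2] = 0 ∨ v + -up ![v 0, v 1, v 2] = dv ∨
    v + -up ![v 0, v 1, v 2] = -dv := by decide +kernel

end D6

open D6

variable {G : Type u} [Group G] {f : FD G}

theorem FD.Act.app9 {g : G} {A : M4} (h : f.Act g A) {v w : V4} {p q : G} (e : A *ᵥ v = w)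
    (h1 : f.jv v = p) (h2 : f.jv w = q) : g * p * g⁻¹ = q := by
  rw [← h1, h, e, h2]

theorem FrN.tt9 (h : FrN f) : f.t * f.t = 1 :=
  h.eq_of_act ((h.at'.mul h.at').cast (by decide +kernel)) FD.Act.one (mul_mem h.νt h.νt) (one_mem _)

theorem FrN.ut9 (h : FrN f) : f.u * f.t = f.t * f.u :=
  h.eq_of_act ((h.au.mul h.at').cast (by decide +kernel)) (h.at'.mul h.au) (mul_mem h.νu h.νt)
    (mul_mem h.νt h.νu)

variable [Finite G]

theorem Fr.wu4_of9 (h : Fr f) (e : (f.w * f.u) ^ 4 ∈ f.J) : (f.w * f.u) ^ 4 = 1 := by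
  have c1 : Commute f.t (f.w * f.u) :=
    Commute.mul_right (h.ww ▸ (Commute.refl f.w).mul_left (Commute.refl f.w)) h.ut9.symm
  have c2 : f.w⁻¹ = f.t * f.w := inv_eq_of_mul_eq_one_left (by rw [mul_assoc, h.ww, h.tt9])
  have c3 : f.ν * (f.w * f.u) * f.ν⁻¹ = f.t * (f.w * f.u) := by
    rw [← conj_mul, h.νw, mem_C1_iff_conj.1 (mem_C1_comm.1 h.νu), c2, mul_assoc]
  refine h.eq_one e (mem_C1_comm.1 (mem_C1_iff_conj.2 ?_))
  rw [← conj_pow, c3, c1.mul_pow, show f.t ^ 4 = (f.t * f.t) ^ 2 by rw [← pow_two, ← pow_mul], h.tt9,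
    one_pow, one_mul]

theorem Fr.cent_d (h : Fr f) (he : C1 f.e ≤ N f.J) : (f.w * f.u) ^ 4 = 1 ∧ C1 f.d ≤ f.M := by
  have hJ : f.J ≤ C1 f.d := le_C1_iff.2 (h.ab f.d_mem)
  have hZ : zpowers f.d ≤ f.J := zpowers_le.2 f.d_mem
  have d3 : f.d ^ 3 = 1 := h.exp _ f.d_mem
  have mC : ∀ {g A}, f.Act g A → A *ᵥ dv = dv → g ∈ C1 f.d := fun a e =>
    mem_C1_iff_conj.2 (a.app9 e f.jv_d f.jv_d)
  have mZ : ∀ {v}, f.jv v ∈ zpowers f.d ↔ v = 0 ∨ v = dv ∨ v = -dv := f.jv_d ▸ h.mem_zp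
  obtain ⟨Q, _, _, π, hπ⟩ := exists_sec (hZ.trans hJ) (nrm_of_le_C (C_zpowers _).ge)
  have mp : ∀ {a b : C1 f.d}, (a : G) = b → π a = π b := fun e => congrArg π (Subtype.ext e)
  let d0 : P43.LD (C1 f.d) := ⟨⟨f.a, hJ f.a_mem⟩, ⟨f.b, hJ f.b_mem⟩, ⟨f.c, hJ f.c_mem⟩,
    ⟨f.x, mC h.ax (by decide +kernel)⟩, ⟨f.t, mC h.at' (by decide +kernel)⟩,
    ⟨f.w, mem_C1_iff_conj.2 h.wd⟩⟩
  let U : C1 f.d := ⟨f.u, mC h.au (by decide +kernel)⟩
  have x3 : f.x ^ 3 = 1 := h.eq_of_act ((h.ax.pow 3).cast (by decide +kernel)) FD.Act.one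
    (pow_mem h.νx _) (one_mem _)
  have l0 : P43.Loc0 (d0.map π) := P43.loc0_map (P43.loc0_mk
    (Subtype.ext (h.exp _ f.a_mem)) (Subtype.ext (h.exp _ f.b_mem)) (Subtype.ext (h.exp _ f.c_mem))
    (Subtype.ext (h.ab.comm f.a_mem f.b_mem)) (Subtype.ext (h.ab.comm f.a_mem f.c_mem))
    (Subtype.ext (h.ab.comm f.b_mem f.c_mem)) (Subtype.ext x3)
    (Subtype.ext (h.ax.app9 (by decide +kernel) f.jv_a f.jv_b))
    (Subtype.ext (h.ax.app9 (by decide +kernel) f.jv_b f.jv_c))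
    (Subtype.ext (h.ax.app9 (by decide +kernel) f.jv_c f.jv_a)) (Subtype.ext h.tt9)
    (Subtype.ext (h.at'.app9 (by decide +kernel) f.jv_a f.jv_a))
    (Subtype.ext (h.at'.app9 (by decide +kernel) f.jv_b f.jv_c))
    (Subtype.ext (h.eq_of_act (((h.at'.mul h.ax).mul (h.at'.inv (B := mT) (by decide +kernel))).cast
      (by decide +kernel)) (h.ax.inv (B := mX * mX) (by decide +kernel))
      (mul_mem (mul_mem h.νt h.νx) (inv_mem h.νt)) (inv_mem h.νx)))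
    (Subtype.ext h.ww) (Subtype.ext h.wz) (Subtype.ext h.we) (Subtype.ext h.wa)) π fun e =>
      absurd (mZ.1 (f.jv_z.symm ▸ show f.z ∈ _ from (hπ.ker _).1 e)) (by decide +kernel)
  have jvD : ∀ v, (d0.map π).jv v = π ⟨f.jv (up v), hJ (f.jv_mem _)⟩ := fun v => by
    rw [P43.LD.map_jv]
    exact mp (by simp [P43.LD.jv, FD.jv, up, d0])
  have actD : ∀ {g : C1 f.d} {A B}, f.Act g A → (∀ v, A *ᵥ up v = up (B *ᵥ v)) →
      (d0.map π).Act (π g) B := fun a e v => by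
    rw [jvD, jvD, ← map_inv, ← map_mul, ← map_mul]
    exact mp ((a _).trans (congrArg f.jv (e v)))
  have DJ : (d0.map π).J = img π f.J := le_antisymm (P43.LD.J_le _ (mem_img_of_mem π _ f.a_mem)
    (mem_img_of_mem π _ f.b_mem) (mem_img_of_mem π _ f.c_mem)) fun q hq => by
      obtain ⟨g, a, b, rfl⟩ := mem_img'.1 hq
      obtain ⟨v, rfl⟩ := h.surj a
      rw [show π ⟨_, b⟩ = (d0.map π).jv ![v 0, v 1, v 2] by
        rw [jvD, hπ.eq_iff]
        change f.jv _ * (f.jv _)⁻¹ ∈ _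
        rw [← h.neg, ← h.add]
        exact mZ.2 (dec v)]
      exact P43.LD.jv_mem _ _
  have lift : ∀ {g : C1 f.d} {v w}, π g * (d0.map π).jv v * (π g)⁻¹ = (d0.map π).jv w →
      up v ⬝ᵥ up v = up w ⬝ᵥ up w → g * f.jv (up v) * (g : G)⁻¹ = f.jv (up w) := fun {g v w} a e => by
    rw [jvD, jvD, ← map_inv, ← map_mul, ← map_mul, hπ.eq_iff] at a
    obtain ⟨k, e1⟩ := h.surj (hZ a)
    have e2 : g * f.jv (up v) * (g : G)⁻¹ = f.jv (k + up w) := by
      rw [h.add, e1]; exact (inv_mul_cancel_right _ _).symm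
    obtain ⟨n, A, b, c⟩ := h.fus _ _ _ e2
    rw [e2, zero_of w k (mZ.1 (e1 ▸ a)) (by rw [← c, dot_iso (h.iso n A b), e]), zero_add]
  have hs : Sig3 (img π f.J) := fun K h3 hn => by
    have hK : zpowers f.d ≤ pre π K := fun z hz => mem_pre.mpr ⟨hπ.le hz, by
      rw [(hπ.ker _).2 hz]; exact one_mem _⟩
    have c := hπ.card_img hK (pre_le _ _)
    rw [img_pre_of_le (by rw [MonoidHom.range_eq_top.2 hπ.surj]; exact le_top)] at c
    have k := le_of_opc_central d3 (hK (mem_zpowers _)) le_rfl (Nrm.self _) (pre_le π K)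
      (h.sig.opc fun j hj m hm => by
        obtain ⟨a, b⟩ := mem_pre.mp hm
        have := hn _ (mem_img_of_mem π (hJ hj) hj) _ b
        rw [← map_inv, ← map_mul, ← map_mul] at this
        exact mem_pre.mpr ⟨_, this⟩) (by rwa [relIndex_eq_of_mul hK c])
    refine eq_bot_iff.2 fun q hq => ?_
    obtain ⟨g, rfl⟩ := hπ.surj q
    exact (hπ.ker g).2 (k (coe_mem_pre.2 hq))
  have l1 : P43.Loc (d0.map π) := ⟨l0, fun q hq => by
    obtain ⟨g, rfl⟩ := hπ.surj q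
    rw [← P43.LD.jv_a, mem_C1_iff_conj] at hq
    have e := lift hq rfl
    rw [show up ![1, 1, 1] = ![1, 1, 1, 0] from rfl, f.jv_z] at e
    exact coe_mem_pre.1 ((sup_le (sup_le (fun j hj => mem_pre.2 ⟨hJ hj, P43.LD.J_le_H _
      (DJ ▸ mem_img_of_mem π _ hj)⟩) (zpowers_le.2 (mem_pre.2 ⟨d0.x.2, P43.LD.B_le_H _ (P43.LD.x_mem _)⟩)))
      (zpowers_le.2 (mem_pre.2 ⟨d0.w.2, P43.LD.w_mem _⟩)) : _ ≤ pre π (d0.map π).H)
      (h.czd ⟨mem_C1_iff_conj.2 e, g.2⟩)), DJ ▸ hs⟩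
  have hM : f.J ≤ f.M := f.J_le_H.trans f.H_le_M
  have hH : (d0.map π).H ≤ img π f.M := P43.LD.H_le _ (P43.LD.B_le _ (DJ ▸ img_mono π hM)
    (mem_img_of_mem π _ (f.H_le_M f.x_mem)) (mem_img_of_mem π _ (f.H_le_M f.t_mem)))
    (mem_img_of_mem π _ (f.H_le_M f.w_mem))
  have hU : π U ∈ img π f.M := mem_img_of_mem π _ (f.H_le_M f.u_mem)
  suffices k : ((d0.map π).w * π U) ^ 4 = 1 ∧ img π f.M = ⊤ from ⟨h.wu4_of9 (hZ ((hπ.ker
    ((d0.w * U) ^ 4)).1 (by rw [map_pow, map_mul]; exact k.1))), fun g hg =>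
      (hπ.mem_img (hZ.trans hM) (g := ⟨g, hg⟩)).1 (k.2.ge (mem_top _))⟩
  rcases h.as with hs1 | as
  · have l2 : P43.LocU (d0.map π) (π U) := ⟨l1, (map_mul π _ _).symm.trans ((mp (h.eq_of_act
      ((h.au.mul h.au).cast (by decide +kernel)) FD.Act.one (mul_mem h.νu h.νu) (one_mem _))).trans
        (map_one π)), actD h.au (by decide +kernel),
      (map_mul π _ _).symm.trans ((mp h.ut9).trans (map_mul π _ _))⟩
    have nr : ∀ r, ¬ (d0.map π).Act r (-1) := fun r a => by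
      obtain ⟨g, rfl⟩ := hπ.surj r
      have e : ∀ v, g * f.jv (up v) * (g : G)⁻¹ = f.jv (up (-1 *ᵥ v)) := fun v =>
        lift (a v) (by revert v; decide +kernel)
      exact h.nr hs1 _ (((h.act_of (A := -mS)
        (by rw [← f.jv_a]; exact (e ![1, 0, 0]).trans (congrArg f.jv (by decide +kernel)))
        (by rw [← f.jv_b]; exact (e ![0, 1, 0]).trans (congrArg f.jv (by decide +kernel)))
        (by rw [← f.jv_c]; exact (e ![0, 0, 1]).trans (congrArg f.jv (by decide +kernel)))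
        ((mem_C1_iff_conj.1 g.2).trans (f.jv_d.symm.trans (congrArg f.jv (by decide +kernel))))).mul
          h.aν).cast (by decide +kernel))
    exact ⟨l2.wu4 nr, l2.top_of nr hH hU⟩
  · have an := h.ax.mul h.ay
    have a1 : f.Act (f.x * f.y * f.s * (f.x * f.y)⁻¹) !![-1, 0, 0, 0; 0, 1, 0, 0; 0, 0, 1, 0; 0, 0, 0, 1] :=
      ((an.mul as).mul (an.inv (B := mY * (mX * mX)) (by decide +kernel))).cast (by decide +kernel)
    have n1 : f.x * f.y * f.s * (f.x * f.y)⁻¹ ∈ C1 f.ν :=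
      mul_mem (mul_mem (mul_mem h.νx h.νy) h.νs) (inv_mem (mul_mem h.νx h.νy))
    have m1 : f.x * f.y * f.s * (f.x * f.y)⁻¹ ∈ f.M :=
      have := f.H_le_M (mul_mem f.x_mem f.y_mem)
      mul_mem (mul_mem this f.s_mem) (inv_mem this)
    generalize f.x * f.y * f.s * (f.x * f.y)⁻¹ = s1 at a1 n1 m1
    have ai := h.ax.inv (B := mX * mX) (by decide +kernel)
    have a2 := (h.ax.mul a1).mul ai
    have a3 := (h.ax.mul a2).mul ai
    have n2 := mul_mem (mul_mem h.νx n1) (inv_mem h.νx)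
    have n3 := mul_mem (mul_mem h.νx n2) (inv_mem h.νx)
    let σ : C1 f.d := ⟨s1, mC a1 (by decide +kernel)⟩
    have rs : P43.RS (d0.map π) (π σ) (π (d0.x * σ * d0.x⁻¹))
        (π (d0.x * (d0.x * σ * d0.x⁻¹) * d0.x⁻¹)) := ⟨l1, (map_mul π _ _).symm.trans ((mp
      (h.eq_of_act ((a1.mul a1).cast (by decide +kernel)) FD.Act.one (mul_mem n1 n1)
        (one_mem _))).trans (map_one π)), actD a1 (by decide +kernel),
      (map_mul π _ _).symm.trans ((mp (h.eq_of_act ((h.at'.mul a1).cast (by decide +kernel))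
        (a1.mul h.at') (mul_mem h.νt n1) (mul_mem n1 h.νt))).trans (map_mul π _ _)),
      by simp only [map_mul, map_inv]; rfl, by simp only [map_mul, map_inv]; rfl,
      (map_mul π _ _).symm.trans ((mp (h.eq_of_act ((a1.mul a2).cast (by decide +kernel))
        (a2.mul a1) (mul_mem n1 n2) (mul_mem n2 n1))).trans (map_mul π _ _))⟩
    have eu : π (d0.x * σ * d0.x⁻¹) * π (d0.x * (d0.x * σ * d0.x⁻¹) * d0.x⁻¹) = π U :=
      (map_mul π _ _).symm.trans (mp (h.eq_of_act ((a2.mul a3).cast (by decide +kernel)) h.au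
        (mul_mem n2 n3) h.νu))
    obtain ⟨k1, k2⟩ := rs.top_of fun q hq => by
      obtain ⟨g, rfl⟩ := hπ.surj q
      rw [← P43.LD.jv_e0, mem_C1_iff_conj] at hq
      have e := lift hq rfl
      have e1 : g * f.jv ![1, 0, 0, 1] * (g : G)⁻¹ = f.jv ![1, 0, 0, 1] := by
        rw [show (![1, 0, 0, 1] : V4) = up ![1, 0, 0] + ![0, 0, 0, 1] by decide +kernel, h.add,
          ← conj_mul, e, f.jv_d, mem_C1_iff_conj.1 g.2]
      have b := h.ax.mul (h.ax.mul (h.au.mul h.ay))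
      have e2 := he (mem_C1.2 (b.app9 (v := ![1, 0, 0, 1]) (by decide +kernel) rfl h.jv_e ▸
        P43.comm_cj (mul_inv_eq_iff_eq_mul.1 e1) _))
      rw [DJ, hπ.mem_N hZ hJ]
      exact (mul_mem_cancel_left (h.mem_N b)).1 ((mul_mem_cancel_right (inv_mem (h.mem_N b))).1 e2)
    rw [eu] at k1 k2
    exact ⟨k1, k2 _ hH hU (mem_img_of_mem π _ m1)⟩

end CfsgH2.T3
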