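import Cfsg.Agent.H3.U3Def
import Cfsg.Agent.H3.PSL2Rec
import Cfsg.Agent.H9.Q4C1

set_option autoImplicit false
set_option linter.unusedSectionVars false

/-! S3645, piece (CO): coordinates on the Borel subgroup of a group of type `U₃(q)`. -/

namespace CfsgH9.CO

open Subgroup CfsgH5 CfsgH6 CfsgFT CfsgU3

universe u

section field

variable {E : Type} [Field E] [Fintype E] {q : ℕ}

theorem card_units (hq : Fintype.card E = q ^ 2) : Nat.card Eˣ = q ^ 2 - 1 := by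
  rw [Nat.card_units, Nat.card_eq_fintype_card, hq]

theorem exists_nrm (hq : Fintype.card E = q ^ 2) (h1 : 1 < q) {b : E} (h0 : b ≠ 0) (hb : b ^ q = b) :
    ∃ μ : Eˣ, (μ : E) * μ ^ q = b := by
  obtain ⟨g, hg⟩ := IsCyclic.exists_monoid_generator (α := Eˣ)
  obtain ⟨k, hk⟩ := hg (Units.mk0 b h0)
  obtain ⟨m, rfl⟩ : ∃ m, q = m + 1 := ⟨q - 1, by omega⟩
  have o : orderOf g = (m + 1 + 1) * m := by
    rw [orderOf_eq_card_of_forall_mem_powers hg, card_units hq]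
    exact Nat.sub_eq_of_eq_add (by ring)
  have e : g ^ (k * m) = 1 := by
    rw [pow_mul, show g ^ k = _ from hk, Units.ext_iff, Units.val_pow_eq_pow_val]
    exact mul_left_cancel₀ h0 ((pow_succ' b m).symm.trans (hb.trans (mul_one b).symm))
  obtain ⟨l, rfl⟩ := Nat.dvd_of_mul_dvd_mul_right (by omega) (o ▸ orderOf_dvd_of_pow_eq_one e)
  refine ⟨g ^ l, ?_⟩
  rw [← pow_succ', ← Units.val_pow_eq_pow_val, ← pow_mul, mul_comm l, show g ^ _ = _ from hk]
  rfl

theorem exists_sig {r k : ℕ} (hq : Fintype.card E = (r ^ k) ^ 2) (hr : r.Prime) :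
    (r : E) = 0 ∧ ∃ σ : E →+* E, ∀ u, σ u = u ^ r ^ k := by
  obtain ⟨p, hp⟩ := CharP.exists E
  obtain ⟨n, h1, h2⟩ := FiniteField.card E p
  obtain rfl : p = r := (Nat.prime_dvd_prime_iff_eq h1 hr).1 (h1.dvd_of_dvd_pow (n := k * 2)
    (by rw [pow_mul, ← hq, h2]; exact dvd_pow_self _ n.ne_zero))
  have := Fact.mk h1
  exact ⟨CharP.cast_eq_zero E p, iterateFrobenius E p k, fun _ => rfl⟩

theorem eq_top_of_norm (hq : Fintype.card E = q ^ 2) (h : q = 7 ∨ q = 9) (S : Subring E)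
    (M : Subgroup Eˣ) (hM : Nat.card M = q + 1) (h1 : ∀ μ ∈ M, (μ : E) ∈ S) (u : E) : u ∈ S := by
  let L : Subgroup Eˣ := { S.toSubmonoid.comap (Units.coeHom E) with
    inv_mem' := fun {μ} hμ => by
      rw [← (mem_powers_iff_mem_zpowers.2 (inv_mem (mem_zpowers μ))).choose_spec]
      exact (S.toSubmonoid.comap (Units.coeHom E)).pow_mem hμ _ }
  have e : (S : Set E) = insert 0 (Units.val '' L) := by
    ext v
    refine ⟨fun hv => ?_, ?_⟩
    · by_cases h : v = 0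
      exacts [.inl h, .inr ⟨Units.mk0 v h, hv, rfl⟩]
    · rintro (rfl | ⟨μ, hμ, rfl⟩)
      exacts [S.zero_mem, hμ]
  have c1 : Nat.card S.toAddSubgroup = Nat.card L + 1 := by
    rw [show Nat.card S.toAddSubgroup = (S : Set E).ncard from rfl, e, Set.ncard_insert_of_notMem
      (by rintro ⟨μ, -, h⟩; exact μ.ne_zero h), Set.ncard_image_of_injective _ Units.val_injective]
    rfl
  have c2 := AddSubgroup.card_addSubgroup_dvd_card S.toAddSubgroup
  have c3 := card_subgroup_dvd_card L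
  have c4 := card_le_of_le (show M ≤ L from h1)
  rw [card_units hq] at c3
  rw [c1, Nat.card_eq_fintype_card (α := E), hq] at c2
  have c5 : Nat.card L + 1 = q ^ 2 := by
    have := Nat.le_of_dvd (by rcases h with rfl | rfl <;> norm_num) c2
    generalize Nat.card L = n at *
    rcases h with rfl | rfl <;> (have : n ≤ 80 := by omega) <;> interval_cases n <;> omega
  exact (AddSubgroup.eq_top_of_card_eq S.toAddSubgroup
    (by rw [c1, c5, Nat.card_eq_fintype_card, hq])).ge (AddSubgroup.mem_top u)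

end field

variable {G Ω : Type u} [Group G] [Finite G] [MulAction G Ω] {q r : ℕ} {i o : Ω} {Q Z H : Subgroup G}
  {j : G}

theorem q79 (h : U3B G Ω q r i o Q Z H j) : q = 7 ∧ r = 7 ∨ q = 9 ∧ r = 3 := by simpa using h.par

theorem exists_x (h : U3B G Ω q r i o Q Z H j) (hc : IsCyclic H) :
    ∃ (E : Type) (_ : Field E) (_ : Fintype E) (x : G → E) (η : Eˣ →* G), Fintype.card E = q ^ 2 ∧
      η.range = H ∧ Function.Injective η ∧ (∀ a ∈ Q, ∀ b ∈ Q, x (a * b) = x a + x b) ∧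
      (∀ a ∈ Q, x a = 0 ↔ a ∈ Z) ∧ (∀ u, ∃ a ∈ Q, x a = u) ∧
      ∀ μ : Eˣ, ∀ a ∈ Q, x (η μ * a * (η μ)⁻¹) = μ * x a := by
  classical
  have hn : (Z.subgroupOf Q).Normal := ⟨fun z hz g => by
    rw [mem_subgroupOf] at hz ⊢
    rwa [coe_mul, coe_mul, h.Zc _ hz _ g.2, coe_inv, mul_inv_cancel_right]⟩
  let V := Q ⧸ Z.subgroupOf Q
  let _ : CommGroup V := { (inferInstance : Group V) with
    mul_comm := fun a b => QuotientGroup.induction_on a fun a => QuotientGroup.induction_on b fun b =>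
      QuotientGroup.eq.2 (by
        simpa [mem_subgroupOf, mul_assoc] using h.comm _ (inv_mem b.2) _ (inv_mem a.2)) }
  let c : H → Q →* Q := fun g => ((MulAut.conj (g : G)).toMonoidHom.comp Q.subtype).codRestrict Q
    fun a => h.nrm g ((h.memH g).1 g.2).1 a a.2
  let ψ : H →* AddMonoid.End (Additive V) :=
    { toFun := fun g => MonoidHom.toAdditive (QuotientGroup.map _ _ (c g) fun z hz => h.Zn g g.2 z hz)
      map_one' := AddMonoidHom.ext fun a => QuotientGroup.induction_on (C := fun a => _ = Additive.ofMul a)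
        a fun a => congrArg (fun a : Q => Additive.ofMul (a : V)) (Subtype.ext (by simp [c]))
      map_mul' := fun g k => AddMonoidHom.ext fun a => QuotientGroup.induction_on a fun a =>
        congrArg (fun a : Q => Additive.ofMul (a : V)) (Subtype.ext (by simp [c, mul_assoc])) }
  have hψ : ∀ g (a : Q), ψ g (Additive.ofMul (a : V)) = Additive.ofMul ((c g a : Q) : V) := fun _ _ => rfl
  have hm : ∀ g k v, ψ (g * k) v = ψ g (ψ k v) := fun g k v => by rw [map_mul]; rfl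
  have cV : Nat.card (Additive V) = q ^ 2 := by
    have := (Z.subgroupOf Q).card_mul_index
    rw [Nat.card_congr (subgroupOfEquivOfLe h.Z_le).toEquiv, h.cardZ, h.cardQ, pow_succ'] at this
    exact Nat.eq_of_mul_eq_mul_left (by rcases q79 h with e | e <;> omega) this
  have fr : ∀ (g : H) (v : Additive V), v ≠ 0 → ψ g v = v → g = 1 := fun g v =>
    QuotientGroup.induction_on (C := fun a : V => Additive.ofMul a ≠ 0 → ψ g (Additive.ofMul a) =
      Additive.ofMul a → g = 1) v fun a h0 e => Subtype.ext (h.free g g.2 a a.2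
        (fun hz => h0 ((QuotientGroup.eq_one_iff a).2 hz))
        ((QuotientGroup.eq_one_iff (N := Z.subgroupOf Q) (c g a * a⁻¹)).1 (mul_inv_eq_one (G := V).2 e)))
  have h1 : 1 < q ^ 2 := by rcases q79 h with ⟨rfl, -⟩ | ⟨rfl, -⟩ <;> norm_num
  have := Finite.one_lt_card_iff_nontrivial.1 (cV ▸ h1)
  obtain ⟨b, hb⟩ := exists_ne (0 : Additive V)
  obtain ⟨E, _, _, e, μ, -, he⟩ := CfsgH3.exists_field_of_irreducible ψ
    (fun a b => (IsCyclic.isMulCommutative (α := H)).1.1 a b) (fun U hU => by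
      refine (U.bot_or_exists_ne_zero).imp id fun ⟨v, hv, h0⟩ => ?_
      refine AddSubgroup.eq_top_of_le_card U ?_
      have := Set.ncard_le_ncard_of_injOn (s := Set.univ) (t := (U : Set (Additive V)) \ {0})
        (fun g : H => ψ g v) (fun g _ => ⟨hU g v hv, fun e => h0 (by
          rw [← show ψ (g⁻¹ * g) v = v by simp, map_mul]
          exact (congrArg (ψ g⁻¹) e).trans (map_zero _))⟩)
        fun g _ k _ e => inv_mul_eq_one.1 (fr _ v h0 (by
          rw [map_mul]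
          exact (congrArg (ψ g⁻¹) e.symm).trans ((hm _ _ _).symm.trans (by simp))))
      rw [Set.ncard_univ, h.cardH, Set.ncard_sdiff_singleton_of_mem U.zero_mem] at this
      change _ ≤ (U : Set (Additive V)).ncard
      omega) hb
  have cE : Fintype.card E = q ^ 2 := by rw [← Nat.card_eq_fintype_card, Nat.card_congr e.toEquiv, cV]
  have bi : Function.Bijective μ.toHomUnits := (Nat.bijective_iff_injective_and_card _).2
    ⟨(injective_iff_map_eq_one _).2 fun g e1 => fr g (e 1) (by simp) (by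
      rw [he, show μ g = 1 from congrArg Units.val e1, one_mul]), by rw [card_units cE, h.cardH]⟩
  let f := MulEquiv.ofBijective _ bi
  refine ⟨E, inferInstance, inferInstance,
    fun a => if ha : a ∈ Q then e.symm (Additive.ofMul ((⟨a, ha⟩ : Q) : V)) else 0,
    H.subtype.comp f.symm.toMonoidHom, cE, ?_, Subtype.val_injective.comp f.symm.injective,
    fun a ha b hb => ?_, fun a ha => ?_, fun u => ?_, fun ν a ha => ?_⟩
  · rw [MonoidHom.range_comp, MonoidHom.range_eq_top.2 f.symm.surjective, ← MonoidHom.range_eq_map,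
      range_subtype]
  · simp only [dif_pos ha, dif_pos hb, dif_pos (mul_mem ha hb), ← map_add]
    rfl
  · simp only [dif_pos ha, EmbeddingLike.map_eq_zero_iff]
    exact QuotientGroup.eq_one_iff (⟨a, ha⟩ : Q)
  · obtain ⟨a, ha⟩ := QuotientGroup.mk_surjective (Additive.toMul (e u))
    exact ⟨a, a.2, by simp only [dif_pos a.2, Subtype.coe_eta, ha, ofMul_toMul, e.symm_apply_apply]⟩
  · obtain ⟨g, rfl⟩ := f.surjective ν
    have m : (g : G) * a * (g : G)⁻¹ ∈ Q := (c g ⟨a, ha⟩).2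
    simp only [MonoidHom.comp_apply, MulEquiv.coe_toMonoidHom, MulEquiv.symm_apply_apply, coe_subtype,
      dif_pos ha, dif_pos m, AddEquiv.symm_apply_eq]
    exact (hψ g ⟨a, ha⟩).symm.trans (by rw [show ((f g : Eˣ) : E) = μ g from rfl, ← he, e.apply_symm_apply])

theorem exists_beta (h : U3B G Ω q r i o Q Z H j) {E : Type} [Field E] [Fintype E] {σ : E →+* E}
    {x : G → E} {η : Eˣ →* G} (hq : Fintype.card E = q ^ 2) (hσ : ∀ u, σ u = u ^ q)
    (h1 : η.range = H) (h2 : Function.Injective η) (h3 : ∀ a ∈ Q, ∀ b ∈ Q, x (a * b) = x a + x b)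
    (h4 : ∀ a ∈ Q, x a = 0 ↔ a ∈ Z) (h5 : ∀ u, ∃ a ∈ Q, x a = u)
    (h6 : ∀ μ : Eˣ, ∀ a ∈ Q, x (η μ * a * (η μ)⁻¹) = μ * x a) :
    ∃ β : E → G, (∀ u, β u ∈ Z) ∧ (∀ u v, β (u + v) = β u * β v) ∧ (∀ u, β u = 1 ↔ σ u = u) ∧
      (∀ z ∈ Z, ∃ u, β u = z) ∧
      (∀ a ∈ Q, ∀ b ∈ Q, a * b * a⁻¹ * b⁻¹ = β (σ (x a) * x b)) ∧
      ∀ (μ : Eˣ) u, η μ * β u * (η μ)⁻¹ = β (μ * σ μ * u) := by
  have q1 : 1 < q := by rcases q79 h with e | e <;> omega
  have ss : ∀ u, σ (σ u) = u := fun u => by rw [hσ, hσ, ← pow_mul, ← sq, ← hq, FiniteField.pow_card]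
  have mH : ∀ μ, η μ ∈ H := fun μ => h1 ▸ ⟨μ, rfl⟩
  have mQ : ∀ μ, ∀ a ∈ Q, η μ * a * (η μ)⁻¹ ∈ Q := fun μ => h.nrm _ ((h.memH _).1 (mH μ)).1
  choose s s1 s2 using h5
  obtain ⟨C, hC⟩ : ∃ C : E → E → G, ∀ a ∈ Q, ∀ b ∈ Q, a * b * a⁻¹ * b⁻¹ = C (x a) (x b) := by
    have k : ∀ a ∈ Q, ∃ z ∈ Z, a = s (x a) * z := fun a ha => ⟨(s (x a))⁻¹ * a,
      (h4 _ (mul_mem (inv_mem (s1 _)) ha)).1 (by
        have := h3 _ (s1 (x a)) _ (mul_mem (inv_mem (s1 (x a))) ha)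
        rwa [mul_inv_cancel_left, s2, left_eq_add] at this), by group⟩
    refine ⟨fun u v => s u * s v * (s u)⁻¹ * (s v)⁻¹, fun a ha b hb => ?_⟩
    obtain ⟨z, hz, e1⟩ := k a ha
    obtain ⟨w, hw, e2⟩ := k b hb
    generalize x a = u, x b = v at *
    rw [e1, e2, show s u * z * (s v * w) * (s u * z)⁻¹ * (s v * w)⁻¹ =
      s u * (z * (s v * w) * z⁻¹ * (s u)⁻¹ * w⁻¹) * (s v)⁻¹ by group,
      ← h.Zc z hz _ (mul_mem (s1 v) (h.Z_le hw)), mul_inv_cancel_right, mul_assoc (s v),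
      ← h.Zc w hw _ (inv_mem (s1 u))]
    group
  have hs : ∀ u v, C u v = s u * s v * (s u)⁻¹ * (s v)⁻¹ := fun u v => by rw [hC _ (s1 u) _ (s1 v), s2, s2]
  have mZ : ∀ u v, C u v ∈ Z := fun u v => hs u v ▸ h.comm _ (s1 u) _ (s1 v)
  have a1 : ∀ u u' v, C (u + u') v = C u v * C u' v := fun u u' v => by
    rw [← s2 u, ← s2 u', ← h3 _ (s1 u) _ (s1 u'), s2, s2, ← s2 v, ← hC _ (mul_mem (s1 u) (s1 u')) _ (s1 v),
      s2, h.Zc _ (mZ u' v) _ (h.Z_le (mZ u v)), show s u * s u' * s v * (s u * s u')⁻¹ * (s v)⁻¹ =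
        s u * (s u' * s v * (s u')⁻¹ * (s v)⁻¹) * (s v * (s u)⁻¹ * (s v)⁻¹) by group, ← hs,
      h.Zc _ (mZ u' v) _ (s1 u), hs u]
    group
  have a2 : ∀ u v v', C u (v + v') = C u v * C u v' := fun u v v' => by
    rw [← s2 v, ← s2 v', ← h3 _ (s1 v) _ (s1 v'), s2, s2, ← s2 u, ← hC _ (s1 u) _ (mul_mem (s1 v) (s1 v')),
      s2, show s u * (s v * s v') * (s u)⁻¹ * (s v * s v')⁻¹ = s u * s v * (s u)⁻¹ *
        (s u * s v' * (s u)⁻¹ * (s v')⁻¹) * (s v)⁻¹ by group, ← hs, mul_assoc _ (C u v'),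
      ← h.Zc _ (mZ u v') _ (inv_mem (s1 v)), hs u v]
    group
  have a3 : ∀ (μ : Eˣ) u v, η μ * C u v * (η μ)⁻¹ = C (μ * u) (μ * v) := fun μ u v => by
    rw [← s2 u, ← s2 v, ← h6 _ _ (s1 u), ← h6 _ _ (s1 v), ← hC _ (mQ _ _ (s1 u)) _ (mQ _ _ (s1 v)), s2, s2, hs]
    group
  have z1 : ∀ v, C 0 v = 1 := fun v => by simpa using a1 0 0 v
  have z2 : ∀ u, C u 0 = 1 := fun u => by simpa using a2 u 0 0
  have n1 : ∀ u v, C (-u) v = C u (-v) := fun u v => mul_left_cancel (a := C u v) (by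
    rw [← a1, ← a2, add_neg_cancel, add_neg_cancel, z1, z2])
  let S : Subring E :=
    { carrier := {l | ∀ u v, C (l * u) v = C u (σ l * v)}
      mul_mem' := fun {a b} ha hb u v => by rw [mul_assoc, ha, hb, map_mul, mul_left_comm, mul_assoc]
      one_mem' := fun u v => by simp
      add_mem' := fun {a b} ha hb u v => by rw [add_mul, a1, ha, hb, map_add, add_mul, a2]
      zero_mem' := fun u v => by simp [z1, z2]
      neg_mem' := fun {a} ha u v => by rw [neg_mul, n1, ha, map_neg, mul_neg, neg_mul] }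
  obtain ⟨a, ha, b, hb, hab⟩ := h.nab
  have c0 : C (x a) (x b) ≠ 1 := fun e => hab (by
    rwa [← hC a ha b hb, mul_inv_eq_one, mul_inv_eq_iff_eq_mul] at e)
  have cM : ∀ z ∈ Z, z ≠ 1 → Nat.card ((C1 z).comap η) = q + 1 := fun z hz z1 => by
    rw [← h.H0 z hz z1, ← card_map_of_injective (K := (C1 z).comap η) h2, map_comap_eq, h1]
  have hS := eq_top_of_norm hq ((q79 h).imp And.left And.left) S _ (cM _ (mZ _ _) c0) fun μ hμ u v => by
    have e : μ ^ (q + 1) = 1 := orderOf_dvd_iff_pow_eq_one.1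
      (cM _ (mZ _ _) c0 ▸ orderOf_dvd_natCard _ hμ)
    have e' : (μ : E) * σ μ = 1 := by rw [hσ, ← pow_succ', ← Units.val_pow_eq_pow_val, e, Units.val_one]
    have k : η μ * C u (σ μ * v) * (η μ)⁻¹ = C u (σ μ * v) := by
      by_cases e1 : C u (σ μ * v) = 1
      · simp [e1]
      · exact mem_C1_iff_conj.1 (mem_of_isCyclic_of_pow (X := ⊤) (Y := (C1 _).comap η) inferInstance le_top
          (mem_top μ) (by rw [cM _ (mZ _ _) e1, e]))
    rw [← k, a3, ← mul_assoc, e', one_mul]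
  have b1 : ∀ u v, C u v = C 1 (σ u * v) := fun u v => by rw [← hS u 1 v, mul_one]
  have b2 : ∀ (μ : Eˣ) u, η μ * C 1 u * (η μ)⁻¹ = C 1 (μ * σ μ * u) := fun μ u => by
    rw [a3, b1, mul_one, mul_left_comm, mul_assoc]
  have b3 : ∀ u, C 1 u = 1 → ∀ b, σ b = b → C 1 (b * u) = 1 := fun u hu b hb => by
    by_cases b0 : b = 0
    · rw [b0, zero_mul, z2]
    · obtain ⟨μ, rfl⟩ := exists_nrm hq q1 b0 (hσ b ▸ hb)
      rw [← hσ, ← b2, hu, mul_one, mul_inv_cancel]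
  have b4 : ∀ b, σ b = b → C 1 b = 1 := fun b hb => mul_one b ▸ b3 1 (by rw [hs]; group) b hb
  refine ⟨C 1, mZ 1, a2 1, fun u => ⟨fun hu => by_contra fun hn => c0 ?_, b4 u⟩, fun z hz => ?_,
    fun a ha b hb => by rw [hC a ha b hb, b1], b2⟩
  · have n0 : u - σ u ≠ 0 := sub_ne_zero.2 (Ne.symm hn)
    have n1 : σ u - u ≠ 0 := sub_ne_zero.2 hn
    rw [b1]
    generalize σ (x a) * x b = v
    have e : σ ((v - σ v) / (u - σ u)) = (v - σ v) / (u - σ u) := by
      rw [map_div₀, map_sub, map_sub, ss, ss, div_eq_div_iff n1 n0]; ring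
    rw [← sub_add_cancel v ((v - σ v) / (u - σ u) * u), a2, b3 u hu _ e,
      b4 _ (by rw [map_sub, map_mul, e]; field_simp; ring), one_mul]
  · by_cases e1 : z = 1
    · exact ⟨0, e1 ▸ z2 1⟩
    have ho := CfsgH9.Q4C.cls H (C (x a) (x b))
    rw [inf_comm, h.H0 _ (mZ _ _) c0, h.cardH] at ho
    obtain ⟨g, hg, rfl⟩ := (Set.eq_of_subset_of_ncard_le (t := (Z : Set G) \ {1})
      (s := {y | ∃ g ∈ H, g * C (x a) (x b) * g⁻¹ = y})
      (fun y ⟨g, hg, e⟩ => ⟨e ▸ h.Zn g hg _ (mZ _ _), fun e1 => c0 (by simpa using e.trans e1)⟩) (by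
        rw [Set.ncard_sdiff_singleton_of_mem Z.one_mem, show (Z : Set G).ncard = q from h.cardZ]
        rcases q79 h with ⟨rfl, -⟩ | ⟨rfl, -⟩ <;> omega)).ge ⟨hz, e1⟩
    obtain ⟨μ, rfl⟩ := h1.ge hg
    exact ⟨_, by rw [b1 (x a), b2]⟩

end CfsgH9.CO

namespace CfsgU3

open Subgroup CfsgH9.CO

universe u

variable {G Ω : Type u} [Group G] [Finite G] [MulAction G Ω] {q r : ℕ} {i o : Ω} {Q Z H : Subgroup G}
  {j : G}

theorem U3B.coord (h : U3B G Ω q r i o Q Z H j) (hc : IsCyclic H) :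
    ∃ (E : Type) (_ : Field E) (_ : Fintype E) (σ : E →+* E) (x y : G → E) (η : Eˣ →* G),
      Fintype.card E = q ^ 2 ∧ (∀ u, σ u = u ^ q) ∧ U3D G Ω σ i o Q x y η := by
  obtain ⟨E, _, _, x, η, hq, h1, h2, h3, h4, h5, h6⟩ := exists_x h hc
  obtain ⟨t0, σ, hσ⟩ : (2 : E) ≠ 0 ∧ ∃ σ : E →+* E, ∀ u, σ u = u ^ q := by
    rcases q79 h with ⟨rfl, -⟩ | ⟨rfl, -⟩
    · obtain ⟨e, k⟩ := exists_sig (r := 7) (k := 1) hq (by norm_num)
      exact ⟨fun e2 => one_ne_zero (α := E) (by linear_combination (exp := 1) e - 3 * e2), k⟩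
    · obtain ⟨e, k⟩ := exists_sig (r := 3) (k := 2) hq (by norm_num)
      exact ⟨fun e2 => one_ne_zero (α := E) (by linear_combination (exp := 1) e - e2), k⟩
  have ss : ∀ u, σ (σ u) = u := fun u => by rw [hσ, hσ, ← pow_mul, ← sq, ← hq, FiniteField.pow_card]
  obtain ⟨β, bZ, b1, b2, b3, b4, b5⟩ := exists_beta h hq hσ h1 h2 h3 h4 h5 h6
  obtain ⟨ζ, hζ⟩ : ∃ ζ : G → E, ∀ u, ζ (β u) = u - σ u := by
    choose! γ hγ using b3
    refine ⟨fun z => γ z - σ (γ z), fun u => ?_⟩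
    have := (b2 (γ (β u) - u)).1 (mul_right_cancel (b := β u) (by
      rw [← b1, sub_add_cancel, hγ _ (bZ u), one_mul]))
    rw [map_sub] at this
    linear_combination -this
  choose! w hw using fun a ha => b3 _ (h.jinv a ha)
  have s2 : σ 2 = 2 := map_ofNat σ 2
  obtain ⟨y, hy⟩ : ∃ y : G → E, ∀ a, y a = (x a * σ (x a) + ζ (a * (j * a * j⁻¹))) / 2 := ⟨_, fun _ => rfl⟩
  have ym : ∀ a ∈ Q, ∀ b ∈ Q, y (a * b) = y a + y b + σ (x a) * x b := fun a ha b hb => by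
    rw [hy, hy, hy, show a * b * (j * (a * b) * j⁻¹) =
      a * b * a⁻¹ * (a * (j * a * j⁻¹) * b⁻¹) * (b * (j * b * j⁻¹)) by group,
      ← h.Zc _ (h.jinv a ha) _ (inv_mem hb), ← mul_assoc _ b⁻¹, b4 a ha b hb, ← hw a ha, ← hw b hb, ← b1, ← b1,
      hζ, hζ, hζ, h3 a ha b hb]
    simp only [map_add, map_mul, ss]
    field_simp
    ring
  have xZ : ∀ u, x (β u) = 0 := fun u => (h4 _ (h.Z_le (bZ u))).2 (bZ u)
  have yZ : ∀ u, y (β u) = u - σ u := fun u => by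
    rw [hy, xZ, (h.jZ _ (h.Z_le (bZ u))).2 (bZ u), mul_inv_cancel_right, ← b1, hζ, map_add]
    field_simp
    ring
  have yh : ∀ a ∈ Q, y a + σ (y a) = x a * σ (x a) := fun a ha => by
    rw [hy, ← hw a ha, hζ]
    simp only [map_add, map_mul, map_div₀, map_sub, ss, s2]
    field_simp
    ring
  refine ⟨E, _, _, σ, x, y, η, hq, hσ, h.ne, h.fix, h.tr, h.reg, h.trans, h.nrm, h1 ▸ h.memH, h.inv, h3, ym, yh,
    fun a ha b hb e1 e2 => ?_, fun u v e => ?_, h6, fun μ a ha => ?_⟩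
  · have m := mul_mem (inv_mem hb) ha
    have k1 := h3 b hb _ m
    have k2 := ym b hb _ m
    rw [mul_inv_cancel_left, e1, left_eq_add] at k1
    obtain ⟨u, hu⟩ := b3 _ ((h4 _ m).1 k1)
    rw [mul_inv_cancel_left, e2, k1, mul_zero, add_zero, left_eq_add, ← hu, yZ, sub_eq_zero] at k2
    exact (inv_mul_eq_one.1 (hu.symm.trans ((b2 u).2 k2.symm))).symm
  · obtain ⟨a, ha, rfl⟩ := h5 u
    have m := h.Z_le (bZ ((v - y a) / 2))
    refine ⟨_, mul_mem ha m, by rw [h3 a ha _ m, xZ, add_zero], ?_⟩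
    rw [ym a ha _ m, xZ, yZ, map_div₀, map_sub, s2]
    field_simp
    linear_combination yh a ha - e
  · obtain ⟨ν, rfl⟩ := h1.ge h.jH
    rw [hy, hy, h6 μ a ha, show η μ * a * (η μ)⁻¹ * (η ν * (η μ * a * (η μ)⁻¹) * (η ν)⁻¹) =
      η μ * a * (η μ)⁻¹ * (η ν * η μ) * a * (η ν * η μ)⁻¹ by group, ← map_mul η, mul_comm ν, map_mul η,
      show η μ * a * (η μ)⁻¹ * (η μ * η ν) * a * (η μ * η ν)⁻¹ =
        η μ * (a * (η ν * a * (η ν)⁻¹)) * (η μ)⁻¹ by group, ← hw a ha, b5, hζ, hζ]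
    simp only [map_mul, ss]
    ring

end CfsgU3
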