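import Cfsg.Agent.SZ.T2a_a

set_option autoImplicit false
set_option linter.unusedSectionVars false
set_option maxHeartbeats 400000

/-! Strongly embedded subgroups as permutation groups: every involution fixes exactly one point,
every point is fixed by an involution.  Port of `SZ/Pts_a`, `SZ/Pts_b`, `SZ/T2a_a`. -/

namespace CfsgSE

open Subgroup CfsgH5 CfsgH6 CfsgFT CfsgSZ CfsgSZ.PS

universe u

/-- `t` is an involution. -/
structure Iv {G : Type u} [Group G] (t : G) : Prop where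
  sq : t * t = 1
  ne : t ≠ 1

/-- every involution fixes exactly one point, every point is fixed by an involution. -/
structure SE (G Ω : Type u) [Group G] [MulAction G Ω] : Prop where
  ex : ∀ t : G, Iv t → ∃ α : Ω, t • α = α
  uniq : ∀ t : G, Iv t → ∀ α β : Ω, t • α = α → t • β = β → α = β
  ev : ∀ α : Ω, ∃ t : G, Iv t ∧ t • α = α

variable {G Ω : Type u} [Group G] [Finite G] [MulAction G Ω]
  {α β γ δ ε : Ω} {X Y R T V : Subgroup G} {u s d x y z j k g : G} {p r : ℕ}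

theorem Iv.inv (h : Iv d) : d⁻¹ = d := pt_inv h.sq
theorem Iv.conj (h : Iv d) (g : G) : Iv (g * d * g⁻¹) :=
  ⟨pt_sq_conj h.sq g, CfsgFT.conj_ne_one h.ne⟩
theorem Iv.of_conj (h : Iv (g * d * g⁻¹)) : Iv d := by simpa [mul_assoc] using h.conj g⁻¹
theorem Iv.mul (h : Iv d) (h' : Iv s) (hc : s * d = d * s) (hne : s ≠ d) : Iv (s * d) :=
  ⟨by rw [mul_assoc, ← mul_assoc d, ← hc, mul_assoc, h.sq, mul_one, h'.sq],
    fun e => hne (by rw [eq_inv_of_mul_eq_one_left e, h.inv])⟩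
theorem Iv.orderOf (h : Iv d) : orderOf d = 2 :=
  orderOf_eq_prime (by rw [_root_.sq, h.sq]) h.ne
theorem iv_of_orderOf (h : orderOf d = 2) : Iv d :=
  ⟨by rw [← _root_.sq, ← h, pow_orderOf_eq_one], fun e => by rw [e, orderOf_one] at h; omega⟩
theorem Iv.not_odd (h : Iv d) : ¬ Odd (_root_.orderOf d) := fun o => h.ne (pt_eq_one o h.sq)
theorem Iv.not_mem (h : Iv d) (ho : Odd (Nat.card X)) : d ∉ X := fun e =>
  h.not_odd (pt_odd_mem ho e)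
theorem exists_iv (h : ¬ Odd (Nat.card X)) : ∃ y ∈ X, Iv y :=
  let ⟨y, a, b, c⟩ := pt_exists_invol h; ⟨y, a, b, c⟩
theorem odd_of_no_iv (h : ∀ y ∈ X, ¬ Iv y) : Odd (Nat.card X) := by
  by_contra e
  obtain ⟨y, a, b⟩ := exists_iv e
  exact h y a b
theorem Iv.dihedral (hx : Iv x) (hy : Iv y) (he : ¬ Odd (_root_.orderOf (x * y))) :
    ∃ z ∈ zpowers (x * y), Iv z ∧ z * x = x * z ∧ z * y = y * z :=
  let ⟨z, h1, h2, h3, h4, h5, _⟩ := pt_dihedral hx.sq hy.sq he; ⟨z, h1, ⟨h3, h2⟩, h4, h5⟩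
theorem Iv.mul_of_inv (hu : Iv u) (ho : Odd (_root_.orderOf k)) (h : u * k * u⁻¹ = k⁻¹) :
    Iv (u * k) := let ⟨c, _, e⟩ := pt_conj_of_inv h ho; e ▸ hu.conj c

/-- the four-group generated by two commuting involutions. -/
theorem elAb_four (hy : Iv y) (hj : Iv j) (hc : j * y = y * j) :
    ElAb 2 (zpowers j ⊔ zpowers y) := by
  have a : zpowers j ≤ C (zpowers y) := by rw [C_zpowers, zpowers_le, mem_C1]; exact hc
  have e : ∀ t : G, Iv t → ElAb 2 (zpowers t) := fun t ht =>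
    elAb_zpowers (by rw [_root_.sq]; exact ht.sq)
  exact (e j hj).sup (e y hy) fun a1 a2 b1 b2 => (mem_centralizer_iff.1 (a a2) b1 b2).symm

namespace SE

variable (S : SE G Ω)
include S

theorem smul_eq (h : Iv d) (h1 : d • α = α) (hg : g * d = d * g) : g • α = α :=
  S.uniq d h _ _ (smul_of_comm h1 hg) h1
theorem C1_le (h : Iv d) (h1 : d • α = α) : C1 d ≤ St G α := fun _ hg =>
  S.smul_eq h h1 (mem_C1.1 hg)
theorem smul_of_conj (h : Iv d) (h1 : d • α = α) (h2 : (g * d * g⁻¹) • β = β) : g • α = β :=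
  S.uniq _ (h.conj g) _ _ (conj_smul h1 g) h2
theorem moves (h : Iv d) (h1 : d • α = α) (h2 : β ≠ α) : d • β ≠ β := fun e =>
  h2 (S.uniq d h _ _ e h1)
theorem moves' (h : Iv d) (h1 : d • α = α) (h2 : β ≠ α) : d • β ≠ α := fun e =>
  h2 (MulAction.injective d (e.trans h1.symm))

theorem odd_D (h : α ≠ β) : Odd (Nat.card ↥(St G α ⊓ St G β)) :=
  odd_of_no_iv fun y hy h2 => h (S.uniq y h2 _ _ hy.1 hy.2)

theorem odd_of_le (h : α ≠ β) (h1 : X ≤ St G α) (h2 : X ≤ St G β) : Odd (Nat.card X) :=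
  odd_of_no_iv fun y hy h3 => h (S.uniq y h3 _ _ (h1 hy) (h2 hy))

theorem odd_mul (hs : Iv s) (hd : Iv d) (h1 : s • α = α) (h2 : d • α ≠ α) :
    Odd (orderOf (s * d)) := by
  by_contra e
  obtain ⟨z, -, hz, a, b⟩ := hs.dihedral hd e
  exact h2 (S.smul_eq hz (S.smul_eq hs h1 a) b.symm)

theorem odd_of_fix (h1 : k • α = α) (h2 : k • β = β) (h : α ≠ β) : Odd (orderOf k) :=
  pt_odd_mem (S.odd_D h) ⟨h1, h2⟩

theorem conj_in (hs : Iv s) (hd : Iv d) (h1 : s • α = α) (h2 : d • α ≠ α) :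
    ∃ c ∈ zpowers (s * d), c * s * c⁻¹ = d := by
  obtain ⟨c, hc, e⟩ := pt_conj_of_inv (pt_inv_mul hs.sq hd.sq) (S.odd_mul hs hd h1 h2)
  exact ⟨c, hc, by rw [← e, ← mul_assoc, hs.sq, one_mul]⟩

/-- (e) -/
theorem eq_one (hu : Iv u) (hs : Iv s) (h1 : s • α = α) (h2 : u • α ≠ α)
    (ho : Odd (orderOf k)) (h : u * k * u⁻¹ = k⁻¹) (hc : k * s = s * k) : k = 1 := by
  obtain ⟨c, hc', e⟩ := S.conj_in hs hu h1 h2
  have a : s ∈ C (zpowers k) := by rw [C_zpowers, mem_C1, hc]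
  have b : c ∈ N (C (zpowers k)) := (nrm_N_C _).le_N (zpowers_le.2 (mul_mem (C_le_N _ a)
    (mem_N_of_conj fun x hx => pt_inv_zp h hx ▸ inv_mem hx)) hc')
  have := conj_mem_of_mem_N b a
  rw [e, C_zpowers, mem_C1_iff_conj, h] at this
  exact pt_eq_one ho (by nth_rewrite 1 [← this]; exact inv_mul_cancel k)

/-- the involution conjugating `s` to `d`. -/
theorem exists_J' (hs : Iv s) (hd : Iv d) (h1 : s • α = α) (h2 : d • β = β) (h : α ≠ β) :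
    ∃ j, Iv j ∧ j • α = β ∧ j * s * j⁻¹ = d ∧ ∀ X : Subgroup G, s ∈ X → d ∈ X → j ∈ X := by
  have ho := S.odd_mul hs hd h1 fun e => h (S.uniq d hd _ _ e h2)
  obtain ⟨c, hc, e⟩ := pt_sqrt ho
  have a := pt_inv_zp (pt_inv_mul hs.sq hd.sq) hc
  have b := hs.mul_of_inv (pt_odd_zp ho hc) a
  have f : s * c * s * (s * c)⁻¹ = d := by
    rw [b.inv, mul_assoc (s * c), ← mul_assoc s s, hs.sq, one_mul, mul_assoc, e, ← mul_assoc,
      hs.sq, one_mul]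
  exact ⟨_, b, S.smul_of_conj hs h1 (f ▸ h2), f, fun X x1 x2 =>
    mul_mem x1 (zpowers_le.2 (mul_mem x1 x2) hc)⟩

theorem exists_J (h : α ≠ β) : ∃ u : G, Iv u ∧ u • α = β := by
  obtain ⟨s, a, b⟩ := S.ev α
  obtain ⟨d, c, e⟩ := S.ev β
  obtain ⟨j, h1, h2, -⟩ := S.exists_J' a c b e h
  exact ⟨j, h1, h2⟩

theorem trans (α β : Ω) : ∃ g : G, g • α = β := by
  by_cases h : α = β
  · exact ⟨1, by rw [one_smul, h]⟩
  · exact let ⟨u, _, b⟩ := S.exists_J h; ⟨u, b⟩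

theorem finite : Finite Ω := by
  rcases isEmpty_or_nonempty Ω with h | ⟨⟨α⟩⟩
  · infer_instance
  · exact Finite.of_surjective (fun g : G => g • α) (S.trans α)

theorem of_J (hu : Iv u) (hj : Iv j) (h : u • α ≠ α) (e : j • α = u • α) :
    KK u α (u * j) := by
  have a : (u * j) • α = α := by rw [mul_smul, e, swap_back hu.sq rfl]
  refine ⟨a, S.odd_of_fix a (β := u • α) ?_ h.symm, pt_inv_mul hu.sq hj.sq⟩
  rw [mul_smul, swap_back hj.sq e]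

theorem K_inj {k' : G} (hu : Iv u) (hs : Iv s) (h1 : s • α = α) (h2 : u • α ≠ α)
    (h : KK u α k) (h' : KK u α k') (e : k * s * k⁻¹ = k' * s * k'⁻¹) : k = k' := by
  have a := hu.mul_of_inv h.odd h.inv
  have a' := hu.mul_of_inv h'.odd h'.inv
  have b : (u * k') • α = u • α := by rw [mul_smul, h'.fix]
  have c := S.of_J a' a (b ▸ h2) (by rw [b, mul_smul, h.fix])
  have f : u * k' * (u * k) = k'⁻¹ * k := by rw [← h'.inv, hu.inv, mul_assoc (u * k')]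
  rw [f] at c
  have := S.eq_one a' hs h1 (b ▸ h2) c.odd c.inv (by
    calc _ = k'⁻¹ * (k * s * k⁻¹) * k := by group
      _ = _ := by rw [e]; group)
  exact (inv_mul_eq_one.1 this).symm

/-- a nontrivial element of `K` centralises no involution at `α`. -/
theorem K_eq_one (hu : Iv u) (hs : Iv s) (h1 : s • α = α) (h2 : u • α ≠ α)
    (h : KK u α k) (hc : k * s = s * k) : k = 1 := S.eq_one hu hs h1 h2 h.odd h.inv hc

theorem exists_K {s' : G} (hu : Iv u) (hs : Iv s) (hs' : Iv s') (h1 : s • α = α)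
    (h1' : s' • α = α) (h2 : u • α ≠ α) : ∃ k, KK u α k ∧ k * s * k⁻¹ = s' ∧
      ∀ X : Subgroup G, u ∈ X → s ∈ X → s' ∈ X → k ∈ X := by
  obtain ⟨j, a, b, c, e⟩ := S.exists_J' hs (hs'.conj u) h1 (conj_smul h1' u) h2.symm
  refine ⟨u * j, S.of_J hu a h2 b, ?_, fun X x1 x2 x3 =>
    mul_mem x1 (e X x2 (mul_mem (mul_mem x1 x3) (inv_mem x1)))⟩
  calc _ = u * (j * s * j⁻¹) * u⁻¹ := by group
    _ = (u * u) * s' * (u * u)⁻¹ := by rw [c]; group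
    _ = _ := by rw [hu.sq]; group

/-- every member of `J` lies in `⟨s, j s j⟩`. -/
theorem mem_of_J (hj : Iv j) (hs : Iv s) (h1 : s • α = α) (h2 : j • α ≠ α) (hX : s ∈ X)
    (hX' : j * s * j⁻¹ ∈ X) : j ∈ X := by
  obtain ⟨j', a, b, c, e⟩ := S.exists_J' hs (hs.conj j) h1 (conj_smul h1 j) h2.symm
  have := S.K_inj hj hs h1 h2 (S.of_J hj a h2 b) (S.of_J hj hj h2 rfl) (by
    calc _ = j * (j' * s * j'⁻¹) * j⁻¹ := by group
      _ = _ := by rw [c]; group)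
  exact mul_left_cancel this ▸ e X hX hX'

/-- `D = G_{αβ}` is transitive on the involutions at `α`. -/
theorem conj_D (h : α ≠ β) (hs : Iv s) (hd : Iv d) (h1 : s • α = α) (h2 : d • α = α) :
    ∃ g ∈ St G α ⊓ St G β, g * s * g⁻¹ = d := by
  obtain ⟨u, hu, rfl⟩ := S.exists_J h
  obtain ⟨k, a, b, -⟩ := S.exists_K hu hs hd h1 h2 h.symm
  exact ⟨k, a.mem_D, b⟩

/-- the involutions of `X` are conjugate in `X` if they meet two points. -/
theorem conj_of_two (hs : Iv s) (hd : Iv d) (hj : Iv j) (hu : Iv u) (h1 : s ∈ X)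
    (h2 : d ∈ X) (h3 : j ∈ X) (h4 : u ∈ X) (h5 : j • α = α) (h6 : u • α ≠ α) :
    ∃ c ∈ X, c * s * c⁻¹ = d := by
  have a : ∀ x y, Iv x → Iv y → x ∈ X → y ∈ X → ∀ β : Ω, x • β = β → y • β ≠ β →
      ∃ c ∈ X, c * x * c⁻¹ = y := fun x y hx hy x1 y1 β b1 b2 =>
    let ⟨c, a, b⟩ := S.conj_in hx hy b1 b2; ⟨c, zpowers_le.2 (mul_mem x1 y1) a, b⟩
  obtain ⟨β, hβ⟩ := S.ex s hs
  by_cases e : d • β = β
  swap
  · exact a s d hs hd h1 h2 β hβ e
  obtain ⟨y, hy, y1, y2⟩ : ∃ y, Iv y ∧ y ∈ X ∧ y • β ≠ β := by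
    by_cases f : j • β = β
    · exact ⟨u, hu, h4, S.uniq j hj _ _ h5 f ▸ h6⟩
    · exact ⟨j, hj, h3, f⟩
  obtain ⟨c, c1, c2⟩ := a s y hs hy h1 y1 β hβ y2
  obtain ⟨c', c3, c4⟩ := a d y hd hy h2 y1 β e y2
  exact ⟨c'⁻¹ * c, mul_mem (inv_mem c3) c1, by
    rw [show c'⁻¹ * c * s * (c'⁻¹ * c)⁻¹ = c'⁻¹ * (c * s * c⁻¹) * c' by group, c2, ← c4]; group⟩

/-- if `X` contains an involution at `α` and moves `α`, its involutions are conjugate in `X`. -/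
theorem conj_of_not_le (hj : Iv j) (h3 : j ∈ X) (h5 : j • α = α) (hX : ¬ X ≤ St G α)
    (hs : Iv s) (hd : Iv d) (h1 : s ∈ X) (h2 : d ∈ X) : ∃ c ∈ X, c * s * c⁻¹ = d := by
  obtain ⟨g, a, b⟩ := SetLike.not_le_iff_exists.1 hX
  exact S.conj_of_two hs hd hj (hj.conj g) h1 h2 h3 (mul_mem (mul_mem a h3) (inv_mem a)) h5
    fun e => b (S.smul_of_conj hj h5 e)

theorem exists_conj (h : α ≠ β) (hs : Iv s) (hd : Iv d) : ∃ g : G, g * s * g⁻¹ = d := by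
  obtain ⟨j, a, b⟩ := S.ev α
  obtain ⟨u, c, e⟩ := S.exists_J h
  obtain ⟨g, -, f⟩ := S.conj_of_two (X := ⊤) hs hd a c trivial trivial trivial trivial b
    (e ▸ h.symm)
  exact ⟨g, f⟩

/-- the points of the involutions of `X` form one orbit of `X`. -/
theorem mem_Orb (hs : Iv s) (hd : Iv d) (h1 : s ∈ X) (h2 : d ∈ X) (h3 : s • α = α)
    (h4 : d • β = β) : β ∈ Orb X α := by
  by_cases h : α = β
  · exact h ▸ self_mem_Orb X α
  · obtain ⟨j, -, b, -, e⟩ := S.exists_J' hs hd h3 h4 h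
    exact ⟨j, e X h1 h2, b⟩

theorem ncard_I (h : α ≠ β) (hs : Iv s) (h1 : s • α = α) :
    {d : G | Iv d ∧ d • α = α}.ncard = (C1 s).relIndex (St G α) := by
  rw [← pt_ncard_class]
  congr 1
  ext d
  rw [pt_mem_class]
  exact ⟨fun e => let ⟨g, a, b⟩ := S.conj_D h hs e.1 h1 e.2; ⟨g, a.1, b⟩,
    fun ⟨g, a, b⟩ => b ▸ ⟨hs.conj g, mul_mem (mul_mem a h1) (inv_mem a)⟩⟩

/-- `|D : C_D(s)| = m` for `s` at `α`. -/
theorem idx_D' (h : α ≠ β) (hs : Iv s) (h1 : s • α = α) :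
    (C1 s).relIndex (St G α ⊓ St G β) = (C1 s).relIndex (St G α) := by
  rw [← pt_ncard_class, ← S.ncard_I h hs h1]
  congr 1
  ext d
  rw [pt_mem_class]
  exact ⟨fun ⟨g, a, b⟩ => b ▸ ⟨hs.conj g, (St G α).mul_mem ((St G α).mul_mem a.1 h1)
    ((St G α).inv_mem a.1)⟩, fun e => S.conj_D h hs e.1 h1 e.2⟩

theorem ncard_KK (hu : Iv u) (hs : Iv s) (h1 : s • α = α) (h2 : u • α ≠ α) :
    {k | KK u α k}.ncard = (C1 s).relIndex (St G α) := by
  rw [← S.ncard_I h2.symm hs h1]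
  refine Set.ncard_congr (fun k _ => k * s * k⁻¹) (fun k hk => ⟨hs.conj k, ?_⟩)
    (fun k k' a b e => S.K_inj hu hs h1 h2 a b e) fun d hd => ?_
  · exact mul_mem (mul_mem (show k ∈ St G α from hk.fix) h1) (inv_mem hk.fix)
  · obtain ⟨k, a, b, -⟩ := S.exists_K hu hs hd.1 h1 hd.2 h2
    exact ⟨k, a, b⟩

theorem kk_of (h2 : u • α ≠ α) (hk : k ∈ St G α ⊓ St G (u • α)) (h : u * k * u⁻¹ = k⁻¹) :
    KK u α k := ⟨hk.1, pt_odd_mem (S.odd_D h2.symm) hk, h⟩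

/-- `|D : C_D(u)| = m` for `u ∈ J`. -/
theorem idx_D (hu : Iv u) (h2 : u • α ≠ α) (hs : Iv s) (h1 : s • α = α) :
    (C1 u).relIndex (St G α ⊓ St G (u • α)) = (C1 s).relIndex (St G α) := by
  rw [← S.ncard_KK hu hs h1 h2, ← pt_ncard_inv hu.sq (mem_N_D hu.sq α) (S.odd_D h2.symm)]
  congr 1
  ext k
  exact ⟨fun h => S.kk_of h2 h.1 h.2, fun h => ⟨h.mem_D, h.inv⟩⟩

/-- `D` is transitive on `J`. -/
theorem conj_J (hu : Iv u) (hj : Iv j) (h : u • α ≠ α) (e : j • α = u • α) :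
    ∃ g ∈ St G α ⊓ St G (u • α), g * u * g⁻¹ = j := by
  have a := S.of_J hu hj h e
  obtain ⟨c, c1, c2⟩ := pt_conj_of_inv a.inv a.odd
  exact ⟨c, zpowers_le.2 a.mem_D c1, by rw [← c2, ← mul_assoc, hu.sq, one_mul]⟩

theorem m_eq {α' : Ω} (h : α ≠ α') (hs : Iv s) (h1 : s • α = α) (hd : Iv d) (h2 : d • β = β) :
    (C1 s).relIndex (St G α) = (C1 d).relIndex (St G β) := by
  obtain ⟨g, rfl⟩ := S.exists_conj h hs hd
  rw [← S.smul_of_conj hs h1 h2, ← cj_St, ← cj_C1, relIndex_cj]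

theorem odd_m (h : α ≠ β) (hs : Iv s) (h1 : s • α = α) : Odd ((C1 s).relIndex (St G α)) := by
  rw [← S.idx_D' h hs h1]
  exact (S.odd_D h).of_dvd_nat (relIndex_dvd_card _ _)

theorem idx_le (hu : Iv u) (h1 : u • ε ≠ ε) (hz : Iv z) (h2 : z • ε = ε)
    (ho : Odd (Nat.card R)) (h3 : R ≤ St G ε) (h4 : u ∈ N R) :
    (C1 u).relIndex R ≤ (C1 z).relIndex R := by
  rw [← pt_ncard_inv hu.sq h4 ho, ← pt_ncard_class]
  refine Set.ncard_le_ncard_of_injOn (fun k => k * z * k⁻¹) (fun k hk => pt_mem_class.2 ⟨k, hk.1, rfl⟩)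
    (fun k hk k' hk' e => S.K_inj hu hz h2 h1 ⟨h3 hk.1, pt_odd_mem ho hk.1, hk.2⟩
      ⟨h3 hk'.1, pt_odd_mem ho hk'.1, hk'.2⟩ e) (Set.toFinite _)

theorem syl_J (hp : p.Prime) (h : α ≠ β) (hR : SylIn p R (St G α ⊓ St G β)) :
    ∃ j, Iv j ∧ j • α = β ∧ j ∈ N R := by
  obtain ⟨u, hu, rfl⟩ := S.exists_J h
  obtain ⟨g, hg, e⟩ := pt_exists_conj hu.sq (mem_N_D hu.sq α) (S.odd_D h) hp hR
  refine ⟨_, hu.conj g, ?_, e⟩
  have a : g⁻¹ • α = α := inv_mem (show g ∈ St G α from hg.1)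
  rw [mul_smul, mul_smul, a]
  exact hg.2

/-- an odd order group normalised by a four-group fixes its point. -/
theorem le_St (ho : Odd (Nat.card Y)) (hy : Iv y) (hy' : y ∈ N Y) (h1 : y • ε = ε)
    (hj : j ∈ N Y) (h2 : Iv j) (hne : j ≠ y) (hc : j * y = y * j) :
    Y ≤ St G ε := by
  have f := elAb_four hy h2 hc
  have e : Ln (zpowers j ⊔ zpowers y) j y :=
    ⟨mem_sup_left (mem_zpowers j), mem_sup_right (mem_zpowers y), h2.ne, hy.ne, hne⟩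
  have a : j • ε = ε := S.smul_eq hy h1 hc
  have i : ∀ x : G, Iv x → x • ε = ε → Y ⊓ C1 x ≤ St G ε := fun x x1 x2 =>
    inf_le_right.trans (S.C1_le x1 x2)
  exact e.gen f ((nrm_N Y).mono (sup_le (zpowers_le.2 hj) (zpowers_le.2 hy'))) ho (i _ h2 a)
    (i _ hy h1) (i _ (hy.mul h2 hc hne) (by rw [mul_smul, h1, a]))

theorem pair (hr : r.Prime) (hY : MaxF3 Ω r Y) (h : γ ≠ δ) (h1 : Y ≤ St G γ)
    (h2 : Y ≤ St G δ) : (∃ j, Iv j ∧ j ∈ N Y ∧ j • γ = δ) ∨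
      ∃ Y1 ≤ N Y, IsPGroup r Y1 ∧ Fix2 Y1 γ δ := by
  obtain ⟨R, a, b⟩ := exists_sylIn_ge (le_inf h1 h2) hY.grp
  rcases a.eq_or_lt with rfl | c
  · obtain ⟨j, d, e, f⟩ := S.syl_J hr h b
    exact .inl ⟨j, d, f, e⟩
  have d := lt_inf_N_of_nilpotent (nilpotent_of_isPGroup hr b.isPGroup) c
  have e := b.isPGroup.to_le (inf_le_left (b := N Y))
  refine .inr ⟨_, inf_le_right, e, (fix2_or_fix3 h (inf_le_left.trans (b.le.trans inf_le_left))
    (inf_le_left.trans (b.le.trans inf_le_right))).resolve_right fun f => ?_⟩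
  exact d.ne' (hY.max _ e f d.le)

/-- Step 1. -/
theorem step1 (hr : r.Prime) (h2 : r ≠ 2) (hY : MaxF3 Ω r Y) :
    ∃ y, ∃ ε : Ω, Iv y ∧ y ∈ N Y ∧ y • ε = ε ∧ Y ≤ St G ε := by
  have := Fact.mk hr
  by_contra! hn
  have ho := pt_odd_of_isPGroup hr h2 hY.grp
  obtain ⟨γ, δ, ε, n1, n2, n3, f1, f2, f3⟩ := hY.fix
  by_cases he : Odd (Nat.card (N Y))
  · have a : ∀ γ δ : Ω, γ ≠ δ → Y ≤ St G γ → Y ≤ St G δ →
        ∃ Y1 ≤ N Y, IsPGroup r Y1 ∧ Fix2 Y1 γ δ := fun γ δ h b c =>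
      (S.pair hr hY h b c).resolve_left fun ⟨j, d, e, _⟩ => d.ne (pt_eq_one (pt_odd_mem he e) d.sq)
    have b : ∀ γ δ ε : Ω, γ ≠ δ → γ ≠ ε → Y ≤ St G γ → Y ≤ St G δ → Y ≤ St G ε →
        ∃ g ∈ N Y, g • γ = γ ∧ g • δ = ε := fun γ δ ε h h' c d e => by
      obtain ⟨Y1, a1, a2, a3⟩ := a γ δ h c d
      obtain ⟨Y2, b1, b2, b3⟩ := a γ ε h' c e
      obtain ⟨S1, s1, s2⟩ := exists_sylIn_ge (le_inf a1 a3.l) a2
      obtain ⟨g, hg, s3⟩ := s2.exists_le_cj (le_inf b1 b3.l) b2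
      have c1 := (a3.of_le hr h2 s1 s2.isPGroup).cjj g
      have c2 := b3.of_le hr h2 s3 (isPGroup_cj s2.isPGroup g)
      refine ⟨g, hg.1, hg.2, ((c1.only ε c2.r).resolve_left fun f => h' ?_).symm⟩
      rw [f]; exact (show g • γ = γ from hg.2).symm
    obtain ⟨g, g1, -, g3⟩ := b ε γ δ n2.symm n3.symm f3 f1 f2
    have c : δ ≠ g • δ := fun e => n1 (MulAction.injective g (g3.trans e))
    obtain ⟨k, k1, k2, k3⟩ := b δ (g • δ) γ c n1.symm f2 (le_St_smul f2 g1) f1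
    have d : (k * g) • γ = δ := by rw [mul_smul, g3, k2]
    exact n1 ((smul_eq_of_odd (pt_odd_mem he (mul_mem k1 g1))
      (by rw [d, mul_smul, k3])).symm.trans d)
  obtain ⟨y, y1, y2, y3⟩ := pt_exists_invol he
  have hy : Iv y := ⟨y2, y3⟩
  have four : ∀ y ∈ N Y, y * y = 1 → y ≠ 1 → ∀ v ∈ N Y, v * v = 1 → Commute y v → v = 1 ∨ v = y :=
    fun y y1 y2 y3 v v1 v2 c => by
      by_contra! f
      obtain ⟨ε, e⟩ := S.ex y ⟨y2, y3⟩
      exact hn y ε ⟨y2, y3⟩ y1 e (S.le_St ho ⟨y2, y3⟩ y1 e v1 ⟨v2, f.1⟩ f.2 c.symm.eq)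
  have hz := brauer_suzuki y1 y3 y2 (four y y1 y2 y3)
  have yO : y ∈ N (Opc 2 (N Y)) := (nrm_Opi _ _).le_N y1
  have a : ∀ γ δ : Ω, γ ≠ δ → Y ≤ St G γ → Y ≤ St G δ → ∃ j, Iv j ∧ j ∈ N Y ∧ j • γ = δ :=
    fun γ δ h b c => (S.pair hr hY h b c).elim id fun ⟨Y1, a1, a2, a3⟩ => by
      have n : Nrm Y1 (Opc 2 (N Y)) := (nrm_Opi _ _).mono a1
      have o : Odd (Nat.card ↥(Opc 2 (N Y) ⊔ Y1)) := Nat.coprime_two_right.1
        (coprime_sup_left (.inr n) (Nat.coprime_two_right.2 (odd_Opc _))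
          (Nat.coprime_two_right.2 (pt_odd_of_isPGroup hr h2 a2)))
      obtain ⟨S1, s1, s2⟩ := exists_sylIn_ge (le_sup_right (a := Opc 2 (N Y))) a2
      obtain ⟨g, hg, e⟩ := pt_exists_conj y2 (pt_nrm_of_zstar hz y1 y2 a1) o hr s2
      have g1 : g ∈ N Y := sup_le (Opi_le _ _) a1 hg
      refine ⟨_, hy.conj g, mul_mem (mul_mem g1 y1) (inv_mem g1), ?_⟩
      exact (((a3.of_le hr h2 s1 s2.isPGroup).cases e).resolve_left fun f =>
        h (S.uniq _ (hy.conj g) _ _ f.1 f.2)).1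
  have b : ∀ j, Iv j → j ∈ N Y → j * y ∈ Opc 2 (N Y) := fun j d e => by
    have : ∃ c ∈ N Y, c * y * c⁻¹ = j := by
      by_cases o : Odd (orderOf (y * j))
      · obtain ⟨c, c1, c2⟩ := pt_conj_of_inv (pt_inv_mul y2 d.sq) o
        exact ⟨c, zpowers_le.2 (mul_mem y1 e) c1, by rw [← c2, ← mul_assoc, y2, one_mul]⟩
      obtain ⟨z, z1, z2, z3, z4, z5, -⟩ := pt_dihedral y2 d.sq o
      have z6 := zpowers_le.2 (mul_mem y1 e) z1
      obtain rfl := (four y y1 y2 y3 z z6 z3 z4.symm).resolve_left z2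
      exact ⟨1, one_mem _, by
        rw [(four z y1 y2 y3 j e d.sq z5).resolve_left d.ne]; group⟩
    obtain ⟨c, c1, rfl⟩ := this
    obtain ⟨o, o1, o2⟩ := pt_of_zstar hz c1
    rw [o2]
    exact pt_comm_mem y2 yO o1
  obtain ⟨j1, a1, a2, a3⟩ := a γ δ n1 f1 f2
  obtain ⟨j2, b1, b2, b3⟩ := a ε γ n2.symm f3 f1
  obtain ⟨j3, c1, c2, c3⟩ := a δ ε n3 f2 f3
  have g1 : (j3 * j1 * j2) • ε = ε := by rw [mul_smul, mul_smul, b3, a3, c3]
  have g2 : j3 * j1 * j2 ∈ N Y := mul_mem (mul_mem c2 a2) b2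
  have g3 : j3 * j1 * j2 * y ∈ Opc 2 (N Y) := by
    have := mul_mem (mul_mem (b j3 c1 c2) (inv_mem (b j1 a1 a2))) (b j2 b1 b2)
    rwa [mul_inv_rev, a1.inv, show j3 * y * (y⁻¹ * j1) * (j2 * y) = j3 * j1 * j2 * y by group]
      at this
  by_cases o : Odd (orderOf (j3 * j1 * j2))
  · have := pt_mem_of_odd (pt_two y2) (nrm_zp yO) ((pt_mem_sup_invol y2 yO).2 (.inr g3)) o
    exact y3 (pt_eq_one (pt_odd_mem (odd_Opc _) ((mul_mem_cancel_left this).1 g3)) y2)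
  obtain ⟨z, z1, z2, z3⟩ := pt_exists_invol (X := zpowers (j3 * j1 * j2))
    (by rwa [Nat.card_zpowers])
  exact hn z ε ⟨z2, z3⟩ (zpowers_le.2 g2 z1) ((zpowers_le (H := St G ε)).2 g1 z1) f3

end SE

/-! ### sub-configurations and quotients -/

/-- the points of the involutions of `M`. -/
def Pts (Ω : Type u) [MulAction G Ω] (M : Subgroup G) : SubMulAction M Ω where
  carrier := {α | ∃ t ∈ M, Iv t ∧ t • α = α}
  smul_mem' c _ := fun ⟨t, a, b, e⟩ =>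
    ⟨c * t * c⁻¹, mul_mem (mul_mem c.2 a) (inv_mem c.2), b.conj c, conj_smul e (c : G)⟩

theorem mem_Pts {M : Subgroup G} : α ∈ Pts Ω M ↔ ∃ t ∈ M, Iv t ∧ t • α = α := Iff.rfl

theorem iv_coe {M : Subgroup G} {t : M} : Iv (t : G) ↔ Iv t :=
  ⟨fun h => ⟨Subtype.ext h.sq, fun e => h.ne (congrArg Subtype.val e)⟩,
    fun h => ⟨congrArg Subtype.val h.sq, fun e => h.ne (Subtype.ext e)⟩⟩

theorem Pts_smul {M : Subgroup G} (g : M) (a : Pts Ω M) : ((g • a : Pts Ω M) : Ω) = (g : G) • (a : Ω) :=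
  rfl

/-- a subgroup acts on the points of its involutions. -/
theorem SE.sub (S : SE G Ω) (M : Subgroup G) : SE M (Pts Ω M) where
  ex t ht := let ⟨α, h⟩ := S.ex t (iv_coe.2 ht); ⟨⟨α, t, t.2, iv_coe.2 ht, h⟩, Subtype.ext h⟩
  uniq t ht _ _ a b := Subtype.ext (S.uniq t (iv_coe.2 ht) _ _ (congrArg Subtype.val a)
    (congrArg Subtype.val b))
  ev := fun ⟨_, t, a, b, c⟩ => ⟨⟨t, a⟩, iv_coe.1 b, Subtype.ext c⟩

theorem mem_St_sub {M : Subgroup G} {a : Pts Ω M} {g : M} :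
    g ∈ St M a ↔ (g : G) ∈ St G (a : Ω) := Subtype.ext_iff

/-- a strongly embedded subgroup gives an `SE` action on the cosets. -/
theorem se_quot {H : Subgroup G} (h0 : ¬ Odd (Nat.card H))
    (h : ∀ t ∈ H, Iv t → ∀ g : G, g * t * g⁻¹ ∈ H → g ∈ H) : SE G (G ⧸ H) := by
  have e : St G ((1 : G) : G ⧸ H) = H := MulAction.stabilizer_quotient H
  have tr : ∀ β : G ⧸ H, ∃ g : G, g • ((1 : G) : G ⧸ H) = β := fun β => by
    obtain ⟨g, rfl⟩ := QuotientGroup.mk_surjective β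
    exact ⟨g, by simp⟩
  obtain ⟨s, s1, s2⟩ := exists_iv h0
  refine ⟨fun t ht => ?_, fun t ht α β a b => ?_, fun α => ?_⟩
  · by_contra! hn
    have a : ∀ g : G, g * t * g⁻¹ ∉ H := fun g f => hn (g⁻¹ • ((1 : G) : G ⧸ H)) (by
      rw [← e, mem_St, mul_smul, mul_smul, smul_eq_iff_eq_inv_smul] at f; exact f)
    by_cases o : Odd (orderOf (t * s))
    · obtain ⟨c, -, c2⟩ := pt_conj_of_inv (pt_inv_mul ht.sq s2.sq) o
      exact a c (by rw [← c2, ← mul_assoc, ht.sq, one_mul]; exact s1)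
    obtain ⟨z, -, z1, z2, z3⟩ := ht.dihedral s2 o
    have b : z ∈ H := h s s1 s2 z (by rw [z3, mul_inv_cancel_right]; exact s1)
    exact a 1 (by simpa using h z b z1 t (by rw [← z2, mul_inv_cancel_right]; exact b))
  · obtain ⟨x, rfl⟩ := tr α
    obtain ⟨y, rfl⟩ := tr β
    have a1 : x⁻¹ * t * x⁻¹⁻¹ ∈ H := by
      rw [← e, mem_St, inv_inv, mul_smul, mul_smul, a, inv_smul_smul]
    have := h _ a1 (ht.conj _) (y⁻¹ * x) (by
      rw [← e, mem_St, show y⁻¹ * x * (x⁻¹ * t * x⁻¹⁻¹) * (y⁻¹ * x)⁻¹ = y⁻¹ * t * y by group,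
        mul_smul, mul_smul, b, inv_smul_smul])
    rw [← e, mem_St, mul_smul, inv_smul_eq_iff] at this
    exact this
  · obtain ⟨x, rfl⟩ := tr α
    exact ⟨_, s2.conj x, conj_smul (show s • ((1 : G) : G ⧸ H) = _ from e.ge s1) x⟩

end CfsgSE
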