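import Cfsg.Agent.H7.V3Par
import Cfsg.Agent.H5.Der2

/-! S3424 (G3): a cycle of an element of order `3` that is not contained in a line. -/

set_option autoImplicit false

namespace CfsgH9.V3G

open CfsgV3 CfsgFT CfsgH5 Subgroup MulAction

universe u

variable {G Ω : Type u} [Group G] [Finite G] [MulAction G Ω] {q r m : ℕ} {i o : Ω}
  {Q Z H : Subgroup G} {j : G} (h : UB G Ω q r 3 m i o Q Z H j)
include h

theorem two {a b : Ω} (hab : b ≠ a) : ∃ g : G, g • i = a ∧ g • o = b := by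
  obtain ⟨g, hg⟩ : ∃ g : G, g • i = a := by
    by_cases e : a = i
    · exact ⟨1, by rw [one_smul, e]⟩
    obtain ⟨x, -, hx⟩ := h.tr a e
    obtain ⟨g, hg⟩ := h.trans
    exact ⟨x * g, by rw [mul_smul, hg, hx]⟩
  obtain ⟨x, hx, e⟩ := h.tr (g⁻¹ • b) (fun e => hab (by rw [← hg, ← e, smul_inv_smul]))
  exact ⟨g * x, by rw [mul_smul, h.fix x hx, hg], by rw [mul_smul, e, smul_inv_smul]⟩

theorem fin : Finite Ω := Nat.finite_of_card_ne_zero (by rw [h.cardΩ]; omega)

theorem fix_o {g : G} (hg : g ∈ H) {x : G} (hx : x ∈ Q) : g • x • o = x • o ↔ g * x = x * g := by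
  obtain ⟨g1, g2⟩ := (h.memH g).1 hg
  refine ⟨fun e => ?_, fun e => by rw [smul_smul, e, mul_smul, g2]⟩
  have := h.reg _ (mul_mem (inv_mem hx) (h.nrm g g1 x hx)) (by
    rw [mul_smul, mul_smul, mul_smul, inv_smul_eq_iff.2 g2.symm, e, inv_smul_smul])
  rwa [inv_mul_eq_one, eq_mul_inv_iff_mul_eq, eq_comm] at this

theorem fix3 (hc : IsCyclic H) {z : G} (hz : orderOf z = 3) {a : Ω} (ha : z • a = a) : {v : Ω | z • v = v}.ncard = q + 1 := by
  have := fin h
  have : Fact (Nat.Prime 3) := ⟨Nat.prime_three⟩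
  have k : ∀ z : G, orderOf z = 3 → z ∈ H → {v : Ω | z • v = v}.ncard ≠ 2 →
      {v : Ω | z • v = v}.ncard = q + 1 := fun z hz zH n => by
    have z1 : z ≠ 1 := fun e => by simp [e] at hz
    have fz : ∀ x ∈ Q, z * x = x * z → x ∈ Z := fun x hx e => by_contra fun k =>
      z1 (h.free z zH x hx k (by simp [e]))
    obtain ⟨x, hx, x1, e⟩ : ∃ x ∈ Q, x ≠ 1 ∧ z * x = x * z := by
      by_contra! k
      refine n (Set.ncard_eq_two.2 ⟨i, o, h.ne.symm, Set.ext fun v => ⟨fun e => ?_, ?_⟩⟩)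
      · by_cases f : v = i
        · exact .inl f
        obtain ⟨x, hx, rfl⟩ := h.tr v f
        exact .inr (by_contra fun f => k x hx (fun e => f (by simp [e])) ((fix_o h zH hx).1 e))
      · rintro (rfl | rfl)
        exacts [((h.memH z).1 zH).1, ((h.memH z).1 zH).2]
    rw [← h.fixn j h.j2]
    congr 1
    ext v
    by_cases f : v = i
    · simp [f, ((h.memH z).1 zH).1, ((h.memH j).1 h.jH).1]
    obtain ⟨y, hy, rfl⟩ := h.tr v f
    simp only [Set.mem_ofPred, fix_o h zH hy, fix_o h h.jH hy, h.jZ y hy]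
    refine ⟨fz y hy, fun k => ?_⟩
    by_cases y1 : y = 1
    · simp [y1]
    exact mem_C1.1 ((eq_of_isCyclic_of_card_eq hc inf_le_left inf_le_left (Nat.eq_of_mul_eq_mul_left
      (by norm_num) ((h.H0 x (fz x hx e) x1).trans (h.H0 y k y1).symm))).le ⟨zH, mem_C1.2 e⟩).2
  have d : 3 ∣ {v : Ω | z • v = v}.ncard := by
    have := (IsPGroup.of_card (p := 3) (n := 1) ((Nat.card_zpowers z).trans hz)).card_modEq_card_fixedPoints Ω
    rw [h.cardΩ, ← h.par.cube, show fixedPoints (zpowers z) Ω = {v : Ω | z • v = v} from Set.ext fun v =>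
      ⟨fun e => e ⟨z, mem_zpowers z⟩, fun e ⟨_, n, k⟩ => k ▸ mem_fixedBy_zpow e n⟩] at this
    exact (this.dvd_iff dvd_rfl).1 ((dvd_mul_right _ _).mul_right _)
  obtain ⟨b, hb, n⟩ := Set.exists_ne_of_one_lt_ncard (s := {v : Ω | z • v = v}) (by
    have := Set.ncard_ne_zero_of_mem (s := {v : Ω | z • v = v}) ha
    omega) a
  obtain ⟨g, rfl, rfl⟩ := two h n
  have e : {v : Ω | z • v = v}.ncard = {v : Ω | (g⁻¹ * z * g) • v = v}.ncard :=
    (Set.ncard_congr (fun v _ => g • v) (fun v hv => by simpa [mul_smul, inv_smul_eq_iff] using hv)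
      (fun _ _ _ _ => smul_left_cancel g) fun v hv => ⟨g⁻¹ • v, by simpa [mul_smul] using hv, by simp⟩).symm
  rw [e] at d ⊢
  exact k _ (((MulAut.conj g⁻¹).orderOf_eq z).trans hz |> (by simpa using ·)) ((h.memH _).2
    ⟨by simpa [mul_smul, inv_smul_eq_iff] using ha, by simpa [mul_smul, inv_smul_eq_iff] using hb⟩) (by omega)

theorem fpf (hc : IsCyclic H) : ∃ g : G, orderOf g = 3 ∧ ∀ v : Ω, g • v ≠ v := by
  have := fin h
  have : Fact (Nat.Prime 3) := ⟨Nat.prime_three⟩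
  by_contra! k
  have q2 : q % 3 = 2 := h.par.d_cases.elim (fun e => by omega) And.right
  obtain ⟨e, s, hs, he⟩ := Nat.exists_eq_pow_mul_and_not_dvd (n := q + 1) (by omega) 3 (by norm_num)
  obtain ⟨P, hP⟩ := Sylow.exists_subgroup_card_pow_prime 3 (G := G) (n := e * 2) (by
    rw [h.card, CfsgU3.ord, he, mul_pow, pow_mul]
    exact ((dvd_mul_right _ _).mul_left _).mul_left _)
  have e0 : e ≠ 0 := by
    rintro rfl
    omega
  have pP := IsPGroup.of_card hP
  have : Nontrivial P := pP.nontrivial_iff_card.2 ⟨_, by omega, hP⟩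
  have := pP.center_nontrivial
  obtain ⟨n, n0, hn⟩ := (pP.to_subgroup (center P)).nontrivial_iff_card.1 this
  obtain ⟨z, hz⟩ := exists_prime_orderOf_dvd_card' (G := center P) 3 (hn ▸ dvd_pow_self 3 n0.ne')
  rw [← orderOf_coe, ← orderOf_coe] at hz
  obtain ⟨a, ha⟩ := k _ hz
  have : IsPretransitive G Ω := ⟨fun a b => by
    by_cases e : b = a
    · exact ⟨1, by simp [e]⟩
    obtain ⟨g, rfl, rfl⟩ := two h e
    obtain ⟨c, hc⟩ := h.trans
    exact ⟨g * c * g⁻¹, by simp [mul_smul, hc]⟩⟩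
  have := Der.dvd_ncard (3 ^ (e + 1)) P {v : Ω | z.1.1 • v = v} (fun g hg v hv => by
    have := congrArg Subtype.val (mem_center_iff.1 z.2 ⟨g, hg⟩)
    rw [Set.mem_ofPred, smul_smul, ← show g * z.1.1 = z.1.1 * g from this, mul_smul, hv]) fun v _ => by
      have c1 := (stabilizer G v).card_mul_index
      have c2 := ((stabilizer G v).subgroupOf P).card_mul_index
      obtain ⟨f, hf⟩ := (pP.to_subgroup ((stabilizer G v).subgroupOf P)).exists_card_eq
      have c3 : 3 ^ f ∣ Nat.card (stabilizer G v) := by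
        rw [← hf, ← card_map_of_injective P.subtype_injective]
        exact card_dvd_of_le (map_comap_le _ _)
      have o := h.par.d_ord
      rw [← h.card, ← c1, index_stabilizer_of_transitive, h.cardΩ, ← mul_assoc, mul_right_comm (q ^ 3)] at o
      replace o := Nat.eq_of_mul_eq_mul_right (by omega) o
      rw [show q ^ 2 - 1 = (q + 1) * (q - 1) from Nat.sq_sub_sq q 1, he] at o
      have c4 : 3 ^ (f + 1) ∣ 3 ^ e := by
        refine (Nat.Coprime.pow_left _ (Nat.Coprime.mul_right (Nat.Coprime.pow_right 3 (show Nat.Coprime 3 q from ?_))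
          (Nat.Coprime.mul_right (m := q - 1) ?_ ((Nat.Prime.coprime_iff_not_dvd Nat.prime_three).2 hs)))).dvd_of_dvd_mul_left
          ((Nat.mul_dvd_mul_right c3 3).trans ⟨1, by rw [mul_comm _ 3, o]; ring⟩)
        all_goals exact (Nat.Prime.coprime_iff_not_dvd Nat.prime_three).2 (by omega)
      rw [Nat.pow_dvd_pow_iff_le_right (by norm_num)] at c4
      rw [hf, hP] at c2
      refine Nat.dvd_of_mul_dvd_mul_left (pow_pos (by norm_num) f) (Dvd.dvd.trans ?_ c2.symm.dvd)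
      rw [← pow_add]
      exact pow_dvd_pow _ (by omega)
  rw [fix3 h hc hz ha, he, pow_succ] at this
  exact hs (Nat.dvd_of_mul_dvd_mul_left (by positivity) this)

theorem good (hc : IsCyclic H) : ∃ g : G, ∃ a ∈ Q, a ∉ Z ∧ g • i = o ∧ g • o = a • o ∧ g • a • o = i := by
  have := fin h
  obtain ⟨g, g3, hg⟩ := fpf h hc
  have g1 : g ^ 3 = 1 := g3 ▸ pow_orderOf_eq_one g
  have g4 : ∀ v : Ω, g • g • g • v = v := fun v => by
    rw [smul_smul, smul_smul, ← pow_three', g1, one_smul]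
  by_contra! k
  have k1 : ∀ v : Ω, ∃ t, (t ∈ C1 g ∧ orderOf t = 2) ∧ t • v = v := fun v => by
    obtain ⟨c, c1, c2⟩ := two h (hg v)
    obtain ⟨a, a1, a2⟩ := h.tr (c⁻¹ • g • g • v) fun e => hg (g • g • v) (by
      rw [g4, inv_smul_eq_iff.1 e, c1])
    have a3 : a ∈ Z := by_contra fun n => k (c⁻¹ * g * c) a a1 n (by simp [mul_smul, c1, ← c2])
      (by simp [mul_smul, c2, a2]) (by simp [mul_smul, a2, g4, ← c1])
    obtain ⟨j1, j2⟩ := (h.memH j).1 h.jH
    have j3 := (fix_o h h.jH a1).2 ((h.jZ a a1).2 a3)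
    have o2 : ∀ c : G, orderOf (c * j * c⁻¹) = 2 := fun c => ((MulAut.conj c).orderOf_eq j).trans h.j2
    have := h.juniq ((g * c)⁻¹ * c * j * ((g * c)⁻¹ * c)⁻¹) ((h.memH _).2 ⟨by
      simp [mul_smul, c1, ← c2, j2, inv_smul_eq_iff], by
      rw [a2] at j3
      simp [mul_smul, c2, j3, inv_smul_eq_iff]⟩) (by rw [← sq, ← o2, pow_orderOf_eq_one])
    refine ⟨c * j * c⁻¹, ⟨mem_C1.2 ?_, o2 c⟩, by simp [mul_smul, ← c1, j1]⟩
    rcases this with e | e
    · exact absurd (e ▸ o2 ((g * c)⁻¹ * c)) (by simp)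
    · calc _ = g * c * ((g * c)⁻¹ * c * j * ((g * c)⁻¹ * c)⁻¹) * c⁻¹ := by group
        _ = _ := by rw [e]; group
  have d1 := Der.dc Set.univ {t | t ∈ C1 g ∧ orderOf t = 2} (fun (v : Ω) t => t • v = v) (m := 1) (n := q + 1)
    (fun v _ => (Set.ncard_pos (Set.toFinite _)).2 (k1 v)) fun t ht => by simpa using (h.fixn t ht.2).le
  have d2 := Der.dc {t | t ∈ C1 g ∧ orderOf t = 2} (C1 g) (fun t u => u ^ 3 = t) (m := 3) (n := 1)
    (fun t ⟨t1, t2⟩ => by
      have c : Commute t g := mem_C1.1 t1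
      have t3 : t ^ 3 = t := by rw [pow_succ, ← t2, pow_orderOf_eq_one, one_mul]
      have n : g ≠ 1 := fun e => by simp [e] at g3
      exact (Set.two_lt_ncard_iff (Set.toFinite _)).2 ⟨t, t * g, t * g⁻¹, ⟨t1, t3⟩,
        ⟨mul_mem t1 (mem_C1.2 rfl), by rw [c.mul_pow, g1, t3, mul_one]⟩,
        ⟨mul_mem t1 (inv_mem (mem_C1.2 rfl)), by rw [c.inv_right.mul_pow, inv_pow, g1, t3, inv_one, mul_one]⟩,
        by simpa using n, by simpa using n, fun e => n (by
          rw [pow_three, mul_eq_one_iff_eq_inv.2 (mul_left_cancel e), mul_one] at g1; exact g1)⟩)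
    fun u _ => (Set.ncard_le_one (Set.toFinite _)).2 fun _ a _ b => a.2.symm.trans b.2
  have := h.c3 rfl g g3 hg
  rw [Set.ncard_univ, h.cardΩ, ← h.par.cube, mul_one] at d1
  rw [mul_one, ← Nat.card_coe_set_eq (s := (C1 g : Set G))] at d2
  have := Nat.le_of_mul_le_mul_right d1 (by omega)
  have := h.par.hm
  have := h.par.q3
  change _ ≤ Nat.card (C1 g) at d2
  nlinarith

end CfsgH9.V3G

universe u in
theorem CfsgV3.UB.good {G Ω : Type u} [Group G] [Finite G] [MulAction G Ω] {q r m : ℕ} {i o : Ω}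
    {Q Z H : Subgroup G} {j : G} (h : CfsgV3.UB G Ω q r 3 m i o Q Z H j) (hc : IsCyclic H) :
    ∃ g : G, ∃ a ∈ Q, a ∉ Z ∧ g • i = o ∧ g • o = a • o ∧ g • a • o = i := CfsgH9.V3G.good h hc
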