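import Cfsg.Agent.H7.V3Def
import Cfsg.Agent.H3.U3W

/-! S3424 (Wa): the involution swapping `∞` and `0`, case `3 ∣ q + 1`. -/

set_option autoImplicit false
set_option linter.unusedSectionVars false

namespace CfsgH9.Wa

open CfsgV3 CfsgU3 Subgroup

universe u

structure UW (G Ω : Type u) [Group G] [MulAction G Ω] {E : Type} [Field E] (σ : E →+* E)
    (M : Subgroup Eˣ) (i o : Ω) (Q : Subgroup G) (x y : G → E) (η : M →* G) (q : ℕ) : Prop
    extends UD G Ω σ M i o Q x y η where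
  F : FF σ q
  pw : ∀ u, σ u = u ^ q
  cube : ∀ ν : Eˣ, ν ^ 3 ∈ M
  root : ∀ u, σ u = u → ∃ v, σ v = v ∧ v ^ 3 = u
  sq : ∀ u, σ u = u → ∃ v, v * v = u

theorem free_dvd {G Ω : Type*} [Group G] [MulAction G Ω] {g : G} {S : Set Ω} (h1 : ∀ x ∈ S, ∀ k : ℤ, g ^ k • x ∈ S)
    (h2 : ∀ x ∈ S, ∀ k : ℤ, g ^ k • x = x → g ^ k = 1) : orderOf g ∣ S.ncard := by
  letI : MulAction (zpowers g) S :=
    { smul := fun e a => ⟨(e : G) • (a : Ω), let ⟨k, h⟩ := e.2; h ▸ h1 _ a.2 k⟩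
      one_smul := fun a => Subtype.ext (one_smul G (a : Ω))
      mul_smul := fun e f a => Subtype.ext (mul_smul (e : G) (f : G) (a : Ω)) }
  have := Nat.card_congr (MulAction.selfEquivOrbitsQuotientProd (G := zpowers g) (X := S) fun a =>
    eq_bot_iff.2 fun ⟨_, k, rfl⟩ he => Subtype.ext (h2 _ a.2 k (congrArg Subtype.val he)))
  rw [← Nat.card_coe_set_eq, this, Nat.card_prod, Nat.card_zpowers]
  exact dvd_mul_left _ _

variable {G Ω : Type u} [Group G] [MulAction G Ω] {E : Type} [Field E] [Fintype E] {σ : E →+* E}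
  {M : Subgroup Eˣ} {i o : Ω} {Q : Subgroup G} {x y : G → E} {η : M →* G} {q : ℕ}

namespace UW

variable (h : UW G Ω σ M i o Q x y η q)

open Classical in
noncomputable def el (w : Ω) : G := if e : w = i then 1 else (h.tr w e).choose
noncomputable def X (w : Ω) : E := x (h.el w)
noncomputable def Y (w : Ω) : E := y (h.el w)
open Classical in
noncomputable def pt (a b : E) : Ω := if e : b + σ b = a * σ a then (h.sur a b e).choose • o else o
def jm : M := ⟨-1, by simpa [Odd.neg_one_pow (show Odd 3 by decide)] using h.cube (-1)⟩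

theorem el_spec {w : Ω} (e : w ≠ i) : h.el w ∈ Q ∧ h.el w • o = w := by
  rw [el, dif_neg e]; exact (h.tr w e).choose_spec

include h in
theorem Q_ne {a : G} (ha : a ∈ Q) {w : Ω} (e : w ≠ i) : a • w ≠ i := fun f =>
  e ((smul_left_cancel_iff a).mp (f.trans (h.fix a ha).symm))

theorem el_smul {a : G} (ha : a ∈ Q) : h.el (a • o) = a := by
  obtain ⟨h1, h2⟩ := h.el_spec (h.Q_ne ha h.ne)
  exact (inv_mul_eq_one.mp (h.reg _ (mul_mem (inv_mem ha) h1) (by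
    rw [mul_smul, h2, inv_smul_smul]))).symm

theorem XY_Q {a : G} (ha : a ∈ Q) {w : Ω} (e : w ≠ i) : h.X (a • w) = x a + h.X w ∧
    h.Y (a • w) = y a + h.Y w + σ (x a) * h.X w := by
  obtain ⟨h1, h2⟩ := h.el_spec e
  have : h.el (a • w) = a * h.el w := by rw [← h.el_smul (mul_mem ha h1), mul_smul, h2]
  simp only [X, Y, this, h.x_mul a ha _ h1, h.y_mul a ha _ h1, and_self]

include h in
theorem η_fix (μ : M) : η μ • i = i ∧ η μ • o = o := (h.memH _).mp ⟨μ, rfl⟩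

include h in
theorem η_ne (μ : M) {w : Ω} (e : w ≠ i) : η μ • w ≠ i := fun f =>
  e ((smul_left_cancel_iff (η μ)).mp (f.trans (h.η_fix μ).1.symm))

theorem XY_η (μ : M) {w : Ω} (e : w ≠ i) : h.X (η μ • w) = μ.1 * h.X w ∧
    h.Y (η μ • w) = μ.1 * σ μ.1 * h.Y w := by
  obtain ⟨h1, h2⟩ := h.el_spec e
  have : h.el (η μ • w) = η μ * h.el w * (η μ)⁻¹ := by
    rw [← h.el_smul (h.nrm _ (h.η_fix μ).1 _ h1), mul_smul, mul_smul, inv_smul_eq_iff.mpr
      (h.η_fix μ).2.symm, h2]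
  simp only [X, Y, this, h.x_η μ _ h1, h.y_η μ _ h1, and_self]

theorem pext {v w : Ω} (e : v ≠ i) (e' : w ≠ i) (h1 : h.X v = h.X w) (h2 : h.Y v = h.Y w) : v = w := by
  rw [← (h.el_spec e).2, ← (h.el_spec e').2, h.ext _ (h.el_spec e).1 _ (h.el_spec e').1 h1 h2]

theorem pher {w : Ω} (e : w ≠ i) : h.Y w + σ (h.Y w) = h.X w * σ (h.X w) := h.her _ (h.el_spec e).1

theorem pt_spec {u v : E} (e : v + σ v = u * σ u) : h.pt u v ≠ i ∧ h.X (h.pt u v) = u ∧ h.Y (h.pt u v) = v := by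
  obtain ⟨h1, h2, h3⟩ := (h.sur u v e).choose_spec
  rw [pt, dif_pos e]
  exact ⟨h.Q_ne h1 h.ne, by rw [X, h.el_smul h1, h2], by rw [Y, h.el_smul h1, h3]⟩

theorem pt_eq {w : Ω} (e : w ≠ i) {u v : E} (h1 : h.X w = u) (h2 : h.Y w = v) : h.pt u v = w := by
  subst h1 h2
  obtain ⟨a, b, c⟩ := h.pt_spec (h.pher e)
  exact h.pext a e b c

theorem XY_o : h.X o = 0 ∧ h.Y o = 0 := by
  have e : h.el o = 1 := by simpa using h.el_smul Q.one_mem
  have a : x 1 = 0 := by simpa using h.x_mul 1 Q.one_mem 1 Q.one_mem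
  exact ⟨by rw [X, e, a], by simpa [Y, e, a] using h.y_mul 1 Q.one_mem 1 Q.one_mem⟩

theorem Y_ne {w : Ω} (e : w ≠ i) (e' : w ≠ o) : h.Y w ≠ 0 := fun f => by
  have := h.pher e
  rw [f, map_zero, add_zero, eq_comm, mul_eq_zero, map_eq_zero, or_self] at this
  exact e' (h.pext e h.ne (this.trans h.XY_o.1.symm) (f.trans h.XY_o.2.symm))

theorem ne_o {w : Ω} (e : h.Y w ≠ 0) : w ≠ o := fun f => e (f ▸ h.XY_o.2)

include h in
theorem two {v w : Ω} (e : v ≠ w) : ∃ g : G, g • i = v ∧ g • o = w := by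
  obtain ⟨g, hg⟩ : ∃ g : G, g • i = v := by
    by_cases f : v = i
    · exact ⟨1, by rw [f, one_smul]⟩
    obtain ⟨g, hg⟩ := h.trans
    obtain ⟨a, -, ha⟩ := h.tr v f
    exact ⟨a * g, by rw [mul_smul, hg, ha]⟩
  obtain ⟨a, h1, h2⟩ := h.tr (g⁻¹ • w) fun f => e (by rw [← hg, ← f, smul_inv_smul])
  exact ⟨g * a, by rw [mul_smul, h.fix a h1, hg], by rw [mul_smul, h2, smul_inv_smul]⟩

theorem ex1 : ∃ w, w ≠ i ∧ h.X w = 1 :=
  let ⟨h1, h2, _⟩ := h.pt_spec (u := 1) (v := 1 / 2) (by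
    have := h.F.two
    rw [map_div₀, map_ofNat, map_one]; field_simp; norm_num)
  ⟨_, h1, h2⟩

include h in
theorem η_one {μ : M} {w : Ω} (e : w ≠ i) (f : h.X w ≠ 0) (k : η μ • w = w) : μ = 1 := by
  have := (h.XY_η μ e).1
  rw [k, eq_comm, mul_eq_right₀ f] at this
  exact Subtype.ext (Units.ext this)

include h in
theorem η_inj : Function.Injective η := (injective_iff_map_eq_one η).mpr fun μ e =>
  let ⟨_, h1, h2⟩ := h.ex1
  h.η_one h1 (h2 ▸ one_ne_zero) (by rw [e, one_smul])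

theorem j_fix {w : Ω} (e : w ≠ i) : η h.jm • w = w ↔ h.X w = 0 := by
  obtain ⟨h1, h2⟩ := h.XY_η h.jm e
  refine ⟨fun f => ?_, fun f => h.pext (h.η_ne _ e) e (by simp [h1, f]) (by rw [h2]; simp [jm])⟩
  rw [f] at h1
  exact (mul_eq_zero.mp (show 2 * h.X w = 0 by simp [jm] at h1; linear_combination h1)).resolve_left h.F.two

theorem jj : h.jm * h.jm = 1 := Subtype.ext (by simp [jm])

theorem j_ord : orderOf (η h.jm) = 2 := by
  haveI : Fact (Nat.Prime 2) := ⟨Nat.prime_two⟩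
  refine orderOf_eq_prime (by rw [← map_pow, pow_two, h.jj, map_one]) fun e => h.F.two ?_
  have := congrArg (fun μ : M => (μ.1 : E)) (h.η_inj (e.trans (map_one η).symm))
  simp only [jm, Units.val_neg, Units.val_one, coe_one] at this
  linear_combination -this

include h in
theorem inv_eq {s t : G} (hs : orderOf s = 2) (ht : orderOf t = 2) {v w : Ω} (e : v ≠ w)
    (s1 : s • v = v) (s2 : s • w = w) (t1 : t • v = v) (t2 : t • w = w) : s = t := by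
  obtain ⟨g, rfl, rfl⟩ := h.two e
  have k : ∀ s : G, orderOf s = 2 → s • g • i = g • i → s • g • o = g • o →
      g⁻¹ * s * g = η h.jm := fun s hs s1 s2 => by
    obtain ⟨μ, hμ⟩ := (h.memH (g⁻¹ * s * g)).mpr ⟨by simp [mul_smul, s1], by simp [mul_smul, s2]⟩
    have o2 : orderOf (η μ) = 2 := by
      rw [hμ, ← hs]; simpa using (MulAut.conj g⁻¹).orderOf_eq s
    have m2 : μ ^ 2 = 1 := h.η_inj (by rw [map_pow, ← o2, pow_orderOf_eq_one, map_one])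
    rcases (sq_eq_one_iff (a := (μ.1 : E))).mp (congrArg (fun μ : M => (μ.1 : E)) m2) with f | f
    · rw [show μ = 1 from Subtype.ext (Units.ext f)] at o2; simp at o2
    · rw [← hμ, show μ = h.jm from Subtype.ext (Units.ext f)]
  simpa using (k s hs s1 s2).trans (k t ht t1 t2).symm

include h in
theorem card_fix {t : G} (ht : orderOf t = 2) : {v : Ω | t • v = v}.ncard = q + 1 := by
  obtain ⟨g, rfl⟩ := isConj_iff.mp (h.inv _ _ h.j_ord ht)
  have P := fun u : {u : E // u + σ u = 0} => h.pt_spec (u := 0) (v := u.1) (by simpa using u.2)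
  refine Eq.trans ?_ (congrArg (· + 1) h.F.c0)
  rw [← Finite.card_option, ← Set.ncard_range_of_injective
    (f := fun u : Option {u : E // u + σ u = 0} => g • u.elim i fun u => h.pt 0 u.1)]
  · congr 1
    ext v
    obtain ⟨v, rfl⟩ : ∃ v', v = g • v' := ⟨_, (smul_inv_smul g v).symm⟩
    simp only [Set.mem_ofPred, mul_smul, inv_smul_smul, smul_left_cancel_iff, Set.mem_range]
    refine ⟨fun e => ?_, ?_⟩
    · by_cases e1 : v = i
      · exact ⟨none, e1.symm⟩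
      have e2 := (h.j_fix e1).1 e
      exact ⟨some ⟨h.Y v, by simpa [e2] using h.pher e1⟩, h.pt_eq e1 e2 rfl⟩
    · rintro ⟨_ | u, rfl⟩
      exacts [(h.η_fix _).1, (h.j_fix (P u).1).2 (P u).2.1]
  · rintro (_ | u) (_ | u') e
    exacts [rfl, absurd (smul_left_cancel g e).symm (P _).1, absurd (smul_left_cancel g e) (P _).1,
      congrArg _ (Subtype.ext ((P u).2.2.symm.trans ((congrArg h.Y (smul_left_cancel g e)).trans (P u').2.2)))]

include h in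
theorem ex_w : ∃ (w : G) (m : ℤ), orderOf w = 2 ∧ w • i = o ∧ w • o = i ∧
    ∀ μ, w * η μ * w⁻¹ = η (μ ^ m) := by
  obtain ⟨v, h1, h2⟩ := h.ex1
  obtain ⟨g, g1, g2⟩ := h.two (v := v) (w := η h.jm • v) fun e =>
    one_ne_zero (h2.symm.trans ((h.j_fix h1).mp e.symm))
  have jj : η h.jm * η h.jm = 1 := by rw [← map_mul, h.jj, map_one]
  have a1 : (g⁻¹ * η h.jm * g) • i = o := by rw [mul_smul, mul_smul, g1, ← g2, inv_smul_smul]
  have a2 : (g⁻¹ * η h.jm * g) • o = i := by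
    rw [mul_smul, mul_smul, g2, smul_smul (η h.jm), jj, one_smul, ← g1, inv_smul_smul]
  have a0 : orderOf (g⁻¹ * η h.jm * g) = 2 := by simpa [h.j_ord] using ord_cj g⁻¹ (η h.jm)
  generalize g⁻¹ * η h.jm * g = w at a0 a1 a2
  have : ∀ μ, ∃ ν, η ν = w * η μ * w⁻¹ := fun μ => (h.memH _).mpr ⟨by
    rw [mul_smul, mul_smul, inv_smul_eq_iff.mpr a2.symm, (h.η_fix μ).2, a2], by
    rw [mul_smul, mul_smul, inv_smul_eq_iff.mpr a1.symm, (h.η_fix μ).1, a1]⟩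
  choose θ hθ using this
  obtain ⟨m, hm⟩ := (MonoidHom.mk' θ fun μ ν => h.η_inj (by simp [hθ])).map_cyclic
  exact ⟨w, m, a0, a1, a2, fun μ => by rw [← hθ, ← hm]; rfl⟩

include h in
theorem Z_comm {a : G} (ha : a ∈ Q) (e : x a = 0) {μ : M} (hμ : μ.1 * σ μ.1 = 1) : Commute a (η μ) :=
  (mul_inv_eq_iff_eq_mul.mp (h.ext _ (h.nrm _ (h.η_fix μ).1 a ha) _ ha (by rw [h.x_η μ a ha, e, mul_zero])
    (by rw [h.y_η μ a ha, hμ, one_mul]))).symm

include h in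
theorem memF {u : E} (e : σ u = u) (n : u ≠ 0) : ∃ μ : M, μ.1 = u ∧ ∃ ν : M, ν.1 * σ ν.1 = u := by
  obtain ⟨v, h1, rfl⟩ := h.root u e
  obtain ⟨s, rfl⟩ := h.F.nrm v h1
  have n1 : s * σ s ≠ 0 := fun e => n (by simp [e])
  exact ⟨⟨_, h.cube (Units.mk0 _ n1)⟩, by simp, ⟨_, h.cube (Units.mk0 _ (left_ne_zero_of_mul n1))⟩, by
    simp [mul_pow]⟩

include h in
theorem memE {u : E} (e : σ u = -u) (n : u ≠ 0) : ∃ μ : M, μ.1 = u := by
  obtain ⟨μ, h1, -⟩ := h.memF (u := u * u) (by simp [e]) (mul_ne_zero n n)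
  exact ⟨⟨_, h.cube (Units.mk0 _ n)⟩ / μ, by simp [h1]; field_simp⟩

variable {w : G} {m : ℤ} (w2 : orderOf w = 2) (wi : w • i = o) (wo : w • o = i)
  (wη : ∀ μ, w * η μ * w⁻¹ = η (μ ^ m))
include h w2 wi wo wη

omit h wi wo wη in
theorem w_w : w * w = 1 := by rw [← pow_two, ← w2, pow_orderOf_eq_one]

omit h wi wo wη in
theorem ww (v : Ω) : w • w • v = v := by rw [smul_smul, w_w w2, one_smul]

omit wi wo in
theorem mm (μ : M) : (μ ^ m) ^ m = μ := h.η_inj (by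
  rw [← wη, ← wη, show w * (w * η μ * w⁻¹) * w⁻¹ = (w * w) * η μ * (w * w)⁻¹ by group, w_w w2]
  simp)

omit h w2 wi wo in
theorem w_η (μ : M) (v : Ω) : w • η μ • v = η (μ ^ m) • w • v := by
  rw [← wη, mul_smul, mul_smul, inv_smul_smul]

omit wη in
theorem wj : w * η h.jm * w⁻¹ = η h.jm :=
  h.inv_eq ((ord_cj _ _).trans h.j_ord) h.j_ord h.ne
    (by rw [mul_smul, mul_smul, inv_smul_eq_iff.mpr wi.symm, (h.η_fix _).1, wi])
    (by rw [mul_smul, mul_smul, inv_smul_eq_iff.mpr wo.symm, (h.η_fix _).2, wo])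
    (h.η_fix _).2 (h.η_fix _).1

omit h wη wo in
theorem w_ne {v : Ω} (e : v ≠ o) : w • v ≠ i := fun f => e (by rw [← ww w2 v, f, wi])

omit h wη w2 wo in
theorem w_ne' {v : Ω} (e : v ≠ i) : w • v ≠ o := fun f => e (smul_left_cancel w (f.trans wi.symm))

omit wη in
theorem w_X {v : Ω} (e : v ≠ i) (e' : v ≠ o) : h.X (w • v) = 0 ↔ h.X v = 0 := by
  rw [← h.j_fix e, ← h.j_fix (w_ne w2 wi e')]
  nth_rewrite 1 [← h.wj w2 wi wo]
  rw [mul_smul, mul_smul, inv_smul_smul, smul_left_cancel_iff]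

theorem cent {μ : M} (hμ : μ.1 * σ μ.1 = 1) : μ ^ m = μ := by
  obtain ⟨ζ, z0, hζ⟩ := h.F.ex
  obtain ⟨z, z1, z2, z3⟩ := h.sur 0 ζ (by simpa using hζ)
  have n1 : ∀ ν : M, ν.1 * σ ν.1 = 1 → Commute (w * z * w⁻¹) (η ν) := fun ν hν => by
    rw [← h.mm w2 wη ν, ← wη]
    exact (h.Z_comm z1 z2 (μ := ν ^ m) (by
      rw [coe_zpow, Units.val_zpow_eq_zpow_val, map_zpow₀, ← mul_zpow, hν, one_zpow])).map (MulAut.conj w)
  have j1 : (h.jm.1 : E) * σ h.jm.1 = 1 := by simp [jm]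
  have d1 : (w * z * w⁻¹) • i ≠ i := by
    rw [mul_smul, mul_smul, inv_smul_eq_iff.mpr wo.symm]
    refine w_ne w2 wi fun e => z0 ?_
    have := (h.XY_Q z1 h.ne).2
    rw [e, h.XY_o.1, h.XY_o.2, z3] at this
    simpa using this.symm
  have fx : ∀ g : G, Commute g (η h.jm) → ∀ v, η h.jm • v = v → g • v ≠ i → x (h.el (g • v)) = 0 :=
    fun g c v e f => (h.j_fix f).mp (by rw [smul_smul, ← c.eq, mul_smul, e])
  obtain ⟨a1, a2⟩ := h.el_spec d1
  have a3 := fx _ (n1 _ j1) i (h.η_fix _).1 d1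
  generalize h.el ((w * z * w⁻¹) • i) = z' at a1 a2 a3
  have n2 : ∀ ν : M, ν.1 * σ ν.1 = 1 → Commute (z'⁻¹ * (w * z * w⁻¹)) (η ν) := fun ν hν =>
    (h.Z_comm a1 a3 hν).inv_left.mul_left (n1 ν hν)
  have n3 : (z'⁻¹ * (w * z * w⁻¹)) • i = o := by rw [mul_smul, ← a2, inv_smul_smul]
  generalize z'⁻¹ * (w * z * w⁻¹) = n at n2 n3
  have b1 : (w * n) • i = i := by rw [mul_smul, n3, wo]
  have b2 : (w * n) • o ≠ i := fun e => h.ne ((smul_left_cancel_iff _).mp (e.trans b1.symm))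
  obtain ⟨c1, c2⟩ := h.el_spec b2
  have c3 := fx _ (Commute.mul_left (mul_inv_eq_iff_eq_mul.mp (h.wj w2 wi wo)) (n2 _ j1)) o
    (h.η_fix _).2 b2
  generalize h.el ((w * n) • o) = a at c1 c2 c3
  obtain ⟨ν, hν⟩ := (h.memH (a⁻¹ * (w * n))).mpr ⟨by
    rw [mul_smul, b1, h.fix _ (inv_mem c1)], by rw [mul_smul, ← c2, inv_smul_smul]⟩
  have : Commute (a * η ν * n⁻¹) (η μ) := ((h.Z_comm c1 c3 hμ).mul_left
    ((Commute.all ν μ).map η)).mul_left (n2 μ hμ).inv_left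
  rw [hν, mul_inv_cancel_left, mul_inv_cancel_right] at this
  exact h.η_inj (by rw [← wη, this.eq, mul_inv_cancel_right])

omit wo wη in
theorem one_fix {v v' : Ω} (e : w • v = v) (e' : w • v' = v') (f : h.X v = 0) (f' : h.X v' = 0) : v = v' := by
  have fi : ∀ v, w • v = v → v ≠ i := fun v e e' => h.ne (by rw [← wi, ← e', e])
  by_contra n
  exact h.ne (by rw [← wi, h.inv_eq w2 h.j_ord n e e' ((h.j_fix (fi _ e)).2 f) ((h.j_fix (fi _ e')).2 f'),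
    (h.η_fix _).1])

omit wo in
theorem cK {μ : M} (hμ : μ ^ m = μ) : (μ.1 : E) * σ μ.1 = 1 := by
  have fi : ∀ v, w • v = v → v ≠ i := fun v e e' => h.ne (by rw [← wi, ← e', e])
  have k : ∀ v : Ω, w • v = v → ∀ k : ℤ, w • η (μ ^ k) • v = η (μ ^ k) • v := fun v e k => by
    rw [w_η wη, zpow_comm, hμ, e]
  by_cases e : ∃ v, w • v = v ∧ h.X v = 0
  · obtain ⟨v, e, f⟩ := e
    obtain ⟨a, b⟩ := h.XY_η μ (fi v e)
    rw [h.one_fix (v := η μ • v) w2 wi (by simpa using k v e 1) e (by rw [a, f, mul_zero]) f, eq_comm,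
      mul_eq_right₀ (h.Y_ne (fi v e) (e ▸ w_ne' wi (fi v e)))] at b
    exact b
  have := free_dvd (g := η μ) (S := {v : Ω | w • v = v}) (fun v e n => map_zpow η μ n ▸ k v e n) fun v f n a => by
    rw [← map_zpow] at a ⊢
    rw [h.η_one (fi v f) (fun a => e ⟨v, f, a⟩) a, map_one]
  rw [h.card_fix w2, orderOf_injective η h.η_inj, orderOf_dvd_iff_pow_eq_one] at this
  rw [h.pw, ← pow_succ']
  simpa using congrArg (fun μ : M => (μ.1 : E)) this

omit wo in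
theorem nphi (μ : M) : (μ ^ m).1 * σ (μ ^ m).1 * (μ.1 * σ μ.1) = 1 := by
  have := h.cK w2 wi wη (μ := μ ^ m * μ) (by rw [mul_zpow, h.mm w2 wη, mul_comm])
  rw [coe_mul, Units.val_mul, map_mul] at this
  linear_combination this

theorem kap : ∃ r, r ≠ 0 ∧ σ r = r ∧ ∀ v, v ≠ i → v ≠ o → h.X v = 0 → h.Y v * h.Y (w • v) = r * r := by
  obtain ⟨δ, d0, hδ⟩ := h.F.ex
  have s0 : ∀ v, v ≠ i → h.X v = 0 → σ (h.Y v) = -h.Y v := fun v e f => by
    have := h.pher e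
    rw [f, zero_mul] at this
    linear_combination this
  obtain ⟨a1, a2, a3⟩ := h.pt_spec (u := 0) (v := δ) (by simpa using hδ)
  generalize h.pt 0 δ = v0 at a1 a2 a3
  have a4 := h.ne_o (a3 ▸ d0)
  have a5 := w_ne w2 wi a4
  have k : ∀ v, v ≠ i → v ≠ o → h.X v = 0 → h.Y v * h.Y (w • v) = h.Y v0 * h.Y (w • v0) := fun v e e' f => by
    obtain ⟨-, -, ν, hν⟩ := h.memF (u := h.Y v / h.Y v0) (by
      rw [map_div₀, s0 v e f, s0 v0 a1 a2, neg_div_neg_eq]) (div_ne_zero (h.Y_ne e e') (a3 ▸ d0))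
    obtain ⟨b1, b2⟩ := h.XY_η ν a1
    rw [← h.pext (h.η_ne ν a1) e (by rw [b1, a2, f, mul_zero]) (by rw [b2, hν, div_mul_cancel₀ _ (a3 ▸ d0)]),
      w_η wη, (h.XY_η _ a5).2, b2]
    linear_combination h.Y v0 * h.Y (w • v0) * h.nphi w2 wi wη ν
  obtain ⟨r, hr⟩ := h.sq (h.Y v0 * h.Y (w • v0)) (by
    rw [map_mul, s0 _ a1 a2, s0 _ a5 ((h.w_X w2 wi wo a1 a4).2 a2), neg_mul_neg])
  have r0 : r ≠ 0 := fun e => mul_ne_zero (a3 ▸ d0) (h.Y_ne a5 (w_ne' wi a1)) (by rw [← hr, e, mul_zero])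
  refine ⟨r, r0, ?_, fun v a b c => (k v a b c).trans hr.symm⟩
  refine (mul_self_eq_mul_self_iff.1 (show σ r * σ r = r * r by
    rw [← map_mul, hr, map_mul, s0 _ a1 a2, s0 _ a5 ((h.w_X w2 wi wo a1 a4).2 a2), neg_mul_neg])).resolve_right
    fun e => ?_
  have c : ∀ s, s ≠ 0 → σ s = -s → s * s = r * r → w • h.pt 0 s = h.pt 0 s ∧ h.X (h.pt 0 s) = 0 ∧
      h.Y (h.pt 0 s) = s := fun s n e f => by
    obtain ⟨b1, b2, b3⟩ := h.pt_spec (u := 0) (v := s) (by simp [e])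
    have b4 := h.ne_o (b3.trans_ne n)
    have := k _ b1 b4 b2
    rw [← hr, ← f, b3] at this
    exact ⟨(h.pt_eq (w_ne w2 wi b4) ((h.w_X w2 wi wo b1 b4).2 b2) (mul_left_cancel₀ n this)).symm, b2, b3⟩
  obtain ⟨c1, c2, c3⟩ := c r r0 e rfl
  obtain ⟨c4, c5, c6⟩ := c (-r) (neg_ne_zero.2 r0) (by simp [e]) (by ring)
  rw [h.one_fix w2 wi c1 c4 c2 c5, c6] at c3
  exact mul_ne_zero h.F.two r0 (by linear_combination -c3)

theorem phi (μ : M) : ((μ ^ m).1 : E) * σ μ.1 = 1 := by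
  let χ : M → E := fun μ => (μ ^ m).1 * σ μ.1
  have s0 : ∀ μ : M, σ μ.1 ≠ 0 := fun μ => (map_ne_zero σ).2 μ.1.ne_zero
  have cm : ∀ μ ν, χ (μ * ν) = χ μ * χ ν := fun μ ν => by
    simp only [χ, mul_zpow, coe_mul, Units.val_mul, map_mul]; ring
  have c1 : ∀ μ : M, (μ.1 : E) * σ μ.1 = 1 → χ μ = 1 := fun μ e => by simp only [χ, h.cent w2 wi wo wη e, e]
  have c2 : ∀ μ : M, σ μ.1 = μ.1 → χ μ = 1 := fun μ e => by
    obtain ⟨-, -, ν, hν⟩ := h.memF e μ.1.ne_zero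
    have := h.nphi w2 wi wη ν
    simp only [χ, e, coe_zpow, Units.val_zpow_eq_zpow_val, map_zpow₀, ← mul_zpow, hν] at this ⊢
    exact this
  have c3 : ∀ μ : M, χ μ = 1 ∨ χ μ = -1 := fun μ => by
    have a := c1 (μ / μ ^ q) (by
      simp only [coe_div, coe_pow, Units.val_div_eq_div_val, Units.val_pow_eq_pow_val, ← h.pw, map_div₀, h.F.ss]
      field_simp [s0 μ])
    have b := c2 (μ * μ ^ q) (by
      simp only [coe_mul, coe_pow, Units.val_mul, Units.val_pow_eq_pow_val, ← h.pw, map_mul, h.F.ss, mul_comm])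
    rw [← mul_self_eq_one_iff, ← cm, ← mul_one (μ * μ), ← div_self' (μ ^ q), mul_div_assoc', mul_right_comm,
      mul_div_assoc, cm, a, b, mul_one]
  refine (c3 μ).resolve_right fun k => h.F.two ?_
  obtain ⟨s, hs⟩ := h.sq (μ.1 * σ μ.1) (by rw [map_mul, h.F.ss, mul_comm])
  have n : s ≠ 0 := fun e => mul_ne_zero μ.1.ne_zero (s0 μ) (by rw [← hs, e, mul_zero])
  rcases mul_self_eq_mul_self_iff.1 (show σ s * σ s = s * s by
    rw [← map_mul, hs, map_mul, h.F.ss, mul_comm]) with e | e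
  · obtain ⟨ν, rfl, -⟩ := h.memF e n
    have := cm (μ / ν) ν
    rw [div_mul_cancel, c2 ν e, c1 (μ / ν) (by
      simp only [coe_div, Units.val_div_eq_div_val, map_div₀, e]; field_simp; linear_combination -hs), k] at this
    linear_combination -this
  obtain ⟨ν, rfl⟩ := h.memE e n
  have a : ((μ / ν).1 : E) * σ (μ / ν).1 = -1 := by
    simp only [coe_div, Units.val_div_eq_div_val, map_div₀, e]; field_simp; linear_combination hs
  rcases c3 ν with f | f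
  · have := cm (μ / ν) ν
    rw [div_mul_cancel, f, mul_one, k, ← a] at this
    linear_combination a - h.cK w2 wi wη (μ := μ / ν)
      (Subtype.ext (Units.ext (mul_right_cancel₀ (s0 _) this.symm)))
  have f1 : ν ^ m * ν = 1 := Subtype.ext (Units.ext (by
    simp only [χ, e] at f
    rw [coe_mul, Units.val_mul]
    exact by simpa using f))
  haveI : Fact (Nat.Prime 2) := ⟨Nat.prime_two⟩
  have t1 : (η ν * w) • i = o := by rw [mul_smul, wi, (h.η_fix _).2]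
  obtain ⟨r, r0, r1, hr⟩ := h.kap w2 wi wo wη
  obtain ⟨r', r2, r3, hr'⟩ := h.kap (w := η ν * w) (m := m) (orderOf_eq_prime (by
      rw [pow_two, mul_assoc, ← mul_assoc w, mul_inv_eq_iff_eq_mul.1 (wη ν), mul_assoc, w_w w2, mul_one, ← map_mul,
        mul_comm, f1, map_one]) fun e => h.ne (by rw [← t1, e, one_smul])) t1
    (by rw [mul_smul, wo, (h.η_fix _).1]) fun μ => by
      rw [mul_inv_rev, show η ν * w * η μ * (w⁻¹ * (η ν)⁻¹) = η ν * (w * η μ * w⁻¹) * (η ν)⁻¹ by group, wη,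
        ← map_inv, ← map_mul, ← map_mul, mul_inv_cancel_comm]
  obtain ⟨b1, b2, b3⟩ := h.pt_spec (u := 0) (v := ν.1) (by simp [e])
  have b4 := h.ne_o (b3.trans_ne n)
  have b5 := hr' _ b1 b4 b2
  rw [mul_smul, (h.XY_η _ (w_ne w2 wi b4)).2, mul_left_comm, hr _ b1 b4 b2, e] at b5
  obtain ⟨ρ, hρ, -⟩ := h.memF (u := r / r') (by rw [map_div₀, r1, r3]) (div_ne_zero r0 r2)
  have := cm ν ρ
  rw [f, c2 ρ (by rw [hρ, map_div₀, r1, r3]), c1 (ν * ρ) (by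
    simp only [coe_mul, Units.val_mul, hρ, map_mul, map_div₀, r1, r3, e]; field_simp; linear_combination b5)] at this
  linear_combination this

theorem wt {g a : G} (ha : a ∈ Q) (a0 : x a ≠ 0) (g1 : g • i = o) (g2 : g • o = a • o) (g3 : g • a • o = i) :
    WT σ M (fun a b => h.X (w • h.pt a b)) fun a b => h.Y (w • h.pt a b) := by
  have no : ∀ {a b : E}, b + σ b = a * σ a → b ≠ 0 → h.pt a b ≠ o := fun e n => h.ne_o ((h.pt_spec e).2.2.trans_ne n)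
  have inv : ∀ c ∈ Q, x c⁻¹ = -x c ∧ y c⁻¹ = σ (y c) := fun c hc => by
    obtain ⟨a1, a2⟩ := h.XY_Q hc (h.Q_ne (inv_mem hc) h.ne)
    rw [smul_inv_smul, h.XY_o.1] at a1
    rw [smul_inv_smul, h.XY_o.2] at a2
    simp only [X, Y, h.el_smul (inv_mem hc)] at a1 a2
    exact ⟨by linear_combination -a1, by linear_combination -a2 - h.her c hc + σ (x c) * a1⟩
  have po : ∀ c ∈ Q, h.pt (x c) (y c) = c • o ∧ h.pt (-x c) (σ (y c)) = c⁻¹ • o := fun c hc =>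
    ⟨h.pt_eq (h.Q_ne hc h.ne) (by rw [X, h.el_smul hc]) (by rw [Y, h.el_smul hc]),
      h.pt_eq (h.Q_ne (inv_mem hc) h.ne) (by rw [X, h.el_smul (inv_mem hc), (inv c hc).1])
        (by rw [Y, h.el_smul (inv_mem hc), (inv c hc).2])⟩
  refine ⟨fun a b e n => ⟨h.pher (w_ne w2 wi (no e n)), h.Y_ne (w_ne w2 wi (no e n)) (w_ne' wi (h.pt_spec e).1)⟩,
    fun a b e n => ?_, fun b e n => ?_, fun μ hμ a b e n => ?_, fun a b e n => ?_, ?_⟩
  · rw [h.pt_eq (w_ne w2 wi (no e n)) rfl rfl, ww w2]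
    exact (h.pt_spec e).2
  · replace e : b + σ b = 0 * σ 0 := by simpa using e
    exact (h.w_X w2 wi wo (h.pt_spec e).1 (no e n)).2 (h.pt_spec e).2.1
  · obtain ⟨a1, a2, a3⟩ := h.pt_spec e
    obtain ⟨b1, b2⟩ := h.XY_η ⟨μ, hμ⟩ a1
    obtain ⟨c1, c2⟩ := h.XY_η (⟨μ, hμ⟩ ^ m) (w_ne w2 wi (no e n))
    rw [h.pt_eq (h.η_ne ⟨μ, hμ⟩ a1) (by rw [b1, a2]) (by rw [b2, a3]), w_η wη, c1, c2]
    exact ⟨by linear_combination h.X (w • h.pt a b) * h.phi w2 wi wo wη ⟨μ, hμ⟩,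
      by linear_combination h.Y (w • h.pt a b) * h.nphi w2 wi wη ⟨μ, hμ⟩⟩
  · obtain ⟨c, hc, rfl, rfl⟩ := h.sur a b e
    have n1 := no e n
    rw [(po c hc).1] at n1 ⊢
    rw [(po c hc).2]
    have n2 : c⁻¹ • o ≠ o := fun e => n1 (inv_smul_eq_iff.1 e).symm
    obtain ⟨s1, s2⟩ := h.el_spec (w_ne w2 wi n1)
    obtain ⟨t1, t2⟩ := h.el_spec (w_ne w2 wi n2)
    rw [X, Y, X, Y]
    generalize h.el (w • c • o) = s at s1 s2
    generalize h.el (w • c⁻¹ • o) = t at t1 t2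
    obtain ⟨k, hk⟩ := (h.memH (w * s⁻¹ * w * c * w * t)).2 ⟨by
      simp only [mul_smul, h.fix t t1, wi, wo, ← s2, inv_smul_smul], by
      simp only [mul_smul, t2, ww w2, smul_inv_smul, wo, h.fix _ (inv_mem s1), wi]⟩
    have key : ∀ v : Ω, w • c • v = s • w • η k • t⁻¹ • w • v := fun v => by
      simp only [hk, mul_smul, ww w2, smul_inv_smul]
    have ev : ∀ v : Ω, v ≠ o → c • v ≠ o → η k • t⁻¹ • w • v ≠ o ∧ h.pt (k.1 * (h.X (w • v) - x t))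
        (k.1 * σ k.1 * (σ (y t) + h.Y (w • v) - σ (x t) * h.X (w • v))) = η k • t⁻¹ • w • v := fun v a b => by
      have a1 := h.Q_ne (inv_mem t1) (w_ne w2 wi a)
      obtain ⟨b1, b2⟩ := h.XY_η k a1
      obtain ⟨c1, c2⟩ := h.XY_Q (inv_mem t1) (w_ne w2 wi a)
      exact ⟨fun e => w_ne w2 wi b (by rw [key, e, wo, h.fix s s1]), h.pt_eq (h.η_ne k a1)
        (by rw [b1, c1, (inv t t1).1]; ring) (by rw [b2, c2, (inv t t1).1, (inv t t1).2, map_neg]; ring)⟩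
    refine ⟨k.1, k.2, ?_, fun u v a₂ b₂ e1 e2 e3 e4 e5 => ?_⟩
    · obtain ⟨a, b⟩ := ev i h.ne.symm ((h.fix c hc).trans_ne h.ne.symm)
      have := key i
      rw [h.fix c hc, wi] at this
      rw [wi] at a
      rw [wi, h.XY_o.1, h.XY_o.2, zero_sub, mul_neg, mul_zero, add_zero, sub_zero] at b
      rw [b, ← (h.XY_Q s1 (w_ne w2 wi a)).1, ← this, h.XY_o.1]
    · obtain ⟨a1, a2, a3⟩ := h.pt_spec e1
      obtain ⟨b1, b2⟩ := h.XY_Q hc a1
      rw [a2] at b1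
      rw [a2, a3] at b2
      obtain ⟨a, b⟩ := ev _ (no e1 e2) (h.ne_o (b2 ▸ e3))
      rw [← e4, ← e5] at b
      rw [h.pt_eq (h.Q_ne hc a1) b1 b2, key, b]
      refine ⟨fun f => ?_, h.XY_Q s1 (w_ne w2 wi a)⟩
      have a4 := h.η_ne k (h.Q_ne (inv_mem t1) (w_ne w2 wi (no e1 e2)))
      refine h.Y_ne a4 a ?_
      obtain ⟨b1, b2⟩ := h.XY_η k (h.Q_ne (inv_mem t1) (w_ne w2 wi (no e1 e2)))
      rw [b2, (h.XY_Q (inv_mem t1) (w_ne w2 wi (no e1 e2))).2, (inv t t1).1, (inv t t1).2, map_neg, ← f, e5]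
      ring
  · obtain ⟨k, hk⟩ := (h.memH (g * a * w)).2 ⟨by simp only [mul_smul, wi, g3], by
      simp only [mul_smul, wo, h.fix a ha, g1]⟩
    have e : w • a⁻¹ • o = η k⁻¹ • a • o := by
      rw [map_inv, eq_inv_smul_iff, hk]
      simp only [mul_smul, ww w2, smul_inv_smul, g2]
    obtain ⟨b1, b2⟩ := h.XY_η k⁻¹ (h.Q_ne ha h.ne)
    refine ⟨-x a, σ (y a), (k⁻¹).1, (k⁻¹).2, by rw [h.F.ss, add_comm, h.her a ha]; simp, neg_ne_zero.2 a0, ?_⟩
    rw [(po a ha).2, e, b1, b2, X, Y, h.el_smul ha, h.F.ss]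
    exact ⟨by ring, rfl⟩

end UW

end CfsgH9.Wa

universe u in
open CfsgH9.Wa in
theorem CfsgV3.UD.wt {G Ω : Type u} [Group G] [MulAction G Ω] {E : Type} [Field E] [Fintype E] {q : ℕ}
    {σ : E →+* E} {M : Subgroup Eˣ} {i o : Ω} {Q : Subgroup G} {x y : G → E} {η : M →* G}
    (h : CfsgV3.UD G Ω σ M i o Q x y η) (hq : Fintype.card E = q ^ 2) (hσ : ∀ u, σ u = u ^ q) (ho : Odd q)
    (h3 : 3 ∣ q + 1) (h5 : 5 ≤ q) (hM : 3 * Nat.card M = q ^ 2 - 1)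
    (hg : ∃ g : G, ∃ a ∈ Q, x a ≠ 0 ∧ g • i = o ∧ g • o = a • o ∧ g • a • o = i) :
    ∃ (w : G) (A B : E → E → E), w • i = o ∧ w • o = i ∧ CfsgV3.WT σ M A B ∧
      ∀ a ∈ Q, a ≠ 1 → ∃ b ∈ Q, w • a • o = b • o ∧ x b = A (x a) (y a) ∧ y b = B (x a) (y a) := by
  have F := CfsgU3.ff_of hq hσ ho (by omega)
  have U : UW G Ω σ M i o Q x y η q := ⟨h, F, hσ, fun ν => by
      have := M.card_mul_index
      rw [Nat.card_units, Nat.card_eq_fintype_card (α := E), hq, ← hM, mul_comm 3] at this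
      exact Nat.eq_of_mul_eq_mul_left Nat.card_pos this ▸ M.pow_index_mem ν, fun u hu => by
      obtain ⟨k, rfl⟩ : ∃ k, q = 3 * k + 2 := ⟨q / 3, by omega⟩
      refine ⟨u ^ (2 * k + 1), by rw [map_pow, hu], ?_⟩
      rw [hσ] at hu
      calc _ = u ^ (3 * k + 2) * u ^ (3 * k + 1) := by ring
        _ = _ := by rw [hu, ← pow_succ', hu], fun u hu => by
      by_cases u0 : u = 0
      · exact ⟨0, by simp [u0]⟩
      obtain ⟨k, rfl⟩ := ho
      refine ((FiniteField.isSquare_iff (fun e => F.two (by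
        simpa [e] using ringChar.Nat.cast_ringChar (R := E))) u0).2 ?_).imp fun _ => Eq.symm
      rw [hσ, pow_succ, mul_eq_right₀ u0] at hu
      rw [hq, show (2 * k + 1) ^ 2 = 1 + 2 * (2 * k * (k + 1)) by ring, Nat.add_mul_div_left _ _ two_pos,
        pow_add, pow_mul, hu]
      simp⟩
  obtain ⟨g, a, ha, a0, g1, g2, g3⟩ := hg
  obtain ⟨w, m, w2, wi, wo, wη⟩ := U.ex_w
  refine ⟨w, _, _, wi, wo, U.wt w2 wi wo wη ha a0 g1 g2 g3, fun c hc n => ?_⟩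
  obtain ⟨s1, s2⟩ := U.el_spec (UW.w_ne w2 wi fun e => n (h.reg c hc e))
  rw [U.pt_eq (U.Q_ne hc h.ne) (by rw [UW.X, U.el_smul hc]) (by rw [UW.Y, U.el_smul hc])]
  exact ⟨_, s1, s2.symm, rfl, rfl⟩
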