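import Cfsg.Agent.H9.W3Fin1
import Cfsg.Agent.H9.W3Gr

/-! S3422 (FIN): the normaliser of the group of elations has index `q² + q + 1`. -/

set_option autoImplicit false

namespace CfsgW3

open CfsgH5 CfsgH6 CfsgFT Subgroup Finset
open CfsgU3 (RE)

universe u

variable {G : Type u} [Group G]

namespace H9F

/-- the conjugates of `E` -/
def Cl (E : Subgroup G) : Type u := {A : Subgroup G // ∃ c, A = cj c E}

instance clAction (E : Subgroup G) : MulAction G (Cl E) where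
  smul g A := ⟨cj g A.1, by obtain ⟨c, e⟩ := A.2; exact ⟨g * c, by rw [e, cj_cj]⟩⟩
  one_smul A := Subtype.ext (cj_one A.1)
  mul_smul g h A := Subtype.ext (cj_cj g h A.1).symm

instance clFinite [Finite G] (E : Subgroup G) : Finite (Cl E) := Subtype.finite

theorem val_smul {E : Subgroup G} (g : G) (A : Cl E) : (g • A).1 = cj g A.1 := rfl

theorem smul_eq {E : Subgroup G} {g : G} {A : Cl E} : g • A = A ↔ g ∈ N A.1 :=
  Subtype.ext_iff.trans mem_N.symm

theorem vne {E : Subgroup G} {A B : Cl E} (h : A ≠ B) : A.1 ≠ B.1 := fun f => h (Subtype.ext f)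

theorem t0 {E : Subgroup G} (A B : Cl E) : ∃ g : G, g • A = B := by
  obtain ⟨a, ha⟩ := A.2
  obtain ⟨b, hb⟩ := B.2
  exact ⟨b * a⁻¹, Subtype.ext (by rw [val_smul, ha, hb, cj_cj, inv_mul_cancel_right])⟩

theorem card_cl (E : Subgroup G) : (N E).index = Nat.card (Cl E) := by
  have : MulAction.IsPretransitive G (Cl E) := ⟨t0⟩
  rw [← MulAction.index_stabilizer_of_transitive G (X := Cl E) ⟨E, 1, (cj_one E).symm⟩]
  congr 1
  ext g
  exact (smul_eq (E := E) (A := ⟨E, 1, (cj_one E).symm⟩)).symm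

/-- distinct members with a common transvection -/
def adj {E : Subgroup G} (A B : Cl E) : Prop := A ≠ B ∧ A.1 ⊓ B.1 ≠ ⊥

theorem adj.symm {E : Subgroup G} {A B : Cl E} (h : adj A B) : adj B A :=
  ⟨h.1.symm, inf_comm A.1 B.1 ▸ h.2⟩

theorem adj.smul {E : Subgroup G} {A B : Cl E} (h : adj A B) (g : G) : adj (g • A) (g • B) :=
  ⟨fun f => h.1 ((smul_left_cancel_iff g).mp f), by
    rw [val_smul, val_smul, ← cj_inf, Ne, cj_eq_bot]; exact h.2⟩

theorem adj_of {E : Subgroup G} {A B : Cl E} (ne : A ≠ B) {z : G} (h0 : z ≠ 1) (h1 : z ∈ A.1)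
    (h2 : z ∈ B.1) : adj A B :=
  ⟨ne, fun f => h0 (mem_bot.mp (f ▸ ⟨h1, h2⟩))⟩

variable [Finite G] {q r d m e : ℕ} {Zs : Set G} (V : VZ G q r d m e Zs) {E : Subgroup G}
  (F : FL G q r Zs E)
include V F

theorem mb (A : Cl E) : Mb q Zs A.1 := by
  obtain ⟨c, hc⟩ := A.2
  exact hc ▸ Mb.cjj V ⟨F.cardE, F.comm, F.sub⟩ c

omit F in
theorem sq_pos : 0 < q ^ 2 - 1 := by
  have := V.par.q2
  have : 2 ^ 2 ≤ q ^ 2 := Nat.pow_le_pow_left this 2
  omega

theorem count {k : ℕ} (h : ∀ z ∈ Zs, {A : Cl E | z ∈ A.1}.ncard = k) :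
    Nat.card (Cl E) = k * (q ^ 2 + q + 1) := by
  classical
  have := Fintype.ofFinite G
  have := Fintype.ofFinite (Cl E)
  have h1 := card_mul_eq_card_mul (s := (univ : Finset (Cl E))) (t := Zs.toFinset)
    (fun A z => z ∈ A.1) (m := q ^ 2 - 1) (n := k) (fun A _ => by
      have e1 := ncard_sharp A.1
      rw [(mb V F A).card] at e1
      rw [← e1, Nat.add_sub_cancel, ← Set.ncard_coe_finset]
      congr 1
      ext z
      simp only [coe_bipartiteAbove, Set.mem_toFinset, Set.mem_ofPred_eq]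
      exact ⟨fun f => ⟨f.2, (V.Zr z f.1).1⟩, fun f => ⟨(mb V F A).sub z f.1 f.2, f.1⟩⟩)
    (fun z hz => by
      rw [← h z (Set.mem_toFinset.mp hz), ← Set.ncard_coe_finset]
      congr 1
      ext A
      simp)
  rw [card_univ, ← Nat.card_eq_fintype_card, ← Set.ncard_eq_toFinset_card', V.Zn] at h1
  exact Nat.eq_of_mul_eq_mul_right (sq_pos V) (h1.trans (by ring))

theorem adj.nrm {A B : Cl E} (h : adj A B) : Nrm B.1 A.1 := (mb V F A).adjN V F (mb V F B) h.2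

theorem adj.card {A B : Cl E} (h : adj A B) : Nat.card ↥(A.1 ⊓ B.1) = q :=
  ((mb V F A).pair V (mb V F B) (vne h.1) (h.nrm V F)).1

theorem tri (a b c : Cl E) (h1 : adj a b) (h2 : adj b c) : ¬ adj a c := fun h3 =>
  h3.2 ((mb V F a).tri V F (mb V F c) (mb V F b) (vne h3.1) (vne h1.1.symm) (vne h2.1) h1.symm.2 h2.2)

theorem sqr (a b c d' : Cl E) (h1 : adj a b) (h2 : adj b c) (h3 : adj c d') (h4 : adj d' a) :
    a = c ∨ b = d' := by
  by_contra hn
  rw [not_or] at hn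
  have e1 : b.1 ≤ N d'.1 := by
    rw [(mb V F a).split V F (mb V F c) (mb V F b) (vne hn.1) (vne h1.1.symm) (vne h2.1) h1.symm.2 h2.2]
    exact sup_le (inf_le_right.trans (h4.nrm V F).le_N) (inf_le_right.trans (h3.symm.nrm V F).le_N)
  have e2 := ((mb V F d').pair V (mb V F b) (vne (Ne.symm hn.2)) (nrm_of_le_N e1)).1
  refine tri V F d' a b h4 h1 ⟨Ne.symm hn.2, one_lt_card.mp ?_⟩
  have := V.par.q2
  omega

theorem val (H : ∀ z ∈ Zs, {A : Cl E | z ∈ A.1}.ncard = 2) (a : Cl E) :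
    {b | adj a b}.ncard = q + 1 := by
  classical
  have := Fintype.ofFinite G
  have := Fintype.ofFinite (Cl E)
  have q2 := V.par.q2
  have h1 := card_mul_eq_card_mul (s := {b | adj a b}.toFinset) (t := ((a.1 : Set G) \ {1}).toFinset)
    (fun b z => z ∈ b.1) (m := q - 1) (n := 1) (fun b hb => by
      have e1 := ncard_sharp (a.1 ⊓ b.1)
      rw [adj.card V F (A := a) (B := b) ((Set.mem_toFinset (s := {b | adj a b})).mp hb)] at e1
      rw [← e1, Nat.add_sub_cancel, ← Set.ncard_coe_finset]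
      congr 1
      ext z
      simp only [coe_bipartiteAbove, Set.mem_toFinset, Set.mem_ofPred_eq]
      exact ⟨fun f => ⟨⟨f.1.1, f.2⟩, f.1.2⟩, fun f => ⟨⟨f.1.1, f.2⟩, f.1.2⟩⟩)
    (fun z hz => by
      obtain ⟨z1, z2⟩ := Set.mem_toFinset.mp hz
      have e1 := Set.ncard_sdiff_singleton_add_one (s := {A : Cl E | z ∈ A.1}) (a := a) z1
      rw [H z ((mb V F a).sub z z1 z2)] at e1
      rw [← Set.ncard_coe_finset]
      refine Eq.trans ?_ (Nat.succ_injective e1)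
      congr 1
      ext b
      simp only [coe_bipartiteBelow, Set.mem_toFinset, Set.mem_ofPred_eq]
      exact ⟨fun f => ⟨f.2, f.1.1.symm⟩, fun f => ⟨adj_of (Ne.symm f.2) z2 z1 f.1, f.1⟩⟩)
  rw [← Set.ncard_eq_toFinset_card', ← Set.ncard_eq_toFinset_card'] at h1
  have h2 := ncard_sharp a.1
  rw [(mb V F a).card] at h2
  refine Nat.eq_of_mul_eq_mul_right (by omega : 0 < q - 1) ?_
  obtain ⟨q, rfl⟩ : ∃ k, q = k + 1 := ⟨q - 1, by omega⟩
  rw [Nat.add_sub_cancel] at h1 ⊢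
  nlinarith

theorem t3 (H : ∀ z ∈ Zs, {A : Cl E | z ∈ A.1}.ncard = 2) (a b c y y' : Cl E) (h1 : adj a b)
    (h2 : adj b c) (n1 : a ≠ c) (h3 : adj c y) (h4 : adj c y') (n2 : b ≠ y) (n3 : b ≠ y') :
    ∃ g : G, g • a = a ∧ g • b = b ∧ g • c = c ∧ g • y = y' := by
  have f1 : ∀ g ∈ a.1 ⊓ b.1, g • a = a ∧ g • b = b ∧ g • c = c := fun g hg =>
    ⟨smul_eq.mpr (le_N _ hg.1), smul_eq.mpr (le_N _ hg.2), smul_eq.mpr ((h2.symm.nrm V F).le_N hg.2)⟩
  have f2 : Set.InjOn (fun g : G => g • y) ↑(a.1 ⊓ b.1) := fun g hg g' hg' e => by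
    have e1 : g⁻¹ * g' ∈ a.1 ⊓ b.1 := mul_mem (inv_mem hg) hg'
    by_contra ne
    have e2 : g⁻¹ * g' ≠ 1 := fun f => ne (inv_mul_eq_one.mp f)
    rcases (mb V F c).inN V (mb V F y) (vne h3.1) (h3.nrm V F) ((mb V F a).sub _ e1.1 e2)
      (smul_eq.mp (f1 _ e1).2.2) (smul_eq.mp (by rw [mul_smul, inv_smul_eq_iff]; exact e.symm))
      with f | f
    · exact tri V F a b c h1 h2 (adj_of n1 e2 e1.1 f)
    · exact tri V F b c y h2 h3 (adj_of n2 e2 e1.2 f)
  have f3 : (fun g : G => g • y) '' ↑(a.1 ⊓ b.1) ⊆ {t | adj c t} \ {b} := by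
    rintro _ ⟨g, hg, rfl⟩
    exact ⟨(f1 g hg).2.2 ▸ h3.smul g,
      fun f => n2 ((smul_left_cancel_iff g).mp ((f1 g hg).2.1.trans f.symm))⟩
  have f4 := Set.ncard_sdiff_singleton_add_one (s := {t | adj c t}) (a := b) h2.symm
  rw [val V F H] at f4
  have f5 := Set.eq_of_subset_of_ncard_le f3 (by
    rw [f2.ncard_image]
    exact (Nat.succ_injective f4).le.trans (h1.card V F).ge)
  obtain ⟨g, hg, e⟩ := f5.ge (⟨h4, n3.symm⟩ : y' ∈ {t | adj c t} \ {b})
  exact ⟨g, (f1 g hg).1, (f1 g hg).2.1, (f1 g hg).2.2, e⟩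

end H9F

open H9F in
theorem FL.index [Finite G] [IsSimpleGroup G] {q r d m e : ℕ} {Zs : Set G} {E : Subgroup G}
    (F : FL G q r Zs E) (V : VZ G q r d m e Zs) : (N E).index = q ^ 2 + q + 1 := by
  rw [card_cl]
  by_cases H : ∃ a b : Cl E, adj a b
  · exfalso
    obtain ⟨a, b, h⟩ := H
    have H : ∀ z ∈ Zs, {A : Cl E | z ∈ A.1}.ncard = 2 := fun z hz => by
      obtain ⟨P, e1, e2⟩ := exP V F hz
      obtain ⟨g, hg⟩ := ex_cj V e1
        (isPGroup_sup V.par.pr ((mb V F a).pg V) ((mb V F b).pg V) (.inr (h.nrm V F)))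
      rw [CfsgFT.cj_sup, sup_le_iff] at hg
      refine Set.ncard_eq_two.mpr ⟨g • a, g • b, (h.smul g).1, Set.ext fun c => ⟨fun f => ?_, ?_⟩⟩
      · exact ((mb V F (g • a)).two V (mb V F (g • b)) (mb V F c) (pg V e1) hg.1 hg.2
          ((e2 _ (mb V F c)).mp f) (vne (h.smul g).1)).imp Subtype.ext Subtype.ext
      · rintro (rfl | rfl)
        exacts [(e2 _ (mb V F (g • a))).mpr hg.1, (e2 _ (mb V F (g • b))).mpr hg.2]
    exact Gr.false (adj := adj) ⟨fun _ _ => adj.symm, fun _ f => f.1 rfl, V.par.q2, val V F H,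
      tri V F, sqr V F, count V F H⟩ (fun g _ _ f => f.smul g) t0 (t3 V F H)
  · refine (count V F (k := 1) fun z hz => ?_).trans (one_mul _)
    obtain ⟨P, e1, e2⟩ := exP V F hz
    obtain ⟨g, hg⟩ := ex_cj V e1 (pg V F.cardE)
    have e3 := (e2 _ (mb V F ⟨_, g, rfl⟩)).mpr hg
    refine Set.ncard_eq_one.mpr ⟨⟨_, g, rfl⟩, Set.ext fun c => ⟨fun f => ?_, ?_⟩⟩
    · by_contra ne
      exact H ⟨_, _, adj_of ne (V.Zr z hz).1 f e3⟩
    · rintro rfl
      exact e3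

end CfsgW3
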