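import Cfsg.Agent.H9.Spectrum2
import Cfsg.Agent.H7.SpecBasic

/-! The element orders of the group `2^6 : A_8`. -/

set_option autoImplicit false
set_option maxRecDepth 100000

namespace CfsgH9.A8C

open scoped MatrixGroups

theorem MM_ok : MatOK 7 2 3 21 1 1 595494426065512161940651971779003154439 2097151 76459697823533565056693891220508668020504283 22300746527758698154618827807557359968976897 :=
  ⟨by norm_num, by norm_num, by norm_num, by norm_num, by norm_num, by decide +kernel, by decide +kernel, by decide +kernel,
    by decide +kernel, by norm_num, by decide +kernel⟩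

noncomputable def MM : Model (GL (Fin 7) (ZMod 2)) :=
  matModel 7 2 (nat_lit 3) (nat_lit 21) (nat_lit 1) (nat_lit 1) (nat_lit 595494426065512161940651971779003154439) (nat_lit 2097151) (nat_lit 76459697823533565056693891220508668020504283) (nat_lit 22300746527758698154618827807557359968976897) MM_ok (Units.coeHom _) Units.val_injective

theorem enc_eq (x : GL (Fin 7) (ZMod 2)) : MM.enc x = encMat 7 2 3 (x : Matrix (Fin 7) (Fin 7) (ZMod 2)) := by
  delta MM matModel
  dsimp only
  rw [Units.coeHom_apply]

noncomputable def c_s0 : NT := (.node (.leaf (nat_lit 22300746551489762377334656559817676638425673)) (.leaf (nat_lit 22300756022239232347278103793845535317987912)))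

noncomputable def c_t0 : NT := (.node (.node (.node (.node (.node (.node (.node (.node (.node (.node (.node (.node (.leaf (nat_lit 22300746527758698154618827807557359968976897)) (.leaf (nat_lit 22300757330697960212269215183784503274373640))) (.leaf (nat_lit 22300746693917279545977479450580643834265600))) (.node (.node (.leaf (nat_lit 22300755998513248630516568190582469094019136)) (.leaf (nat_lit 22300756001110020981563781692426202430836736))) (.leaf (nat_lit 22300757351431643545420502032536535664951305)))) (.node (.node (.node (.leaf (nat_lit 22300757351466505155523478780417870028603904)) (.leaf (nat_lit 22300755832679741802239103371893037009473536))) (.leaf (nat_lit 22300755998553813449723861155136211039293504))) (.node (.node (.leaf (nat_lit 22300746717602697033659688829310985004159049)) (.leaf (nat_lit 22300757161912184422863917156993586384076809))) (.leaf (nat_lit 22300757348875427326277421685538564075422272))))) (.node (.node (.node (.node (.leaf (nat_lit 22300755834956443518189632796002109079162944)) (.leaf (nat_lit 22300745365013790998914558763637735453655625))) (.leaf (nat_lit 22300757348871079700504579029370398658564680))) (.node (.node (.leaf (nat_lit 22300745221896048136932224972053791939494401)) (.leaf (nat_lit 22300756019282992073818826641582387198169089))) (.leaf (nat_lit 22300746530359849099618640704703921851203649)))) (.node (.node (.node (.leaf (nat_lit 22300755853165056139702097202992931624223232)) (.leaf (nat_lit 22300757161582595111754519261327872246153217))) (.leaf (nat_lit 22300745198860291525758163794810023465714176))) (.node (.leaf (nat_lit 22300745198860936512163159391183427833167944)) (.leaf (nat_lit 22300745219625053346017177154015644331544584)))))) (.node (.node (.node (.node (.node (.leaf (nat_lit 22300757182352487105410666765951556236083713)) (.leaf (nat_lit 22300755832684902793610485154715524889841672))) (.leaf (nat_lit 22300746717318653062222805012437630684495880))) (.node (.node (.leaf (nat_lit 22300757351472288983399809531982801461609033)) (.leaf (nat_lit 22300755855719926524665686148196513773518913))) (.leaf (nat_lit 22300757330697326403894642463240564850852352)))) (.node (.node (.node (.leaf (nat_lit 22300745198571197886326241345896271069876808)) (.leaf (nat_lit 22300757185318154275074808940498994776248384))) (.leaf (nat_lit 22300757351472298732139849339972267429368329))) (.node (.leaf (nat_lit 22300746528088209477611400443143060334055432)) (.leaf (nat_lit 22300745201131921401711965330517714098192392))))) (.node (.node (.node (.node (.leaf (nat_lit 22300757182357477087264546962003964117159936)) (.leaf (nat_lit 22300755855725005812258271769041318719783432))) (.leaf (nat_lit 22300745198901410961483077794863135393354312))) (.node (.node (.leaf (nat_lit 22300745201173040837092064882099015464779777)) (.leaf (nat_lit 22300746717643261852867573368697922204766281))) (.leaf (nat_lit 22300746696879145020826954711586824719204937)))) (.node (.node (.node (.leaf (nat_lit 22300757185313718910301681915270364137558601)) (.leaf (nat_lit 22300755832684188635184944669145816010592264))) (.leaf (nat_lit 22300755998548732941385372469205798467178496))) (.node (.leaf (nat_lit 22300745365008642560991257636397855891783688)) (.leaf (nat_lit 22300745219305524906901101854424832751436352))))))) (.node (.node (.node (.node (.node (.node (.leaf (nat_lit 22300745198576892407787461278859114481717249)) (.leaf (nat_lit 22300745201172408232769904670106769812357696))) (.leaf (nat_lit 22300745219624339032896271097475423182819401))) (.node (.node (.leaf (nat_lit 22300755834950747756413688596086416639787016)) (.leaf (nat_lit 22300755834956442277831152890673363163549696))) (.leaf (nat_lit 22300746696879145175833912145295111528649289)))) (.node (.node (.node (.leaf (nat_lit 22300745198855865911882589006653605590077448)) (.leaf (nat_lit 22300745201456994709323017500470361041403913))) (.leaf (nat_lit 22300756001109319067450681680288910632026176))) (.node (.node (.leaf (nat_lit 22300746548533591428484596453101610561700353)) (.leaf (nat_lit 22300746528083772546070255694494226979230281))) (.leaf (nat_lit 22300745219341009239525858875339928613425153))))) (.node (.node (.node (.node (.leaf (nat_lit 22300757351142075905560669044876443503333897)) (.leaf (nat_lit 22300745198900787039967730486244815142916097))) (.leaf (nat_lit 22300745201132476000922021152758093985087496))) (.node (.node (.leaf (nat_lit 22300746528083861694376477047355849352151049)) (.leaf (nat_lit 22300757351467228129776123905496892355936841))) (.leaf (nat_lit 22300745219624418263774820548261164412600832)))) (.node (.node (.node (.leaf (nat_lit 22300755832400858687118576744647042233798657)) (.leaf (nat_lit 22300746693917268230172004940661021372351049))) (.leaf (nat_lit 22300746696878430729423612569751929930121736))) (.node (.leaf (nat_lit 22300746528088298628943923435768727906582592)) (.leaf (nat_lit 22300745198860222358621061022730035273142280)))))) (.node (.node (.node (.node (.node (.leaf (nat_lit 22300755853129571828829150333287329907609600)) (.leaf (nat_lit 22300757161588289653162425083970311501939200))) (.leaf (nat_lit 22300755853448296803760917607689967288483848))) (.node (.node (.leaf (nat_lit 22300746717602606661274753094575660738805769)) (.leaf (nat_lit 22300757164183884703550044984597867336303168))) (.leaf (nat_lit 22300745364724766664476242028683463739314688)))) (.node (.node (.node (.leaf (nat_lit 22300746528083861696793739543977186339848201)) (.leaf (nat_lit 22300745198576982934574809679718240967753728))) (.leaf (nat_lit 22300746717647687468820399955389474718876160))) (.node (.leaf (nat_lit 22300757330698039614857722104597983948739144)) (.leaf (nat_lit 22300746717323180231052450371255206422811145))))) (.node (.node (.node (.node (.leaf (nat_lit 22300745367285420874788670529645115288326152)) (.leaf (nat_lit 22300746717607767633638618181130382014157385))) (.leaf (nat_lit 22300755834992027019002988544719014773129729))) (.node (.node (.leaf (nat_lit 22300746717602697033659690108333827859714633)) (.leaf (nat_lit 22300757185313728813822578567752324774662217))) (.leaf (nat_lit 22300746693917824067927234068774258880053248)))) (.node (.node (.node (.leaf (nat_lit 22300757351431643543002649242637580038832137)) (.leaf (nat_lit 22300755998549298856485979040641361971023872))) (.leaf (nat_lit 22300745198571267188905610819984077103333376))) (.node (.leaf (nat_lit 22300755853123856085582452860695947170320969)) (.leaf (nat_lit 22300757351471575755506540058794598491750912)))))))) (.node (.node (.node (.node (.node (.node (.node (.leaf (nat_lit 22300745198896430731089892365234354905972744)) (.leaf (nat_lit 22300746527758698154618827971978878659854337))) (.leaf (nat_lit 22300745198571197886061788969534820129734657))) (.node (.node (.leaf (nat_lit 22300755834996374512134592881345614458159168)) (.leaf (nat_lit 22300755834950748991591068569395999237214272))) (.leaf (nat_lit 22300745385453389276989816490536753374200393)))) (.node (.node (.node (.leaf (nat_lit 22300746696878430729688066101599504938828296)) (.leaf (nat_lit 22300745388420336670352623776801008063119945))) (.leaf (nat_lit 22300745367285430778039145838125283983790080))) (.node (.node (.leaf (nat_lit 22300745385458390709793929859170026840654336)) (.leaf (nat_lit 22300755855720005750372644617199578937065536))) (.leaf (nat_lit 22300755832719674186756309336292468855930888))))) (.node (.node (.node (.node (.leaf (nat_lit 22300745201132565304272969918290605218467904)) (.leaf (nat_lit 22300746548528440343354194268023619471020617))) (.leaf (nat_lit 22300746551489762379748376130621275927515721))) (.node (.node (.leaf (nat_lit 22300756022239151861827930579958035369721856)) (.leaf (nat_lit 22300756019282426158987551754743158849933313))) (.leaf (nat_lit 22300746530359849099618640868843965430890561)))) (.node (.node (.node (.leaf (nat_lit 22300757182357477089681809458379552857296896)) (.leaf (nat_lit 22300745364684211749090892977296402771349505))) (.leaf (nat_lit 22300755834997096405225107984708511069110848))) (.node (.leaf (nat_lit 22300745388420246298273452046242352608874496)) (.leaf (nat_lit 22300757182357477087264031624106353105048137)))))) (.node (.node (.node (.node (.node (.leaf (nat_lit 22300746548527816264153717434416078291730945)) (.leaf (nat_lit 22300755853124491323214803169024581130260992))) (.leaf (nat_lit 22300745198900778376540853616262038652223489))) (.node (.node (.leaf (nat_lit 22300745198855143090332393555840371097899585)) (.leaf (nat_lit 22300746693912752244252177268838243173171200))) (.leaf (nat_lit 22300755853124410680647532191370936422760449)))) (.node (.node (.node (.leaf (nat_lit 22300757161907737585077126808671252975222848)) (.leaf (nat_lit 22300755998548732941389504537907923230167040))) (.leaf (nat_lit 22300745201167970234691151964457766821560329))) (.node (.leaf (nat_lit 22300746527759252906537384950730503236128768)) (.leaf (nat_lit 22300757185313094986104612813575546416173641))))) (.node (.node (.node (.node (.leaf (nat_lit 22300755832720397010714383515427530084450376)) (.leaf (nat_lit 22300756019282427396657815334380294675369985))) (.leaf (nat_lit 22300755832684178598984937355742445071274569))) (.node (.node (.leaf (nat_lit 22300755832724744791267593042499013342953480)) (.leaf (nat_lit 22300756001109387156263667706363365669736960))) (.leaf (nat_lit 22300757327741234509494339720280727292743681)))) (.node (.node (.node (.leaf (nat_lit 22300746527764323373798254246819618563067904)) (.leaf (nat_lit 22300745201172487458514492191212928447316032))) (.leaf (nat_lit 22300757327736163907363201082988533901430785))) (.node (.leaf (nat_lit 22300745219629401124454765510719360114622472)) (.leaf (nat_lit 22300755853453445396384297559903530066940481))))))) (.node (.node (.node (.node (.node (.node (.leaf (nat_lit 22300745364724776567996555158804158325231616)) (.leaf (nat_lit 22300757161582675752206917289684516149956608))) (.leaf (nat_lit 22300746696874074418728262872308929139868233))) (.node (.node (.leaf (nat_lit 22300746717647618144178198839152339654541320)) (.leaf (nat_lit 22300745221901039530547166754810699951899136))) (.leaf (nat_lit 22300756001110020981563780539469573734273032)))) (.node (.node (.node (.leaf (nat_lit 22300755998837757278241540969841412062318656)) (.leaf (nat_lit 22300746696879064532925357795313405524967936))) (.leaf (nat_lit 22300756001104316573507788852528525804048896))) (.node (.node (.leaf (nat_lit 22300745198901410961450021229201573034627656)) (.leaf (nat_lit 22300746527764402582622087591527986772316745))) (.leaf (nat_lit 22300757330698040698017476394551568006156809))))) (.node (.node (.node (.node (.leaf (nat_lit 22300755832719682719010010144042610728407624)) (.leaf (nat_lit 22300757164184438084809986545463867134476800))) (.leaf (nat_lit 22300755853123776874647057903589051445809152))) (.node (.node (.leaf (nat_lit 22300745367285342906322054909186448254304320)) (.leaf (nat_lit 22300757164184438082133003115937736744272384))) (.leaf (nat_lit 22300745219629409637979489348005178275827785)))) (.node (.node (.node (.leaf (nat_lit 22300755998553803543790417455514459799064576)) (.leaf (nat_lit 22300746717643171461138653023803849582837768))) (.leaf (nat_lit 22300756001110020979145930181835405427740672))) (.node (.leaf (nat_lit 22300757182356853145881613582479097103385089)) (.leaf (nat_lit 22300746530355411087259525850084376561618944)))))) (.node (.node (.node (.node (.node (.leaf (nat_lit 22300745365008730302447089402096863712412233)) (.leaf (nat_lit 22300757327736728410433580532172448025809481))) (.leaf (nat_lit 22300745198576892410209444988760805372858369))) (.node (.node (.leaf (nat_lit 22300757330698040695599624755327188739330569)) (.leaf (nat_lit 22300755853449019625344749527360980673363976))) (.leaf (nat_lit 22300757164183884705972618990305047528865857)))) (.node (.node (.node (.leaf (nat_lit 22300755832720397010412152076285914214826056)) (.leaf (nat_lit 22300755998548742845207329062292414678700032))) (.leaf (nat_lit 22300755998553734240866980594520573264297985))) (.node (.leaf (nat_lit 22300745388420246298273450893285122329575488)) (.leaf (nat_lit 22300757327741789128657572200122794893410304))))) (.node (.node (.node (.node (.leaf (nat_lit 22300757330702476215114666235786079030477320)) (.leaf (nat_lit 22300757185313093573771646820596624325087240))) (.leaf (nat_lit 22300755998508090131917299985473988705911296))) (.node (.node (.leaf (nat_lit 22300746693912752246670030060988456373354496)) (.leaf (nat_lit 22300745388420325509506282469491718305906689))) (.leaf (nat_lit 22300745367285343041419524474493295382495296)))) (.node (.node (.node (.leaf (nat_lit 22300745198901501331068820546117316223435272)) (.leaf (nat_lit 22300757161912184422519249131699501506232329))) (.leaf (nat_lit 22300755832684257805085145707646405597762121))) (.node (.leaf (nat_lit 22300755832724744791532045583554033481679368)) (.leaf (nat_lit 22300745364684122772155966147860114979192832))))))))) (.node (.node (.node (.node (.node (.node (.node (.node (.leaf (nat_lit 22300755998832686678254348789155149849330249)) (.leaf (nat_lit 22300746527804888173699932080773947453374976))) (.leaf (nat_lit 22300757327736728408015728769415257436225536))) (.node (.node (.leaf (nat_lit 22300756001109953068947002433917120600608768)) (.leaf (nat_lit 22300745388420326919156371316439427729101384))) (.leaf (nat_lit 22300756022244293198483945995658568065385033)))) (.node (.node (.node (.leaf (nat_lit 22300746551489762379450867042201037095342665)) (.leaf (nat_lit 22300757330697405612713827104879310125662720))) (.leaf (nat_lit 22300755832684178596567085716513736477676105))) (.node (.node (.leaf (nat_lit 22300745367285342903904203269957739660443712)) (.leaf (nat_lit 22300757351431724164192440474608586157494857))) (.leaf (nat_lit 22300755853170046121598552340291245727551489))))) (.node (.node (.node (.node (.leaf (nat_lit 22300745364729837264459302156355852793057280)) (.leaf (nat_lit 22300745198860222203533233227383451121090624))) (.leaf (nat_lit 22300746717602697031237706272330711732359689))) (.node (.node (.leaf (nat_lit 22300755853164430805897456730198389727461888)) (.leaf (nat_lit 22300745388420336825095119463824429697499721))) (.leaf (nat_lit 22300746715046469672678983236433601047298112)))) (.node (.node (.node (.leaf (nat_lit 22300745219299811813615143012052887933292544)) (.leaf (nat_lit 22300745219299899709780505129095379801866816))) (.leaf (nat_lit 22300746551494831896538551613801236839567433))) (.node (.leaf (nat_lit 22300746715047113421177595943024637725676105)) (.leaf (nat_lit 22300757161587655963267399465534503893598209)))))) (.node (.node (.node (.node (.node (.leaf (nat_lit 22300756022244212577600434124023629304856584)) (.leaf (nat_lit 22300745385458391792655575701685049558827520))) (.leaf (nat_lit 22300745219624418261021006589866810282377728))) (.node (.node (.leaf (nat_lit 22300746551494831898956403250779176413991497)) (.leaf (nat_lit 22300746551489762379753090426658011371049033))) (.leaf (nat_lit 22300757351472208345284401981750004188184584)))) (.node (.node (.node (.leaf (nat_lit 22300745219304891101246024095827380456689737)) (.leaf (nat_lit 22300745221895960264643812019584016368833033))) (.leaf (nat_lit 22300746717643261852829803678217002360541705))) (.node (.leaf (nat_lit 22300745388420326919156887825026659825783368)) (.leaf (nat_lit 22300757164184438063087026939539004126953480))))) (.node (.node (.node (.node (.leaf (nat_lit 22300745364730391880901945391799734129394177)) (.leaf (nat_lit 22300757185313083692016709136691959104278536))) (.leaf (nat_lit 22300746717601972836276281289918833473355785))) (.node (.node (.leaf (nat_lit 22300755853164430808650679239860880413065728)) (.leaf (nat_lit 22300757182351861774023878925113948712731136))) (.leaf (nat_lit 22300757164179377366586574797070478258475593)))) (.node (.node (.node (.leaf (nat_lit 22300757161582664436358950686807560292663360)) (.leaf (nat_lit 22300745201172408387856559946780649315401792))) (.leaf (nat_lit 22300757348871079835606761863888868143566921))) (.node (.leaf (nat_lit 22300745385453955189673152497433241400119296)) (.leaf (nat_lit 22300757182352485693682819839270969508368969))))))) (.node (.node (.node (.node (.node (.node (.leaf (nat_lit 22300755832725377243535521363082943146229825)) (.leaf (nat_lit 22300755853453367403743970815616781979484169))) (.leaf (nat_lit 22300746548527895492278462983267436583977472))) (.node (.node (.leaf (nat_lit 22300745198896340361807625215019924335099969)) (.leaf (nat_lit 22300745364729847167979099928311638549106688))) (.leaf (nat_lit 22300745364689282348771732023894609213293129)))) (.node (.node (.node (.leaf (nat_lit 22300745201126850801388221674587348330086408)) (.leaf (nat_lit 22300745219340376654583045554131923990745089))) (.leaf (nat_lit 22300757351471653745729530393695743761449472))) (.node (.node (.leaf (nat_lit 22300745219340386536347408082790410604282368)) (.leaf (nat_lit 22300757327736728408015718393121715857424385))) (.leaf (nat_lit 22300745201167337783037796558629508529291328))))) (.node (.node (.node (.node (.leaf (nat_lit 22300755832395164165696380716133982788390913)) (.leaf (nat_lit 22300745198855151755874899995962073816240136))) (.leaf (nat_lit 22300756001109309321048729934234467784720960))) (.node (.node (.leaf (nat_lit 22300746530355401181359130791476593990860801)) (.leaf (nat_lit 22300746717607677266093518804331860752072713))) (.leaf (nat_lit 22300746528088843148471176700560196747137609)))) (.node (.node (.node (.leaf (nat_lit 22300745364730391883319207888175322869531137)) (.leaf (nat_lit 22300757351466583143332750843763776213483521))) (.leaf (nat_lit 22300755832395164162970921549025163815944257))) (.node (.leaf (nat_lit 22300746528088209475198271335024356149690377)) (.leaf (nat_lit 22300745221895968928112525134671087348744704)))))) (.node (.node (.node (.node (.node (.leaf (nat_lit 22300755853164430808314719066375760310993408)) (.leaf (nat_lit 22300757182351783781383034645171735445409865))) (.leaf (nat_lit 22300757351426572943018997684213084049375241))) (.node (.node (.leaf (nat_lit 22300745364724766664745498919713803083977216)) (.leaf (nat_lit 22300756022239231261663234288737661086634057))) (.leaf (nat_lit 22300745198896340359044975090252820598788680)))) (.node (.node (.node (.leaf (nat_lit 22300745198571197866718966632333114523779136)) (.leaf (nat_lit 22300745198855775677654698839050208067715144))) (.leaf (nat_lit 22300755832719682716592158651492601570820097))) (.node (.leaf (nat_lit 22300745364724766664777882163493658783912448)) (.leaf (nat_lit 22300746530354778499635579426327193387532353))))) (.node (.node (.node (.node (.leaf (nat_lit 22300755834996374664765691538007873208746048)) (.leaf (nat_lit 22300755832684902793643540566897030869287432))) (.leaf (nat_lit 22300745201173040839476859955948107765682760))) (.node (.node (.leaf (nat_lit 22300757348871079857631879157972038838161481)) (.leaf (nat_lit 22300755998548653732527385225231155289129473))) (.leaf (nat_lit 22300746715047113420880085701682405600170569)))) (.node (.node (.node (.leaf (nat_lit 22300746696874074418727682808958390206763592)) (.leaf (nat_lit 22300757185318164178892632311961431860056065))) (.leaf (nat_lit 22300755832395155497352941424455791335703041))) (.node (.leaf (nat_lit 22300746530355411087259527021020279661166600)) (.leaf (nat_lit 22300746528083861696793738391056223972626440)))))))) (.node (.node (.node (.node (.node (.node (.node (.leaf (nat_lit 22300745365009365382574498104829499905671688)) (.leaf (nat_lit 22300755855725005811956041324874711802348032))) (.leaf (nat_lit 22300756022239141975199521206417092736483336))) (.node (.node (.leaf (nat_lit 22300745388420257594514761628737235341840968)) (.leaf (nat_lit 22300756001104248464705553671154373591334976))) (.leaf (nat_lit 22300745221896594068183196673502551862186505)))) (.node (.node (.node (.leaf (nat_lit 22300755832400234765636285836997107998789633)) (.leaf (nat_lit 22300745198896340494444141317296250094092360))) (.leaf (nat_lit 22300745367280906109576222075725192697479744))) (.node (.node (.leaf (nat_lit 22300755998548732943802708878944833991118848)) (.leaf (nat_lit 22300755832720397010416875721791076959256648))) (.leaf (nat_lit 22300755853170126744558568201470056832696832))))) (.node (.node (.node (.node (.leaf (nat_lit 22300745365013791001328278476305204175471177)) (.leaf (nat_lit 22300757327736719744853370098119670597976064))) (.leaf (nat_lit 22300757161912175754520532036617143754948617))) (.node (.node (.leaf (nat_lit 22300746527764323376215588350072490970877952)) (.leaf (nat_lit 22300746530354768751164216592133828282417216))) (.leaf (nat_lit 22300745385454023102289929452034583481552960)))) (.node (.node (.node (.leaf (nat_lit 22300755832395164146045949698369177705021440)) (.leaf (nat_lit 22300755853128858601285926458394426577523200))) (.leaf (nat_lit 22300745201172416915312264062176796757458945))) (.node (.leaf (nat_lit 22300755832400304073353515120064497159504384)) (.leaf (nat_lit 22300756022239141975194872626629592708317696)))))) (.node (.node (.node (.node (.node (.leaf (nat_lit 22300746527764323376220237956720838213668864)) (.leaf (nat_lit 22300746715051470952850898079514594707013696))) (.leaf (nat_lit 22300746717602697033622501346180440911024649))) (.node (.node (.leaf (nat_lit 22300755835280338147650408193761317342188041)) (.leaf (nat_lit 22300757185318165590923385440861872524923464))) (.leaf (nat_lit 22300745201172408385438709476235494268600896)))) (.node (.node (.node (.leaf (nat_lit 22300745198855775522912119977015044649292361)) (.leaf (nat_lit 22300755855725085018357890818139048441545224))) (.leaf (nat_lit 22300745367280282188140637171455699925860416))) (.node (.leaf (nat_lit 22300755853123856083466759054092578077278209)) (.leaf (nat_lit 22300746696879145153808794869195484298510921))))) (.node (.node (.node (.node (.leaf (nat_lit 22300757351147770429703613240823363586527753)) (.leaf (nat_lit 22300755832395164163235372919391121186230273))) (.leaf (nat_lit 22300745198860213690282399419510633846018056))) (.node (.node (.leaf (nat_lit 22300746717607767636060603043954213181723209)) (.leaf (nat_lit 22300746530359928502130409151589085314580481))) (.leaf (nat_lit 22300757351431643543002649242638129794646025)))) (.node (.node (.node (.leaf (nat_lit 22300746551489751216224463277683503299301888)) (.leaf (nat_lit 22300746715052174274805420701790988664865353))) (.leaf (nat_lit 22300746551494199311596392987279094276461129))) (.node (.leaf (nat_lit 22300755855719926677254792931466280255394313)) (.leaf (nat_lit 22300756022244293200901788393505789231272513))))))) (.node (.node (.node (.node (.node (.node (.leaf (nat_lit 22300755998832696582043919819148295661686848)) (.leaf (nat_lit 22300746527763690766797266898881800468430849))) (.leaf (nat_lit 22300746527764413897860879008178983348994049))) (.node (.node (.leaf (nat_lit 22300756022239232347278102622909089962037832)) (.leaf (nat_lit 22300757330702397006294966237957706154803712))) (.leaf (nat_lit 22300755832400949213934848306870157551370240)))) (.node (.node (.node (.leaf (nat_lit 22300757327736163909515926893017913304027137)) (.leaf (nat_lit 22300745201173040837092064882098388250694216))) (.leaf (nat_lit 22300757164179377366624279941988409170493440))) (.node (.node (.leaf (nat_lit 22300745198571821807808533242056086942384193)) (.leaf (nat_lit 22300746717607044678737576043467274207920129))) (.leaf (nat_lit 22300755998548742844905688047032890529419264))))) (.node (.node (.node (.node (.leaf (nat_lit 22300757164178744776544711017554967036952641)) (.leaf (nat_lit 22300755855725005812258271608842542351647240))) (.leaf (nat_lit 22300756022244212580051342328632416825016328))) (.node (.node (.leaf (nat_lit 22300746715051550355443463283773105688842817)) (.leaf (nat_lit 22300746530354768596421712832166191672852545))) (.leaf (nat_lit 22300757185318164176474780672732173644599296)))) (.node (.node (.node (.leaf (nat_lit 22300746693917822846912147034872495363621376)) (.leaf (nat_lit 22300755998837767182059364341304879940374592))) (.leaf (nat_lit 22300757351431019623640184539122966848344065))) (.node (.leaf (nat_lit 22300746551489117390924348010342176501534728)) (.leaf (nat_lit 22300755853123786778172093237776683641078336)))))) (.node (.node (.node (.node (.node (.leaf (nat_lit 22300757327741789126243852508002989673578496)) (.leaf (nat_lit 22300755853164420921714651959904922075430913))) (.leaf (nat_lit 22300757185313727575877824986370498804093513))) (.node (.node (.leaf (nat_lit 22300746715052094872212781708335779242311752)) (.leaf (nat_lit 22300745198895706533782050762555929005424641))) (.leaf (nat_lit 22300746530360471786177895346064378466435584)))) (.node (.node (.node (.leaf (nat_lit 22300745364730391883319207888422241627800065)) (.leaf (nat_lit 22300746548533510810354825092981329900868169))) (.leaf (nat_lit 22300756001104950376745080546238525201220169))) (.node (.leaf (nat_lit 22300746548533512026534199607287729319350272)) (.leaf (nat_lit 22300755832679832188791720615613753016188937))))) (.node (.node (.node (.node (.leaf (nat_lit 22300757161582586446141187862706750734204929)) (.leaf (nat_lit 22300755853164352818428204405019299583103488))) (.leaf (nat_lit 22300745198860213690579907519637526245543944))) (.node (.node (.leaf (nat_lit 22300746693917822849070942976377827744842240)) (.leaf (nat_lit 22300746715047024272229720429958501022826568))) (.leaf (nat_lit 22300745364730391883664595500839973280809473)))) (.node (.node (.node (.leaf (nat_lit 22300745198901501331068820546117316223697416)) (.leaf (nat_lit 22300755853170046121598552340537536197693441))) (.leaf (nat_lit 22300756001104238718689811029511732084080704))) (.node (.leaf (nat_lit 22300745219340386538765334661917392009986560)) (.leaf (nat_lit 22300745219299889806255404078411679499845632)))))))))) (.node (.node (.node (.node (.node (.node (.node (.node (.node (.leaf (nat_lit 22300757327741789128661705300153752629575680)) (.leaf (nat_lit 22300755832725377241117669705838745121456641))) (.leaf (nat_lit 22300746696873360124604849022005094750618120))) (.node (.node (.leaf (nat_lit 22300746715046390444549525537476645847334976)) (.leaf (nat_lit 22300755855724997146673864538572897915277833))) (.leaf (nat_lit 22300757161907827976120730846854517077573704)))) (.node (.node (.node (.leaf (nat_lit 22300746717607677266093001158339432139457025)) (.leaf (nat_lit 22300745219300444400975152142857530555498560))) (.leaf (nat_lit 22300745219345535131388647600603760273949184))) (.node (.node (.leaf (nat_lit 22300746715046390466574641660623432389230664)) (.leaf (nat_lit 22300745365013800905150233774329911924785737))) (.leaf (nat_lit 22300756001104950379162868774785091528560648))))) (.node (.node (.node (.node (.leaf (nat_lit 22300746551489117393342781874654252024205320)) (.leaf (nat_lit 22300746528088209475193559344834470694096904))) (.leaf (nat_lit 22300746717642616864001118889689929251553792))) (.node (.node (.leaf (nat_lit 22300755853169413536613174163340384270286849)) (.leaf (nat_lit 22300757351425949021276976910518280561623041))) (.leaf (nat_lit 22300745198576892410205312918088845128405576)))) (.node (.node (.node (.leaf (nat_lit 22300757351466583145750601330070980317413384)) (.leaf (nat_lit 22300755832679117878079222597719127497151049))) (.leaf (nat_lit 22300755832724753318992481252709770186494536))) (.node (.leaf (nat_lit 22300745198576268488424996595575513885704257)) (.leaf (nat_lit 22300745198860213538255181614175194112327681)))))) (.node (.node (.node (.node (.node (.leaf (nat_lit 22300755853129561925313558436712724780024384)) (.leaf (nat_lit 22300757182351782698186016779293728528663041))) (.leaf (nat_lit 22300745219305605549502167102554320490463296))) (.node (.node (.leaf (nat_lit 22300745201167346312911350979912974886535169)) (.leaf (nat_lit 22300757164183815381325770593643052289491009))) (.leaf (nat_lit 22300757351431019623640702200913728150470657)))) (.node (.node (.node (.leaf (nat_lit 22300745198571267188910259397273958066716672)) (.leaf (nat_lit 22300746717647687468824532026031268050239496))) (.leaf (nat_lit 22300757161588289653162425086186377070018624))) (.node (.leaf (nat_lit 22300746717642538873783291355327749855379464)) (.leaf (nat_lit 22300745198860291528477655275512490109173824))))) (.node (.node (.node (.node (.leaf (nat_lit 22300756022239141977613240774727542025256960)) (.leaf (nat_lit 22300745385453321190254663776806189949780480))) (.leaf (nat_lit 22300746696873439336106853181579379968573960))) (.node (.node (.leaf (nat_lit 22300755998553724335273613121445902787019265)) (.leaf (nat_lit 22300755855719926544272952937992716604936256))) (.leaf (nat_lit 22300745201126850801383571779708624935359049)))) (.node (.node (.node (.leaf (nat_lit 22300746530359918424223061754171621663309889)) (.leaf (nat_lit 22300755835275891469791362865357769777872961))) (.leaf (nat_lit 22300755998553803543786285384595169838371328))) (.node (.leaf (nat_lit 22300745198855220923356668487422623975772745)) (.leaf (nat_lit 22300755855719926522210129364080043344531520))))))) (.node (.node (.node (.node (.node (.node (.leaf (nat_lit 22300745198855865911878456937950801014558728)) (.leaf (nat_lit 22300746530354857902147347875464155592949760))) (.leaf (nat_lit 22300745365009365384992358823596532252803592))) (.node (.node (.leaf (nat_lit 22300755832400858687459242979091314773066241)) (.leaf (nat_lit 22300755853449019622926307610330745740197897))) (.leaf (nat_lit 22300756001104326457383068943126542369984512)))) (.node (.node (.node (.leaf (nat_lit 22300746530360471803069799102363264235110408)) (.leaf (nat_lit 22300745219624418263774819539454847749194240))) (.leaf (nat_lit 22300757351471653745729530393695743761187328))) (.node (.node (.leaf (nat_lit 22300746693917824067931947211853754532134912)) (.leaf (nat_lit 22300755998837679445141717393361473678344200))) (.leaf (nat_lit 22300746548527816264116529809100615039582721))))) (.node (.node (.node (.node (.leaf (nat_lit 22300755832400858687114445680216865224524289)) (.leaf (nat_lit 22300756022244213798610864525946390747054080))) (.leaf (nat_lit 22300755853453367406161822436835490109887041))) (.node (.node (.leaf (nat_lit 22300745365014435987393853968533288835350536)) (.leaf (nat_lit 22300756022239141977613241929866210756034568))) (.leaf (nat_lit 22300757182352407703460280296463043372548096)))) (.node (.node (.node (.leaf (nat_lit 22300745364729837264463435521812645506482761)) (.leaf (nat_lit 22300746696873439335804695657763357298000385))) (.leaf (nat_lit 22300757351431019623677889684009629171875841))) (.node (.leaf (nat_lit 22300745221901118739030906434761061591941640)) (.leaf (nat_lit 22300755832395155480432619288002458416349184)))))) (.node (.node (.node (.node (.node (.leaf (nat_lit 22300745198571912329751395516555157141717056)) (.leaf (nat_lit 22300755834950739242851030038415012859478592))) (.leaf (nat_lit 22300745219300534947101254184948265092648960))) (.node (.node (.leaf (nat_lit 22300755834991303907315827315668318636999232)) (.leaf (nat_lit 22300745367280272436600751989071378796024329))) (.leaf (nat_lit 22300745198855220925775101198813194891596361)))) (.node (.node (.node (.leaf (nat_lit 22300755853454090225327220527937350894092360)) (.leaf (nat_lit 22300746530359839350803062940904336218128448))) (.leaf (nat_lit 22300755832400858689569485939736123334197313))) (.node (.leaf (nat_lit 22300755998553734238448538494823121150836737)) (.leaf (nat_lit 22300745198860213693040787321823328685002760))))) (.node (.node (.node (.node (.leaf (nat_lit 22300755998837679445482253368219619253289480)) (.leaf (nat_lit 22300755832395155480432619288001908660535296))) (.leaf (nat_lit 22300745198895707909506641646609957925453832))) (.node (.node (.leaf (nat_lit 22300745388420336822639496961212421597336136)) (.leaf (nat_lit 22300745219630123946000828746212113490640904))) (.leaf (nat_lit 22300757351472288985779891606831929533665865)))) (.node (.node (.node (.leaf (nat_lit 22300745385453389276990396538445192660783105)) (.leaf (nat_lit 22300755835280338147688179055173192502252041))) (.leaf (nat_lit 22300757351431010958059909543712850823905281))) (.node (.leaf (nat_lit 22300755853124501224312544597301432860803073)) (.leaf (nat_lit 22300745219629409657356032315645649075077632)))))))) (.node (.node (.node (.node (.node (.node (.node (.leaf (nat_lit 22300755998548732943807357330059235942502400)) (.leaf (nat_lit 22300757161628933681151650643705007158886912))) (.leaf (nat_lit 22300746717642616864005766316274518281158664))) (.node (.node (.leaf (nat_lit 22300757351426584237149401504546896667218505)) (.leaf (nat_lit 22300745367285342903606695332206656805175360))) (.leaf (nat_lit 22300746715047034350180160592824373489177161)))) (.node (.node (.node (.leaf (nat_lit 22300745219304882418736064101904472459968513)) (.leaf (nat_lit 22300755998833331664319343208945393695227912))) (.leaf (nat_lit 22300746693912753463108470667076524033998848))) (.node (.node (.leaf (nat_lit 22300756022239232347278694089374426562859592)) (.leaf (nat_lit 22300755855725085020775816388454773185315328))) (.leaf (nat_lit 22300745219345446016971456292135523443806209))))) (.node (.node (.node (.node (.leaf (nat_lit 22300745364724766662058390389454755145454080)) (.leaf (nat_lit 22300757161623785088528337563229602959098368))) (.leaf (nat_lit 22300745219340464528987735979998732016157248))) (.node (.node (.leaf (nat_lit 22300757161628864356547229594025729609465920)) (.leaf (nat_lit 22300755853448296803760909663340303109849097))) (.leaf (nat_lit 22300757348870366629814674690204653278462016)))) (.node (.node (.node (.leaf (nat_lit 22300746527763699434828448948477926572032001)) (.leaf (nat_lit 22300745219304891238761925345981092612575305))) (.leaf (nat_lit 22300745367280350427130262520459794307125248))) (.node (.leaf (nat_lit 22300755832395788084717663680361256473329729)) (.leaf (nat_lit 22300755998548734179627053040101158633607176)))))) (.node (.node (.node (.node (.node (.leaf (nat_lit 22300755853453375917042018884767150587809865)) (.leaf (nat_lit 22300757164178735027729122713326194392076809))) (.leaf (nat_lit 22300745198576258720649697284527956454015040))) (.node (.node (.leaf (nat_lit 22300745219299889803838133346954111736872961)) (.leaf (nat_lit 22300746717607688560223332346588779379692105))) (.leaf (nat_lit 22300745221895960397969803731903666989563969)))) (.node (.node (.node (.leaf (nat_lit 22300745219299820498845110007566492003209728)) (.leaf (nat_lit 22300756019277287471999432929996412190458368))) (.leaf (nat_lit 22300745388415266067951700482905329018896969))) (.node (.leaf (nat_lit 22300746693917822982052781981311823899820032)) (.leaf (nat_lit 22300756022244222464228844650481128625700865))))) (.node (.node (.node (.node (.leaf (nat_lit 22300757351426653564171674195425757285847625)) (.leaf (nat_lit 22300745364689282348771733177062954063138816))) (.leaf (nat_lit 22300757164183805632552610953700908527255617))) (.node (.node (.leaf (nat_lit 22300745201451925187702311733242210443104777)) (.leaf (nat_lit 22300746527764333257716108393350032932507648))) (.leaf (nat_lit 22300746551494187993325843153030980487352328)))) (.node (.node (.node (.leaf (nat_lit 22300746715051461046950437304377811140870216)) (.leaf (nat_lit 22300745364729758210344337505387223260856321))) (.leaf (nat_lit 22300746715046479750624698726938410282684993))) (.node (.leaf (nat_lit 22300755998838391103536942965960592785965641)) (.leaf (nat_lit 22300746528083216863015110865541660990767113))))))) (.node (.node (.node (.node (.node (.node (.leaf (nat_lit 22300745198896430728667907484396141334790152)) (.leaf (nat_lit 22300757161907737606800011618492447218209353))) (.leaf (nat_lit 22300746551494833136896442538129226394275913))) (.node (.node (.leaf (nat_lit 22300746528083861694376478218291751394738185)) (.leaf (nat_lit 22300756001109397059783982004847106162954240))) (.leaf (nat_lit 22300746717607053341933056111360031389122561)))) (.node (.node (.node (.leaf (nat_lit 22300755853448939139903450533288300880331328)) (.leaf (nat_lit 22300746717642547541814474683699191108075528))) (.leaf (nat_lit 22300757164184438084550855908089049456607744))) (.node (.node (.leaf (nat_lit 22300757161588289655547221328720142041907264)) (.leaf (nat_lit 22300745201456995790107937793962877263319561))) (.leaf (nat_lit 22300755834997096405225109281745203751813184))))) (.node (.node (.node (.node (.leaf (nat_lit 22300755998832686675836495997004386893333065)) (.leaf (nat_lit 22300755855719926679672643435784584216969281))) (.leaf (nat_lit 22300755855725710352163047977694474119938568))) (.node (.node (.leaf (nat_lit 22300757327736175225321401402383320815534592)) (.leaf (nat_lit 22300757330698040698017477547477951695852041))) (.leaf (nat_lit 22300745201131843430525266631723982247989769)))) (.node (.node (.node (.leaf (nat_lit 22300745365014435987393262661664745067643400)) (.leaf (nat_lit 22300755998833331664319332974514690742026760))) (.leaf (nat_lit 22300745201167970234653446819570562258436609))) (.node (.leaf (nat_lit 22300757182351782543480701657630955102310473)) (.leaf (nat_lit 22300755853448939139903451526010952864502272)))))) (.node (.node (.node (.node (.node (.leaf (nat_lit 22300755832724744791234537794671877225218056)) (.leaf (nat_lit 22300745221896602736185454390313352436122120))) (.leaf (nat_lit 22300745219305515003376065042484303348633600))) (.node (.node (.leaf (nat_lit 22300745367280906109576221911620333456327232)) (.leaf (nat_lit 22300745388415266067951119410467555984310857))) (.leaf (nat_lit 22300757185313728656661640945443065257037897)))) (.node (.node (.node (.leaf (nat_lit 22300757185313083670256045536585254221123648)) (.leaf (nat_lit 22300755855720014415957050534587783140639232))) (.leaf (nat_lit 22300755853128857382688701439770204250837504))) (.node (.leaf (nat_lit 22300757161583219053146307240213436484849664)) (.leaf (nat_lit 22300745201172408385438708449415330057420864))))) (.node (.node (.node (.node (.leaf (nat_lit 22300757161582664433941162458230741287567424)) (.leaf (nat_lit 22300755832684812404640016125078063460422217))) (.leaf (nat_lit 22300745365013713165814734162904991435849736))) (.node (.node (.leaf (nat_lit 22300757185318798175865534842005850551521865)) (.leaf (nat_lit 22300745201456360884060681002330850137772609))) (.leaf (nat_lit 22300746715047034350175436931556610974978633)))) (.node (.node (.node (.leaf (nat_lit 22300745201167416856113579417686944281264704)) (.leaf (nat_lit 22300745201456371871043498689954932448334345))) (.leaf (nat_lit 22300756022244223873841746014332387388854345))) (.node (.leaf (nat_lit 22300757182356854386201800372938553476514305)) (.leaf (nat_lit 22300746551489762377033016555893283352515145))))))))) (.node (.node (.node (.node (.node (.node (.node (.node (.leaf (nat_lit 22300746528088841929874532738611773677245001)) (.leaf (nat_lit 22300745219299821719893918842555873987138048))) (.leaf (nat_lit 22300755853448296803798687462799182611349513))) (.node (.node (.leaf (nat_lit 22300745364684767757951692471589334662778944)) (.leaf (nat_lit 22300755998508801947477603321325219630813248))) (.leaf (nat_lit 22300755834950739245575328087467422264853056)))) (.node (.node (.node (.leaf (nat_lit 22300756022239221184014499990191451718844480)) (.leaf (nat_lit 22300755853453366166149188862770518578954312))) (.leaf (nat_lit 22300745201167336409391037852008895742246913))) (.node (.node (.leaf (nat_lit 22300746551494832979735569335560275188813897)) (.leaf (nat_lit 22300745219299899707362654642787076303749696))) (.leaf (nat_lit 22300745198860213690622935682594071407230985))))) (.node (.node (.node (.node (.leaf (nat_lit 22300745201168059523497212989568096376193600)) (.leaf (nat_lit 22300745219624339052201305279445983060856905))) (.leaf (nat_lit 22300745365014435984980133245084643264561160))) (.node (.node (.leaf (nat_lit 22300757348870356743483773251851206038388808)) (.leaf (nat_lit 22300755998837767181757143278136305408544832))) (.leaf (nat_lit 22300757351426572943019587962044785889378305)))) (.node (.node (.node (.leaf (nat_lit 22300745198576259803501900560312570138886144)) (.leaf (nat_lit 22300757161912808189858120645636952906797641))) (.leaf (nat_lit 22300757185318798175865534700143080762282569))) (.node (.leaf (nat_lit 22300746696878431945565209179048041900937728)) (.leaf (nat_lit 22300745219346079841926255448805979074068545)))))) (.node (.node (.node (.node (.node (.leaf (nat_lit 22300746527759252773819325180657123230515264)) (.leaf (nat_lit 22300745367280282187796486807670970225262656))) (.leaf (nat_lit 22300755835275980620510042760589067893866505))) (.node (.node (.leaf (nat_lit 22300755832400858689569485937519429494805064)) (.leaf (nat_lit 22300757351467137742883487895459914072461312))) (.leaf (nat_lit 22300746696873995342890412255985779622548041)))) (.node (.node (.node (.leaf (nat_lit 22300757182357477070376774123733719940366337)) (.leaf (nat_lit 22300757351142064746830030934489517997163016))) (.leaf (nat_lit 22300757327741244415702279922619687769477121))) (.node (.leaf (nat_lit 22300746548533591428484596453101060805886465)) (.leaf (nat_lit 22300746715052184161098542053108175396442689))))) (.node (.node (.node (.node (.leaf (nat_lit 22300745364724766664777883187777312083152960)) (.leaf (nat_lit 22300755832724753319294713881113949924229185))) (.leaf (nat_lit 22300755832719672813373486516053591193588296))) (.node (.node (.leaf (nat_lit 22300745201172407011791949758556766210097161)) (.leaf (nat_lit 22300757161582595111716814134174683211497473))) (.leaf (nat_lit 22300746717648331369653035726773202366792265)))) (.node (.node (.node (.leaf (nat_lit 22300757327741234664506617758063525854711809)) (.leaf (nat_lit 22300746717648322706490096994417976698507841))) (.leaf (nat_lit 22300745198571267191668794729427972453859328))) (.node (.leaf (nat_lit 22300746696878430710080799312084699793588744)) (.leaf (nat_lit 22300755853453377154944279238006781509668937))))))) (.node (.node (.node (.node (.node (.node (.leaf (nat_lit 22300745365008720399196623316707730570612800)) (.leaf (nat_lit 22300757182356933786329290252838206886150145))) (.leaf (nat_lit 22300745219624340273216393484248395544825929))) (.node (.node (.leaf (nat_lit 22300757161912808208941867667684902949650496)) (.leaf (nat_lit 22300755998548663636047700517079671013408769))) (.leaf (nat_lit 22300755834991312594963794674479792868556809)))) (.node (.node (.node (.leaf (nat_lit 22300757161588289655580277876121074457936384)) (.leaf (nat_lit 22300745198576259822844722750834544442905160))) (.leaf (nat_lit 22300746551494832979736150407998596907831881))) (.node (.node (.leaf (nat_lit 22300745219629410875617297320666791162155520)) (.leaf (nat_lit 22300756001109309318630879612061261154484288))) (.leaf (nat_lit 22300755853123865986690154526188420112318977))))) (.node (.node (.node (.node (.leaf (nat_lit 22300755832679109367549005995444565765525512)) (.leaf (nat_lit 22300757161583220271738886003153298746774089))) (.leaf (nat_lit 22300755998553724335230456984263919033909761))) (.node (.node (.leaf (nat_lit 22300756022244212560708529214552609315389952)) (.leaf (nat_lit 22300746693912752227586862940442324728315905))) (.leaf (nat_lit 22300746528083771327473619695226054693126144)))) (.node (.node (.node (.leaf (nat_lit 22300755998837679445136995047396040763245064)) (.leaf (nat_lit 22300745201172416915576716585217496872648713))) (.leaf (nat_lit 22300755834950748991591069558213753679384640))) (.node (.leaf (nat_lit 22300756001104316573507788852563100137718345)) (.leaf (nat_lit 22300746527763690769215117549856805059821569)))))) (.node (.node (.node (.node (.node (.leaf (nat_lit 22300745219629401126834838218085730019971080)) (.leaf (nat_lit 22300745198576337791311171306038443976725065))) (.leaf (nat_lit 22300746717648331369648387003155906247819849))) (.node (.node (.leaf (nat_lit 22300757164178735028073349334035163603009600)) (.leaf (nat_lit 22300755853169422180135856376225253936103936))) (.leaf (nat_lit 22300757351142709733240866101374195996070409)))) (.node (.node (.node (.leaf (nat_lit 22300757351471584421124519192532951570055176)) (.leaf (nat_lit 22300755998832696582076303062928151476965440))) (.leaf (nat_lit 22300745385458390576476718815039538818449920))) (.node (.leaf (nat_lit 22300757185318798175860886264747227267240521)) (.leaf (nat_lit 22300746548533510810355416523698244830662656))))) (.node (.node (.node (.node (.leaf (nat_lit 22300745367280272439362827799050850723168832)) (.leaf (nat_lit 22300745221901039532931288538584286721212936))) (.leaf (nat_lit 22300755853128848695343039304226706590535680))) (.node (.node (.leaf (nat_lit 22300757164184438082133004286873631270928392)) (.leaf (nat_lit 22300757351147701107517042677694763131769353))) (.leaf (nat_lit 22300755998833331662203713799000354151464968)))) (.node (.node (.node (.leaf (nat_lit 22300757185313083672669247443355647902486592)) (.leaf (nat_lit 22300746530355401200405108120832506423705600))) (.leaf (nat_lit 22300746717642628182309965335571045300601417))) (.node (.leaf (nat_lit 22300745198855143088178994437403862429372993)) (.leaf (nat_lit 22300746528088921136275791954075125027181129)))))))) (.node (.node (.node (.node (.node (.node (.node (.leaf (nat_lit 22300746693917822849329999827023258320142848)) (.leaf (nat_lit 22300745221896048139047846469500215152902656))) (.leaf (nat_lit 22300757161588289655547220175798087679246400))) (.node (.node (.leaf (nat_lit 22300755834950817078292639958037039583330816)) (.leaf (nat_lit 22300755853453367406507079913480849981702153))) (.leaf (nat_lit 22300755853448305333983920233635267869672000)))) (.node (.node (.node (.leaf (nat_lit 22300746717647609478602057065083949868646408)) (.leaf (nat_lit 22300745221895968908505259337601324545245696))) (.leaf (nat_lit 22300755834991313813560439647763408271736896))) (.node (.node (.leaf (nat_lit 22300755998837678224424148526891607869358152)) (.leaf (nat_lit 22300757330698040695637404840106702705562121))) (.leaf (nat_lit 22300745221901752738412280432412590535082048))))) (.node (.node (.node (.node (.leaf (nat_lit 22300757351471665064037860330711459993518665)) (.leaf (nat_lit 22300746528088298626521349432304001681227840))) (.leaf (nat_lit 22300755853448296803760908530935675693830152))) (.node (.node (.leaf (nat_lit 22300755835280962069430207881304129742606857)) (.leaf (nat_lit 22300757330698040698054665030608495788986952))) (.leaf (nat_lit 22300757164184517293634336275478366736384000)))) (.node (.node (.node (.leaf (nat_lit 22300746528088841927456089666412693439124041)) (.leaf (nat_lit 22300745201452014341145289821641665343914504))) (.leaf (nat_lit 22300757351426029642391874363767208261488713))) (.node (.leaf (nat_lit 22300745367280350272117984498117437533983232)) (.leaf (nat_lit 22300745365009365382579220471312369550622792)))))) (.node (.node (.node (.node (.node (.leaf (nat_lit 22300757161907737604386882328013683663573577)) (.leaf (nat_lit 22300745201451369509784503579580324699439624))) (.leaf (nat_lit 22300745221896048139047920256476509974299137))) (.node (.node (.leaf (nat_lit 22300745198571197886369397503657264439132161)) (.leaf (nat_lit 22300746551489128706777565017545031123243593))) (.leaf (nat_lit 22300757161582664433941678969311734628614145)))) (.node (.node (.node (.leaf (nat_lit 22300755853129481282703048290920549366890560)) (.leaf (nat_lit 22300757161907183144764668101710270154445377))) (.leaf (nat_lit 22300746693912197627766958799461569708429320))) (.node (.leaf (nat_lit 22300746717647687469122041114729064983429128)) (.leaf (nat_lit 22300745201173131344796927523262000286138377))))) (.node (.node (.node (.node (.leaf (nat_lit 22300755998548742847323538533341194027536384)) (.leaf (nat_lit 22300757182351861771605435837153300434649664))) (.leaf (nat_lit 22300755834996374666844041390741751339450432))) (.node (.node (.leaf (nat_lit 22300755853449019625344749671471701985071112)) (.leaf (nat_lit 22300745364730403179564558460219495593054208))) (.leaf (nat_lit 22300745201451291381782781596039271504187913)))) (.node (.node (.node (.leaf (nat_lit 22300745388420326921574224108589640929284680)) (.leaf (nat_lit 22300746548533510810355415247249366195404808))) (.leaf (nat_lit 22300755834991304062364778762265824413880384))) (.node (.leaf (nat_lit 22300756019277286250984420995910360453087744)) (.leaf (nat_lit 22300746548527895492278453919812219163378177))))))) (.node (.node (.node (.node (.node (.node (.leaf (nat_lit 22300757161912808206524017181377149207347264)) (.leaf (nat_lit 22300757182356932374006348754759287247471168))) (.leaf (nat_lit 22300746548532888106874816131745485651182081))) (.node (.node (.leaf (nat_lit 22300746715047103674822350200077467848577601)) (.leaf (nat_lit 22300756001109942989230481511912275418808392))) (.leaf (nat_lit 22300757348876150457614940292268281487725121)))) (.node (.node (.node (.leaf (nat_lit 22300745219299889806557626309943849577086977)) (.leaf (nat_lit 22300745219300454304500188936819395812135424))) (.leaf (nat_lit 22300755998837758516176858912991073194246729))) (.node (.node (.leaf (nat_lit 22300745219624330522016074667553694450487873)) (.leaf (nat_lit 22300756022239221184019223509842115501785096))) (.leaf (nat_lit 22300746527764323376253294645910332946518601))))) (.node (.node (.node (.node (.leaf (nat_lit 22300746715051470952888604377353608092450880)) (.leaf (nat_lit 22300745198576268486309303777194504139870792))) (.leaf (nat_lit 22300746693917278133687595704298907535413312))) (.node (.node (.leaf (nat_lit 22300757330697407025079786412711468249154121)) (.leaf (nat_lit 22300757164183815378907855543730482234789952))) (.leaf (nat_lit 22300757351431010958097615839304462442430465)))) (.node (.node (.node (.leaf (nat_lit 22300745388415266065533849994345767007195657)) (.leaf (nat_lit 22300745201168060739676006593284285537714689))) (.leaf (nat_lit 22300757161587735036342591886918271197249537))) (.node (.leaf (nat_lit 22300755998549287560249999414552077363314753)) (.leaf (nat_lit 22300755853169491526533416516740167237926913)))))) (.node (.node (.node (.node (.node (.leaf (nat_lit 22300757348870990549138852021185724916170824)) (.leaf (nat_lit 22300745198896430728705097273652260540284936))) (.leaf (nat_lit 22300757330702476215114666235786079030739464))) (.node (.node (.leaf (nat_lit 22300746693912207533705124721763262746595329)) (.leaf (nat_lit 22300745385459095116683144395421384083505664))) (.leaf (nat_lit 22300746693912197782778721610001606554685441)))) (.node (.node (.node (.leaf (nat_lit 22300746717601974076336661990918996925612041)) (.leaf (nat_lit 22300745385459025792074064261840715393273856))) (.leaf (nat_lit 22300746528083861696793738393025998114258953))) (.node (.leaf (nat_lit 22300755835275980618356643518299720112144392)) (.leaf (nat_lit 22300746693912197628036217852254426029363264))))) (.node (.node (.node (.node (.leaf (nat_lit 22300756022239232344856118913007321746805320)) (.leaf (nat_lit 22300755832400226102176353407876656454205441))) (.leaf (nat_lit 22300746693912752244515956359939970861924352))) (.node (.node (.leaf (nat_lit 22300757351472298732177036820855409755849289)) (.leaf (nat_lit 22300746696879145018710742934414172409070153))) (.leaf (nat_lit 22300757182352487105448371910561682929222144)))) (.node (.node (.node (.leaf (nat_lit 22300746551489127294444662293103449534107656)) (.leaf (nat_lit 22300745219345446016626658975282339571077704))) (.leaf (nat_lit 22300757182357477087264548132940358070075392))) (.node (.leaf (nat_lit 22300757161588289655547221310740986941674057)) (.leaf (nat_lit 22300746548528519416773614337258043576713217))))))))))) (.node (.node (.node (.node (.node (.node (.node (.node (.node (.node (.leaf (nat_lit 22300756022239232347278103793845535317987912)) (.leaf (nat_lit 22300755998837758518864557594981636868411904))) (.leaf (nat_lit 22300757182351863186346227803529981808640064))) (.node (.node (.leaf (nat_lit 22300757351431019621222850561683920045506561)) (.leaf (nat_lit 22300745219346160465194396190880431247229440))) (.leaf (nat_lit 22300757161588289653125237618817881916867072)))) (.node (.node (.node (.leaf (nat_lit 22300755832679832188791719444682247946371144)) (.leaf (nat_lit 22300757330698040695637403669175266353385993))) (.leaf (nat_lit 22300745364684846983658576144849431003398656))) (.node (.node (.leaf (nat_lit 22300746551494197899264009075298039983247368)) (.leaf (nat_lit 22300755853453366187866827884820547584135176))) (.leaf (nat_lit 22300755855720639752217764460244181228716552))))) (.node (.node (.node (.node (.leaf (nat_lit 22300746717643261850411953191909248618238473)) (.leaf (nat_lit 22300756019282427399075667117725222139334656))) (.leaf (nat_lit 22300746696878431945565218546500013740261896))) (.node (.node (.leaf (nat_lit 22300757164179367615131781995170217498804225)) (.leaf (nat_lit 22300756001109953066529078160633003302195208))) (.leaf (nat_lit 22300745364684211748788671898439385356468809)))) (.node (.node (.node (.leaf (nat_lit 22300746717601974073914088111308209326915593)) (.leaf (nat_lit 22300745385454023102289930605236951969959936))) (.leaf (nat_lit 22300755834955809847976239978252626391208000))) (.node (.leaf (nat_lit 22300746717642616864001118889689380435296256)) (.leaf (nat_lit 22300745198855142935854267396959657408107081)))))) (.node (.node (.node (.node (.node (.leaf (nat_lit 22300755832400858689536429390118006242148417)) (.leaf (nat_lit 22300757161582675749789065650455807556620288))) (.leaf (nat_lit 22300757330702398224892191256552233211527688))) (.node (.node (.leaf (nat_lit 22300755834950739245268881533533403985515017)) (.leaf (nat_lit 22300745201451301268378134546340531551900169))) (.leaf (nat_lit 22300746715046469672674259717029226795270208)))) (.node (.node (.node (.leaf (nat_lit 22300746527764324594812815690303353072652873)) (.leaf (nat_lit 22300757185318799259063144158858792300482633))) (.leaf (nat_lit 22300755832679832191242627793402315124244552))) (.node (.leaf (nat_lit 22300756022244212577600435276663650479276040)) (.leaf (nat_lit 22300757351466594459219096926797719438393929))))) (.node (.node (.node (.node (.leaf (nat_lit 22300746551489127294746884524670254345097216)) (.leaf (nat_lit 22300745198855143087881486519914647496462913))) (.leaf (nat_lit 22300755998837767184174985550159882523804233))) (.node (.node (.leaf (nat_lit 22300756001109397060053820833077944239001600)) (.leaf (nat_lit 22300745219340376654885278015278464970522625))) (.leaf (nat_lit 22300746548528440205536650813941495061843968)))) (.node (.node (.node (.leaf (nat_lit 22300757348870435954419095883716475698020928)) (.leaf (nat_lit 22300746693912197627766379008613450380218432))) (.leaf (nat_lit 22300755834997096402807256345479802475512384))) (.node (.leaf (nat_lit 22300755998554358162650913649773138086461441)) (.leaf (nat_lit 22300756022239232347273971705158084702802504))))))) (.node (.node (.node (.node (.node (.node (.leaf (nat_lit 22300745201167337630406695580361091039920192)) (.leaf (nat_lit 22300755835280327182697420943621586896027656))) (.leaf (nat_lit 22300757161583219053146308269571333643341824))) (.node (.node (.leaf (nat_lit 22300757351472297651397870594211609908904521)) (.leaf (nat_lit 22300745198900787042428737274147196704391233))) (.leaf (nat_lit 22300755855725630952366713016363214889287745)))) (.node (.node (.node (.leaf (nat_lit 22300745219299820498845110007567041758761472)) (.leaf (nat_lit 22300746717602697031242427627755465032634889))) (.leaf (nat_lit 22300757351426653561791601343979452394410561))) (.node (.node (.leaf (nat_lit 22300746528083216865432963822043573776285768)) (.leaf (nat_lit 22300745198895716575082783420677875262586888))) (.leaf (nat_lit 22300757351142630505111408546531259571278345))))) (.node (.node (.node (.node (.leaf (nat_lit 22300746530354768748746364952905128276394049)) (.leaf (nat_lit 22300757348876061153957682312561673417785408))) (.leaf (nat_lit 22300745221896673472853076084906053181899264))) (.node (.node (.leaf (nat_lit 22300755998554358160228413268596006798491649)) (.leaf (nat_lit 22300746551494832979736150552113784983687241))) (.leaf (nat_lit 22300757330697326384853470526479560538587656)))) (.node (.node (.node (.leaf (nat_lit 22300745219299821719558030310332507277496832)) (.leaf (nat_lit 22300755853124501226428172869809939941720064))) (.leaf (nat_lit 22300746551489118631282231008334889529643016))) (.node (.leaf (nat_lit 22300746530354768750824714805638439471415361)) (.leaf (nat_lit 22300757161907827976125443987718506446848072)))))) (.node (.node (.node (.node (.node (.leaf (nat_lit 22300755998548742844905096598300965877321792)) (.leaf (nat_lit 22300755834955887680698266018753849369821185))) (.leaf (nat_lit 22300746696873439333386770087447014215516680))) (.node (.node (.leaf (nat_lit 22300755834996374509716741242115806352932928)) (.leaf (nat_lit 22300745367280350274805609249051221627768833))) (.leaf (nat_lit 22300755832684902791225689071779043587653704)))) (.node (.node (.node (.leaf (nat_lit 22300745219346079841926255302126171536228417)) (.leaf (nat_lit 22300757351431643545419910601819619678224897))) (.leaf (nat_lit 22300757185318154275070676869795766228750344))) (.node (.leaf (nat_lit 22300746717642616866721128196846001240408128)) (.leaf (nat_lit 22300745198576268486352458764054778764857345))))) (.node (.node (.node (.node (.leaf (nat_lit 22300757348871079838024612365959220582191681)) (.leaf (nat_lit 22300757161587746352189978568061794369179648))) (.leaf (nat_lit 22300755998553803543785770157321562454265856))) (.node (.node (.leaf (nat_lit 22300746551494832979735570488481779795923017)) (.leaf (nat_lit 22300746548532966097433178489970100634124801))) (.leaf (nat_lit 22300745201126850799267877806190123416813569)))) (.node (.node (.node (.leaf (nat_lit 22300746715051461046950437304377811140608072)) (.leaf (nat_lit 22300757348871079835606761881867523935473737))) (.leaf (nat_lit 22300746528088209477956660083767000701075465))) (.node (.leaf (nat_lit 22300745198860213690579908672559030852653064)) (.leaf (nat_lit 22300745198860936511865650284752707367469128)))))))) (.node (.node (.node (.node (.node (.node (.node (.leaf (nat_lit 22300755853453375936649284539374222572556361)) (.leaf (nat_lit 22300757351425949019123577650250268379709505))) (.leaf (nat_lit 22300755998553803544087927825248923852739072))) (.node (.node (.leaf (nat_lit 22300745198855865909460604145800038058037256)) (.leaf (nat_lit 22300746528083861696794328686585106629922824))) (.leaf (nat_lit 22300755855719926676952570844046008191586825)))) (.node (.node (.node (.leaf (nat_lit 22300746696873360127287153184028702497833536)) (.leaf (nat_lit 22300755834956532821539402138034987375788033))) (.leaf (nat_lit 22300755834996373448586898075600919258497025))) (.node (.node (.leaf (nat_lit 22300757327736719744853295034689049912967680)) (.leaf (nat_lit 22300755853164351732812818247248046431699456))) (.leaf (nat_lit 22300755853129561925351264860622162447565313))))) (.node (.node (.node (.node (.leaf (nat_lit 22300745198576268486044851236175218141560897)) (.leaf (nat_lit 22300756019277990796027056980295387791262208))) (.leaf (nat_lit 22300745364724688691145091012582556001632257))) (.node (.node (.leaf (nat_lit 22300745219345447257286190914905237646217217)) (.leaf (nat_lit 22300756001109309182933677409776818813141056))) (.leaf (nat_lit 22300757330703111455198082858851832592106057)))) (.node (.node (.node (.leaf (nat_lit 22300745198900778509787212013406925354958856)) (.leaf (nat_lit 22300755832725467613115296448795558321324040))) (.leaf (nat_lit 22300757351466583145746470412320523608653832))) (.node (.leaf (nat_lit 22300757182357557710229431322786801398055425)) (.leaf (nat_lit 22300745198900787175410512724067205037195272)))))) (.node (.node (.node (.node (.node (.leaf (nat_lit 22300745198901410961450020076561551860208200)) (.leaf (nat_lit 22300746548532887021259947637379609581847041))) (.leaf (nat_lit 22300745365013800904848002448094953738375168))) (.node (.node (.leaf (nat_lit 22300755998837757280924519464769649870114880)) (.leaf (nat_lit 22300745198576268469082690893299875437608968))) (.leaf (nat_lit 22300746717643252101671913383919782650479177)))) (.node (.node (.node (.leaf (nat_lit 22300745198860936514283501924259592403161096)) (.leaf (nat_lit 22300745221901039668364711199689131856003584))) (.leaf (nat_lit 22300755998553804784143586015611448239362048))) (.node (.leaf (nat_lit 22300756019277355559036872438555044451717184)) (.leaf (nat_lit 22300756001109387153845880502069185277624905))))) (.node (.node (.node (.node (.leaf (nat_lit 22300755853170046124016405132442008683548673)) (.leaf (nat_lit 22300755853124410680339906216994063935078401))) (.leaf (nat_lit 22300745219305524909318953333737271666414080))) (.node (.node (.leaf (nat_lit 22300745219625053346017766314913880420122632)) (.leaf (nat_lit 22300746715052094874630633347565037591461960))) (.leaf (nat_lit 22300745365014345753170097022553573566709768)))) (.node (.node (.node (.leaf (nat_lit 22300746530354768596115266460346542398111809)) (.leaf (nat_lit 22300745219345446171368573464043717205987912))) (.leaf (nat_lit 22300746551494199311596394139954859091464777))) (.node (.leaf (nat_lit 22300755998833320501136030048073130996666432)) (.leaf (nat_lit 22300746693917822846912220821848791258791936))))))) (.node (.node (.node (.node (.node (.node (.leaf (nat_lit 22300756001109309185649039290348369417863744)) (.leaf (nat_lit 22300746717323099745261770890536379977072648))) (.leaf (nat_lit 22300746717602606661274162814527893213020169))) (.node (.node (.leaf (nat_lit 22300746715052094872212782879271125086634056)) (.leaf (nat_lit 22300755853448384542765851835846642223841792))) (.leaf (nat_lit 22300756022244303104384331830897612433953352)))) (.node (.node (.node (.leaf (nat_lit 22300755853454009742304364443616948133072969)) (.leaf (nat_lit 22300757330703111298038317739703307528868361))) (.leaf (nat_lit 22300755835275257644491248876757809921003584))) (.node (.node (.leaf (nat_lit 22300745198571821807808533242056086942646337)) (.leaf (nat_lit 22300745198860213692733306471198407459373064))) (.leaf (nat_lit 22300757185313093573772227748924156146618376))))) (.node (.node (.node (.node (.leaf (nat_lit 22300755834991304062364779789086539454087744)) (.leaf (nat_lit 22300745219305524906901102865161891700838473))) (.leaf (nat_lit 22300746527759253992411901619775801676300289))) (.node (.node (.leaf (nat_lit 22300757185318164178892633464852700031094792)) (.leaf (nat_lit 22300746548528440207991692118617473872330816))) (.leaf (nat_lit 22300746548528440205536650813942044817395712)))) (.node (.node (.node (.leaf (nat_lit 22300745385458390576778358677378093084049920)) (.leaf (nat_lit 22300745219630123948418088918700126537519112))) (.leaf (nat_lit 22300745388415266065496079132933350549131848))) (.node (.leaf (nat_lit 22300757161582675752211565868944799413080064)) (.leaf (nat_lit 22300755835275335786698358690211304371650568)))))) (.node (.node (.node (.node (.node (.leaf (nat_lit 22300745198855141717257041207680525771510345)) (.leaf (nat_lit 22300755998553725575286188923331488214454856))) (.leaf (nat_lit 22300757327736173810613666017149952721162304))) (.node (.node (.leaf (nat_lit 22300746551494197896846156283147826783064072)) (.leaf (nat_lit 22300746528088921136016733948503231346016320))) (.leaf (nat_lit 22300757327736718506654199022442515202605568)))) (.node (.node (.node (.leaf (nat_lit 22300755832725467612813066129080482101493768)) (.leaf (nat_lit 22300755834955808471873916290959823316484096))) (.leaf (nat_lit 22300755998548663638466068809257631432835073))) (.node (.leaf (nat_lit 22300755832395233470952603355380014953529856)) (.leaf (nat_lit 22300745201167337783037795405708553678258240))))) (.node (.node (.node (.node (.leaf (nat_lit 22300745388420246298268802313778547522830848)) (.leaf (nat_lit 22300755998833331661901482346343548737290312))) (.leaf (nat_lit 22300745219340464528987734682997697206587465))) (.node (.node (.leaf (nat_lit 22300757185313727573464623079568770112458825)) (.leaf (nat_lit 22300745201167337782995801392824752810267145))) (.leaf (nat_lit 22300745201167970234998760645258917965725705)))) (.node (.node (.node (.leaf (nat_lit 22300745201172487458514493508238741466021952)) (.leaf (nat_lit 22300755998554369458886893255284041466253824))) (.leaf (nat_lit 22300746693912762130847530075058468722868224))) (.node (.leaf (nat_lit 22300745221896048136629994670107365711319113)) (.leaf (nat_lit 22300756019282358072284717752990398878581248))))))))) (.node (.node (.node (.node (.node (.node (.node (.node (.leaf (nat_lit 22300756001104238718689811173623070797594688)) (.leaf (nat_lit 22300745365008721637169045859061452136284745))) (.leaf (nat_lit 22300745198855220923658890718954793098842697))) (.node (.node (.leaf (nat_lit 22300745198576259803539604531690471080067584)) (.leaf (nat_lit 22300757348871069951693713235700100257583689))) (.leaf (nat_lit 22300755832684188482860797383590819815002697)))) (.node (.node (.node (.leaf (nat_lit 22300756022244291786415414060688156812935176)) (.leaf (nat_lit 22300745219630123946000237279470318432555016))) (.leaf (nat_lit 22300745201452014341145288526856781065125896))) (.node (.node (.leaf (nat_lit 22300745364729847170666725976246801013968896)) (.leaf (nat_lit 22300757330702398227310042895812277886259712))) (.leaf (nat_lit 22300746551494833136896508254655057687253065))))) (.node (.node (.node (.node (.leaf (nat_lit 22300746717607053341895867331192803186442249)) (.leaf (nat_lit 22300745198895707907084066487976394043425288))) (.leaf (nat_lit 22300746717607677263675150672031678397153793))) (.node (.node (.leaf (nat_lit 22300757330698040695636814526286893293015625)) (.leaf (nat_lit 22300757351426572943056777750983146251485697))) (.leaf (nat_lit 22300757185313728656662220864963730657546313)))) (.node (.node (.node (.leaf (nat_lit 22300755834997007116381269345350926417002505)) (.leaf (nat_lit 22300745198860936512163159373173984642203720))) (.leaf (nat_lit 22300755998838312030079227296227217803313672))) (.node (.leaf (nat_lit 22300746696873361343164296261411268762796552)) (.leaf (nat_lit 22300745364684122772155964995215754948248064)))))) (.node (.node (.node (.node (.node (.leaf (nat_lit 22300755832679832189089229704034473019179080)) (.leaf (nat_lit 22300745364730403177142058241765138470309888))) (.leaf (nat_lit 22300755832684179814862089820948750720335872))) (.node (.node (.leaf (nat_lit 22300755832395233470995776951043502492353024)) (.leaf (nat_lit 22300757351425949021239789283307741337649153))) (.leaf (nat_lit 22300745198571197883606749682516083116900353)))) (.node (.node (.node (.leaf (nat_lit 22300745219630123946302468734651542282698761)) (.leaf (nat_lit 22300757348876140554132331298223535721550409))) (.leaf (nat_lit 22300745221895960242920851258486398698689033))) (.node (.leaf (nat_lit 22300746527763768759437593517314659493871617)) (.leaf (nat_lit 22300745367285420877206523321795328489033736))))) (.node (.node (.node (.node (.leaf (nat_lit 22300755834992025802824195069354324070268992)) (.leaf (nat_lit 22300745364729767961841639511385246632546888))) (.leaf (nat_lit 22300755853123776874647056585999816062930944))) (.node (.node (.leaf (nat_lit 22300757351426662229789655490931024426439241)) (.leaf (nat_lit 22300746715051461066557702939000160852639816))) (.leaf (nat_lit 22300755835280327163387664230540412723696193)))) (.node (.node (.node (.leaf (nat_lit 22300746528088841929911721372412563863900745)) (.leaf (nat_lit 22300755832400858687459242997070528910721033))) (.leaf (nat_lit 22300755834991313810798363675689611327471680))) (.node (.leaf (nat_lit 22300746717647618144215387457472083295207432)) (.leaf (nat_lit 22300746527763690766792618337353882526810113))))))) (.node (.node (.node (.node (.node (.node (.leaf (nat_lit 22300757351426663312986672185868256813519433)) (.leaf (nat_lit 22300745219304882416318213615596168961851393))) (.leaf (nat_lit 22300755853123777010089922987589012906053632))) (.node (.node (.leaf (nat_lit 22300746530354847821822148836534848524911168)) (.leaf (nat_lit 22300755998832608843081341605786318387806216))) (.leaf (nat_lit 22300746696874074573432999227658819443397192)))) (.node (.node (.node (.leaf (nat_lit 22300755853128858598868074819165717983662592)) (.leaf (nat_lit 22300746696874074416310420312617994543989321))) (.leaf (nat_lit 22300757327736163907093943311508805286891521))) (.node (.node (.leaf (nat_lit 22300757161912808206787796274731767749185536)) (.leaf (nat_lit 22300755998833331662203712648325701424119816))) (.leaf (nat_lit 22300757348870356726256590700888089090326600))))) (.node (.node (.node (.node (.leaf (nat_lit 22300757351426663467691989631389461085458505)) (.leaf (nat_lit 22300745198860222358275811778379479555281473))) (.leaf (nat_lit 22300757164179446691233423357872438826532872))) (.node (.node (.leaf (nat_lit 22300757351425940355961155444738565876220417)) (.leaf (nat_lit 22300745367280350272387757609791659062595592))) (.leaf (nat_lit 22300745219345447254911494280479174245224449)))) (.node (.node (.node (.leaf (nat_lit 22300755832400304070638154392414922515709952)) (.leaf (nat_lit 22300755998832686678258480844386188206018624))) (.leaf (nat_lit 22300756001109319067106466588795063723098176))) (.node (.leaf (nat_lit 22300745201167337785149201643920418198814784)) (.leaf (nat_lit 22300746528088841929873942458564006150935113)))))) (.node (.node (.node (.node (.node (.leaf (nat_lit 22300755998833331661906203557934588938420232)) (.leaf (nat_lit 22300757185313084908196084821930344747896840))) (.leaf (nat_lit 22300757185313093573771636300468820010864648))) (.node (.node (.leaf (nat_lit 22300746548527895492279044055428208120824320)) (.leaf (nat_lit 22300757185313728656661639792525957623222856))) (.leaf (nat_lit 22300755832724744789157220959113562799767560)))) (.node (.node (.node (.leaf (nat_lit 22300746696874074418728273104768757500510793)) (.leaf (nat_lit 22300746527763690769210470123271743432818689))) (.leaf (nat_lit 22300745365014424824210540809912756159677001))) (.node (.leaf (nat_lit 22300746717602697030940196174822132575932489)) (.leaf (nat_lit 22300757351431643543002649240420964597235713))))) (.node (.node (.node (.node (.leaf (nat_lit 22300746693917822849330590122552083129336320)) (.leaf (nat_lit 22300745198576268486309302624272999533023816))) (.leaf (nat_lit 22300745219346170346948742423770706091446273))) (.node (.node (.leaf (nat_lit 22300745201172408387814565949659997972763145)) (.leaf (nat_lit 22300755832720397007994891870026477753860104))) (.leaf (nat_lit 22300756001109397057366194785111934226403328)))) (.node (.node (.node (.leaf (nat_lit 22300757348875437232177816890478158751465544)) (.leaf (nat_lit 22300756022239151859372301161818119246741505))) (.leaf (nat_lit 22300745201131921404129818122668477054713864))) (.node (.leaf (nat_lit 22300745201127495939811505845861720774443008)) (.leaf (nat_lit 22300755998838391103536933870981277485633600)))))))) (.node (.node (.node (.node (.node (.node (.node (.leaf (nat_lit 22300745198855220925779233413596976899199561)) (.leaf (nat_lit 22300757161583219185864368180909917136519232))) (.leaf (nat_lit 22300755832684902793907994260869168425336904))) (.node (.node (.leaf (nat_lit 22300755998554358160573725941362308025417729)) (.leaf (nat_lit 22300755853448296804106168004681179699642376))) (.leaf (nat_lit 22300745201172416915619873875321543695794185)))) (.node (.node (.node (.leaf (nat_lit 22300746527763780075280846976834570476097536)) (.leaf (nat_lit 22300756001109309182928955207397630629904960))) (.leaf (nat_lit 22300756022239232344860251001694772361466440))) (.node (.node (.leaf (nat_lit 22300755998832607622023235773917696106692616)) (.leaf (nat_lit 22300745198896340494789399656134157302497800))) (.leaf (nat_lit 22300757330702396986952742411093038329758216))))) (.node (.node (.node (.node (.leaf (nat_lit 22300746527758698157377364292387687047888897)) (.leaf (nat_lit 22300745201126850801685729445389067733696520))) (.leaf (nat_lit 22300755855720014418374903486933060936532480))) (.node (.node (.leaf (nat_lit 22300746693912197630184295082778267857719808)) (.leaf (nat_lit 22300757161623159950612253637920257088684033))) (.leaf (nat_lit 22300757164179446691233422204981661642555393)))) (.node (.node (.node (.leaf (nat_lit 22300755832720397008296531891960313158828040)) (.leaf (nat_lit 22300745385453320109475496557434713143247360))) (.leaf (nat_lit 22300757330698040698055247111853202756108873))) (.node (.leaf (nat_lit 22300755832720397008296531874227388552315400)) (.leaf (nat_lit 22300745364729838504816677722800416928862208)))))) (.node (.node (.node (.node (.node (.leaf (nat_lit 22300755998832686678555989804415286165930569)) (.leaf (nat_lit 22300755835281051223175408057124973399245320))) (.leaf (nat_lit 22300745364729847167979026285451020203200576))) (.node (.node (.leaf (nat_lit 22300746696879145021128595726564926775661128)) (.leaf (nat_lit 22300757327736718525997013291444938616111104))) (.leaf (nat_lit 22300745367280906107158369121686735714254912)))) (.node (.node (.node (.leaf (nat_lit 22300757330698040698055256461326579065197065)) (.leaf (nat_lit 22300755998832607624441087250767227901743681))) (.leaf (nat_lit 22300745385458459881809162119563480011932233))) (.node (.leaf (nat_lit 22300757185313728656662231240975796203164233)) (.leaf (nat_lit 22300745367280360178325924685014925427609600))))) (.node (.node (.node (.node (.leaf (nat_lit 22300745221901031002788567117803558791286848)) (.leaf (nat_lit 22300745219629488865839770986784686254100553))) (.leaf (nat_lit 22300745198571912312831091701000194005929985))) (.node (.node (.leaf (nat_lit 22300745219340375416643597552825677346246657)) (.leaf (nat_lit 22300757348875516634770446516446753129009737))) (.leaf (nat_lit 22300755834950817078594862189537873696391680)))) (.node (.node (.node (.leaf (nat_lit 22300746551494821818625375044619785319223304)) (.leaf (nat_lit 22300756001104316708875098543067039506141184))) (.leaf (nat_lit 22300746527758698154959511500236924091891713))) (.node (.leaf (nat_lit 22300746548528519414355762821560565758169673)) (.leaf (nat_lit 22300757161912808209205648037769883676840521))))))) (.node (.node (.node (.node (.node (.node (.leaf (nat_lit 22300757185313728656661640801331725469782089)) (.leaf (nat_lit 22300746717602617960235548702010107431490121))) (.leaf (nat_lit 22300745219300534947101254185225410608107520))) (.node (.node (.leaf (nat_lit 22300745221895960397969802560967703743692865)) (.leaf (nat_lit 22300746696879145021091406081706020244329032))) (.leaf (nat_lit 22300755998553804784143660955508759268200448)))) (.node (.node (.node (.leaf (nat_lit 22300755832725377243227912828961049784090689)) (.leaf (nat_lit 22300745201126850798965656871660483581612617))) (.leaf (nat_lit 22300757327736165147451242658747523346207232))) (.node (.node (.leaf (nat_lit 22300746548533510810354898879957624604856905)) (.leaf (nat_lit 22300755855725710354580898464001678106427912))) (.leaf (nat_lit 22300745198860291526102978243035690671538240))))) (.node (.node (.node (.node (.leaf (nat_lit 22300746717607677266093517649193740703629313)) (.leaf (nat_lit 22300755832400949213901791757253218603925504))) (.leaf (nat_lit 22300757161907827973740648913868777267920968))) (.node (.node (.leaf (nat_lit 22300757182351861774359248802820046308246017)) (.leaf (nat_lit 22300756001104316706457247047952419476738560))) (.leaf (nat_lit 22300756022239143196209885873835985550213120)))) (.node (.node (.node (.leaf (nat_lit 22300755998554358160228929939871918435860481)) (.leaf (nat_lit 22300746528083771327473028246494183864434752))) (.leaf (nat_lit 22300757351471575755506540202905319803719680))) (.node (.leaf (nat_lit 22300745365009365382574507184086349756235848)) (.leaf (nat_lit 22300757351426663310564688475967037146141257)))))) (.node (.node (.node (.node (.node (.leaf (nat_lit 22300746548532966097097217323726509474578945)) (.leaf (nat_lit 22300745385458459901453615368207803206340608))) (.leaf (nat_lit 22300757351431643545424634103491070263558153))) (.node (.node (.leaf (nat_lit 22300745388420336825057349755579250121937480)) (.leaf (nat_lit 22300746715047113556577287739832387686896201))) (.leaf (nat_lit 22300745367285421031949027077298887757926912)))) (.node (.node (.node (.leaf (nat_lit 22300755832400304070638154392660741766545408)) (.leaf (nat_lit 22300746693912763542867566528317349792321600))) (.leaf (nat_lit 22300757330698039612439795525505620900090440))) (.node (.leaf (nat_lit 22300745221901039530211280242164784995238400)) (.leaf (nat_lit 22300746527764323373538607224419528160350208))))) (.node (.node (.node (.node (.leaf (nat_lit 22300755853124420583827173320197382544032320)) (.leaf (nat_lit 22300755832679832191204859111731561173909512))) (.leaf (nat_lit 22300757161588289653129368395027107255980032))) (.node (.node (.leaf (nat_lit 22300746693912752246670030060988456373616640)) (.leaf (nat_lit 22300745364729847170397469229332199500976128))) (.leaf (nat_lit 22300746548527895492278462983021146096832585)))) (.node (.node (.node (.leaf (nat_lit 22300746696874074416272641524870775081833032)) (.leaf (nat_lit 22300757348871069954111563722008403755962953))) (.leaf (nat_lit 22300746696874074416309831169729140445188681))) (.node (.leaf (nat_lit 22300745198576982934872317597237760116130304)) (.leaf (nat_lit 22300755832400234765636287154330785447677953)))))))))) (.node (.node (.node (.node (.node (.node (.node (.node (.node (.leaf (nat_lit 22300757182351861774023287636576455148962305)) (.leaf (nat_lit 22300745198900787042385581136964671667961921))) (.leaf (nat_lit 22300755853454090227782852233941070549090376))) (.node (.node (.leaf (nat_lit 22300755834991936516435986836394756414898177)) (.leaf (nat_lit 22300746551489752628556847189699811621507649))) (.leaf (nat_lit 22300755832720306640789811112860615553618504)))) (.node (.node (.node (.leaf (nat_lit 22300755832725467612817788513296274205999112)) (.leaf (nat_lit 22300745388420246300686653953289280848691200))) (.leaf (nat_lit 22300745365013800902430149527552087568712265))) (.node (.node (.leaf (nat_lit 22300755998838402264302984406838458366296072)) (.leaf (nat_lit 22300745219629399908539843337092510416933441))) (.leaf (nat_lit 22300755855724997127373045437591904718164032))))) (.node (.node (.node (.node (.leaf (nat_lit 22300755832400858687151633147585360377675841)) (.leaf (nat_lit 22300755853170046121290944812658525464690689))) (.leaf (nat_lit 22300745198571189220443808680307535133048833))) (.node (.node (.leaf (nat_lit 22300757182357477224822443269876589866811392)) (.leaf (nat_lit 22300755853123786777907641867903771051331657))) (.leaf (nat_lit 22300756022244303104422102694526644215910921)))) (.node (.node (.node (.leaf (nat_lit 22300745221896048136629994670076029629891080)) (.leaf (nat_lit 22300757185313728656359999786072689738813513))) (.leaf (nat_lit 22300755832395233470650962360954447024357888))) (.node (.leaf (nat_lit 22300745198860936512163159391183427833430088)) (.leaf (nat_lit 22300746548528440205536060518413102168969216)))))) (.node (.node (.node (.node (.node (.leaf (nat_lit 22300757351466583146048111427580110168915976)) (.leaf (nat_lit 22300755832719672948508790497319558779540033))) (.leaf (nat_lit 22300755998508090134335085908177562999194112))) (.node (.node (.leaf (nat_lit 22300756001109387156533505397113623037644800)) (.leaf (nat_lit 22300756022244223873841672227390727166923336))) (.leaf (nat_lit 22300757351472208342867131399197018617544712)))) (.node (.node (.node (.leaf (nat_lit 22300745198855143090299337006222950994580033)) (.leaf (nat_lit 22300755832679741799825965864275147107635785))) (.leaf (nat_lit 22300757161912818090961165496795330154336841))) (.node (.leaf (nat_lit 22300745219304960406238529755971696996684361)) (.leaf (nat_lit 22300746715052184161098542053108175396180545))))) (.node (.node (.node (.node (.leaf (nat_lit 22300746530360561091606694319462985827876929)) (.leaf (nat_lit 22300755832679832191507081325253181149548552))) (.leaf (nat_lit 22300757182356933786329290234828206288965632))) (.node (.node (.leaf (nat_lit 22300746551494831896538552622608103128731721)) (.leaf (nat_lit 22300755855720569015550208322018676186546689))) (.leaf (nat_lit 22300745198855141869581768430485880145448968)))) (.node (.node (.node (.leaf (nat_lit 22300755998554358160228928622291951556755457)) (.leaf (nat_lit 22300757348876150302910203937165162825683529))) (.leaf (nat_lit 22300745364730391880901355096270850400490056))) (.node (.leaf (nat_lit 22300757182357477087301736751259542157033472)) (.leaf (nat_lit 22300746527763690766792618337353882526547969))))))) (.node (.node (.node (.node (.node (.node (.leaf (nat_lit 22300755835280328244167863477346650195792393)) (.leaf (nat_lit 22300746530359928504548260790818342592352256))) (.leaf (nat_lit 22300745198901410961445298864970511658816072))) (.node (.node (.leaf (nat_lit 22300746528083138872792646280610806266892865)) (.leaf (nat_lit 22300745201456360884060681164711606412902920))) (.leaf (nat_lit 22300755853124501224048090921092387878993921)))) (.node (.node (.node (.leaf (nat_lit 22300746548527817504473903053940113505518081)) (.leaf (nat_lit 22300745364684835670568471730344836097643008))) (.leaf (nat_lit 22300745388420246298268728526837428600734208))) (.node (.node (.leaf (nat_lit 22300746548528520826083684688135653379015232)) (.leaf (nat_lit 22300745367280350274535770276741480416838217))) (.leaf (nat_lit 22300755855724997282115551501185393931321408))))) (.node (.node (.node (.node (.leaf (nat_lit 22300745201131843568649257774617476590469696)) (.leaf (nat_lit 22300757182352407703460343707114460668006400))) (.leaf (nat_lit 22300755853448296803760908530935675694092296))) (.node (.node (.leaf (nat_lit 22300757348871079700207070082812440926523976)) (.leaf (nat_lit 22300746715051461049368288941390386402721856))) (.leaf (nat_lit 22300755835275980618356642365377666821128201)))) (.node (.node (.node (.leaf (nat_lit 22300755853169423418075379296851392282529865)) (.leaf (nat_lit 22300755832400234748446863912730382223839817))) (.leaf (nat_lit 22300755853128848697760825082850198646165504))) (.node (.leaf (nat_lit 22300746530359928502130410304510597437358592)) (.leaf (nat_lit 22300745198860291682922725049403932993126472)))))) (.node (.node (.node (.node (.node (.leaf (nat_lit 22300755998554358162650912332193248548225025)) (.leaf (nat_lit 22300746530355401203086737823987085527515144))) (.leaf (nat_lit 22300745219305605549502168273485756975054848))) (.node (.node (.leaf (nat_lit 22300746717648332452850053590399477268906569)) (.leaf (nat_lit 22300757327736728408015718516654596134539849))) (.leaf (nat_lit 22300755834955809847976240987063958370259008)))) (.node (.node (.node (.leaf (nat_lit 22300745219345447254566106832508652454416385)) (.leaf (nat_lit 22300757182352487105410592978698725650076160))) (.leaf (nat_lit 22300755855719926524665686128171589549948993))) (.node (.leaf (nat_lit 22300745385453320107393016941559641981059648)) (.leaf (nat_lit 22300745201167337783037795389945953908981824))))) (.node (.node (.node (.node (.leaf (nat_lit 22300757185318799394160604500798069205405769)) (.leaf (nat_lit 22300755832679187202688365025410906755170368))) (.leaf (nat_lit 22300745367280360178056076489332596534444617))) (.node (.node (.leaf (nat_lit 22300745201173040837399673562900089150898689)) (.leaf (nat_lit 22300757351466503936926768108895493324537864))) (.leaf (nat_lit 22300746717643252103787542935697974020571721)))) (.node (.node (.node (.leaf (nat_lit 22300745367280282185378569451915330827059264)) (.leaf (nat_lit 22300757185313093576491719394601735651594248))) (.leaf (nat_lit 22300746527758709470462019027048944657269248))) (.node (.leaf (nat_lit 22300746527764333257975174467398836443943497)) (.leaf (nat_lit 22300746528083771308167995340976359486001737)))))))) (.node (.node (.node (.node (.node (.node (.node (.leaf (nat_lit 22300756019277286251286577350998780408758784)) (.leaf (nat_lit 22300757330697326406614135261527946006102536))) (.leaf (nat_lit 22300745219300525041167810631410996912329216))) (.node (.node (.leaf (nat_lit 22300757327741789125980073416900162472673280)) (.leaf (nat_lit 22300755998548653890033055458957365690499073))) (.leaf (nat_lit 22300746696879065945291325173560980109824584)))) (.node (.node (.node (.leaf (nat_lit 22300746548527896904601394104775188074758145)) (.leaf (nat_lit 22300755998548654970467350581771825486004225))) (.leaf (nat_lit 22300746693917278133688187281700507992985601))) (.node (.node (.leaf (nat_lit 22300757161587735036346723955620378780368897)) (.leaf (nat_lit 22300757161907105154537470755993006007914504))) (.leaf (nat_lit 22300757185313084910609287881652547252130304))))) (.node (.node (.node (.node (.leaf (nat_lit 22300755832679832188824777307094561381941320)) (.leaf (nat_lit 22300745385459095119101059301499201539801600))) (.leaf (nat_lit 22300755834950817080715204905043830572843016))) (.node (.node (.leaf (nat_lit 22300757348870356743483773251851206038650952)) (.leaf (nat_lit 22300745219299889804182950407553357438779393))) (.leaf (nat_lit 22300756001110020979145928900239704289710592)))) (.node (.node (.node (.leaf (nat_lit 22300755832725377240772282257868292033347649)) (.leaf (nat_lit 22300745198576892407791594502699342117245512))) (.leaf (nat_lit 22300755835280328246547946702869339939312137))) (.node (.leaf (nat_lit 22300745219300525041167810649420997375033920)) (.leaf (nat_lit 22300757351426653563907222825341187921318465)))))) (.node (.node (.node (.node (.node (.leaf (nat_lit 22300755832679109367505978985410076038139912)) (.leaf (nat_lit 22300745385453389279407731540171207116591168))) (.leaf (nat_lit 22300745198901410963900928281170339380367944))) (.node (.node (.leaf (nat_lit 22300755832684902791188501462547160172363784)) (.leaf (nat_lit 22300755832720306641134607274822528193790465))) (.leaf (nat_lit 22300755832719682716592159657734856985580104)))) (.node (.node (.node (.leaf (nat_lit 22300755998548732941389504537908472985980928)) (.leaf (nat_lit 22300746693917279545982128030087768411766784))) (.leaf (nat_lit 22300746693917822849330590122587267501424640))) (.node (.leaf (nat_lit 22300756019282356855803110612847737467863552)) (.leaf (nat_lit 22300755834997097624123910751502416843374593))))) (.node (.node (.node (.node (.leaf (nat_lit 22300745219629401127180096538909171075256328)) (.leaf (nat_lit 22300746528083771305750143701747650892403273))) (.leaf (nat_lit 22300757161587735038759927179763482441809921))) (.node (.node (.leaf (nat_lit 22300745219346079844689420767043785727410177)) (.leaf (nat_lit 22300745365008720396508931678668659972116992))) (.leaf (nat_lit 22300745367280994174986542122470734479491136)))) (.node (.node (.node (.leaf (nat_lit 22300745388420326919119183833343526707434056)) (.leaf (nat_lit 22300757185313718907883831428962610395255369))) (.leaf (nat_lit 22300746717602052064136564099106479118778369))) (.node (.leaf (nat_lit 22300757161912887418020626697981683203866688)) (.leaf (nat_lit 22300757161912184422863918327648005933760521))))))) (.node (.node (.node (.node (.node (.node (.leaf (nat_lit 22300745201451291382047232963906607086080521)) (.leaf (nat_lit 22300746527763690766797265910626996954857473))) (.leaf (nat_lit 22300757351147135346817815588436976198746120))) (.node (.node (.leaf (nat_lit 22300757161587665714463060477133426134351873)) (.leaf (nat_lit 22300745367280984100105724516673405868576768))) (.leaf (nat_lit 22300757185313084908191436386538959088652288)))) (.node (.node (.node (.leaf (nat_lit 22300746528083861694413666836611427391766537)) (.leaf (nat_lit 22300756019277287472335386185988307482051072))) (.leaf (nat_lit 22300745388420336670314844842690100317950536))) (.node (.node (.leaf (nat_lit 22300745198855220925774521279573936688108105)) (.leaf (nat_lit 22300746530360561091644400615019903774097473))) (.leaf (nat_lit 22300755832719672813071845500793448432702024))))) (.node (.node (.node (.node (.leaf (nat_lit 22300745367285343041763740860772025612107840)) (.leaf (nat_lit 22300746717607053342197508508300491827970049))) (.leaf (nat_lit 22300745201131842195266942383423110330187784))) (.node (.node (.leaf (nat_lit 22300757327741245827722315475158214002114560)) (.leaf (nat_lit 22300757348876061151539764941043511542677568))) (.leaf (nat_lit 22300746715047113575887044288317084571832897)))) (.node (.node (.node (.leaf (nat_lit 22300755832684257807507130714580400805810761)) (.leaf (nat_lit 22300756019277990793609278118954632757903872))) (.leaf (nat_lit 22300745364724767899997838354741018039947776))) (.node (.leaf (nat_lit 22300755832679109367208468579439624669368328)) (.leaf (nat_lit 22300755998554358160573727092313488852254721)))))) (.node (.node (.node (.node (.node (.leaf (nat_lit 22300755853164430808314718073617289488663040)) (.leaf (nat_lit 22300756019282990659342569037658903235563593))) (.leaf (nat_lit 22300757351467137742883487893490139930820616))) (.node (.node (.leaf (nat_lit 22300746696873439335805213175403737698796040)) (.leaf (nat_lit 22300756019277286250984936335739821047939584))) (.leaf (nat_lit 22300745365013791018554881094561220284911616)))) (.node (.node (.node (.leaf (nat_lit 22300757185313728659080082880482063836811337)) (.leaf (nat_lit 22300745201167970237071224671858702625804289))) (.leaf (nat_lit 22300746696874073333112813447966794973450825))) (.node (.leaf (nat_lit 22300757330698040695335172232281609524511305)) (.leaf (nat_lit 22300757330697327622793510946771348169425416))))) (.node (.node (.node (.node (.leaf (nat_lit 22300746528088932299199373674867461260836936)) (.leaf (nat_lit 22300755998832608840318239693415395723575816))) (.leaf (nat_lit 22300745198901410963867872868712314816205384))) (.node (.node (.leaf (nat_lit 22300755998548742845207329062046124191547977)) (.leaf (nat_lit 22300745201172408385396715445337297038381577))) (.leaf (nat_lit 22300745367280272284276106643998158765687360)))) (.node (.node (.node (.leaf (nat_lit 22300746717607677263675149501095234114682945)) (.leaf (nat_lit 22300746527759252773815192968442890099396608))) (.leaf (nat_lit 22300746717318664225789147682553248927224329))) (.node (.leaf (nat_lit 22300745201173040837059008334698063553888265)) (.leaf (nat_lit 22300746527799818808942222666039306502570496))))))))) (.node (.node (.node (.node (.node (.node (.node (.node (.leaf (nat_lit 22300757164183805630474261100967047576420417)) (.leaf (nat_lit 22300746530360471805482929528066334401761865))) (.leaf (nat_lit 22300745365008720399229005420759672630284352))) (.node (.node (.leaf (nat_lit 22300745198571821807804400000482386018045953)) (.leaf (nat_lit 22300745364724766662058389365171720304988672))) (.leaf (nat_lit 22300757185313728656661639792525408939020873)))) (.node (.node (.node (.leaf (nat_lit 22300757351426663310564689646902931806753353)) (.leaf (nat_lit 22300755853170046121253238679262452726632449))) (.leaf (nat_lit 22300745201456995790103225967909194629644864))) (.node (.node (.leaf (nat_lit 22300757161907738825401960156521523893506633)) (.leaf (nat_lit 22300755853124420586245089380845903448900160))) (.leaf (nat_lit 22300745201172408385438709602336284908453952))))) (.node (.node (.node (.node (.leaf (nat_lit 22300757351466583143328617620169760652132360)) (.leaf (nat_lit 22300755853128926688285522458005768876589057))) (.leaf (nat_lit 22300757351466505155523413081902590011113480))) (.node (.node (.leaf (nat_lit 22300757330698040852495529935104906708943433)) (.leaf (nat_lit 22300757351431643543002132733804065927200769))) (.leaf (nat_lit 22300746530360471805520708459929231587049984)))) (.node (.node (.node (.leaf (nat_lit 22300745219340464529289966137901354500227584)) (.leaf (nat_lit 22300757330697405615433837564988702899569216))) (.leaf (nat_lit 22300746717601982741912806052816074722770953))) (.node (.leaf (nat_lit 22300746717602697030940196175104165764173897)) (.leaf (nat_lit 22300755832724743550909702118170327886626824)))))) (.node (.node (.node (.node (.node (.leaf (nat_lit 22300757161907105152124341647874301823811593)) (.leaf (nat_lit 22300745201456360903667947789875811484697096))) (.leaf (nat_lit 22300756001104326454965207071718930634772481))) (.node (.node (.leaf (nat_lit 22300755998548732941654630366861023273848832)) (.leaf (nat_lit 22300745367280350274837992508272611382268416))) (.leaf (nat_lit 22300755834955809847976239978253176147021888)))) (.node (.node (.node (.leaf (nat_lit 22300745198895716437566817733050931112837185)) (.leaf (nat_lit 22300746717648322706490613377151319717216841))) (.leaf (nat_lit 22300757348876140554132395861832183161590337))) (.node (.leaf (nat_lit 22300757351431643545424634103490520507744265)) (.leaf (nat_lit 22300746530360471805483002180100338770776649))))) (.node (.node (.node (.node (.leaf (nat_lit 22300757327741789126239720560892986787921920)) (.leaf (nat_lit 22300745221895968930265924090660870101926408))) (.leaf (nat_lit 22300757161628864356547230623384726161883136))) (.node (.node (.leaf (nat_lit 22300756001104326457652906906630387803623432)) (.leaf (nat_lit 22300746527759262658029881744314446867628040))) (.leaf (nat_lit 22300755853449019625344169607839696797306888)))) (.node (.node (.node (.leaf (nat_lit 22300755832679109214916799241534413075419721)) (.leaf (nat_lit 22300755853165056142120466503730926677426688))) (.leaf (nat_lit 22300746551489117390924348012313050154569728))) (.node (.leaf (nat_lit 22300757182351782543480701657600245031240256)) (.leaf (nat_lit 22300745385459095119101059445333395677118976))))))) (.node (.node (.node (.node (.node (.node (.leaf (nat_lit 22300757185318799259062552707879595937927753)) (.leaf (nat_lit 22300746528088287467833876575298959444054593))) (.leaf (nat_lit 22300745198901410961445297727811597292048968))) (.node (.node (.leaf (nat_lit 22300755832679187203029048555885636345659456)) (.leaf (nat_lit 22300755834991383137858414307396990638522432))) (.leaf (nat_lit 22300755834997007116381342969885380883812936)))) (.node (.node (.node (.leaf (nat_lit 22300745198855143090332394871142219658822152)) (.leaf (nat_lit 22300745201126850798970368717738470923075584))) (.leaf (nat_lit 22300755835275980620510042616473398781411848))) (.node (.node (.leaf (nat_lit 22300745201452014341145288542618822488883208)) (.leaf (nat_lit 22300745198896340496862583105718817793507848))) (.leaf (nat_lit 22300745221901030845283995620522498321551424))))) (.node (.node (.node (.node (.leaf (nat_lit 22300746717323814053896944149293892460909065)) (.leaf (nat_lit 22300757348870356878585957131204306963529792))) (.leaf (nat_lit 22300755998513159516023144420048385603535360))) (.node (.node (.leaf (nat_lit 22300757185313083672669765105142070348091904)) (.leaf (nat_lit 22300757327741244415433022151385698829340673))) (.leaf (nat_lit 22300745219629409635259995378751734609645641)))) (.node (.node (.node (.leaf (nat_lit 22300755832679187205106217817561669711429696)) (.leaf (nat_lit 22300757161628854455444768103380642896839168))) (.leaf (nat_lit 22300757185313083672669763952189711770226688))) (.node (.leaf (nat_lit 22300757164184438082396783485776985212588617)) (.leaf (nat_lit 22300745219346170349366667723876019451756545)))))) (.node (.node (.node (.node (.node (.leaf (nat_lit 22300745219304881197720987590738006260322304)) (.leaf (nat_lit 22300745219340376652165268854800465069899777))) (.leaf (nat_lit 22300746717648331372070953082496954870825545))) (.node (.node (.leaf (nat_lit 22300746693912207533705126003323779529314305)) (.leaf (nat_lit 22300755834956443518189632796002109079425088))) (.leaf (nat_lit 22300757348870435952005966466859296962379848)))) (.node (.node (.node (.leaf (nat_lit 22300757351431010958059910712396946610323457)) (.leaf (nat_lit 22300755998508178026000025721198229688946689))) (.leaf (nat_lit 22300745365014424824209959735222634627236425))) (.node (.leaf (nat_lit 22300746696878509935787683005053069613335104)) (.leaf (nat_lit 22300745367280994177404392608774090175545920))))) (.node (.node (.node (.node (.leaf (nat_lit 22300746551489762379748377283266184774718025)) (.leaf (nat_lit 22300755853123786778172093255756371279777865))) (.leaf (nat_lit 22300756001104326457383058710948127629905928))) (.node (.node (.leaf (nat_lit 22300745364729837264760944468370045010215497)) (.leaf (nat_lit 22300755834955887683111403361950780138717696))) (.leaf (nat_lit 22300755998838402264604625563680438310928904)))) (.node (.node (.node (.leaf (nat_lit 22300757351431019621222333044008355274686529)) (.leaf (nat_lit 22300746717323812815994683937640444024095305))) (.leaf (nat_lit 22300746528083861694375887906718794127769609))) (.node (.leaf (nat_lit 22300745201167346315291498645155661368819713)) (.leaf (nat_lit 22300756019283059986435668016235749008740353)))))))) (.node (.node (.node (.node (.node (.node (.node (.leaf (nat_lit 22300757161587735036346723955620378780631041)) (.leaf (nat_lit 22300757351466505153407783656194401881817096))) (.leaf (nat_lit 22300745198896340361466959951106328003383880))) (.node (.node (.leaf (nat_lit 22300755832395788085058328910780438794997761)) (.leaf (nat_lit 22300745219624330524779183765417831170048009))) (.leaf (nat_lit 22300745198855866066658075686606889088712768)))) (.node (.node (.node (.leaf (nat_lit 22300746696878430729688064966691840629932552)) (.leaf (nat_lit 22300745201131852079179989858659037526130688))) (.leaf (nat_lit 22300745385453389279408249201958042955186761))) (.node (.node (.leaf (nat_lit 22300746693917822849334721040303148381536320)) (.leaf (nat_lit 22300745364689194457754413440174459730526720))) (.leaf (nat_lit 22300745219346079841926771792981099798331393))))) (.node (.node (.node (.node (.leaf (nat_lit 22300757161907105154882730396618045887086601)) (.leaf (nat_lit 22300757351425949021541429307458741000470529))) (.leaf (nat_lit 22300755832679741802239104378126574733754432))) (.node (.node (.leaf (nat_lit 22300746693912207533704609365816069003939841)) (.leaf (nat_lit 22300755832679832191205439031248927101845512))) (.leaf (nat_lit 22300756001109309185691033303196975291695680)))) (.node (.node (.node (.leaf (nat_lit 22300755998548742847625179548600168421003264)) (.leaf (nat_lit 22300745364729837266881286008120949004599881))) (.leaf (nat_lit 22300755998553804781725735527087147757867520))) (.node (.leaf (nat_lit 22300746693917822849330072460796574631465545)) (.leaf (nat_lit 22300757182357478308279035506362644114210817)))))) (.node (.node (.node (.node (.node (.leaf (nat_lit 22300755853170046123671017520024198381047809)) (.leaf (nat_lit 22300745198571197864565568504398801608642560))) (.leaf (nat_lit 22300746696874074571052851562415573390594633))) (.node (.node (.leaf (nat_lit 22300746717643261850449141809952464012841545)) (.leaf (nat_lit 22300755834955887683111404514871734989488640))) (.leaf (nat_lit 22300745198571267188906126175896008088911872)))) (.node (.node (.node (.leaf (nat_lit 22300757182351861771605510777328176793387521)) (.leaf (nat_lit 22300757161912253747165581183666857040936969))) (.leaf (nat_lit 22300757185318799261480405500030908650263113))) (.node (.leaf (nat_lit 22300757330698039614555490631715181237146184)) (.leaf (nat_lit 22300755998548732941654630366861573029400576))))) (.node (.node (.node (.node (.leaf (nat_lit 22300755834991304062364779915187330094202944)) (.leaf (nat_lit 22300755998838402266724969267691338707501064))) (.leaf (nat_lit 22300755853164351580189982741142652988981760))) (.node (.node (.leaf (nat_lit 22300745198895706534089659461090468463640641)) (.leaf (nat_lit 22300757185313727573464622935458598558404681))) (.leaf (nat_lit 22300757185318789509983102178633797716709961)))) (.node (.node (.node (.leaf (nat_lit 22300746530354768596115265143320179623592001)) (.leaf (nat_lit 22300746717647687466401967245938510092566536))) (.leaf (nat_lit 22300745201126781476741372967097814925742665))) (.node (.leaf (nat_lit 22300745365008642561293479867928925503225864)) (.leaf (nat_lit 22300745219630043460559528439023543232008265))))))) (.node (.node (.node (.node (.node (.node (.leaf (nat_lit 22300745388420336670352033480994490131976776)) (.leaf (nat_lit 22300757351467228129771991834547855313633865))) (.leaf (nat_lit 22300745388420336822677202090335934412264008))) (.node (.node (.leaf (nat_lit 22300745219299889806600800893860561425793025)) (.leaf (nat_lit 22300746717601982739494954413622000745742337))) (.leaf (nat_lit 22300755832679109369966856481752319508353032)))) (.node (.node (.node (.leaf (nat_lit 22300746548528441424133361506047769876660225)) (.leaf (nat_lit 22300746693917268230172004940661632350031880))) (.leaf (nat_lit 22300745198855142935897441983453692040581120))) (.node (.node (.leaf (nat_lit 22300756022244293198483871055760768754549321)) (.leaf (nat_lit 22300755834991303909733679963739618097234496))) (.leaf (nat_lit 22300755834955809847669794453386860211507721))))) (.node (.node (.node (.node (.leaf (nat_lit 22300746696874074416008189001829525194310217)) (.leaf (nat_lit 22300757161583220269321034363924590153175625))) (.leaf (nat_lit 22300745198860846125313032896591356298788928))) (.node (.node (.leaf (nat_lit 22300755855724997281809104965260894005137929)) (.leaf (nat_lit 22300746693912207531556530982371271385550856))) (.leaf (nat_lit 22300757164183815381363475574390212198924353)))) (.node (.node (.node (.leaf (nat_lit 22300746717602606663692605886725873939513353)) (.leaf (nat_lit 22300757348870990549176622884849941055799368))) (.leaf (nat_lit 22300757327741234509494854949770889718140929))) (.node (.leaf (nat_lit 22300745219345535131388647760766794058465792)) (.leaf (nat_lit 22300745198895785761906786259442660653662273)))))) (.node (.node (.node (.node (.node (.leaf (nat_lit 22300746527758698157032548531006565097930753)) (.leaf (nat_lit 22300746551489117390929062306097985784909832))) (.leaf (nat_lit 22300745219624340270798541971119935351722057))) (.node (.node (.leaf (nat_lit 22300757351431643543039837876438370225487881)) (.leaf (nat_lit 22300746551494823230958342188550436801516105))) (.leaf (nat_lit 22300756022239232344860251001694222605652552)))) (.node (.node (.node (.leaf (nat_lit 22300755853170126742103011291253346576368192)) (.leaf (nat_lit 22300746548528441426551139481863782624432128))) (.leaf (nat_lit 22300755832725377240772282257868283577369089))) (.node (.leaf (nat_lit 22300757351471575755506540076804531309019136)) (.leaf (nat_lit 22300756022244302947257033001544813629444617))))) (.node (.node (.node (.node (.leaf (nat_lit 22300746696879064535343143736026901613117960)) (.leaf (nat_lit 22300746530360471783722272863433304341512704))) (.leaf (nat_lit 22300746717607677266092927371363138374991881))) (.node (.node (.leaf (nat_lit 22300745364729837267146412990241294503645696)) (.leaf (nat_lit 22300755853123856083509933494175645412098056))) (.leaf (nat_lit 22300746693912197784927315349362872947052544)))) (.node (.node (.node (.leaf (nat_lit 22300745219304882418471611704964090658029569)) (.leaf (nat_lit 22300757161623159948194403133598654709895169))) (.leaf (nat_lit 22300746530359849101998714583006754161819713))) (.node (.leaf (nat_lit 22300757161583219053146308269571883399417856)) (.leaf (nat_lit 22300757185318155513014848225843535547469832)))))))))))) (.node (.node (.node (.node (.node (.node (.node (.node (.node (.node (.node (.leaf (nat_lit 22300746551489762377334656559817676638425673)) (.leaf (nat_lit 22300745385453953777614672889631145050767936))) (.leaf (nat_lit 22300757182356933788747141874053075181797377))) (.node (.node (.leaf (nat_lit 22300745221901030847739615815321643875565633)) (.leaf (nat_lit 22300745367280272301503290352351752847622208))) (.leaf (nat_lit 22300757351471584423504602132112240892186624)))) (.node (.node (.node (.leaf (nat_lit 22300746528083861696798461928192971062116361)) (.leaf (nat_lit 22300757182356932374006348914953183612109313))) (.leaf (nat_lit 22300746551494197896845565987618324580667400))) (.node (.node (.leaf (nat_lit 22300746551489762377334656559817676638163529)) (.leaf (nat_lit 22300755853128857516006428976650557962850816))) (.leaf (nat_lit 22300746551494821818625376195324674350256640))))) (.node (.node (.node (.node (.leaf (nat_lit 22300756022239232347240915155541145503961672)) (.leaf (nat_lit 22300745364729838502398825059323849430044672))) (.leaf (nat_lit 22300745219304892321958879675071226353844736))) (.node (.node (.leaf (nat_lit 22300755853448384543068072754262311935447113)) (.leaf (nat_lit 22300745365014356911593106687524973857476672))) (.leaf (nat_lit 22300757348875437232215587607779853765443656)))) (.node (.node (.node (.leaf (nat_lit 22300745385454024516700147680648363715592704)) (.leaf (nat_lit 22300745198896340359044386109806372733321281))) (.leaf (nat_lit 22300755832400304073051875116109789856563200))) (.node (.leaf (nat_lit 22300755853123856085582451708051519493636097)) (.leaf (nat_lit 22300745219299811813917299527059305354235904)))))) (.node (.node (.node (.node (.node (.leaf (nat_lit 22300755853124491322912646654018242111083008)) (.leaf (nat_lit 22300755832395164165653225711541884142489601))) (.leaf (nat_lit 22300746548532888106874743355506249779118593))) (.node (.node (.leaf (nat_lit 22300745221895960397663357322079966178050113)) (.leaf (nat_lit 22300755855724997127066600054588909398786120))) (.leaf (nat_lit 22300756019277286253402789127890034248122880)))) (.node (.node (.node (.leaf (nat_lit 22300755834991312592502788050990046665244681)) (.leaf (nat_lit 22300757330703030812252276462196415975653952))) (.leaf (nat_lit 22300755832679187202684234107659969139835392))) (.node (.leaf (nat_lit 22300757351147057356590618260729711441478152)) (.leaf (nat_lit 22300757348870446032369533596624150874853953))))) (.node (.node (.node (.node (.leaf (nat_lit 22300756022244212580014153710312742975471624)) (.leaf (nat_lit 22300755853128857380573006155382594199622144))) (.leaf (nat_lit 22300745219346079844381812232921891173826561))) (.node (.node (.leaf (nat_lit 22300745219346079844381812068228243589993032)) (.leaf (nat_lit 22300745201452014338727436885375715385573384))) (.leaf (nat_lit 22300746717607767633341110227617257735098889)))) (.node (.node (.node (.leaf (nat_lit 22300755834991383135440562504062874121699392)) (.leaf (nat_lit 22300745198576892407787462596439554715291649))) (.leaf (nat_lit 22300745367286064779805305670495197418487872))) (.node (.leaf (nat_lit 22300746528083138875210497901826224452534792)) (.leaf (nat_lit 22300757351467228129771991834547305557819977))))))) (.node (.node (.node (.node (.node (.node (.leaf (nat_lit 22300757348870356723876507617227756814729288)) (.leaf (nat_lit 22300757161912174535928029400238449764635201))) (.leaf (nat_lit 22300745198900778509787210713867743133696520))) (.node (.node (.leaf (nat_lit 22300757351467227048996957534742234833915977)) (.leaf (nat_lit 22300755834991383135440563821088687140405312))) (.leaf (nat_lit 22300757348876061151577534647317807820177472)))) (.node (.node (.node (.leaf (nat_lit 22300745198896430728672039573083591949975560)) (.leaf (nat_lit 22300745219630033711777061243549199533871112))) (.leaf (nat_lit 22300745198571267191323977977575911475675136))) (.node (.node (.leaf (nat_lit 22300745219624408512238548475579508157878849)) (.leaf (nat_lit 22300746717647687466402031807295917004193792))) (.leaf (nat_lit 22300755832720306640789809975701710716310088))))) (.node (.node (.node (.node (.leaf (nat_lit 22300745198855220923357249559584486298260041)) (.leaf (nat_lit 22300755853454090225327220510204427361058825))) (.leaf (nat_lit 22300746548528520826083684706149493542748673))) (.node (.node (.leaf (nat_lit 22300745365009365384992939895758395648770568)) (.leaf (nat_lit 22300745198571197883951547017348960940490753))) (.leaf (nat_lit 22300757330703111297736085149892544005440073)))) (.node (.node (.node (.leaf (nat_lit 22300755834997007118803843204383254390243337)) (.leaf (nat_lit 22300745221896602733767603761821153035849801))) (.leaf (nat_lit 22300745221901039530248985369072790606447104))) (.node (.leaf (nat_lit 22300746693917279545982129183009273018613760)) (.leaf (nat_lit 22300745367280350272122631909261516203921408)))))) (.node (.node (.node (.node (.node (.leaf (nat_lit 22300745198576982932152308308060354388197376)) (.leaf (nat_lit 22300746548533510807937048252107548585656320))) (.leaf (nat_lit 22300757351141986754189713539674429041147912))) (.node (.node (.leaf (nat_lit 22300745198571821807804400000482935774121985)) (.leaf (nat_lit 22300745198895707907386297778247916157440577))) (.leaf (nat_lit 22300745198901501333523860679535776311050248)))) (.node (.node (.node (.leaf (nat_lit 22300755853449019622926307592321363618041864)) (.leaf (nat_lit 22300755832684902945935063630060011206737984))) (.leaf (nat_lit 22300746717648332455230717748744493780210185))) (.node (.leaf (nat_lit 22300755853123856083466757736503814165626881)) (.leaf (nat_lit 22300755832684257805085146860567910204871241))))) (.node (.node (.node (.node (.leaf (nat_lit 22300755998553803546473394923696818191896576)) (.leaf (nat_lit 22300755853123778093244282775525709540491265))) (.leaf (nat_lit 22300745198900778511907553264676763590758977))) (.node (.node (.leaf (nat_lit 22300746717607767636060603043954213181985353)) (.leaf (nat_lit 22300745198895707909539696894435994531561480))) (.leaf (nat_lit 22300756022244213796192948305099034248643072)))) (.node (.node (.node (.leaf (nat_lit 22300745198576892410205314071009877437714433)) (.leaf (nat_lit 22300755832400858689877094618320031822381121))) (.leaf (nat_lit 22300755832684179969949917634028258405384712))) (.node (.leaf (nat_lit 22300755853453367406464052738818132423250497)) (.leaf (nat_lit 22300757161912898578526358076255440117956617)))))))) (.node (.node (.node (.node (.node (.node (.node (.leaf (nat_lit 22300755853128857380573006155628961058525696)) (.leaf (nat_lit 22300755998548732943807357458450858102788096))) (.leaf (nat_lit 22300745365013791001629919491564240980181577))) (.node (.node (.leaf (nat_lit 22300755832720397010412743651118574609629704)) (.leaf (nat_lit 22300745198896430728667908639569445755289608))) (.leaf (nat_lit 22300745367280272439018611554635508756021312)))) (.node (.node (.node (.leaf (nat_lit 22300746717642616866423617955534562956148800)) (.leaf (nat_lit 22300746715051461068673324420363011863347272))) (.leaf (nat_lit 22300745365013800904848011686909081649709641))) (.node (.node (.leaf (nat_lit 22300757161907738822979386132799946265465417)) (.leaf (nat_lit 22300755853448306550125515994288028242678272))) (.leaf (nat_lit 22300745221901744072873843661121666184151552))))) (.node (.node (.node (.node (.leaf (nat_lit 22300746717607053344350906597667785249390601)) (.leaf (nat_lit 22300745219625043594826164724139362701541952))) (.leaf (nat_lit 22300757351425940355663646356318319393669121))) (.node (.node (.leaf (nat_lit 22300746717607044676617232339702672873750537)) (.leaf (nat_lit 22300745198576268486044851380255143447532104))) (.leaf (nat_lit 22300756022244303102003668829968345734353473)))) (.node (.node (.node (.leaf (nat_lit 22300755853453367406464053909749079147319873)) (.leaf (nat_lit 22300755853454090225629453118029520542109704))) (.leaf (nat_lit 22300745198571267188906126175896557844725760))) (.node (.leaf (nat_lit 22300757351471653745733662464336987336736776)) (.leaf (nat_lit 22300755998837688111062528366162468768055304)))))) (.node (.node (.node (.node (.node (.leaf (nat_lit 22300755853448305314641105966884086844752448)) (.leaf (nat_lit 22300745219304891238761925362064198948098560))) (.leaf (nat_lit 22300755853169413533930868974250181988974593))) (.node (.node (.leaf (nat_lit 22300755998553803544055544581468518397252096)) (.leaf (nat_lit 22300746717607677266092927353383923298078721))) (.leaf (nat_lit 22300757348876140556550247483047532627530305)))) (.node (.node (.node (.leaf (nat_lit 22300757161623783853043854032853151476908544)) (.leaf (nat_lit 22300757351431010955641984259370128626417673))) (.leaf (nat_lit 22300757351426572943056776598097375889981953))) (.node (.leaf (nat_lit 22300757182352406622421531505192657282695169)) (.leaf (nat_lit 22300757327741234511912191233088199902629889))))) (.node (.node (.node (.node (.leaf (nat_lit 22300755834997007116726656793320837265752073)) (.leaf (nat_lit 22300755834951371677885860167866050399961096))) (.leaf (nat_lit 22300745219630043460559528581207997345169984))) (.node (.node (.leaf (nat_lit 22300755853453367403781748720658405627564609)) (.leaf (nat_lit 22300746693917268230167356361154446565052928))) (.leaf (nat_lit 22300745201456994706905174922232855720661569)))) (.node (.node (.node (.leaf (nat_lit 22300745201451291362439967329283631384662537)) (.leaf (nat_lit 22300745201172407168914528529517106367303681))) (.leaf (nat_lit 22300746717323180228634598732026497829474825))) (.node (.leaf (nat_lit 22300757161912175756976162605458101692006409)) (.leaf (nat_lit 22300757182357477089681881968871226224967744))))))) (.node (.node (.node (.node (.node (.node (.leaf (nat_lit 22300746715051461066557702939000160852901960)) (.leaf (nat_lit 22300757330702477627480634748698798703546952))) (.leaf (nat_lit 22300745219341009241943121371962279081283585))) (.node (.node (.leaf (nat_lit 22300757161587665711700393056327766011805697)) (.leaf (nat_lit 22300745219629409657356032315364174232556032))) (.leaf (nat_lit 22300745201132566542250123908385704920482304)))) (.node (.node (.node (.leaf (nat_lit 22300745385459024380015585807483422468473344)) (.leaf (nat_lit 22300745198855775520494268337786336055431753))) (.leaf (nat_lit 22300745201167337628295291632194932743110720))) (.node (.node (.leaf (nat_lit 22300745198896340359049108476289233923084289)) (.leaf (nat_lit 22300746693917832731089658456565311762104320))) (.leaf (nat_lit 22300745364684211748789251962036206187057153))))) (.node (.node (.node (.node (.leaf (nat_lit 22300745201126772966248343830190157335892032)) (.leaf (nat_lit 22300755834950739242817973346933507755381257))) (.leaf (nat_lit 22300755853129561923197864465411309939458561))) (.node (.node (.leaf (nat_lit 22300745367285430778341368069656293327245313)) (.leaf (nat_lit 22300746528083771325092955662655264339006025))) (.leaf (nat_lit 22300746696874074418426041793980837906121289)))) (.node (.node (.node (.leaf (nat_lit 22300745219629409654904449811872927637832256)) (.leaf (nat_lit 22300757330702476215114740022485846694560256))) (.leaf (nat_lit 22300757348871079702889373094413252958392393))) (.node (.leaf (nat_lit 22300757327741235749852229491968756873957377)) (.leaf (nat_lit 22300745201168060739676006449169639701483521)))))) (.node (.node (.node (.node (.node (.leaf (nat_lit 22300745364724776565578114505324996696510464)) (.leaf (nat_lit 22300757164179377364168658470704631521509384))) (.leaf (nat_lit 22300746717607677263679799251538253203898433))) (.node (.node (.leaf (nat_lit 22300746693917278136106037639339013006430208)) (.leaf (nat_lit 22300746548533590018915469375075716098457600))) (.leaf (nat_lit 22300755835280407472297322326977778024485385)))) (.node (.node (.node (.leaf (nat_lit 22300746551489127296862579792973658417532928)) (.leaf (nat_lit 22300745219340464526872115651593600757924352))) (.leaf (nat_lit 22300746551489762377335238643314114701595209))) (.node (.leaf (nat_lit 22300757351466583143630258635428797457104904)) (.leaf (nat_lit 22300745221895960400387654200197022222389312))))) (.node (.node (.node (.node (.leaf (nat_lit 22300757327741789128657056844456586213621760)) (.leaf (nat_lit 22300745388415175676525012871937765270650888))) (.leaf (nat_lit 22300745221896048136629994814186827328520712))) (.node (.node (.leaf (nat_lit 22300756022239231264081085927971316409078344)) (.leaf (nat_lit 22300745201167970237416611131601856080380417))) (.leaf (nat_lit 22300745364725321281263682585450052170547201)))) (.node (.node (.node (.leaf (nat_lit 22300745201456441195383467218593581646516745)) (.leaf (nat_lit 22300757164178814101149133384047853975109697))) (.leaf (nat_lit 22300757351142709711215747814212045786616329))) (.node (.leaf (nat_lit 22300755834997007116385991547174781903475272)) (.leaf (nat_lit 22300745219629410875919527462454497726730313))))))))) (.node (.node (.node (.node (.node (.node (.node (.node (.leaf (nat_lit 22300745201167337783037795389945404152905792)) (.leaf (nat_lit 22300756019277356794559060084702212710993921))) (.leaf (nat_lit 22300757161907747490977521993058225477419072))) (.node (.node (.leaf (nat_lit 22300745364730403177142058241483112798523392)) (.leaf (nat_lit 22300745201167416858531430912835650228092992))) (.leaf (nat_lit 22300746528088841929874532736359416591553097)))) (.node (.node (.node (.leaf (nat_lit 22300757182357556298501509456207865486540801)) (.leaf (nat_lit 22300757161912898578521635692040205151240201))) (.leaf (nat_lit 22300755998513159518440996059277643953209856))) (.node (.node (.leaf (nat_lit 22300755835280328266192980751198884246884873)) (.leaf (nat_lit 22300745388420247519288528704061138538889224))) (.leaf (nat_lit 22300757351147780333261697088241843694768649))))) (.node (.node (.node (.node (.leaf (nat_lit 22300745364729767961539998496407685758713857)) (.leaf (nat_lit 22300746527763699432372828753679174003068928))) (.leaf (nat_lit 22300745198576892410204797562422576472657921))) (.node (.node (.leaf (nat_lit 22300745221901030867346881472220166812340288)) (.leaf (nat_lit 22300757351431643545457689515949103434170369))) (.leaf (nat_lit 22300746530354847824244722842243128228839489)))) (.node (.node (.node (.leaf (nat_lit 22300745219346079844344033154379684820324936)) (.leaf (nat_lit 22300757330697405612713827105156868092494336))) (.leaf (nat_lit 22300745388420335587155014459948058797969992))) (.node (.leaf (nat_lit 22300746548527817504473829284978758359712257)) (.leaf (nat_lit 22300757327741244415432431726906702489980992)))))) (.node (.node (.node (.node (.node (.leaf (nat_lit 22300746527764323376220236927362391299362816)) (.leaf (nat_lit 22300745385459025794491915901065025940623424))) (.leaf (nat_lit 22300745221896048139047846453416559061762561))) (.node (.node (.leaf (nat_lit 22300757351431732829772716769307752889848393)) (.leaf (nat_lit 22300745198571821805386549514174632275742721))) (.leaf (nat_lit 22300745219305515003376066195405886357241920)))) (.node (.node (.node (.leaf (nat_lit 22300745219629409657322301451102735743320640)) (.leaf (nat_lit 22300756001104238580528116076768489468067904))) (.leaf (nat_lit 22300746693917268230167871719314407475646465))) (.node (.leaf (nat_lit 22300746717318653062222804994704706077983240)) (.leaf (nat_lit 22300757351467228264874175696132779616272969))))) (.node (.node (.node (.node (.leaf (nat_lit 22300756001104960454313524200001863824704064)) (.leaf (nat_lit 22300757327736729822194548603605475551088640))) (.leaf (nat_lit 22300757351466503937228409124154536573796360))) (.node (.node (.leaf (nat_lit 22300745221896048136965956140629186150662664)) (.leaf (nat_lit 22300755835275257661374216194363089328837129))) (.leaf (nat_lit 22300757161583228934901309220043632884617216)))) (.node (.node (.node (.leaf (nat_lit 22300746530360471803102855669995633828462592)) (.leaf (nat_lit 22300745367285343039345890374464821625094208))) (.leaf (nat_lit 22300746551494833117251471756614156333388361))) (.node (.leaf (nat_lit 22300757327736729822194548603601078444101633)) (.leaf (nat_lit 22300746527758620164391705566435940998844416))))))) (.node (.node (.node (.node (.node (.node (.leaf (nat_lit 22300757351467228129776123903249972698579529)) (.leaf (nat_lit 22300746530354857902147347873216762413613056))) (.leaf (nat_lit 22300755853128847612490837201950217424863296))) (.node (.node (.leaf (nat_lit 22300757161907827973703460277816178812125704)) (.leaf (nat_lit 22300745367285430780457062185073927037944393))) (.leaf (nat_lit 22300755834956443518533849038170050351337536)))) (.node (.node (.node (.leaf (nat_lit 22300746548532888106874815971550498364887113)) (.leaf (nat_lit 22300757351426663312987263652333035068592713))) (.leaf (nat_lit 22300755998548663636393013189845422601928713))) (.node (.node (.leaf (nat_lit 22300745219624340273216383234055643651674185)) (.leaf (nat_lit 22300757161628230552667780242463446666579969))) (.leaf (nat_lit 22300745367280272281858256301770330475856448))))) (.node (.node (.node (.node (.leaf (nat_lit 22300746715047113575887044144205812432409153)) (.leaf (nat_lit 22300745201132477238862715297833909857063433))) (.leaf (nat_lit 22300757161583298259548157780846151681212417))) (.node (.node (.leaf (nat_lit 22300756022239141958307617449837340783575048)) (.leaf (nat_lit 22300745221901031002482121878915211340021825))) (.leaf (nat_lit 22300755853448305314939289514384451157918208)))) (.node (.node (.node (.leaf (nat_lit 22300745201131921403789134592193884898459656)) (.leaf (nat_lit 22300745219345457141166247579523378823070208))) (.leaf (nat_lit 22300757330702477627480117104957070392988232))) (.node (.leaf (nat_lit 22300745221895960397663356189182757787926592)) (.leaf (nat_lit 22300745201456440109767565990361052322202120)))))) (.node (.node (.node (.node (.node (.leaf (nat_lit 22300755832720397010416874568869572352409672)) (.leaf (nat_lit 22300745219299821719558030310331957521682944))) (.leaf (nat_lit 22300755998548742847322949390452278589132864))) (.node (.node (.leaf (nat_lit 22300745365008720396778770524556967614091328)) (.leaf (nat_lit 22300745365014435984976001174130726065668105))) (.leaf (nat_lit 22300746715052184180705808701041057594380865)))) (.node (.node (.node (.leaf (nat_lit 22300757351426663310569410860182821868409417)) (.leaf (nat_lit 22300755853448929388703140780048808614825992))) (.leaf (nat_lit 22300755998554437371504251138490541923373568))) (.node (.leaf (nat_lit 22300757185313728658777851425582872235381257)) (.leaf (nat_lit 22300746715046400348069838667566621753606216))))) (.node (.node (.node (.node (.leaf (nat_lit 22300745367285343041763742013693530218692672)) (.leaf (nat_lit 22300755998832686678258480715717489233003081))) (.leaf (nat_lit 22300755998554358160233060857622924886278145))) (.node (.node (.leaf (nat_lit 22300745201131843566189412106741829299343424)) (.leaf (nat_lit 22300757351425939117718957340726039356375105))) (.leaf (nat_lit 22300756022239151859410078940723829217984520)))) (.node (.node (.node (.leaf (nat_lit 22300745367285352787779483358303328405585984)) (.leaf (nat_lit 22300756001109397057668352453038739562696704))) (.leaf (nat_lit 22300757161623151284686664798807928130802248))) (.node (.leaf (nat_lit 22300755853124501226428238586335771234402305)) (.leaf (nat_lit 22300746527763689548200040727581952915279872)))))))) (.node (.node (.node (.node (.node (.node (.node (.leaf (nat_lit 22300745198571267188910258244598822466519040)) (.leaf (nat_lit 22300755832679109212763399134874925514362880))) (.leaf (nat_lit 22300757161583219053146308393134391335882752))) (.node (.node (.leaf (nat_lit 22300756001104238718345595940265845174829120)) (.leaf (nat_lit 22300756019277920056941721836582603558224384))) (.leaf (nat_lit 22300755853123856083164535504972193726763593)))) (.node (.node (.node (.leaf (nat_lit 22300746717607053344615358994607695680765961)) (.leaf (nat_lit 22300755998833241430096156794759927329456648))) (.leaf (nat_lit 22300746551489762379752509351967889838608969))) (.node (.node (.leaf (nat_lit 22300755853448295585465913649942456090792513)) (.leaf (nat_lit 22300757182357557707811580836202512025391616))) (.leaf (nat_lit 22300745385458461119748684896074506671522377))))) (.node (.node (.node (.node (.leaf (nat_lit 22300745201126850799311052412911177529819144)) (.leaf (nat_lit 22300757182352407703460343707110130114105929))) (.leaf (nat_lit 22300746548527895492278527546594067864653897))) (.node (.node (.leaf (nat_lit 22300745388420246298268803484714991804776512)) (.leaf (nat_lit 22300757348870446029951691182983553409647177))) (.leaf (nat_lit 22300756022239221184019222356639685676138504)))) (.node (.node (.node (.leaf (nat_lit 22300755853449019625646390686730737716039688)) (.leaf (nat_lit 22300757351147057359013191095505876189970441))) (.leaf (nat_lit 22300757348871079700509291163674356572492361))) (.node (.leaf (nat_lit 22300745388415175695872537975961160249540616)) (.leaf (nat_lit 22300745365013792239272448535320816293020233)))))) (.node (.node (.node (.node (.node (.leaf (nat_lit 22300757161912808206787796416274098615779392)) (.leaf (nat_lit 22300745365014435985277643486145461614805001))) (.leaf (nat_lit 22300757330698040695599625907967287087108681))) (.node (.node (.leaf (nat_lit 22300755832679187203029049706560221295411264)) (.leaf (nat_lit 22300755834997007119144508432585829743067649))) (.leaf (nat_lit 22300756022244302949679015558529467767886408)))) (.node (.node (.node (.leaf (nat_lit 22300755853124410680302136672924112445771776)) (.leaf (nat_lit 22300756001104238563603155593197009491759625))) (.leaf (nat_lit 22300746530354778497524174323022993293312065))) (.node (.leaf (nat_lit 22300757330698040698055255326415006204203529)) (.leaf (nat_lit 22300746715052184161098543190267629989302849))))) (.node (.node (.node (.node (.leaf (nat_lit 22300745198901410963863739662850665530823240)) (.leaf (nat_lit 22300746528088841908151056495821307301101632))) (.leaf (nat_lit 22300745198896430864071668085308768200425537))) (.node (.node (.leaf (nat_lit 22300746717601972835974640274659805256482825)) (.leaf (nat_lit 22300755998554358162650912332439460620833352))) (.leaf (nat_lit 22300746530355401338222650403942993605459969)))) (.node (.node (.node (.leaf (nat_lit 22300746717642538876234200697095932914958344)) (.leaf (nat_lit 22300755834955808472176072803749538017054720))) (.leaf (nat_lit 22300746715051550353025612799717701515776073))) (.node (.leaf (nat_lit 22300756001104238718647817180763028084228160)) (.leaf (nat_lit 22300755832395788084713015083122308946071553))))))) (.node (.node (.node (.node (.node (.node (.leaf (nat_lit 22300757351426663312986673356804158856106569)) (.leaf (nat_lit 22300757330697961624333014517815572122866248))) (.leaf (nat_lit 22300746548527895494696305398847581148152384))) (.node (.node (.leaf (nat_lit 22300746717643261850449141827961847074033737)) (.leaf (nat_lit 22300755855725005811956041450975027984863744))) (.leaf (nat_lit 22300755834956532821577108435843145718038536)))) (.node (.node (.node (.leaf (nat_lit 22300755998832686675840629076487681127514697)) (.leaf (nat_lit 22300755832400858689569484949256388216881665))) (.leaf (nat_lit 22300757185313084908191362455451324465025032))) (.node (.node (.leaf (nat_lit 22300746717602606661278885163277838251720713)) (.leaf (nat_lit 22300757348875427483399999305794633540571200))) (.leaf (nat_lit 22300746527763768759778277209962337779319296))))) (.node (.node (.node (.node (.leaf (nat_lit 22300746715046400350487691459716834954313800)) (.leaf (nat_lit 22300745201132566542217067343005686121369600))) (.leaf (nat_lit 22300746548533510807974752367635205783060480))) (.node (.node (.leaf (nat_lit 22300755855720014416292938074084709838619136)) (.leaf (nat_lit 22300755855719926522554280880756659555668032))) (.leaf (nat_lit 22300756022244213798610799946580092411478024)))) (.node (.node (.node (.leaf (nat_lit 22300755998832686675835915935624731274805833)) (.leaf (nat_lit 22300755998553813450026093619127659840933888))) (.leaf (nat_lit 22300755832400226082828882475396361554788352))) (.node (.leaf (nat_lit 22300746693912197630184230519204857421763072)) (.leaf (nat_lit 22300755832395155480773302998906899945259008)))))) (.node (.node (.node (.node (.node (.leaf (nat_lit 22300745219629488863421919347555427904688201)) (.leaf (nat_lit 22300757161628299874892127267195355580596737))) (.leaf (nat_lit 22300757330697405612713754470824519894303296))) (.node (.node (.leaf (nat_lit 22300745221901664673001961230373051074613312)) (.leaf (nat_lit 22300755998833320501136030050325540848537664))) (.leaf (nat_lit 22300757161912808187478039852057520775369289)))) (.node (.node (.node (.leaf (nat_lit 22300757351471653748151514103597581767540800)) (.leaf (nat_lit 22300755998508734034860824060569156921332224))) (.leaf (nat_lit 22300756019277989384034829013997617854812161))) (.node (.leaf (nat_lit 22300756022244213798610790738970646736306184)) (.leaf (nat_lit 22300745201452014341150001667719653742641160))))) (.node (.node (.node (.node (.leaf (nat_lit 22300745219624972860576467160646814768861257)) (.leaf (nat_lit 22300745388420336667934770984373168176665160))) (.leaf (nat_lit 22300745198900778512205062353097551238922760))) (.node (.node (.leaf (nat_lit 22300745198900778509787211848775407576846913)) (.leaf (nat_lit 22300745221896594068183195520616301305270336))) (.leaf (nat_lit 22300745201173040837399673565116704592494593)))) (.node (.node (.node (.leaf (nat_lit 22300755832684902793606353086013819825688584)) (.leaf (nat_lit 22300746530360471802806019885516988629417984))) (.leaf (nat_lit 22300757164178735028073348181109260949652032))) (.node (.leaf (nat_lit 22300755834956532821841560832783057355276296)) (.leaf (nat_lit 22300745201172416917994569212709805089919560)))))))))) (.node (.node (.node (.node (.node (.node (.node (.node (.node (.leaf (nat_lit 22300755853448384540347989660406473090437193)) (.leaf (nat_lit 22300746717607767633638619334051886620742217))) (.leaf (nat_lit 22300755853123786780325492353965791614632448))) (.node (.node (.leaf (nat_lit 22300755834991303909733678954898126742487616)) (.leaf (nat_lit 22300746717607757887282793671548815296959049))) (.leaf (nat_lit 22300745198571821805386549532153846413132289)))) (.node (.node (.node (.leaf (nat_lit 22300755832684902791192632362565311689658376)) (.leaf (nat_lit 22300745364684211746370883669862712399135305))) (.leaf (nat_lit 22300755998838402266724969267691338707763208))) (.node (.node (.leaf (nat_lit 22300745367280272301503290350135137406026304)) (.leaf (nat_lit 22300745198860212471982682354395773392650312))) (.leaf (nat_lit 22300746530359839196404772957621965285228609))))) (.node (.node (.node (.node (.leaf (nat_lit 22300746717607677266130706285246330703970817)) (.leaf (nat_lit 22300755998548742847322949246618077074067456))) (.leaf (nat_lit 22300745201452014341150001811831002117701641))) (.node (.node (.leaf (nat_lit 22300755832724744653714437565836316049969736)) (.leaf (nat_lit 22300755853128926685910846411505036465012744))) (.leaf (nat_lit 22300757185318799413805639843911956626182721)))) (.node (.node (.node (.leaf (nat_lit 22300755832395233468237241474808464348807232)) (.leaf (nat_lit 22300746717643261852565351155176369874571785))) (.leaf (nat_lit 22300755998553734240866390298710214558351425))) (.node (.leaf (nat_lit 22300757351431019621222334053096687948562433)) (.leaf (nat_lit 22300755998513160734620369273975593108767232)))))) (.node (.node (.node (.node (.node (.leaf (nat_lit 22300745219346160462776026890141886438212096)) (.leaf (nat_lit 22300755834950748994008985925151501215338560))) (.leaf (nat_lit 22300755835275980620472263686862731059920905))) (.node (.node (.leaf (nat_lit 22300745198571197886061788948956910377538120)) (.leaf (nat_lit 22300757348876071231907981800988493343920713))) (.leaf (nat_lit 22300745198576268486007661591280569026875393)))) (.node (.node (.node (.leaf (nat_lit 22300745221895968930530375620978849664467464)) (.leaf (nat_lit 22300755832719674053433868351960861816951368))) (.leaf (nat_lit 22300746693917832733508091291764613573804032))) (.node (.leaf (nat_lit 22300746548528520826083683535218538362966528)) (.leaf (nat_lit 22300755832400304073396689724815776206323712))))) (.node (.node (.node (.node (.leaf (nat_lit 22300757327736718523838807643251815603012096)) (.leaf (nat_lit 22300746696873361345582221687612363774394880))) (.leaf (nat_lit 22300746527763780075280848129755532843319297))) (.node (.node (.leaf (nat_lit 22300745201172407014517409936723160227381257)) (.leaf (nat_lit 22300757164178735027766902798110733354664512))) (.leaf (nat_lit 22300745198571267188905609829513138075107328)))) (.node (.node (.node (.leaf (nat_lit 22300756022239222596083022701762879626187273)) (.leaf (nat_lit 22300756001109397060053820977157879225389056))) (.leaf (nat_lit 22300755832725377243190133734656322192801857))) (.node (.leaf (nat_lit 22300757161582664436358949698553786344145408)) (.leaf (nat_lit 22300755853128848697760890964042592368726016))))))) (.node (.node (.node (.node (.node (.node (.leaf (nat_lit 22300745201172408232807608642047081556476480)) (.leaf (nat_lit 22300755855725005809840419969613207630254592))) (.leaf (nat_lit 22300757161907827973702880360547321680756744))) (.node (.node (.leaf (nat_lit 22300755832679109369621608230727516141391880)) (.leaf (nat_lit 22300745198860222203533233080695397380559433))) (.leaf (nat_lit 22300755834951462221594046004544912647782408)))) (.node (.node (.node (.leaf (nat_lit 22300756019277287469581646014534995232686592)) (.leaf (nat_lit 22300745198855865911915644419111570026529288))) (.leaf (nat_lit 22300757351426663310569412011134010093998665))) (.node (.node (.leaf (nat_lit 22300745385454024516700147536537573818368512)) (.leaf (nat_lit 22300745221901118739030906578871309534757384))) (.leaf (nat_lit 22300745219624339035276934100375006145974345))))) (.node (.node (.node (.node (.leaf (nat_lit 22300745198901410963863740800009570368131656)) (.leaf (nat_lit 22300755834951462221858498401485374040834056))) (.leaf (nat_lit 22300755853170046123671091471412665927340033))) (.node (.node (.leaf (nat_lit 22300755832725467610395803632459160146444296)) (.leaf (nat_lit 22300746717601982741912806052850709339078657))) (.leaf (nat_lit 22300755853449019625646391839371317104087048)))) (.node (.node (.node (.leaf (nat_lit 22300745367285420876941397619018265958289416)) (.leaf (nat_lit 22300755855720014415957050534587859529368064))) (.leaf (nat_lit 22300746717647609476179491255923633314332680))) (.node (.leaf (nat_lit 22300746693917279548395331089532826325123072)) (.leaf (nat_lit 22300755835275980618054410910474008455545352)))))) (.node (.node (.node (.node (.node (.leaf (nat_lit 22300755998508813265403411014535721351381504)) (.leaf (nat_lit 22300746527758709470499788717530414374486528))) (.leaf (nat_lit 22300755853169413533893091069207939868033025))) (.node (.node (.leaf (nat_lit 22300745201451291364857818968512889733812745)) (.leaf (nat_lit 22300745219299889806600800749750321034854400))) (.leaf (nat_lit 22300746530359839351147277870510565333663809)))) (.node (.node (.node (.leaf (nat_lit 22300755832724744655830059047199167060415048)) (.leaf (nat_lit 22300757164184438082392059968588609153695752))) (.leaf (nat_lit 22300755835275257641766950721628357410193472))) (.node (.leaf (nat_lit 22300745364730391883323929101702131689193537)) (.leaf (nat_lit 22300745201172408385438708323314539417305664))))) (.node (.node (.node (.node (.leaf (nat_lit 22300755832724744789157220959113562800029704)) (.leaf (nat_lit 22300745198860936511865649132108279690825736))) (.leaf (nat_lit 22300755998832608840322953989448282879033352))) (.node (.node (.leaf (nat_lit 22300757348876150460032790922687307369976385)) (.leaf (nat_lit 22300755855725630949911092839579489105084480))) (.leaf (nat_lit 22300756001104316554164976891651087705051137)))) (.node (.node (.node (.leaf (nat_lit 22300755835275267547667346915384588878516745)) (.leaf (nat_lit 22300746528088841927493868580261800907379273))) (.leaf (nat_lit 22300755832400226099753853315241063108317185))) (.node (.leaf (nat_lit 22300746528088851814051452851144115427246144)) (.leaf (nat_lit 22300757351472298734293247285229389294375433)))))))) (.node (.node (.node (.node (.node (.node (.node (.leaf (nat_lit 22300755853448305334248371763952681417179712)) (.leaf (nat_lit 22300757351431733915383454203738176968725065))) (.leaf (nat_lit 22300757182352487107828518405181364341047809))) (.node (.node (.leaf (nat_lit 22300757164184438084550855908123675482685952)) (.leaf (nat_lit 22300756019283059986436258311764021642268673))) (.leaf (nat_lit 22300756019277286251320308375213322199368192)))) (.node (.node (.node (.leaf (nat_lit 22300746717647609476481713343344456207958024)) (.leaf (nat_lit 22300745201452014338727438182411865828884488))) (.leaf (nat_lit 22300745365013800904848592615232215292609097))) (.node (.node (.leaf (nat_lit 22300757185313728656662230088331300880814153)) (.leaf (nat_lit 22300745219305595645986575188523868760310273))) (.leaf (nat_lit 22300746717602606661311942881297955414868481))))) (.node (.node (.node (.node (.leaf (nat_lit 22300745198896430731122948914851843861151752)) (.leaf (nat_lit 22300757327736719744853368947445076907294720))) (.leaf (nat_lit 22300757161582664433945812190658819644494409))) (.node (.node (.leaf (nat_lit 22300757185313093576190079388149085169258504)) (.leaf (nat_lit 22300745198860291526102979393709176109924416))) (.leaf (nat_lit 22300757348876150305290287164940744378323017)))) (.node (.node (.node (.leaf (nat_lit 22300745198860222201153151131947677216182857)) (.leaf (nat_lit 22300755832725377243194856116901240778260545))) (.leaf (nat_lit 22300756019277355713746995387038964866355201))) (.node (.leaf (nat_lit 22300757351426572943023721185884533694660617)) (.leaf (nat_lit 22300757185313718907582190413703024891695689)))))) (.node (.node (.node (.node (.node (.leaf (nat_lit 22300755853169422180173044019519381452390912)) (.leaf (nat_lit 22300746527763768757019740724886269851898441))) (.leaf (nat_lit 22300745219304881333163852674739067232194560))) (.node (.node (.leaf (nat_lit 22300745201126782714681936814065025179455552)) (.leaf (nat_lit 22300745201167336409391036699087381322792969))) (.leaf (nat_lit 22300755834950739245575328069457903911731264)))) (.node (.node (.node (.leaf (nat_lit 22300745219624339054921389544233807879639113)) (.leaf (nat_lit 22300755998548654970467350579555210044113409))) (.leaf (nat_lit 22300745201173040837092063731393498028703745))) (.node (.leaf (nat_lit 22300755853453375933929202580430506478833737)) (.leaf (nat_lit 22300757164184447966607341220333801552773128))))) (.node (.node (.node (.node (.leaf (nat_lit 22300745198900778509830239023442523181809672)) (.leaf (nat_lit 22300746548528440188648877975671250885050369))) (.leaf (nat_lit 22300745219300454306918040433864208386396233))) (.node (.node (.leaf (nat_lit 22300745219624418261356968909036372694663744)) (.leaf (nat_lit 22300757351431733912969733464244985276666441))) (.leaf (nat_lit 22300757164179456768532764632313481258074177)))) (.node (.node (.node (.leaf (nat_lit 22300746715052174277185493409157358570213961)) (.leaf (nat_lit 22300745201167416856113580590632755710132296))) (.leaf (nat_lit 22300746715051470952850833515941664215040064))) (.node (.leaf (nat_lit 22300745364689906272969383623420879006863872)) (.leaf (nat_lit 22300746527764323373797736708872848747302912))))))) (.node (.node (.node (.node (.node (.node (.leaf (nat_lit 22300756001104238583248125222037493439791168)) (.leaf (nat_lit 22300755832684179817284655609522842350162505))) (.leaf (nat_lit 22300746528088287467838597788583247550349384))) (.node (.node (.leaf (nat_lit 22300745201451925187702312904178112485691913)) (.leaf (nat_lit 22300755998549366766954745636699891539644424))) (.leaf (nat_lit 22300755834996383197057098767169517919404041)))) (.node (.node (.node (.leaf (nat_lit 22300745219300454304500188776901476748628480)) (.leaf (nat_lit 22300745201173040837059007163761619271455304))) (.leaf (nat_lit 22300757348876150302872434372789431666249801))) (.node (.node (.leaf (nat_lit 22300755853123786913605514924133066874028608)) (.leaf (nat_lit 22300745198571267189250941937277759253676032))) (.leaf (nat_lit 22300755853164341695970580801260823970611201))))) (.node (.node (.node (.node (.leaf (nat_lit 22300755834996374664765691538008422964297792)) (.leaf (nat_lit 22300757348870356878883466201615026503286848))) (.leaf (nat_lit 22300745219346160465193805895070064086123008))) (.node (.node (.leaf (nat_lit 22300745364724688691442599959140426628464641)) (.leaf (nat_lit 22300755855720560349928031543222996748472384))) (.leaf (nat_lit 22300755855724997146409413332558003268780096)))) (.node (.node (.node (.leaf (nat_lit 22300755832400304070638154392661291522359296)) (.leaf (nat_lit 22300745198571267188910258244598272710705152))) (.leaf (nat_lit 22300746717602606663692088224970846765060097))) (.node (.leaf (nat_lit 22300757161907105154542194440025614535622665)) (.leaf (nat_lit 22300757161582586443723337376398996991377409)))))) (.node (.node (.node (.node (.node (.leaf (nat_lit 22300745365013713163396883676597237693022216)) (.leaf (nat_lit 22300756019277920056941657273009605401641472))) (.leaf (nat_lit 22300757351472208345284401981750554883260480))) (.node (.node (.leaf (nat_lit 22300746715047024269811869945903096849760320)) (.leaf (nat_lit 22300745367286054700088784642093446424956936))) (.leaf (nat_lit 22300745388415266067951119408215198898885193)))) (.node (.node (.node (.leaf (nat_lit 22300746696873993932942231953363205269488192)) (.leaf (nat_lit 22300745219629401127137069508361641590525960))) (.leaf (nat_lit 22300755835275256558568899817815956518900289))) (.node (.leaf (nat_lit 22300746548528441424133286566149412102373377)) (.leaf (nat_lit 22300756001109309321090723947113869534822976))))) (.node (.node (.node (.node (.leaf (nat_lit 22300746717642616866418970529195783360872960)) (.leaf (nat_lit 22300755832679109369621607240185659586019336))) (.leaf (nat_lit 22300745219624339032896272250119301103616576))) (.node (.node (.leaf (nat_lit 22300756001104326457685290021736658202005512)) (.leaf (nat_lit 22300757348875427483437777082488684327993408))) (.leaf (nat_lit 22300756022244223873837022494928013137056328)))) (.node (.node (.node (.leaf (nat_lit 22300755998554358162646263754903210784980993)) (.leaf (nat_lit 22300746551494832979735570632596966800134728))) (.leaf (nat_lit 22300745365008642561336506733853244746104840))) (.node (.leaf (nat_lit 22300745219304892319541092581435744471519305)) (.leaf (nat_lit 22300745388415254904687517912626237513433096))))))))) (.node (.node (.node (.node (.node (.node (.node (.node (.leaf (nat_lit 22300756001109309321090723947113869534560832)) (.leaf (nat_lit 22300746548527817502391940125113439808913921))) (.leaf (nat_lit 22300745198855143087914541914363162297401352))) (.node (.node (.leaf (nat_lit 22300757351426572940601736325031593225748489)) (.leaf (nat_lit 22300745198896340496899773041310519028351496))) (.leaf (nat_lit 22300745385453319971993323991799601221894656)))) (.node (.node (.node (.leaf (nat_lit 22300746527799896801841606134871246696907264)) (.leaf (nat_lit 22300757161912174519343604026872884281737225))) (.leaf (nat_lit 22300745365008720398927364390336171455025664))) (.node (.node (.leaf (nat_lit 22300757161583220269325682925420554764718080)) (.leaf (nat_lit 22300755853123776877064908243208288549994560))) (.leaf (nat_lit 22300757351431654839545592057640888427614793))))) (.node (.node (.node (.node (.leaf (nat_lit 22300745198571267191323978968046771044909056)) (.leaf (nat_lit 22300755832684257805386786867016712398606921))) (.leaf (nat_lit 22300745219299811813615077439637846669398016))) (.node (.node (.leaf (nat_lit 22300757348871079854949573842780086123926088)) (.leaf (nat_lit 22300757351431019621222332899893716954677249))) (.leaf (nat_lit 22300745219341009239525858875339928613687297)))) (.node (.node (.node (.leaf (nat_lit 22300745221896048136932226285174064324542984)) (.leaf (nat_lit 22300757182357477067921152652203643113865280))) (.leaf (nat_lit 22300746717323169067486108982409764085432392))) (.node (.leaf (nat_lit 22300745219345457141166172639625655766778368)) (.leaf (nat_lit 22300755853453366168259561095024894525046856)))))) (.node (.node (.node (.node (.node (.leaf (nat_lit 22300757161907737604386882328013683663311433)) (.leaf (nat_lit 22300755834991313810798437462630652115714112))) (.leaf (nat_lit 22300745219625053343637104446648724803026952))) (.node (.node (.leaf (nat_lit 22300756001104316554132593634646373674520584)) (.leaf (nat_lit 22300745201126782714984159063575859755745352))) (.leaf (nat_lit 22300746717318664225789147538443076299428361)))) (.node (.node (.node (.leaf (nat_lit 22300757161912808187478038696888065585320521)) (.leaf (nat_lit 22300755853453367406161831678217527427895873))) (.leaf (nat_lit 22300745221895960245300934198065696476271113))) (.node (.leaf (nat_lit 22300755832400858687118576597967793041965121)) (.leaf (nat_lit 22300757182357477087264030453170391086043136))))) (.node (.node (.node (.node (.leaf (nat_lit 22300756022244212580014154847471647812780040)) (.leaf (nat_lit 22300746548527816283496531701172199332512256))) (.leaf (nat_lit 22300746528088851814089222541901621348274761))) (.node (.node (.leaf (nat_lit 22300755853169412298408681184019161853235784)) (.leaf (nat_lit 22300745198860213693040787177712607373296136))) (.leaf (nat_lit 22300746717318019239378312227447677927817288)))) (.node (.node (.node (.leaf (nat_lit 22300746527758620164429410546624635037024768)) (.leaf (nat_lit 22300757351431724164191924109855084339532361))) (.leaf (nat_lit 22300755834950817078638035785231597790298624))) (.node (.leaf (nat_lit 22300757182356853145881614575237018169901569)) (.leaf (nat_lit 22300757348871079702922430812709828562031177))))))) (.node (.node (.node (.node (.node (.node (.leaf (nat_lit 22300757351431733915387586130294958666584137)) (.leaf (nat_lit 22300757161587746354607830207013426032836672))) (.leaf (nat_lit 22300757182351783781382971394683969372160512))) (.node (.node (.leaf (nat_lit 22300757161582664436704346369891328602407424)) (.leaf (nat_lit 22300745365009365384992941048674884807327752))) (.leaf (nat_lit 22300746717607767790765919318538415899971657)))) (.node (.node (.node (.leaf (nat_lit 22300757327736163909515925739850056870400001)) (.leaf (nat_lit 22300755853164342931492250911757532836139009))) (.leaf (nat_lit 22300757161628299874892128422087813295767617))) (.node (.node (.leaf (nat_lit 22300757182356854383783873793811969065878017)) (.leaf (nat_lit 22300756022244212580018285762971404104667136))) (.leaf (nat_lit 22300757348875427328657502463355955854999616))))) (.node (.node (.node (.node (.leaf (nat_lit 22300757351431734070092901393857327850066505)) (.leaf (nat_lit 22300757164178735030151696719038871069003840))) (.leaf (nat_lit 22300755834996374664421466070220424710750272))) (.node (.node (.leaf (nat_lit 22300745201126772830806657878604500655411264)) (.leaf (nat_lit 22300745201456360881907283201444011634328072))) (.leaf (nat_lit 22300746548532886868935293213014905350783489)))) (.node (.node (.node (.leaf (nat_lit 22300755832395233468237242771810444013507145)) (.leaf (nat_lit 22300757161912808187478038573356284937273408))) (.leaf (nat_lit 22300745385453389276990397562728853322862593))) (.node (.leaf (nat_lit 22300755998508168141822523527707055087424000)) (.leaf (nat_lit 22300757348870356723838739203522211486892104)))))) (.node (.node (.node (.node (.node (.leaf (nat_lit 22300755832724744788811963642342623519473672)) (.leaf (nat_lit 22300745198860291528180147504711724037308480))) (.leaf (nat_lit 22300745219340385298445148864214757325963776))) (.node (.node (.leaf (nat_lit 22300746548533510807974753396994202336002112)) (.leaf (nat_lit 22300757348870990549138853192121620516307016))) (.leaf (nat_lit 22300745388415175676525593944098452919320584)))) (.node (.node (.node (.leaf (nat_lit 22300745219345447254566180598906487650390017)) (.leaf (nat_lit 22300757327736718659238500469483914322280960))) (.leaf (nat_lit 22300755853453375933929792875959330078232649))) (.node (.leaf (nat_lit 22300746548532966097097218316483804648178177)) (.leaf (nat_lit 22300757327736718526256660435403128315347456))))) (.node (.node (.node (.node (.leaf (nat_lit 22300745388415266065529136853482894329680393)) (.leaf (nat_lit 22300755853128857380573006155383143955173888))) (.leaf (nat_lit 22300755832400226082828882491158952734397001))) (.node (.node (.leaf (nat_lit 22300756001109387156565888656335630193922560)) (.leaf (nat_lit 22300745364684201862495540170829275521385033))) (.leaf (nat_lit 22300757351425940353241144986877055906119681)))) (.node (.node (.node (.leaf (nat_lit 22300755998553734240866465073914366419566593)) (.leaf (nat_lit 22300745388415264984754176484456486872060488))) (.leaf (nat_lit 22300757327741799012834484226442073192038464))) (.node (.leaf (nat_lit 22300755832395164162933216568796955009093633)) (.leaf (nat_lit 22300745219629410875617296025560909615501385)))))))) (.node (.node (.node (.node (.node (.node (.node (.leaf (nat_lit 22300745198860291528180147504711724037046336)) (.leaf (nat_lit 22300755832684179815164311887782325411418697))) (.leaf (nat_lit 22300746528088841927460812015162638477562441))) (.node (.node (.leaf (nat_lit 22300745201167970237416612284522810931413505)) (.leaf (nat_lit 22300745198860213690622935538483281378152456))) (.leaf (nat_lit 22300756019277355713477736190129882179571713)))) (.node (.node (.node (.leaf (nat_lit 22300755832400226080415680566379186879496192)) (.leaf (nat_lit 22300745201452014341145280454158297293946888))) (.leaf (nat_lit 22300745364724766662058390533534758849482760))) (.node (.node (.leaf (nat_lit 22300757351147056140713474012661380955505160)) (.leaf (nat_lit 22300745219345525244788582799729562250149889))) (.leaf (nat_lit 22300757182356853145843843713824043500044864))))) (.node (.node (.node (.node (.leaf (nat_lit 22300745198855143088222021485966339105620488)) (.leaf (nat_lit 22300746548527896907019171957028701224599553))) (.leaf (nat_lit 22300755853449009876570998458913530432455232))) (.node (.node (.leaf (nat_lit 22300756001109942991304117070865607390396992)) (.leaf (nat_lit 22300757351472298732177037958014383312343625))) (.leaf (nat_lit 22300757161912887415607496395841172626477641)))) (.node (.node (.node (.leaf (nat_lit 22300755998832696579658452576619847978324032)) (.leaf (nat_lit 22300755853128858601285926458394976333337088))) (.leaf (nat_lit 22300757348870446029913913401824935657378377))) (.node (.leaf (nat_lit 22300745365008642563413822398220509229875208)) (.leaf (nat_lit 22300745388420246300686655105929310478828032)))))) (.node (.node (.node (.node (.node (.leaf (nat_lit 22300746693912752246933809152090733818445824)) (.leaf (nat_lit 22300745385458391792655575701684499803013632))) (.leaf (nat_lit 22300755853453367406161830671913630641950728))) (.node (.node (.leaf (nat_lit 22300745198895716437609973870233456149266497)) (.leaf (nat_lit 22300757351426584239567253143776704772182601))) (.leaf (nat_lit 22300745201132477236444797926316368487256128)))) (.node (.node (.node (.leaf (nat_lit 22300746717648242065957417580639094745333768)) (.leaf (nat_lit 22300746530354768593659708523309118175313985))) (.leaf (nat_lit 22300757185313083672669765105142070348354048))) (.node (.leaf (nat_lit 22300746717643260766949965141209135490302537)) (.leaf (nat_lit 22300757161628855693347102245845138638377545))))) (.node (.node (.node (.node (.leaf (nat_lit 22300745365008730300029826905474915767714377)) (.leaf (nat_lit 22300757330697405615131604957409350567330312))) (.leaf (nat_lit 22300745201131843565891903160183801891524672))) (.node (.node (.leaf (nat_lit 22300755835275267547705117776796464038580745)) (.leaf (nat_lit 22300757351472297651397870578448460385915464))) (.leaf (nat_lit 22300746715047113421144538224723045602332745)))) (.node (.node (.node (.leaf (nat_lit 22300746717648322704072244220277214205215305)) (.leaf (nat_lit 22300745201167336564441150306323039533432833))) (.leaf (nat_lit 22300745198571197864263410980552071014780928))) (.node (.leaf (nat_lit 22300755855719935209555201023308575528747520)) (.leaf (nat_lit 22300745388420246300686653953008355627794944))))))) (.node (.node (.node (.node (.node (.node (.leaf (nat_lit 22300757185318799259062552707879595938189897)) (.leaf (nat_lit 22300757161907827973707592348484850050662409))) (.leaf (nat_lit 22300757330703111455198599367439674572309065))) (.node (.node (.leaf (nat_lit 22300755834950817078638036794073098693410816)) (.leaf (nat_lit 22300745221901664673346177474787851873812545))) (.leaf (nat_lit 22300746717607767790765918165616911292862537)))) (.node (.node (.node (.leaf (nat_lit 22300745201126850799267878959081313991393288)) (.leaf (nat_lit 22300757161588289653129369671511119799554048))) (.leaf (nat_lit 22300757161582586444064020906874216193720321))) (.node (.node (.leaf (nat_lit 22300746528083138875210487690164750524612617)) (.leaf (nat_lit 22300745198571912332169247029684175680864256))) (.leaf (nat_lit 22300757327741234512181964486902274456817665))))) (.node (.node (.node (.node (.leaf (nat_lit 22300745201172418133910071141745384080048192)) (.leaf (nat_lit 22300755834996383197321551454903787220631561))) (.leaf (nat_lit 22300755998837767184174985550159882523542089))) (.node (.node (.leaf (nat_lit 22300757164183805630167815715712322121236545)) (.leaf (nat_lit 22300746548527896904601394086765187477835776))) (.leaf (nat_lit 22300746696879145021128595870675656675459657)))) (.node (.node (.node (.leaf (nat_lit 22300755998549287557828015704650779315143169)) (.leaf (nat_lit 22300755832395878592153427506841931002941441))) (.leaf (nat_lit 22300745201132477236444797926316918242807872))) (.node (.leaf (nat_lit 22300755832720306638376090389411497534067272)) (.leaf (nat_lit 22300745198900856364307699156470187841327688)))))) (.node (.node (.node (.node (.node (.leaf (nat_lit 22300746717642616864001634245632724950057472)) (.leaf (nat_lit 22300756022239232347240914004589416112493128))) (.leaf (nat_lit 22300745201126850798970370035358571033788417))) (.node (.node (.leaf (nat_lit 22300746551489127294445243365546238016491520)) (.leaf (nat_lit 22300745219340454644805521665432837490250312))) (.leaf (nat_lit 22300745385453389434420010859550256572665920)))) (.node (.node (.node (.leaf (nat_lit 22300745219305595645986576485278468125495808)) (.leaf (nat_lit 22300745388415176914465041780746872022138888))) (.leaf (nat_lit 22300745365009365382574497960718778593443912))) (.node (.leaf (nat_lit 22300755853449019625646391839370767480651785)) (.leaf (nat_lit 22300745365008720399196622161815969843909120))))) (.node (.node (.node (.node (.leaf (nat_lit 22300755853129491186228084924964495559758336)) (.leaf (nat_lit 22300746528088841910531137273638140736737280))) (.leaf (nat_lit 22300745219346079841926181497416953182031873))) (.node (.node (.leaf (nat_lit 22300746717607767636060603025939265990169161)) (.leaf (nat_lit 22300746717642616866721127043955282959138817))) (.leaf (nat_lit 22300755853449009876608777372762157802062400)))) (.node (.node (.node (.leaf (nat_lit 22300757351471575755544245203711978423484416)) (.leaf (nat_lit 22300745201167346315636811299942757166219265))) (.leaf (nat_lit 22300746715051470950432973806261323864215616))) (.node (.leaf (nat_lit 22300745198895707907386298949183260927721992)) (.leaf (nat_lit 22300746717647618141759766109505614034239552))))))))))) (.node (.node (.node (.node (.node (.node (.node (.node (.node (.node (.leaf (nat_lit 22300746528088841927460812015162638477824585)) (.leaf (nat_lit 22300757185313728659075360513999194191860233))) (.leaf (nat_lit 22300746527758709470462082419998775558049792))) (.node (.node (.leaf (nat_lit 22300755832400234767752497613887814225629185)) (.leaf (nat_lit 22300745367285342903904203267705939846758472))) (.leaf (nat_lit 22300757164179456768532764632314031013888065)))) (.node (.node (.node (.leaf (nat_lit 22300745198576892407786944770271263760322561)) (.leaf (nat_lit 22300756022239232347278694089373876807045704))) (.leaf (nat_lit 22300746696878509935787683005329596787720712))) (.node (.node (.leaf (nat_lit 22300745364729847167979616437181436544454656)) (.leaf (nat_lit 22300745201456360901250096168660394372497416))) (.leaf (nat_lit 22300746548528520826121389833056941863076353))))) (.node (.node (.node (.node (.leaf (nat_lit 22300757327736163907093942032165452661395457)) (.leaf (nat_lit 22300755853453367406161830507282113937838657))) (.leaf (nat_lit 22300745201126850801383573074493450158866433))) (.node (.node (.leaf (nat_lit 22300757182352406622421531487182107197870080)) (.leaf (nat_lit 22300755855719935209592907321152467997327872))) (.leaf (nat_lit 22300757327736173810613675369191176948158528)))) (.node (.node (.node (.leaf (nat_lit 22300755998548654972885203371705973000634881)) (.leaf (nat_lit 22300757161582595111754519261328422002229249))) (.leaf (nat_lit 22300745201172408385438708323313989661491776))) (.node (.leaf (nat_lit 22300745198855865909762246455567440557641736)) (.leaf (nat_lit 22300755998837767181757134039322795973021697)))))) (.node (.node (.node (.node (.node (.leaf (nat_lit 22300757351431643543006781311339757551222793)) (.leaf (nat_lit 22300755998833252590941751006088214683324480))) (.leaf (nat_lit 22300746527764413897860877871019519226413057))) (.node (.node (.leaf (nat_lit 22300756001104316554132592479476849898950664)) (.leaf (nat_lit 22300757327736164064523557632608301997887489))) (.leaf (nat_lit 22300757351466583145745888042880143823241216)))) (.node (.node (.node (.leaf (nat_lit 22300746527804889411602267250379657285239296)) (.leaf (nat_lit 22300757161587735036346723955619829024817153))) (.leaf (nat_lit 22300757161912808209238704479340563993231872))) (.node (.leaf (nat_lit 22300746527758620166814205620474277106028544)) (.leaf (nat_lit 22300757351471653746031172707926612773961729))))) (.node (.node (.node (.node (.leaf (nat_lit 22300755998548742847625180701240809146814528)) (.leaf (nat_lit 22300755998838402267022477205160946586091528))) (.leaf (nat_lit 22300755998553813447306010653386915996536832))) (.node (.node (.leaf (nat_lit 22300755998553813447575858720395529514422272)) (.leaf (nat_lit 22300745198895707771986541417774396750467656))) (.leaf (nat_lit 22300745388415175698286258715172328282554376)))) (.node (.node (.node (.leaf (nat_lit 22300757348875506556820007506537569641824328)) (.leaf (nat_lit 22300745219625053343599333585231901842477064))) (.leaf (nat_lit 22300757185318154275070678166827443463131144))) (.node (.leaf (nat_lit 22300755832725377240777003306736009370140737)) (.leaf (nat_lit 22300745219624329303721078780256715498623553))))))) (.node (.node (.node (.node (.node (.node (.leaf (nat_lit 22300755832720397007994890858968361409446408)) (.leaf (nat_lit 22300757351426029642429579490674656313380937))) (.leaf (nat_lit 22300746528083771325059899115289575197540416))) (.node (.node (.leaf (nat_lit 22300756022244301864064146035412142829900360)) (.leaf (nat_lit 22300755835275980620472263828726110733996040))) (.leaf (nat_lit 22300746551489127294444662293138702491455488)))) (.node (.node (.node (.leaf (nat_lit 22300745219624339054921388391312303273054281)) (.leaf (nat_lit 22300755853164430806232827600913097023324672))) (.leaf (nat_lit 22300745198576337793724890874594642569986056))) (.node (.node (.leaf (nat_lit 22300745388415256319173827699571435969221192)) (.leaf (nat_lit 22300745201131921401366634208759456238404096))) (.leaf (nat_lit 22300755855719935190548275466955039025922568))))) (.node (.node (.node (.node (.leaf (nat_lit 22300745201126772966248343686079984708096064)) (.leaf (nat_lit 22300745221895968930530376613701577903178248))) (.leaf (nat_lit 22300757161912175754520533205301316970348553))) (.node (.node (.leaf (nat_lit 22300746717607677266093002293245997071204417)) (.leaf (nat_lit 22300755998554358162646780261486024477114881))) (.leaf (nat_lit 22300745388415176916882902661358159099363336)))) (.node (.node (.node (.leaf (nat_lit 22300755853164352815674465100223111296745984)) (.leaf (nat_lit 22300745201127495939811442579289757427171336))) (.leaf (nat_lit 22300745385453390514929846552298762153234433))) (.node (.leaf (nat_lit 22300756001104238715932456288978503693500480)) (.leaf (nat_lit 22300755834997007118799119666999744532578817)))))) (.node (.node (.node (.node (.node (.leaf (nat_lit 22300757185313093576189489092619582966861832)) (.leaf (nat_lit 22300745221901744075556147823391633253073409))) (.leaf (nat_lit 22300745201127495939811505989973068075761665))) (.node (.node (.leaf (nat_lit 22300745198860936511861517063406024871120904)) (.leaf (nat_lit 22300746715052174276921042039038712803005000))) (.leaf (nat_lit 22300745364729837266877154948506065993502720)))) (.node (.node (.node (.leaf (nat_lit 22300746717607677266093001140606509680427009)) (.leaf (nat_lit 22300755855724997281771335274779905441960457))) (.leaf (nat_lit 22300746717607677263712855798939126717481473))) (.node (.leaf (nat_lit 22300746717607053344313127521971183573532681)) (.leaf (nat_lit 22300746715047113578304894630513566174712385))))) (.node (.node (.node (.node (.leaf (nat_lit 22300757185313728791759691583156898020758089)) (.leaf (nat_lit 22300746527804344894488150335414837681881600))) (.leaf (nat_lit 22300756001109387156263731132487660332126720))) (.node (.node (.leaf (nat_lit 22300745201131843568649257756606926371688512)) (.leaf (nat_lit 22300745388415266067951119410462609255989833))) (.leaf (nat_lit 22300746715052174274767642922850085866082888)))) (.node (.node (.node (.leaf (nat_lit 22300755834996374512134591728424109851574336)) (.leaf (nat_lit 22300755834996384415654907164352629279326272))) (.leaf (nat_lit 22300745201126781477086704068628975842234368))) (.node (.leaf (nat_lit 22300745198855866066922528083546248826847296)) (.leaf (nat_lit 22300745219304891101279752814444722350457408)))))))) (.node (.node (.node (.node (.node (.node (.node (.leaf (nat_lit 22300745365008720396513644821779492762816576)) (.leaf (nat_lit 22300745388420325509506281316570214638321728))) (.leaf (nat_lit 22300757161582664436363663830164605167992833))) (.node (.node (.leaf (nat_lit 22300755834991303909733678954898126742225472)) (.leaf (nat_lit 22300746715046390466277132716318381498957896))) (.leaf (nat_lit 22300746717602617957822419429229015526051913)))) (.node (.node (.node (.leaf (nat_lit 22300745219299820498845110007567041759023616)) (.leaf (nat_lit 22300745367280360178056084559783190136623104))) (.leaf (nat_lit 22300755998553724490016116879196932660265473))) (.node (.node (.leaf (nat_lit 22300745198855220925779233269485637246161481)) (.leaf (nat_lit 22300757161907103914180170291822065740939273))) (.leaf (nat_lit 22300755834996373293844393164963576784650241))))) (.node (.node (.node (.node (.leaf (nat_lit 22300746551489117393342782018764974407815176)) (.leaf (nat_lit 22300755853123856085884609375978813246181961))) (.leaf (nat_lit 22300757330697405612713753317934282783883776))) (.node (.node (.leaf (nat_lit 22300756022244222464228843497559624136032264)) (.leaf (nat_lit 22300757348870446029951683112533021163556937))) (.leaf (nat_lit 22300746530354778497217727787102882823929928)))) (.node (.node (.node (.leaf (nat_lit 22300757182352406487280895405831275575251529)) (.leaf (nat_lit 22300755832725377243194856098886772326662209))) (.leaf (nat_lit 22300755834992025802824195069354324070006848))) (.node (.leaf (nat_lit 22300745219305595643568723549016983724888576)) (.leaf (nat_lit 22300756019277356796976912876852914327421513)))))) (.node (.node (.node (.node (.node (.leaf (nat_lit 22300745198576892410209446306341322947301377)) (.leaf (nat_lit 22300745385453320109475496557434713143509504))) (.leaf (nat_lit 22300745364684122769738113355986496599097856))) (.node (.node (.leaf (nat_lit 22300746717642616866419487181864041365635080)) (.leaf (nat_lit 22300755998513169399899004265496509732393545))) (.leaf (nat_lit 22300755853124410680302717598673917775446017)))) (.node (.node (.node (.leaf (nat_lit 22300745198901501331072953643611083369644040)) (.leaf (nat_lit 22300757330697327622491288859349959414120968))) (.leaf (nat_lit 22300757348871079700509291161422556758577737))) (.node (.leaf (nat_lit 22300755998832686676138137012263973453595209)) (.leaf (nat_lit 22300746715051461201957395888760690298585153))))) (.node (.node (.node (.node (.leaf (nat_lit 22300746715047103672366730005279283425088065)) (.leaf (nat_lit 22300745365013800904848011671467608934453312))) (.leaf (nat_lit 22300755834955809845218885111618539717169673))) (.node (.node (.leaf (nat_lit 22300745221896594070601048330746278398918720)) (.leaf (nat_lit 22300757327736163926436756298920535647064064))) (.leaf (nat_lit 22300745365009275150769182787394007097147912)))) (.node (.node (.node (.leaf (nat_lit 22300745388415266067951120563384105272643657)) (.leaf (nat_lit 22300745198571197867026594766112341056552968))) (.leaf (nat_lit 22300746551489128709195481222630347255091273))) (.node (.leaf (nat_lit 22300755832684188482897986001910426020909641)) (.leaf (nat_lit 22300755853448374793983384662814430228119624))))))) (.node (.node (.node (.node (.node (.node (.leaf (nat_lit 22300755998833331664319924281383234509471752)) (.leaf (nat_lit 22300755855719935345290780377628191861506560))) (.leaf (nat_lit 22300756022244303102004185338802966873805321))) (.node (.node (.leaf (nat_lit 22300745201132477238862650716251065757467200)) (.leaf (nat_lit 22300755853123865986689572300828517282873920))) (.leaf (nat_lit 22300757348876150457614940436379003871334977)))) (.node (.node (.node (.leaf (nat_lit 22300755832679187205106217817561669711167552)) (.leaf (nat_lit 22300746696879145018711333230223981357072969))) (.leaf (nat_lit 22300757348871079700471522463989761384157769))) (.node (.node (.leaf (nat_lit 22300755853169422337631582804083291594195456)) (.leaf (nat_lit 22300745198855865909464737367423728767762440))) (.leaf (nat_lit 22300745219340464526570474636580305756226048))))) (.node (.node (.node (.node (.leaf (nat_lit 22300755998548732943803225261357111179251712)) (.leaf (nat_lit 22300755855725639617913350538376371247251976))) (.leaf (nat_lit 22300757182357478305861257654110230342045696))) (.node (.node (.leaf (nat_lit 22300757164178824179056479464439580744253441)) (.leaf (nat_lit 22300745388415266065496079135181302072119881))) (.leaf (nat_lit 22300746530355401183480145495522259056492545)))) (.node (.node (.node (.leaf (nat_lit 22300745198901501331068230106473236902477832)) (.leaf (nat_lit 22300755832720397007994300419324282088226824))) (.leaf (nat_lit 22300756001104950376745017135555771839287808))) (.node (.leaf (nat_lit 22300745221895968910923109823909154659762696)) (.leaf (nat_lit 22300757161907183144764668101428795311915017)))))) (.node (.node (.node (.node (.node (.leaf (nat_lit 22300745364684122634295248271986466304033280)) (.leaf (nat_lit 22300746527804255605342744162091535436087809))) (.leaf (nat_lit 22300757330698039612439869312446739953779273))) (.node (.node (.leaf (nat_lit 22300745388420336822676686750186516087083592)) (.leaf (nat_lit 22300746696874074416309831313839921886696009))) (.leaf (nat_lit 22300746528083771305453306768810908563308608)))) (.node (.node (.node (.leaf (nat_lit 22300755998838402264302394252891419205173768)) (.leaf (nat_lit 22300745198860213690579908510178833044865033))) (.leaf (nat_lit 22300757351425949018821937644042748860301321))) (.node (.leaf (nat_lit 22300745388415175695872537975960610493464584)) (.leaf (nat_lit 22300745365013800904848592615231665536533065))))) (.node (.node (.node (.node (.leaf (nat_lit 22300746528083861696798460757257076401504265)) (.leaf (nat_lit 22300745364689827042351239796476399017001024))) (.leaf (nat_lit 22300755832724744788816685002521664024510472))) (.node (.node (.leaf (nat_lit 22300755998554358162991578733513070981939201)) (.leaf (nat_lit 22300745201451290298849182080119054199460417))) (.leaf (nat_lit 22300746717602617957817695909824709993173577)))) (.node (.node (.node (.leaf (nat_lit 22300746717602697033659689982233039366819913)) (.leaf (nat_lit 22300745365009365384992939895753997601996809))) (.leaf (nat_lit 22300746715052104952581073512677211241747009))) (.node (.leaf (nat_lit 22300755834956532821544051726352336889577480)) (.leaf (nat_lit 22300746696874074418426041793698813308080712))))))))) (.node (.node (.node (.node (.node (.node (.node (.node (.leaf (nat_lit 22300746693917822846912737330401869929153024)) (.leaf (nat_lit 22300746548533510945495460021405709114572801))) (.leaf (nat_lit 22300757161588299537302157574045361596567552))) (.node (.node (.leaf (nat_lit 22300745364725332574741145467992314061263360)) (.leaf (nat_lit 22300757161587657048575157181026193916559361))) (.leaf (nat_lit 22300757164178735028073349334035705842896960)))) (.node (.node (.node (.leaf (nat_lit 22300757351431019623942343360007018148528193)) (.leaf (nat_lit 22300746548533510807937047240727757596950592))) (.leaf (nat_lit 22300745198855865909460024368147158964375560))) (.node (.node (.leaf (nat_lit 22300746717607767636060603043953663425909321)) (.leaf (nat_lit 22300755853169423418075304230852329904308736))) (.leaf (nat_lit 22300746715047113575924813852697274978701889))))) (.node (.node (.node (.node (.leaf (nat_lit 22300745367280994174986541113659952256516160)) (.leaf (nat_lit 22300755998832608842736083120331283321094152))) (.leaf (nat_lit 22300745364724766664475725663929343292739648))) (.node (.node (.leaf (nat_lit 22300745221895960264945969561410589274669120)) (.leaf (nat_lit 22300756001109953068946928788804145307193856))) (.leaf (nat_lit 22300745388415266067951700480653520749498889)))) (.node (.node (.node (.leaf (nat_lit 22300745219304882416016055947668875209118281)) (.leaf (nat_lit 22300745219630123948720320373880792042180616))) (.leaf (nat_lit 22300746717607766552863584022906683409830473))) (.node (.leaf (nat_lit 22300746717602606663696736802260805996253185)) (.leaf (nat_lit 22300757327736718523842940743318507467603968)))))) (.node (.node (.node (.node (.node (.leaf (nat_lit 22300755832720397010714384666378151508836872)) (.leaf (nat_lit 22300745365008641342696253532032668153188929))) (.leaf (nat_lit 22300755853128848697760825226929574074388480))) (.node (.node (.leaf (nat_lit 22300745201173040837092064884315630906638345)) (.leaf (nat_lit 22300755832395164162933731904131064456810497))) (.leaf (nat_lit 22300745219624330524779183621307582306877448)))) (.node (.node (.node (.leaf (nat_lit 22300745198860936514581011012403235475689480)) (.leaf (nat_lit 22300745201451369507366652928644826307526664))) (.leaf (nat_lit 22300745364724776568265814211598052801679360))) (.node (.leaf (nat_lit 22300757351471653745733662464337537092812808)) (.leaf (nat_lit 22300755998553803544055544437389064449069056))))) (.node (.node (.node (.node (.leaf (nat_lit 22300746551489117391226571396766175200546824)) (.leaf (nat_lit 22300755832724753319294713881113949923967041))) (.leaf (nat_lit 22300757161583228934939014364930844963930113))) (.node (.node (.leaf (nat_lit 22300746696874073333112813303855463776158281)) (.leaf (nat_lit 22300746530355401200664237481722770257641984))) (.leaf (nat_lit 22300746528088208237291289767945115162378760)))) (.node (.node (.node (.leaf (nat_lit 22300756001109387311276010310003321525506048)) (.leaf (nat_lit 22300745219346079844689421901985526306832449))) (.leaf (nat_lit 22300756001104248467123396231126233391600137))) (.node (.leaf (nat_lit 22300757327741800424595462674132967910281280)) (.leaf (nat_lit 22300746717647609478597408467567924354220544))))))) (.node (.node (.node (.node (.node (.node (.leaf (nat_lit 22300745364724766662327648433406599097487872)) (.leaf (nat_lit 22300746717647609478899566135495219163955208))) (.leaf (nat_lit 22300746527758619083957353803779788580585473))) (.node (.node (.leaf (nat_lit 22300755835275336872309537531444626832003593)) (.leaf (nat_lit 22300745198855143090639874262354022327652360))) (.leaf (nat_lit 22300757348871079855214027518773634460291657)))) (.node (.node (.node (.leaf (nat_lit 22300746530360471803102855544215411878035464)) (.leaf (nat_lit 22300755853124420583827173178012936886587465))) (.leaf (nat_lit 22300746715052184026001072487801878023770697))) (.node (.node (.leaf (nat_lit 22300746530360471805487651912528417127694336)) (.leaf (nat_lit 22300746528088921138693642440382878769746505))) (.leaf (nat_lit 22300757330697405615132196405894854557860352))))) (.node (.node (.node (.node (.leaf (nat_lit 22300755832719674189174160833658338943467528)) (.leaf (nat_lit 22300745201131921404086643515916559153365000))) (.leaf (nat_lit 22300755834996373293801237007202576016642632))) (.node (.node (.leaf (nat_lit 22300755832395155497655099076620555095379969)) (.leaf (nat_lit 22300755832395233468577926464735748750049792))) (.leaf (nat_lit 22300745219340464526872114498636911661285952)))) (.node (.node (.node (.leaf (nat_lit 22300745198900778509484980537986381087019585)) (.leaf (nat_lit 22300757182357478305861256501188734325391361))) (.leaf (nat_lit 22300746715046400350449920742415139940335688))) (.node (.leaf (nat_lit 22300756019282426178362746959435027099684864)) (.leaf (nat_lit 22300745198860213535539819586915047395332681)))))) (.node (.node (.node (.node (.node (.leaf (nat_lit 22300755853169501410715632128061750827287104)) (.leaf (nat_lit 22300745219624972860576468295553929321943113))) (.leaf (nat_lit 22300746717607766552858935445617265210298953))) (.node (.node (.leaf (nat_lit 22300755853448384542766432748086188493017161)) (.leaf (nat_lit 22300746696878430710043610693765093587681800))) (.leaf (nat_lit 22300755832684179972367769399358306320912392)))) (.node (.node (.node (.leaf (nat_lit 22300745198576268469119879385518132519010304)) (.leaf (nat_lit 22300755853128848695343038007194402137837568))) (.leaf (nat_lit 22300755834991304062364779771071659908530752))) (.node (.leaf (nat_lit 22300745388420335587150365882657558266679880)) (.leaf (nat_lit 22300745219346079844344624585096678382505985))))) (.node (.node (.node (.node (.leaf (nat_lit 22300746528088841927456679946461010720723529)) (.leaf (nat_lit 22300745201172416917994568224447304977874953))) (.leaf (nat_lit 22300745201173131344494697237042988534726665))) (.node (.node (.leaf (nat_lit 22300757161588289655283442096075592532529152)) (.leaf (nat_lit 22300745198855865909460604161562637825736713))) (.leaf (nat_lit 22300757327736719744853305410983141130141696)))) (.node (.node (.node (.leaf (nat_lit 22300745385453389276989880045052670211264513)) (.leaf (nat_lit 22300746693912752246670028908067501388365832))) (.leaf (nat_lit 22300746527763768757360425570764415511560193))) (.node (.leaf (nat_lit 22300755853448296804063139839222215985856521)) (.leaf (nat_lit 22300755998833331662203713801247206030704648)))))))) (.node (.node (.node (.node (.node (.node (.node (.leaf (nat_lit 22300757161912808206783073908248899177709632)) (.leaf (nat_lit 22300746548528440343094548257002701751357440))) (.leaf (nat_lit 22300755832725467610697444791833375365136904))) (.node (.node (.leaf (nat_lit 22300745201173040839817524049172108765560841)) (.leaf (nat_lit 22300755853123856085582453004806747016396801))) (.leaf (nat_lit 22300746696873360124604849165838189508952576)))) (.node (.node (.node (.leaf (nat_lit 22300757161628311171397283079564115937886720)) (.leaf (nat_lit 22300746715051461068711103210362572172951624))) (.leaf (nat_lit 22300755834950748991935284649707659757359168))) (.node (.node (.leaf (nat_lit 22300746717602687284882397262531142912840265)) (.leaf (nat_lit 22300746696878430726967983007748064272450056))) (.leaf (nat_lit 22300745201173130125898125925187923352780864))))) (.node (.node (.node (.node (.leaf (nat_lit 22300757348875516632352594875000329582187073)) (.leaf (nat_lit 22300746527804344894488077701360597340553728))) (.leaf (nat_lit 22300757161907105152119620269685259781575233))) (.node (.node (.leaf (nat_lit 22300757185313083670251396959295363573092416)) (.leaf (nat_lit 22300756022239232344860252136601337290854985))) (.leaf (nat_lit 22300745201452014339029660269833238478061576)))) (.node (.node (.node (.leaf (nat_lit 22300757182357477089681809458626334180806656)) (.leaf (nat_lit 22300755853164351732477447216335044707910144))) (.leaf (nat_lit 22300757351425949021276976910518830434877449))) (.node (.leaf (nat_lit 22300745367280272436605473058517073648718345)) (.leaf (nat_lit 22300746551494189231265364920766957979963904)))))) (.node (.node (.node (.node (.node (.leaf (nat_lit 22300745364724766662360031677185905041609216)) (.leaf (nat_lit 22300746528083216863015112018186088667451969))) (.leaf (nat_lit 22300746551494197899263418779769637293002760))) (.node (.node (.leaf (nat_lit 22300746717648332452850054745568451288662601)) (.leaf (nat_lit 22300755855725076353117709359731916075434048))) (.leaf (nat_lit 22300757348870990551556704813337037628506184)))) (.node (.node (.node (.leaf (nat_lit 22300756022239232344860841297223113851048520)) (.leaf (nat_lit 22300755832679187357430944711318457703989320))) (.leaf (nat_lit 22300746693917268230167871845736805249847297))) (.node (.leaf (nat_lit 22300755853128926685867671807000519142277184)) (.leaf (nat_lit 22300746551489762512432708352736149905903689))))) (.node (.node (.node (.node (.leaf (nat_lit 22300755834996374664765692706692527340945472)) (.leaf (nat_lit 22300757185318799261476273431328653830033993))) (.leaf (nat_lit 22300755853453375914624168542292567858086464))) (.node (.node (.leaf (nat_lit 22300757348875437232215587751890025319497800)) (.leaf (nat_lit 22300757327736173810883515366030183338610688))) (.leaf (nat_lit 22300745198855220926076742360153826661798473)))) (.node (.node (.node (.leaf (nat_lit 22300745364689906272969384647704532306104384)) (.leaf (nat_lit 22300746551489752630975280910173158464852545))) (.leaf (nat_lit 22300757351142699827340478084144362101445129))) (.node (.leaf (nat_lit 22300757164179446691228700867857789606723592)) (.leaf (nat_lit 22300755853448384542765841299635181684297801))))))) (.node (.node (.node (.node (.node (.node (.leaf (nat_lit 22300757327741789128397926209051475185008640)) (.leaf (nat_lit 22300745221901039530513437892112873183773184))) (.leaf (nat_lit 22300745219304892319541091446524171610263625))) (.node (.node (.leaf (nat_lit 22300757185313718907884412501400932231189065)) (.leaf (nat_lit 22300756001109397059783982004847655919030272))) (.leaf (nat_lit 22300745364689273683191522886838451081085513)))) (.node (.node (.node (.leaf (nat_lit 22300755832400858687151634298535911876723201)) (.leaf (nat_lit 22300745198576259820772184937293574154747913))) (.leaf (nat_lit 22300757327741235749852155578570125600886785))) (.node (.node (.leaf (nat_lit 22300746530360471803065150399329299310346240)) (.leaf (nat_lit 22300756022244291786420135274249520777822272))) (.leaf (nat_lit 22300746717643261850449140672793490455822921))))) (.node (.node (.node (.node (.leaf (nat_lit 22300755853170046121253755023402947424817153)) (.leaf (nat_lit 22300755855719935209857358691271739911180800))) (.leaf (nat_lit 22300745219625053346054954933233624060788744))) (.node (.node (.leaf (nat_lit 22300746715046479753042550368383734317879881)) (.leaf (nat_lit 22300755835280338150068260841796900812526089))) (.leaf (nat_lit 22300746715047113421144539377648948255691336)))) (.node (.node (.node (.leaf (nat_lit 22300757185313728659080073657115043369881673)) (.leaf (nat_lit 22300757327736718523838217347723540549632512))) (.leaf (nat_lit 22300746715047024272229721582880005629935688))) (.node (.leaf (nat_lit 22300757161907827976120731997806255193457160)) (.leaf (nat_lit 22300755998833331661901491711578974925619208)))))) (.node (.node (.node (.node (.node (.leaf (nat_lit 22300756001104872388903203991371926550347840)) (.leaf (nat_lit 22300757351426663312949483567548580816491081))) (.leaf (nat_lit 22300755998554358160233061845885494805921793))) (.node (.node (.leaf (nat_lit 22300746696879145173416059353144829625274889)) (.leaf (nat_lit 22300745364730391880901945394052162214166529))) (.leaf (nat_lit 22300746548527817504511609351748897990509057)))) (.node (.node (.node (.leaf (nat_lit 22300755832395155497357590130063626949627905)) (.leaf (nat_lit 22300746693917834145268479443953011767906305))) (.leaf (nat_lit 22300756001104960454313524200006194225512512))) (.node (.leaf (nat_lit 22300757330702397008712890511207111663321600)) (.leaf (nat_lit 22300757161912808208941868838621347232121344))))) (.node (.node (.node (.node (.leaf (nat_lit 22300757351467228132189844626698618269631049)) (.leaf (nat_lit 22300755835275980618054421412868339481444872))) (.leaf (nat_lit 22300745364729837264760943441870387247321600))) (.node (.node (.leaf (nat_lit 22300755832725377241117669723853135041265729)) (.leaf (nat_lit 22300756001104238580830273582807685334827072))) (.leaf (nat_lit 22300757161912808206820851812969474171371584)))) (.node (.node (.node (.leaf (nat_lit 22300745367280360178056085856785186863190016)) (.leaf (nat_lit 22300745364729758058019682916363507014598657))) (.leaf (nat_lit 22300755834991313813216215332898005563244608))) (.node (.leaf (nat_lit 22300746530360471803069800273299649614610440)) (.leaf (nat_lit 22300755853128848695688370297635732506017793)))))))))) (.node (.node (.node (.node (.node (.node (.node (.node (.node (.leaf (nat_lit 22300755998548732941385372469205798467440640)) (.leaf (nat_lit 22300746528088841910568908135050015894700096))) (.leaf (nat_lit 22300755832684902791225690080866286411481096))) (.node (.node (.leaf (nat_lit 22300757351426572940638926111753888019251209)) (.leaf (nat_lit 22300757161583219188541867995737291210395648))) (.leaf (nat_lit 22300757182357477089422752607980412769435648)))) (.node (.node (.node (.leaf (nat_lit 22300746696874074416008189001548600107373128)) (.leaf (nat_lit 22300755832684257807507129417548106301477449))) (.leaf (nat_lit 22300745364729847170396877909238737251897344))) (.node (.node (.leaf (nat_lit 22300745198901501333486673194152891103870984)) (.leaf (nat_lit 22300746527799818811656910087495470213529608))) (.leaf (nat_lit 22300755834997007119144507279629140763869193))))) (.node (.node (.node (.node (.leaf (nat_lit 22300746551494187995743694792291025162342912)) (.leaf (nat_lit 22300745198901410963900929433810370084246088))) (.leaf (nat_lit 22300757351425940353241145128740985334137345))) (.node (.node (.leaf (nat_lit 22300746527804888328145601208902360890376256)) (.leaf (nat_lit 22300746717323814053934713999648192442176009))) (.leaf (nat_lit 22300745388420246300687170461877596351135744)))) (.node (.node (.node (.leaf (nat_lit 22300757161582586446136540436122238863015937)) (.leaf (nat_lit 22300745365009365385294581055128702449615368))) (.leaf (nat_lit 22300757327736163909511278441903449073520641))) (.node (.leaf (nat_lit 22300745388415266067946988474701602460308040)) (.leaf (nat_lit 22300746528083771327473028388036514731528777)))))) (.node (.node (.node (.node (.node (.leaf (nat_lit 22300755832395233468534750563229251997532672)) (.leaf (nat_lit 22300745219345457141166246552702663782338633))) (.leaf (nat_lit 22300755832679109212461176740892119926870601))) (.node (.node (.leaf (nat_lit 22300755998553803544055544581468518396989952)) (.leaf (nat_lit 22300745367285342884259233782980575257465353))) (.leaf (nat_lit 22300745201173130123480274285958733723075136)))) (.node (.node (.node (.leaf (nat_lit 22300755832719674186415772084915677211951112)) (.leaf (nat_lit 22300755832679741802239104378125947515212361))) (.leaf (nat_lit 22300746530359839351147279021180819882377792))) (.node (.leaf (nat_lit 22300746527763768759432943949307549954605057)) (.leaf (nat_lit 22300757164179367460686112866764110940111360))))) (.node (.node (.node (.node (.leaf (nat_lit 22300756001110031056714437117612248684036160)) (.leaf (nat_lit 22300746693912197647113905137166727923109888))) (.leaf (nat_lit 22300755853164341696272221960354593799143489))) (.node (.node (.leaf (nat_lit 22300757351431732832190568406285211425608265)) (.leaf (nat_lit 22300746551489762377335237632255929771921993))) (.leaf (nat_lit 22300757351472297648980020092140638997352521)))) (.node (.node (.node (.leaf (nat_lit 22300757351466583143328037558789555278315528)) (.leaf (nat_lit 22300745201456371868361195844741016024252480))) (.leaf (nat_lit 22300746717643261987965042951984051116081737))) (.node (.leaf (nat_lit 22300756022244212580051343481272447528894472)) (.leaf (nat_lit 22300746527759331982634377733644624465264704))))))) (.node (.node (.node (.node (.node (.node (.leaf (nat_lit 22300745198576892408132258597929393609510913)) (.leaf (nat_lit 22300757182356933786329290252838206886412289))) (.leaf (nat_lit 22300745219624418263438867452468655240249920))) (.node (.node (.leaf (nat_lit 22300755832395788085058328910780438795259905)) (.leaf (nat_lit 22300757161912174516618272836021871924477961))) (.leaf (nat_lit 22300756001109397059783982004847717258366984)))) (.node (.node (.node (.leaf (nat_lit 22300757161582664433945811037737315037647433)) (.leaf (nat_lit 22300755832719674051049073280362932451971656))) (.leaf (nat_lit 22300746693917822849329998676072569386336320))) (.node (.node (.leaf (nat_lit 22300745201452014338732150172601735180451848)) (.leaf (nat_lit 22300746693912197627766379008614000253735424))) (.leaf (nat_lit 22300745198901410961445889176542911787995720))))) (.node (.node (.node (.node (.leaf (nat_lit 22300755834991312592545944188171489369915401)) (.leaf (nat_lit 22300757161907113817699904655346897934090312))) (.leaf (nat_lit 22300745201131843566189412268628896376684609))) (.node (.node (.leaf (nat_lit 22300757351467228131892334385632853056586313)) (.leaf (nat_lit 22300745364725332574741145323877675741253632))) (.leaf (nat_lit 22300757182357478305861192061112341206437888)))) (.node (.node (.node (.leaf (nat_lit 22300756019282358074400410571370240395182592)) (.leaf (nat_lit 22300745201173040839472210241498693807374337))) (.leaf (nat_lit 22300757351425949021276976910518830435139593))) (.node (.leaf (nat_lit 22300755834950817078292704521610501424415232)) (.leaf (nat_lit 22300745219304891101246024238011284814299712)))))) (.node (.node (.node (.node (.node (.leaf (nat_lit 22300746696873439333386770087724159730975240)) (.leaf (nat_lit 22300757182356854383783948715694828818530817))) (.leaf (nat_lit 22300755853164975518852251810267998367780865))) (.node (.node (.leaf (nat_lit 22300746717607767636060603025939815746245193)) (.leaf (nat_lit 22300746693912197628036217852254424972661248))) (.leaf (nat_lit 22300755832395788087131384401839587005039105)))) (.node (.node (.node (.leaf (nat_lit 22300755832679117878079221588908344334127689)) (.leaf (nat_lit 22300755853128936589090549798122967911367232))) (.leaf (nat_lit 22300755832724753318993071422419339191554632))) (.node (.leaf (nat_lit 22300745219340385455903686656021372294169088)) (.leaf (nat_lit 22300746696879145018710743078524893718938185))))) (.node (.node (.node (.node (.leaf (nat_lit 22300746717323814036707529140590258950279689)) (.leaf (nat_lit 22300745219624972858158615663602010532348480))) (.leaf (nat_lit 22300745367285343039006387129048963114598464))) (.node (.node (.leaf (nat_lit 22300755832400858689877094620537188564340737)) (.leaf (nat_lit 22300756019282426313730055512494188588699712))) (.leaf (nat_lit 22300745388415175698286258699409728513015816)))) (.node (.node (.node (.leaf (nat_lit 22300757185313728656661640945446913545867849)) (.leaf (nat_lit 22300746715046390444549524384555208886190145))) (.leaf (nat_lit 22300757164178824181474267695237884457025544))) (.node (.leaf (nat_lit 22300746527759262655574261425983442297065472)) (.leaf (nat_lit 22300745365008720399196623314460329874853888)))))))) (.node (.node (.node (.node (.node (.node (.node (.leaf (nat_lit 22300745198896430731085169981018562801729544)) (.leaf (nat_lit 22300745219629409654602218356969339063898624))) (.leaf (nat_lit 22300745219305595643568724719948488794702400))) (.node (.node (.leaf (nat_lit 22300757348876071231908055590181403623460937)) (.leaf (nat_lit 22300745201456371870741276602534093448843785))) (.leaf (nat_lit 22300745367280906109576221911620411724136512)))) (.node (.node (.node (.leaf (nat_lit 22300746527758709472879934058951506732810304)) (.leaf (nat_lit 22300745198895707774102162899136148249285192))) (.leaf (nat_lit 22300745201451925187702311733241660687290889))) (.node (.node (.leaf (nat_lit 22300746717647687468824530873109763443654664)) (.leaf (nat_lit 22300746715052174274805348049756984296116809))) (.leaf (nat_lit 22300755998548734179324896398673514105704448))))) (.node (.node (.node (.node (.leaf (nat_lit 22300745364729837264459302156355852793319424)) (.leaf (nat_lit 22300755853453445393966445776841177091576385))) (.leaf (nat_lit 22300746530360471805483003317259801953861632))) (.node (.node (.leaf (nat_lit 22300745367280272303921143142285350606733888)) (.leaf (nat_lit 22300755832679187205446900192867975038238784))) (.leaf (nat_lit 22300746696878431948020839750139638938862080)))) (.node (.node (.node (.leaf (nat_lit 22300745198855151598752239531961240757731392)) (.leaf (nat_lit 22300757182356854383783948715699776620892233))) (.leaf (nat_lit 22300755855724997124610977718081703471222848))) (.node (.leaf (nat_lit 22300755853165056142119948842222189973373440)) (.leaf (nat_lit 22300746693912752246929160696393567402229760)))))) (.node (.node (.node (.node (.node (.leaf (nat_lit 22300745198895707909804149435491014670549512)) (.leaf (nat_lit 22300756001109319067106531152364137334440001))) (.leaf (nat_lit 22300745219346079841963961746614137430999041))) (.node (.node (.leaf (nat_lit 22300745201131853317082850902571730736283712)) (.leaf (nat_lit 22300755998837767184174994773249887282663488))) (.leaf (nat_lit 22300755834955809847976239978253176147284032)))) (.node (.node (.node (.leaf (nat_lit 22300745219629409657322301451102735743058496)) (.leaf (nat_lit 22300757164183805630134758161550695326548033))) (.leaf (nat_lit 22300746548533510807937563731548040203342409))) (.node (.leaf (nat_lit 22300745198855220926076743511105556055364169)) (.leaf (nat_lit 22300746527799827477237186238078898174693961))))) (.node (.node (.node (.node (.leaf (nat_lit 22300757351431724166572588121873245001781833)) (.leaf (nat_lit 22300745198895716439984668219359234610954305))) (.leaf (nat_lit 22300757161912175756943107357631051592892425))) (.node (.node (.leaf (nat_lit 22300746696879145018710744213435848107266633)) (.leaf (nat_lit 22300746693912208945994419327096294702612480))) (.leaf (nat_lit 22300745364730391883319798183951046841205249)))) (.node (.node (.node (.leaf (nat_lit 22300745367280984099835885544363183619444736)) (.leaf (nat_lit 22300745201172487458514492191212928447578176))) (.leaf (nat_lit 22300745201167415639933623812654674128929281))) (.node (.leaf (nat_lit 22300746548533590016756674586522124894371841)) (.leaf (nat_lit 22300746717648322704072825292437978073039433))))))) (.node (.node (.node (.node (.node (.node (.leaf (nat_lit 22300745364724776565847962572333610214395904)) (.leaf (nat_lit 22300756022244223873841746014331836693516872))) (.leaf (nat_lit 22300745364689917588477340701684676165894656))) (.node (.node (.leaf (nat_lit 22300745198860222201460779412413849404440640)) (.leaf (nat_lit 22300746717602697033660280278042839726723145))) (.leaf (nat_lit 22300755998548734181742748035650972641661440)))) (.node (.node (.node (.leaf (nat_lit 22300755832679832191242627649291593812541960)) (.leaf (nat_lit 22300755853128858601621814990618892798267904))) (.leaf (nat_lit 22300745388415185580083096863193249494630408))) (.node (.node (.leaf (nat_lit 22300757161582664433941099212246032601842176)) (.leaf (nat_lit 22300745201451925188046527995671478355886656))) (.leaf (nat_lit 22300755853164975521270694897947173812441089))))) (.node (.node (.node (.node (.leaf (nat_lit 22300746696874074416309831313839861757411913)) (.leaf (nat_lit 22300746530354857902147275239192201236090880))) (.leaf (nat_lit 22300755853128847477047969503606274229834313))) (.node (.node (.leaf (nat_lit 22300757161628311171397281908627671655415872)) (.leaf (nat_lit 22300746696873439333387360383252424986460680))) (.leaf (nat_lit 22300746696874074573432999227658888028623433)))) (.node (.node (.node (.leaf (nat_lit 22300757161912808209200924394556103164198976)) (.leaf (nat_lit 22300746548533510807936973436018539225976832))) (.leaf (nat_lit 22300745201172416915274560049633187988504577))) (.node (.leaf (nat_lit 22300745219629409637715035654033041659265600)) (.leaf (nat_lit 22300755832725377243535520192146498864284161)))))) (.node (.node (.node (.node (.node (.leaf (nat_lit 22300745219624418261021007726704658797822528)) (.leaf (nat_lit 22300745219630043462977380220437255694844480))) (.leaf (nat_lit 22300745388415264982331602478744367467106888))) (.node (.node (.leaf (nat_lit 22300757182351861771606027285916026444972545)) (.leaf (nat_lit 22300745219624339054619748367125569616515145))) (.leaf (nat_lit 22300746530359849099618640704703921850941505)))) (.node (.node (.node (.leaf (nat_lit 22300746717607677263675075714154665888448577)) (.leaf (nat_lit 22300745201172408385396715447589174046097472))) (.leaf (nat_lit 22300746717643260769669975457207256126620233))) (.node (.leaf (nat_lit 22300746715047113423297937322901121246728777)) (.leaf (nat_lit 22300745219299821719860187818095667851825664))))) (.node (.node (.node (.node (.leaf (nat_lit 22300755832679109212465889899766092581081673)) (.leaf (nat_lit 22300745198895785761911508461513356500832840))) (.leaf (nat_lit 22300745219629409635297184015080860239827017))) (.node (.node (.leaf (nat_lit 22300757164184438082133004268859783591002120)) (.leaf (nat_lit 22300757351431733915387584977374003815813193))) (.leaf (nat_lit 22300757164178734872986628181195160530489865)))) (.node (.node (.node (.leaf (nat_lit 22300746717642616866418969378244534873358400)) (.leaf (nat_lit 22300745364724766662058389380613254242635784))) (.leaf (nat_lit 22300757161907747490978104218418601691189833))) (.node (.leaf (nat_lit 22300745219299821717140178671102699172532736)) (.leaf (nat_lit 22300755834950817078292639958037029766337097))))))))) (.node (.node (.node (.node (.node (.node (.node (.node (.leaf (nat_lit 22300745198855865909464736214502292878266376)) (.leaf (nat_lit 22300745201126850801388220356998515583390281))) (.leaf (nat_lit 22300755832719682716629348276055150384157256))) (.node (.node (.leaf (nat_lit 22300746715051461046950437304377261385056328)) (.leaf (nat_lit 22300745219304891103399423354199834458587712))) (.leaf (nat_lit 22300757330698040698054666039414872449520200)))) (.node (.node (.node (.leaf (nat_lit 22300745385458390574360507038148834734899712)) (.leaf (nat_lit 22300746530360471803065077765273958265946624))) (.leaf (nat_lit 22300745367285976711977133678521980876488768))) (.node (.node (.leaf (nat_lit 22300757182356853303340152367042998537814529)) (.leaf (nat_lit 22300755855719926522210130496977173469204544))) (.leaf (nat_lit 22300745219340464526569958127745768504951296))))) (.node (.node (.node (.node (.leaf (nat_lit 22300745201173130125898124756504378395885632)) (.leaf (nat_lit 22300757161583219186124016480040853044236288))) (.leaf (nat_lit 22300757351471575757924325981529362686574592))) (.node (.node (.leaf (nat_lit 22300746530355411084879443919380673118371841)) (.leaf (nat_lit 22300755834997007118799194606862359605809153))) (.leaf (nat_lit 22300745201131853317120620593082808884302345)))) (.node (.node (.node (.leaf (nat_lit 22300757164184438082392060995730449082122248)) (.leaf (nat_lit 22300745219340464526872115651839417861276160))) (.leaf (nat_lit 22300756001110031056714437261722421311832128))) (.node (.leaf (nat_lit 22300757351471575755808697726752679627067392)) (.leaf (nat_lit 22300746527764323376215589501023611703824384)))))) (.node (.node (.node (.node (.node (.leaf (nat_lit 22300755832679109369626321371590387625365512)) (.leaf (nat_lit 22300746717318020474867443326227988948746248))) (.leaf (nat_lit 22300745365008730302447089401819718196953673))) (.node (.node (.leaf (nat_lit 22300745198895707907121846552243428864819720)) (.leaf (nat_lit 22300746530355401202822959760061756182921728))) (.leaf (nat_lit 22300755834951371678193487148722671625175048)))) (.node (.node (.node (.leaf (nat_lit 22300755832395164165653225711541884142227457)) (.leaf (nat_lit 22300755832400226099753854488741499637862401))) (.leaf (nat_lit 22300756022244293200901788411484453478629961))) (.node (.leaf (nat_lit 22300745219300525043585662288650805480260160)) (.leaf (nat_lit 22300757351142075907978520684106251608822281))))) (.node (.node (.node (.node (.leaf (nat_lit 22300745365009365382876729415617419499536904)) (.leaf (nat_lit 22300757327741235749852230644889710653083648))) (.leaf (nat_lit 22300745365008730300029236609946650511704649))) (.node (.node (.leaf (nat_lit 22300755998548742845174945802824727073656832)) (.leaf (nat_lit 22300745201127494701871993448137927025496128))) (.leaf (nat_lit 22300745367285420876936747760168339583042121)))) (.node (.node (.node (.leaf (nat_lit 22300755998508168279607683578131605509640256)) (.leaf (nat_lit 22300745221901030845321765329013340362805769))) (.leaf (nat_lit 22300745365008720398926783333339452259176512))) (.node (.leaf (nat_lit 22300745219624339035314122736704131776680009)) (.leaf (nat_lit 22300755832724822779034437450645591453630472))))))) (.node (.node (.node (.node (.node (.node (.leaf (nat_lit 22300757185313093573772226595997772456923144)) (.leaf (nat_lit 22300755853453445393966444788270272558137353))) (.leaf (nat_lit 22300745219346079844344034453980438618964033))) (.node (.node (.leaf (nat_lit 22300756022244302949679016711447124084035657)) (.leaf (nat_lit 22300757348871079702889373092161453144674889))) (.leaf (nat_lit 22300746551494821818625376197540740052553728)))) (.node (.node (.node (.leaf (nat_lit 22300757327741234511916839810346761964257865)) (.leaf (nat_lit 22300745219630043462977370854881314350600265))) (.leaf (nat_lit 22300745198896430728705096122700531148816392))) (.node (.node (.leaf (nat_lit 22300757161907827973702880358295513411355144)) (.leaf (nat_lit 22300745198855775675237429262800492352016961))) (.leaf (nat_lit 22300757351467228129738935125334054565614152))))) (.node (.node (.node (.node (.leaf (nat_lit 22300755832395164162933731904131614212362241)) (.leaf (nat_lit 22300745221901744075253916386466700470780424))) (.leaf (nat_lit 22300745201126771592866028294915785071301193))) (.node (.node (.leaf (nat_lit 22300757348875427345884686169492376149557824)) (.leaf (nat_lit 22300745201451301266266728290114268519469120))) (.leaf (nat_lit 22300746530354768748746366121588673233289281)))) (.node (.node (.node (.leaf (nat_lit 22300745365013791001332410531536242531635264)) (.leaf (nat_lit 22300755853124410682719988165464775754514496))) (.leaf (nat_lit 22300746717607053341933056111360581262376969))) (.node (.leaf (nat_lit 22300745221901039513324023894467905773932617)) (.leaf (nat_lit 22300745201173131342076919510890814590156801)))))) (.node (.node (.node (.node (.node (.leaf (nat_lit 22300745198860212319657955295940940723650624)) (.leaf (nat_lit 22300755998548654972885277302762194084036609))) (.leaf (nat_lit 22300756022244301864064211751938455175729225))) (.node (.node (.leaf (nat_lit 22300745388415266067913931927331515272303177)) (.leaf (nat_lit 22300746527763699435136076075776774903173120))) (.leaf (nat_lit 22300757164178814103571706072734245087871040)))) (.node (.node (.node (.leaf (nat_lit 22300755853449019622926307736432085062127624)) (.leaf (nat_lit 22300745198576258720304882694438351229976576))) (.leaf (nat_lit 22300755832724753318993072557327063764210248))) (.node (.leaf (nat_lit 22300757327741789128661704270794815113822208)) (.leaf (nat_lit 22300745201168059521079360199669133233651776))))) (.node (.node (.node (.node (.leaf (nat_lit 22300757182356932376424201546909500447916608)) (.leaf (nat_lit 22300755853448305334248371763952681417441856))) (.leaf (nat_lit 22300755832395155480427970873162515813269504))) (.node (.node (.leaf (nat_lit 22300757164179367479732091351288430320714240)) (.leaf (nat_lit 22300757164184517291211762272014249169813512))) (.leaf (nat_lit 22300745198901501333788313202576484898963528)))) (.node (.node (.node (.leaf (nat_lit 22300755998838402266720836043815849256058888)) (.leaf (nat_lit 22300746693912197782778722762923111161794561))) (.leaf (nat_lit 22300757161587735038760444679068484397694977))) (.node (.leaf (nat_lit 22300745198860213690579908672559030852390920)) (.leaf (nat_lit 22300755853123777010089924140510586230538241)))))))) (.node (.node (.node (.node (.node (.node (.node (.leaf (nat_lit 22300757351431643545420502034788892750643209)) (.leaf (nat_lit 22300746530359839196060622447710964508037641))) (.leaf (nat_lit 22300745198571821805390680596584573178220545))) (.node (.node (.leaf (nat_lit 22300755832395164143935725204417510470090752)) (.leaf (nat_lit 22300746530360471805482928377361444179578880))) (.leaf (nat_lit 22300755998513238879321488251421257726198345)))) (.node (.node (.node (.leaf (nat_lit 22300745219304891101246024077848242573804096)) (.leaf (nat_lit 22300745198860222201153151276058398660268617))) (.leaf (nat_lit 22300755834996384415961353844391689257484360))) (.node (.node (.leaf (nat_lit 22300745385459095119101060454139162452296256)) (.leaf (nat_lit 22300745385458391792655502907466049776554057))) (.leaf (nat_lit 22300755853449019622926316815688384085495816))))) (.node (.node (.node (.node (.leaf (nat_lit 22300757351466594461636947395126259043307593)) (.leaf (nat_lit 22300745198895716437566816415435848746795073))) (.leaf (nat_lit 22300745219300444400975153278046111629873737))) (.node (.node (.leaf (nat_lit 22300746551489127294444726856712174149308480)) (.leaf (nat_lit 22300755832684257807847814263395466457907264))) (.leaf (nat_lit 22300757185313728656359998633432110350766153)))) (.node (.node (.node (.leaf (nat_lit 22300757327736718526256070139874303505629696)) (.leaf (nat_lit 22300745201131852076762138363540490672181833))) (.leaf (nat_lit 22300746551494189233683143784077488080326656))) (.node (.leaf (nat_lit 22300757164184438082392133629785789069033984)) (.leaf (nat_lit 22300757327741790344836356436598109836967944)))))) (.node (.node (.node (.node (.node (.leaf (nat_lit 22300757351431643543002058962589812512522249)) (.leaf (nat_lit 22300746530360471805520708336366724589846536))) (.leaf (nat_lit 22300757348871079857669584158778765103895112))) (.node (.node (.leaf (nat_lit 22300746717602697033659689982233039367082057)) (.leaf (nat_lit 22300757164179367479991148203904185866948608))) (.leaf (nat_lit 22300757351425949021276978063440335041986569)))) (.node (.node (.node (.leaf (nat_lit 22300757330697405615131679897030073082184192)) (.leaf (nat_lit 22300755835280406389099271443189682898206728))) (.leaf (nat_lit 22300756022244302947261165072221714025583176))) (.node (.leaf (nat_lit 22300757161583228937319095266310245373218816)) (.leaf (nat_lit 22300746551494833114833620117385447739789897))))) (.node (.node (.node (.node (.leaf (nat_lit 22300745367280272439362827799050850723430976)) (.leaf (nat_lit 22300757161907827973707592348488698341621832))) (.leaf (nat_lit 22300745221895968908505259481712114559615496))) (.node (.node (.leaf (nat_lit 22300746696874074416309831169729690203357769)) (.leaf (nat_lit 22300755998508734034865473793027472904949761))) (.leaf (nat_lit 22300746715052174276921040886151834222498376)))) (.node (.node (.node (.leaf (nat_lit 22300746715046390444549524384524422560612928)) (.leaf (nat_lit 22300756001109953066529150792440460483760640))) (.leaf (nat_lit 22300755832724744791575073893127706501976072))) (.node (.leaf (nat_lit 22300755853448296804063140974129252170465289)) (.leaf (nat_lit 22300757161587657048537452054118118512132097))))))) (.node (.node (.node (.node (.node (.node (.leaf (nat_lit 22300757351466583145750601185960808629141512)) (.leaf (nat_lit 22300745219305524909318953333736721910600192))) (.leaf (nat_lit 22300755853448929391120993572199021815009288))) (.node (.node (.leaf (nat_lit 22300746715052174277223264270569774896124489)) (.leaf (nat_lit 22300746530354768593697414657012974565233161))) (.leaf (nat_lit 22300746717602697188365005245794309038674505)))) (.node (.node (.node (.leaf (nat_lit 22300746527759253992411902754687365796892672)) (.leaf (nat_lit 22300757182356854386537687894395166751195656))) (.leaf (nat_lit 22300745388420336670314844842690100318212680))) (.node (.node (.leaf (nat_lit 22300746715052174277223198536064738038944329)) (.leaf (nat_lit 22300757185318798178283386483486908714619464))) (.leaf (nat_lit 22300746530354778499942027115173206493757505))))) (.node (.node (.node (.node (.leaf (nat_lit 22300746717602697033358048949240529271427593)) (.leaf (nat_lit 22300757161623785090946189202458861308772864))) (.leaf (nat_lit 22300757161912175754558312283781872170041353))) (.node (.node (.leaf (nat_lit 22300756001104326457652906762519666493755400)) (.leaf (nat_lit 22300745388415175678947576501356343215816712))) (.leaf (nat_lit 22300757348875437229797734815628541053632584)))) (.node (.node (.node (.leaf (nat_lit 22300746717602687282464027961792065527878217)) (.leaf (nat_lit 22300755832724753456810679568739794562613256))) (.leaf (nat_lit 22300757185318154275070676869795216472674312))) (.node (.leaf (nat_lit 22300755853453455142748902721846173002367552)) (.leaf (nat_lit 22300746527799262995582082758362694630244865)))))) (.node (.node (.node (.node (.node (.leaf (nat_lit 22300757348876061151539764938826896101081664)) (.leaf (nat_lit 22300755832679832188824777162983840069714440))) (.leaf (nat_lit 22300746717643261852862860225587158131675721))) (.node (.node (.leaf (nat_lit 22300745219346079844381813221184461210648641)) (.leaf (nat_lit 22300755998837757297584355252038517401849920))) (.leaf (nat_lit 22300746696874074418727681800147615499715145)))) (.node (.node (.node (.leaf (nat_lit 22300746551489117390929062450208225926320136)) (.leaf (nat_lit 22300755853449019625344160384472126574563336))) (.leaf (nat_lit 22300745364730391883319206737470433586577473))) (.node (.leaf (nat_lit 22300755853454090228047304756981152339988488)) (.leaf (nat_lit 22300757185318799261476273431328104074220105))))) (.node (.node (.node (.node (.leaf (nat_lit 22300757161582586443718688650204927712559105)) (.leaf (nat_lit 22300755853448306552543367633516736836276736))) (.leaf (nat_lit 22300755853129571826411298694058621314273280))) (.node (.node (.leaf (nat_lit 22300745365013790999179683442162954426912832)) (.leaf (nat_lit 22300746548533512026275143909810102410969096))) (.leaf (nat_lit 22300756022244293200864018703024869370794569)))) (.node (.node (.node (.leaf (nat_lit 22300746551494197896845576363666125325897728)) (.leaf (nat_lit 22300746715052174274767642922850154583200329))) (.leaf (nat_lit 22300755853170046121253756194338222270316545))) (.node (.leaf (nat_lit 22300746528083771325059900268211079804649536)) (.leaf (nat_lit 22300746693917269468112043073150639212072961)))))))))))))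

noncomputable def c_P0 : NT := (.node (.node (.node (.node (.node (.node (.node (.node (.node (.node (.node (.node (.leaf (nat_lit 0)) (.leaf (nat_lit 2810))) (.leaf (nat_lit 1192))) (.node (.node (.leaf (nat_lit 559)) (.leaf (nat_lit 3990))) (.leaf (nat_lit 1941)))) (.node (.node (.node (.leaf (nat_lit 267)) (.leaf (nat_lit 3322))) (.leaf (nat_lit 1544))) (.node (.node (.leaf (nat_lit 868)) (.leaf (nat_lit 4994))) (.leaf (nat_lit 2370))))) (.node (.node (.node (.node (.leaf (nat_lit 131)) (.leaf (nat_lit 3085))) (.leaf (nat_lit 1361))) (.node (.node (.leaf (nat_lit 714)) (.leaf (nat_lit 4414))) (.leaf (nat_lit 2148)))) (.node (.node (.node (.leaf (nat_lit 412)) (.leaf (nat_lit 3650))) (.leaf (nat_lit 1742))) (.node (.leaf (nat_lit 1025)) (.leaf (nat_lit 2592)))))) (.node (.node (.node (.node (.node (.leaf (nat_lit 64)) (.leaf (nat_lit 2944))) (.leaf (nat_lit 1275))) (.node (.node (.leaf (nat_lit 639)) (.leaf (nat_lit 4195))) (.leaf (nat_lit 2048)))) (.node (.node (.node (.leaf (nat_lit 338)) (.leaf (nat_lit 3498))) (.leaf (nat_lit 1637))) (.node (.leaf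 (nat_lit 944)) (.leaf (nat_lit 2478))))) (.node (.node (.node (.node (.leaf (nat_lit 198)) (.leaf (nat_lit 3196))) (.leaf (nat_lit 1454))) (.node (.node (.leaf (nat_lit 790)) (.leaf (nat_lit 4664))) (.leaf (nat_lit 2258)))) (.node (.node (.node (.leaf (nat_lit 483)) (.leaf (nat_lit 3832))) (.leaf (nat_lit 1839))) (.node (.leaf (nat_lit 1114)) (.leaf (nat_lit 2705))))))) (.node (.node (.node (.node (.node (.node (.leaf (nat_lit 31)) (.leaf (nat_lit 2873))) (.leaf (nat_lit 1230))) (.node (.node (.leaf (nat_lit 599)) (.leaf (nat_lit 4100))) (.leaf (nat_lit 2000)))) (.node (.node (.node (.leaf (nat_lit 302)) (.leaf (nat_lit 3412))) (.leaf (nat_lit 1589))) (.node (.node (.leaf (nat_lit 905)) (.leaf (nat_lit 5264))) (.leaf (nat_lit 2426))))) (.node (.node (.node (.node (.leaf (nat_lit 163)) (.leaf (nat_lit 3134))) (.leaf (nat_lit 1407))) (.node (.node (.leaf (nat_lit 752)) (.leaf (nat_lit 4529))) (.leaf (nat_lit 2197)))) (.node (.node (.node (.leaf (nat_lit 448)) (.leaf (nat_lit 3742))) (.leaf (nat_lit 1784))) (.node (.leaf (nat_lit 1074)) (.leaf (nat_lit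 2644)))))) (.node (.node (.node (.node (.node (.leaf (nat_lit 96)) (.leaf (nat_lit 3011))) (.leaf (nat_lit 1312))) (.node (.node (.leaf (nat_lit 676)) (.leaf (nat_lit 4310))) (.leaf (nat_lit 2103)))) (.node (.node (.node (.leaf (nat_lit 374)) (.leaf (nat_lit 3574))) (.leaf (nat_lit 1688))) (.node (.leaf (nat_lit 986)) (.leaf (nat_lit 2539))))) (.node (.node (.node (.node (.leaf (nat_lit 232)) (.leaf (nat_lit 3261))) (.leaf (nat_lit 1499))) (.node (.node (.leaf (nat_lit 829)) (.leaf (nat_lit 4840))) (.leaf (nat_lit 2312)))) (.node (.node (.node (.leaf (nat_lit 522)) (.leaf (nat_lit 3913))) (.leaf (nat_lit 1884))) (.node (.leaf (nat_lit 1150)) (.leaf (nat_lit 2759)))))))) (.node (.node (.node (.node (.node (.node (.node (.leaf (nat_lit 15)) (.leaf (nat_lit 2835))) (.leaf (nat_lit 1213))) (.node (.node (.leaf (nat_lit 579)) (.leaf (nat_lit 4046))) (.leaf (nat_lit 1969)))) (.node (.node (.node (.leaf (nat_lit 285)) (.leaf (nat_lit 3372))) (.leaf (nat_lit 1570))) (.node (.node (.leaf (nat_lit 885)) (.leaf (nat_lit 5076))) (.leaf (nat_lit 2400))))) (.node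 (.node (.node (.node (.leaf (nat_lit 147)) (.leaf (nat_lit 3105))) (.leaf (nat_lit 1387))) (.node (.node (.leaf (nat_lit 733)) (.leaf (nat_lit 4474))) (.leaf (nat_lit 2173)))) (.node (.node (.node (.leaf (nat_lit 429)) (.leaf (nat_lit 3692))) (.leaf (nat_lit 1765))) (.node (.leaf (nat_lit 1048)) (.leaf (nat_lit 2621)))))) (.node (.node (.node (.node (.node (.leaf (nat_lit 80)) (.leaf (nat_lit 2974))) (.leaf (nat_lit 1292))) (.node (.node (.leaf (nat_lit 657)) (.leaf (nat_lit 4241))) (.leaf (nat_lit 2073)))) (.node (.node (.node (.leaf (nat_lit 356)) (.leaf (nat_lit 3534))) (.leaf (nat_lit 1666))) (.node (.leaf (nat_lit 968)) (.leaf (nat_lit 2511))))) (.node (.node (.node (.node (.leaf (nat_lit 215)) (.leaf (nat_lit 3233))) (.leaf (nat_lit 1476))) (.node (.node (.leaf (nat_lit 806)) (.leaf (nat_lit 4734))) (.leaf (nat_lit 2287)))) (.node (.node (.node (.leaf (nat_lit 503)) (.leaf (nat_lit 3877))) (.leaf (nat_lit 1861))) (.node (.leaf (nat_lit 1132)) (.leaf (nat_lit 2735))))))) (.node (.node (.node (.node (.node (.node (.leaf (nat_lit 47)) (.leaf (nat_lit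 2905))) (.leaf (nat_lit 1250))) (.node (.node (.leaf (nat_lit 620)) (.leaf (nat_lit 4146))) (.leaf (nat_lit 2023)))) (.node (.node (.node (.leaf (nat_lit 321)) (.leaf (nat_lit 3449))) (.leaf (nat_lit 1618))) (.node (.node (.leaf (nat_lit 925)) (.leaf (nat_lit 5390))) (.leaf (nat_lit 2447))))) (.node (.node (.node (.node (.leaf (nat_lit 181)) (.leaf (nat_lit 3171))) (.leaf (nat_lit 1431))) (.node (.node (.leaf (nat_lit 771)) (.leaf (nat_lit 4606))) (.leaf (nat_lit 2224)))) (.node (.node (.node (.leaf (nat_lit 465)) (.leaf (nat_lit 3795))) (.leaf (nat_lit 1809))) (.node (.leaf (nat_lit 1095)) (.leaf (nat_lit 2674)))))) (.node (.node (.node (.node (.node (.leaf (nat_lit 114)) (.leaf (nat_lit 3046))) (.leaf (nat_lit 1334))) (.node (.node (.leaf (nat_lit 697)) (.leaf (nat_lit 4365))) (.leaf (nat_lit 2124)))) (.node (.node (.node (.leaf (nat_lit 391)) (.leaf (nat_lit 3613))) (.leaf (nat_lit 1717))) (.node (.leaf (nat_lit 1007)) (.leaf (nat_lit 2571))))) (.node (.node (.node (.node (.leaf (nat_lit 249)) (.leaf (nat_lit 3291))) (.leaf (nat_lit 1521))) (.node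 (.node (.leaf (nat_lit 847)) (.leaf (nat_lit 4915))) (.leaf (nat_lit 2346)))) (.node (.node (.node (.leaf (nat_lit 539)) (.leaf (nat_lit 3948))) (.leaf (nat_lit 1915))) (.node (.leaf (nat_lit 1167)) (.leaf (nat_lit 2785))))))))) (.node (.node (.node (.node (.node (.node (.node (.node (.leaf (nat_lit 7)) (.leaf (nat_lit 2823))) (.leaf (nat_lit 1202))) (.node (.node (.leaf (nat_lit 570)) (.leaf (nat_lit 4018))) (.leaf (nat_lit 1956)))) (.node (.node (.node (.leaf (nat_lit 275)) (.leaf (nat_lit 3353))) (.leaf (nat_lit 1560))) (.node (.node (.leaf (nat_lit 876)) (.leaf (nat_lit 5042))) (.leaf (nat_lit 2381))))) (.node (.node (.node (.node (.leaf (nat_lit 139)) (.leaf (nat_lit 3094))) (.leaf (nat_lit 1370))) (.node (.node (.leaf (nat_lit 723)) (.leaf (nat_lit 4443))) (.leaf (nat_lit 2160)))) (.node (.node (.node (.leaf (nat_lit 421)) (.leaf (nat_lit 3674))) (.leaf (nat_lit 1754))) (.node (.leaf (nat_lit 1037)) (.leaf (nat_lit 2605)))))) (.node (.node (.node (.node (.node (.leaf (nat_lit 72)) (.leaf (nat_lit 2963))) (.leaf (nat_lit 1284))) (.node (.node (.leaf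 (nat_lit 648)) (.leaf (nat_lit 4216))) (.leaf (nat_lit 2060)))) (.node (.node (.node (.leaf (nat_lit 348)) (.leaf (nat_lit 3516))) (.leaf (nat_lit 1649))) (.node (.leaf (nat_lit 957)) (.leaf (nat_lit 2498))))) (.node (.node (.node (.node (.leaf (nat_lit 206)) (.leaf (nat_lit 3213))) (.leaf (nat_lit 1463))) (.node (.node (.leaf (nat_lit 798)) (.leaf (nat_lit 4706))) (.leaf (nat_lit 2268)))) (.node (.node (.node (.leaf (nat_lit 493)) (.leaf (nat_lit 3862))) (.leaf (nat_lit 1849))) (.node (.leaf (nat_lit 1122)) (.leaf (nat_lit 2715))))))) (.node (.node (.node (.node (.node (.node (.leaf (nat_lit 39)) (.leaf (nat_lit 2888))) (.leaf (nat_lit 1241))) (.node (.node (.leaf (nat_lit 609)) (.leaf (nat_lit 4124))) (.leaf (nat_lit 2009)))) (.node (.node (.node (.leaf (nat_lit 311)) (.leaf (nat_lit 3427))) (.leaf (nat_lit 1600))) (.node (.node (.leaf (nat_lit 916)) (.leaf (nat_lit 5333))) (.leaf (nat_lit 2439))))) (.node (.node (.node (.node (.leaf (nat_lit 173)) (.leaf (nat_lit 3155))) (.leaf (nat_lit 1417))) (.node (.node (.leaf (nat_lit 760)) (.leaf (nat_lit 4554)))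 (.leaf (nat_lit 2207)))) (.node (.node (.node (.leaf (nat_lit 457)) (.leaf (nat_lit 3768))) (.leaf (nat_lit 1793))) (.node (.leaf (nat_lit 1084)) (.leaf (nat_lit 2663)))))) (.node (.node (.node (.node (.node (.leaf (nat_lit 105)) (.leaf (nat_lit 3032))) (.leaf (nat_lit 1323))) (.node (.node (.leaf (nat_lit 686)) (.leaf (nat_lit 4330))) (.leaf (nat_lit 2113)))) (.node (.node (.node (.leaf (nat_lit 383)) (.leaf (nat_lit 3596))) (.leaf (nat_lit 1704))) (.node (.leaf (nat_lit 999)) (.leaf (nat_lit 2556))))) (.node (.node (.node (.node (.leaf (nat_lit 240)) (.leaf (nat_lit 3279))) (.leaf (nat_lit 1512))) (.node (.node (.leaf (nat_lit 838)) (.leaf (nat_lit 4892))) (.leaf (nat_lit 2330)))) (.node (.node (.node (.leaf (nat_lit 531)) (.leaf (nat_lit 3934))) (.leaf (nat_lit 1896))) (.node (.leaf (nat_lit 1159)) (.leaf (nat_lit 2770)))))))) (.node (.node (.node (.node (.node (.node (.node (.leaf (nat_lit 23)) (.leaf (nat_lit 2857))) (.leaf (nat_lit 1222))) (.node (.node (.leaf (nat_lit 589)) (.leaf (nat_lit 4074))) (.leaf (nat_lit 1985)))) (.node (.node (.node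 (.leaf (nat_lit 294)) (.leaf (nat_lit 3388))) (.leaf (nat_lit 1579))) (.node (.node (.leaf (nat_lit 895)) (.leaf (nat_lit 5122))) (.leaf (nat_lit 2412))))) (.node (.node (.node (.node (.leaf (nat_lit 155)) (.leaf (nat_lit 3122))) (.leaf (nat_lit 1397))) (.node (.node (.leaf (nat_lit 744)) (.leaf (nat_lit 4507))) (.leaf (nat_lit 2185)))) (.node (.node (.node (.leaf (nat_lit 439)) (.leaf (nat_lit 3717))) (.leaf (nat_lit 1775))) (.node (.leaf (nat_lit 1059)) (.leaf (nat_lit 2633)))))) (.node (.node (.node (.node (.node (.leaf (nat_lit 88)) (.leaf (nat_lit 2989))) (.leaf (nat_lit 1302))) (.node (.node (.leaf (nat_lit 667)) (.leaf (nat_lit 4271))) (.leaf (nat_lit 2085)))) (.node (.node (.node (.leaf (nat_lit 366)) (.leaf (nat_lit 3557))) (.leaf (nat_lit 1678))) (.node (.leaf (nat_lit 977)) (.leaf (nat_lit 2524))))) (.node (.node (.node (.node (.leaf (nat_lit 223)) (.leaf (nat_lit 3247))) (.leaf (nat_lit 1487))) (.node (.node (.leaf (nat_lit 817)) (.leaf (nat_lit 4778))) (.leaf (nat_lit 2297)))) (.node (.node (.node (.leaf (nat_lit 513)) (.leaf (nat_lit 3892)))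 (.leaf (nat_lit 1870))) (.node (.leaf (nat_lit 1142)) (.leaf (nat_lit 2745))))))) (.node (.node (.node (.node (.node (.node (.leaf (nat_lit 55)) (.leaf (nat_lit 2922))) (.leaf (nat_lit 1263))) (.node (.node (.leaf (nat_lit 630)) (.leaf (nat_lit 4172))) (.leaf (nat_lit 2038)))) (.node (.node (.node (.leaf (nat_lit 330)) (.leaf (nat_lit 3470))) (.leaf (nat_lit 1629))) (.node (.node (.leaf (nat_lit 936)) (.leaf (nat_lit 5550))) (.leaf (nat_lit 2464))))) (.node (.node (.node (.node (.leaf (nat_lit 190)) (.leaf (nat_lit 3187))) (.leaf (nat_lit 1444))) (.node (.node (.leaf (nat_lit 781)) (.leaf (nat_lit 4636))) (.leaf (nat_lit 2243)))) (.node (.node (.node (.leaf (nat_lit 473)) (.leaf (nat_lit 3816))) (.leaf (nat_lit 1823))) (.node (.leaf (nat_lit 1106)) (.leaf (nat_lit 2693)))))) (.node (.node (.node (.node (.node (.leaf (nat_lit 123)) (.leaf (nat_lit 3054))) (.leaf (nat_lit 1349))) (.node (.node (.leaf (nat_lit 706)) (.leaf (nat_lit 4384))) (.leaf (nat_lit 2136)))) (.node (.node (.node (.leaf (nat_lit 403)) (.leaf (nat_lit 3635))) (.leaf (nat_lit 1728)))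 (.node (.leaf (nat_lit 1016)) (.leaf (nat_lit 2584))))) (.node (.node (.node (.node (.leaf (nat_lit 259)) (.leaf (nat_lit 3308))) (.leaf (nat_lit 1532))) (.node (.node (.leaf (nat_lit 857)) (.leaf (nat_lit 4964))) (.leaf (nat_lit 2356)))) (.node (.node (.node (.leaf (nat_lit 550)) (.leaf (nat_lit 3977))) (.leaf (nat_lit 1930))) (.node (.leaf (nat_lit 1181)) (.leaf (nat_lit 2797)))))))))) (.node (.node (.node (.node (.node (.node (.node (.node (.node (.leaf (nat_lit 3)) (.leaf (nat_lit 2817))) (.leaf (nat_lit 1196))) (.node (.node (.leaf (nat_lit 566)) (.leaf (nat_lit 4001))) (.leaf (nat_lit 1949)))) (.node (.node (.node (.leaf (nat_lit 271)) (.leaf (nat_lit 3330))) (.leaf (nat_lit 1551))) (.node (.node (.leaf (nat_lit 872)) (.leaf (nat_lit 5004))) (.leaf (nat_lit 2376))))) (.node (.node (.node (.node (.leaf (nat_lit 135)) (.leaf (nat_lit 3089))) (.leaf (nat_lit 1365))) (.node (.node (.leaf (nat_lit 718)) (.leaf (nat_lit 4426))) (.leaf (nat_lit 2152)))) (.node (.node (.node (.leaf (nat_lit 416)) (.leaf (nat_lit 3663))) (.leaf (nat_lit 1746))) (.node (.leaf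 (nat_lit 1032)) (.leaf (nat_lit 2598)))))) (.node (.node (.node (.node (.node (.leaf (nat_lit 68)) (.leaf (nat_lit 2956))) (.leaf (nat_lit 1279))) (.node (.node (.leaf (nat_lit 644)) (.leaf (nat_lit 4207))) (.leaf (nat_lit 2054)))) (.node (.node (.node (.leaf (nat_lit 343)) (.leaf (nat_lit 3505))) (.leaf (nat_lit 1643))) (.node (.leaf (nat_lit 949)) (.leaf (nat_lit 2483))))) (.node (.node (.node (.node (.leaf (nat_lit 202)) (.leaf (nat_lit 3206))) (.leaf (nat_lit 1459))) (.node (.node (.leaf (nat_lit 794)) (.leaf (nat_lit 4693))) (.leaf (nat_lit 2262)))) (.node (.node (.node (.leaf (nat_lit 487)) (.leaf (nat_lit 3847))) (.leaf (nat_lit 1845))) (.node (.leaf (nat_lit 1118)) (.leaf (nat_lit 2710))))))) (.node (.node (.node (.node (.node (.node (.leaf (nat_lit 35)) (.leaf (nat_lit 2883))) (.leaf (nat_lit 1236))) (.node (.node (.leaf (nat_lit 605)) (.leaf (nat_lit 4115))) (.leaf (nat_lit 2005)))) (.node (.node (.node (.leaf (nat_lit 307)) (.leaf (nat_lit 3417))) (.leaf (nat_lit 1595))) (.node (.node (.leaf (nat_lit 910)) (.leaf (nat_lit 5301))) (.leaf (nat_lit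 2432))))) (.node (.node (.node (.node (.leaf (nat_lit 168)) (.leaf (nat_lit 3148))) (.leaf (nat_lit 1411))) (.node (.node (.leaf (nat_lit 756)) (.leaf (nat_lit 4540))) (.leaf (nat_lit 2203)))) (.node (.node (.node (.leaf (nat_lit 452)) (.leaf (nat_lit 3756))) (.leaf (nat_lit 1789))) (.node (.leaf (nat_lit 1079)) (.leaf (nat_lit 2655)))))) (.node (.node (.node (.node (.node (.leaf (nat_lit 100)) (.leaf (nat_lit 3021))) (.leaf (nat_lit 1317))) (.node (.node (.leaf (nat_lit 682)) (.leaf (nat_lit 4321))) (.leaf (nat_lit 2109)))) (.node (.node (.node (.leaf (nat_lit 378)) (.leaf (nat_lit 3583))) (.leaf (nat_lit 1695))) (.node (.leaf (nat_lit 991)) (.leaf (nat_lit 2549))))) (.node (.node (.node (.node (.leaf (nat_lit 236)) (.leaf (nat_lit 3267))) (.leaf (nat_lit 1504))) (.node (.node (.leaf (nat_lit 834)) (.leaf (nat_lit 4870))) (.leaf (nat_lit 2317)))) (.node (.node (.node (.leaf (nat_lit 527)) (.leaf (nat_lit 3925))) (.leaf (nat_lit 1892))) (.node (.leaf (nat_lit 1155)) (.leaf (nat_lit 2763)))))))) (.node (.node (.node (.node (.node (.node (.node (.leaf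 (nat_lit 19)) (.leaf (nat_lit 2849))) (.leaf (nat_lit 1217))) (.node (.node (.leaf (nat_lit 584)) (.leaf (nat_lit 4056))) (.leaf (nat_lit 1979)))) (.node (.node (.node (.leaf (nat_lit 290)) (.leaf (nat_lit 3384))) (.leaf (nat_lit 1574))) (.node (.node (.leaf (nat_lit 890)) (.leaf (nat_lit 5107))) (.leaf (nat_lit 2407))))) (.node (.node (.node (.node (.leaf (nat_lit 151)) (.leaf (nat_lit 3114))) (.leaf (nat_lit 1391))) (.node (.node (.leaf (nat_lit 737)) (.leaf (nat_lit 4500))) (.leaf (nat_lit 2177)))) (.node (.node (.node (.leaf (nat_lit 434)) (.leaf (nat_lit 3705))) (.leaf (nat_lit 1770))) (.node (.leaf (nat_lit 1054)) (.leaf (nat_lit 2629)))))) (.node (.node (.node (.node (.node (.leaf (nat_lit 84)) (.leaf (nat_lit 2982))) (.leaf (nat_lit 1298))) (.node (.node (.leaf (nat_lit 661)) (.leaf (nat_lit 4251))) (.leaf (nat_lit 2080)))) (.node (.node (.node (.leaf (nat_lit 360)) (.leaf (nat_lit 3545))) (.leaf (nat_lit 1671))) (.node (.leaf (nat_lit 973)) (.leaf (nat_lit 2518))))) (.node (.node (.node (.node (.leaf (nat_lit 219)) (.leaf (nat_lit 3243))) (.leaf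 (nat_lit 1481))) (.node (.node (.leaf (nat_lit 811)) (.leaf (nat_lit 4767))) (.leaf (nat_lit 2293)))) (.node (.node (.node (.leaf (nat_lit 509)) (.leaf (nat_lit 3883))) (.leaf (nat_lit 1865))) (.node (.leaf (nat_lit 1138)) (.leaf (nat_lit 2739))))))) (.node (.node (.node (.node (.node (.node (.leaf (nat_lit 51)) (.leaf (nat_lit 2914))) (.leaf (nat_lit 1257))) (.node (.node (.leaf (nat_lit 625)) (.leaf (nat_lit 4156))) (.leaf (nat_lit 2034)))) (.node (.node (.node (.leaf (nat_lit 326)) (.leaf (nat_lit 3463))) (.leaf (nat_lit 1624))) (.node (.node (.leaf (nat_lit 930)) (.leaf (nat_lit 5518))) (.leaf (nat_lit 2452))))) (.node (.node (.node (.node (.leaf (nat_lit 185)) (.leaf (nat_lit 3176))) (.leaf (nat_lit 1440))) (.node (.node (.leaf (nat_lit 775)) (.leaf (nat_lit 4617))) (.leaf (nat_lit 2236)))) (.node (.node (.node (.leaf (nat_lit 469)) (.leaf (nat_lit 3803))) (.leaf (nat_lit 1816))) (.node (.leaf (nat_lit 1101)) (.leaf (nat_lit 2685)))))) (.node (.node (.node (.node (.node (.leaf (nat_lit 118)) (.leaf (nat_lit 3050))) (.leaf (nat_lit 1342))) (.node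 (.node (.leaf (nat_lit 702)) (.leaf (nat_lit 4371))) (.leaf (nat_lit 2128)))) (.node (.node (.node (.leaf (nat_lit 396)) (.leaf (nat_lit 3623))) (.leaf (nat_lit 1723))) (.node (.leaf (nat_lit 1011)) (.leaf (nat_lit 2578))))) (.node (.node (.node (.node (.leaf (nat_lit 254)) (.leaf (nat_lit 3299))) (.leaf (nat_lit 1525))) (.node (.node (.leaf (nat_lit 852)) (.leaf (nat_lit 4931))) (.leaf (nat_lit 2351)))) (.node (.node (.node (.leaf (nat_lit 544)) (.leaf (nat_lit 3963))) (.leaf (nat_lit 1923))) (.node (.leaf (nat_lit 1176)) (.leaf (nat_lit 2789))))))))) (.node (.node (.node (.node (.node (.node (.node (.node (.leaf (nat_lit 11)) (.leaf (nat_lit 2830))) (.leaf (nat_lit 1208))) (.node (.node (.leaf (nat_lit 575)) (.leaf (nat_lit 4037))) (.leaf (nat_lit 1963)))) (.node (.node (.node (.leaf (nat_lit 280)) (.leaf (nat_lit 3360))) (.leaf (nat_lit 1564))) (.node (.node (.leaf (nat_lit 881)) (.leaf (nat_lit 5059))) (.leaf (nat_lit 2392))))) (.node (.node (.node (.node (.leaf (nat_lit 143)) (.leaf (nat_lit 3100))) (.leaf (nat_lit 1377))) (.node (.node (.leaf (nat_lit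 729)) (.leaf (nat_lit 4458))) (.leaf (nat_lit 2164)))) (.node (.node (.node (.leaf (nat_lit 425)) (.leaf (nat_lit 3680))) (.leaf (nat_lit 1759))) (.node (.leaf (nat_lit 1042)) (.leaf (nat_lit 2614)))))) (.node (.node (.node (.node (.node (.leaf (nat_lit 76)) (.leaf (nat_lit 2968))) (.leaf (nat_lit 1288))) (.node (.node (.leaf (nat_lit 653)) (.leaf (nat_lit 4230))) (.leaf (nat_lit 2066)))) (.node (.node (.node (.leaf (nat_lit 352)) (.leaf (nat_lit 3523))) (.leaf (nat_lit 1659))) (.node (.leaf (nat_lit 962)) (.leaf (nat_lit 2506))))) (.node (.node (.node (.node (.leaf (nat_lit 211)) (.leaf (nat_lit 3228))) (.leaf (nat_lit 1470))) (.node (.node (.leaf (nat_lit 802)) (.leaf (nat_lit 4720))) (.leaf (nat_lit 2273)))) (.node (.node (.node (.leaf (nat_lit 497)) (.leaf (nat_lit 3868))) (.leaf (nat_lit 1854))) (.node (.leaf (nat_lit 1128)) (.leaf (nat_lit 2728))))))) (.node (.node (.node (.node (.node (.node (.leaf (nat_lit 43)) (.leaf (nat_lit 2896))) (.leaf (nat_lit 1246))) (.node (.node (.leaf (nat_lit 615)) (.leaf (nat_lit 4134))) (.leaf (nat_lit 2014))))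 (.node (.node (.node (.leaf (nat_lit 315)) (.leaf (nat_lit 3438))) (.leaf (nat_lit 1609))) (.node (.node (.leaf (nat_lit 920)) (.leaf (nat_lit 5373))) (.leaf (nat_lit 2443))))) (.node (.node (.node (.node (.leaf (nat_lit 177)) (.leaf (nat_lit 3162))) (.leaf (nat_lit 1421))) (.node (.node (.leaf (nat_lit 764)) (.leaf (nat_lit 4590))) (.leaf (nat_lit 2218)))) (.node (.node (.node (.leaf (nat_lit 461)) (.leaf (nat_lit 3783))) (.leaf (nat_lit 1799))) (.node (.leaf (nat_lit 1090)) (.leaf (nat_lit 2669)))))) (.node (.node (.node (.node (.node (.leaf (nat_lit 110)) (.leaf (nat_lit 3042))) (.leaf (nat_lit 1329))) (.node (.node (.leaf (nat_lit 690)) (.leaf (nat_lit 4345))) (.leaf (nat_lit 2119)))) (.node (.node (.node (.leaf (nat_lit 387)) (.leaf (nat_lit 3603))) (.leaf (nat_lit 1710))) (.node (.leaf (nat_lit 1003)) (.leaf (nat_lit 2562))))) (.node (.node (.node (.node (.leaf (nat_lit 244)) (.leaf (nat_lit 3286))) (.leaf (nat_lit 1516))) (.node (.node (.leaf (nat_lit 843)) (.leaf (nat_lit 4903))) (.leaf (nat_lit 2341)))) (.node (.node (.node (.leaf (nat_lit 535))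 (.leaf (nat_lit 3941))) (.leaf (nat_lit 1901))) (.node (.leaf (nat_lit 1163)) (.leaf (nat_lit 2779)))))))) (.node (.node (.node (.node (.node (.node (.node (.leaf (nat_lit 27)) (.leaf (nat_lit 2867))) (.leaf (nat_lit 1226))) (.node (.node (.leaf (nat_lit 594)) (.leaf (nat_lit 4084))) (.leaf (nat_lit 1991)))) (.node (.node (.node (.leaf (nat_lit 298)) (.leaf (nat_lit 3398))) (.leaf (nat_lit 1585))) (.node (.node (.leaf (nat_lit 900)) (.leaf (nat_lit 5168))) (.leaf (nat_lit 2419))))) (.node (.node (.node (.node (.leaf (nat_lit 159)) (.leaf (nat_lit 3129))) (.leaf (nat_lit 1401))) (.node (.node (.leaf (nat_lit 748)) (.leaf (nat_lit 4517))) (.leaf (nat_lit 2190)))) (.node (.node (.node (.leaf (nat_lit 443)) (.leaf (nat_lit 3727))) (.leaf (nat_lit 1780))) (.node (.leaf (nat_lit 1067)) (.leaf (nat_lit 2639)))))) (.node (.node (.node (.node (.node (.leaf (nat_lit 92)) (.leaf (nat_lit 2995))) (.leaf (nat_lit 1307))) (.node (.node (.leaf (nat_lit 672)) (.leaf (nat_lit 4292))) (.leaf (nat_lit 2091)))) (.node (.node (.node (.leaf (nat_lit 370)) (.leaf (nat_lit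 3567))) (.leaf (nat_lit 1682))) (.node (.leaf (nat_lit 981)) (.leaf (nat_lit 2531))))) (.node (.node (.node (.node (.leaf (nat_lit 228)) (.leaf (nat_lit 3254))) (.leaf (nat_lit 1494))) (.node (.node (.leaf (nat_lit 823)) (.leaf (nat_lit 4810))) (.leaf (nat_lit 2302)))) (.node (.node (.node (.leaf (nat_lit 518)) (.leaf (nat_lit 3904))) (.leaf (nat_lit 1878))) (.node (.leaf (nat_lit 1146)) (.leaf (nat_lit 2751))))))) (.node (.node (.node (.node (.node (.node (.leaf (nat_lit 59)) (.leaf (nat_lit 2934))) (.leaf (nat_lit 1269))) (.node (.node (.leaf (nat_lit 635)) (.leaf (nat_lit 4190))) (.leaf (nat_lit 2042)))) (.node (.node (.node (.leaf (nat_lit 334)) (.leaf (nat_lit 3481))) (.leaf (nat_lit 1633))) (.node (.node (.leaf (nat_lit 940)) (.leaf (nat_lit 5588))) (.leaf (nat_lit 2471))))) (.node (.node (.node (.node (.leaf (nat_lit 194)) (.leaf (nat_lit 3192))) (.leaf (nat_lit 1448))) (.node (.node (.leaf (nat_lit 785)) (.leaf (nat_lit 4641))) (.leaf (nat_lit 2252)))) (.node (.node (.node (.leaf (nat_lit 479)) (.leaf (nat_lit 3822))) (.leaf (nat_lit 1829)))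 (.node (.leaf (nat_lit 1110)) (.leaf (nat_lit 2700)))))) (.node (.node (.node (.node (.node (.leaf (nat_lit 127)) (.leaf (nat_lit 3064))) (.leaf (nat_lit 1354))) (.node (.node (.leaf (nat_lit 710)) (.leaf (nat_lit 4401))) (.leaf (nat_lit 2142)))) (.node (.node (.node (.leaf (nat_lit 407)) (.leaf (nat_lit 3645))) (.leaf (nat_lit 1738))) (.node (.leaf (nat_lit 1020)) (.leaf (nat_lit 2588))))) (.node (.node (.node (.node (.leaf (nat_lit 263)) (.leaf (nat_lit 3314))) (.leaf (nat_lit 1539))) (.node (.node (.leaf (nat_lit 864)) (.leaf (nat_lit 4978))) (.leaf (nat_lit 2364)))) (.node (.node (.node (.leaf (nat_lit 555)) (.leaf (nat_lit 3985))) (.leaf (nat_lit 1937))) (.node (.leaf (nat_lit 1185)) (.leaf (nat_lit 2805))))))))))) (.node (.node (.node (.node (.node (.node (.node (.node (.node (.node (.leaf (nat_lit 1)) (.leaf (nat_lit 2813))) (.leaf (nat_lit 1194))) (.node (.node (.leaf (nat_lit 564)) (.leaf (nat_lit 3999))) (.leaf (nat_lit 1944)))) (.node (.node (.node (.leaf (nat_lit 269)) (.leaf (nat_lit 3328))) (.leaf (nat_lit 1547))) (.node (.node (.leaf (nat_lit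 870)) (.leaf (nat_lit 5002))) (.leaf (nat_lit 2374))))) (.node (.node (.node (.node (.leaf (nat_lit 133)) (.leaf (nat_lit 3087))) (.leaf (nat_lit 1363))) (.node (.node (.leaf (nat_lit 716)) (.leaf (nat_lit 4423))) (.leaf (nat_lit 2150)))) (.node (.node (.node (.leaf (nat_lit 414)) (.leaf (nat_lit 3661))) (.leaf (nat_lit 1744))) (.node (.leaf (nat_lit 1029)) (.leaf (nat_lit 2595)))))) (.node (.node (.node (.node (.node (.leaf (nat_lit 66)) (.leaf (nat_lit 2952))) (.leaf (nat_lit 1277))) (.node (.node (.leaf (nat_lit 641)) (.leaf (nat_lit 4201))) (.leaf (nat_lit 2050)))) (.node (.node (.node (.leaf (nat_lit 340)) (.leaf (nat_lit 3503))) (.leaf (nat_lit 1641))) (.node (.leaf (nat_lit 947)) (.leaf (nat_lit 2481))))) (.node (.node (.node (.node (.leaf (nat_lit 200)) (.leaf (nat_lit 3198))) (.leaf (nat_lit 1456))) (.node (.node (.leaf (nat_lit 792)) (.leaf (nat_lit 4670))) (.leaf (nat_lit 2260)))) (.node (.node (.node (.leaf (nat_lit 485)) (.leaf (nat_lit 3837))) (.leaf (nat_lit 1841))) (.node (.leaf (nat_lit 1116)) (.leaf (nat_lit 2707))))))) (.node (.node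 (.node (.node (.node (.node (.leaf (nat_lit 33)) (.leaf (nat_lit 2875))) (.leaf (nat_lit 1234))) (.node (.node (.leaf (nat_lit 602)) (.leaf (nat_lit 4111))) (.leaf (nat_lit 2003)))) (.node (.node (.node (.leaf (nat_lit 304)) (.leaf (nat_lit 3415))) (.leaf (nat_lit 1592))) (.node (.node (.leaf (nat_lit 907)) (.leaf (nat_lit 5289))) (.leaf (nat_lit 2429))))) (.node (.node (.node (.node (.leaf (nat_lit 166)) (.leaf (nat_lit 3143))) (.leaf (nat_lit 1409))) (.node (.node (.leaf (nat_lit 754)) (.leaf (nat_lit 4536))) (.leaf (nat_lit 2200)))) (.node (.node (.node (.leaf (nat_lit 450)) (.leaf (nat_lit 3754))) (.leaf (nat_lit 1786))) (.node (.leaf (nat_lit 1076)) (.leaf (nat_lit 2651)))))) (.node (.node (.node (.node (.node (.leaf (nat_lit 98)) (.leaf (nat_lit 3016))) (.leaf (nat_lit 1315))) (.node (.node (.leaf (nat_lit 679)) (.leaf (nat_lit 4316))) (.leaf (nat_lit 2105)))) (.node (.node (.node (.leaf (nat_lit 376)) (.leaf (nat_lit 3578))) (.leaf (nat_lit 1693))) (.node (.leaf (nat_lit 989)) (.leaf (nat_lit 2545))))) (.node (.node (.node (.node (.leaf (nat_lit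 234)) (.leaf (nat_lit 3264))) (.leaf (nat_lit 1502))) (.node (.node (.leaf (nat_lit 831)) (.leaf (nat_lit 4866))) (.leaf (nat_lit 2315)))) (.node (.node (.node (.leaf (nat_lit 524)) (.leaf (nat_lit 3923))) (.leaf (nat_lit 1889))) (.node (.leaf (nat_lit 1153)) (.leaf (nat_lit 2761)))))))) (.node (.node (.node (.node (.node (.node (.node (.leaf (nat_lit 17)) (.leaf (nat_lit 2846))) (.leaf (nat_lit 1215))) (.node (.node (.leaf (nat_lit 581)) (.leaf (nat_lit 4051))) (.leaf (nat_lit 1973)))) (.node (.node (.node (.leaf (nat_lit 288)) (.leaf (nat_lit 3381))) (.leaf (nat_lit 1572))) (.node (.node (.leaf (nat_lit 887)) (.leaf (nat_lit 5100))) (.leaf (nat_lit 2405))))) (.node (.node (.node (.node (.leaf (nat_lit 149)) (.leaf (nat_lit 3107))) (.leaf (nat_lit 1389))) (.node (.node (.leaf (nat_lit 735)) (.leaf (nat_lit 4487))) (.leaf (nat_lit 2175)))) (.node (.node (.node (.leaf (nat_lit 431)) (.leaf (nat_lit 3697))) (.leaf (nat_lit 1767))) (.node (.leaf (nat_lit 1052)) (.leaf (nat_lit 2627)))))) (.node (.node (.node (.node (.node (.leaf (nat_lit 82)) (.leaf (nat_lit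 2977))) (.leaf (nat_lit 1294))) (.node (.node (.leaf (nat_lit 659)) (.leaf (nat_lit 4246))) (.leaf (nat_lit 2076)))) (.node (.node (.node (.leaf (nat_lit 358)) (.leaf (nat_lit 3542))) (.leaf (nat_lit 1668))) (.node (.leaf (nat_lit 970)) (.leaf (nat_lit 2513))))) (.node (.node (.node (.node (.leaf (nat_lit 217)) (.leaf (nat_lit 3241))) (.leaf (nat_lit 1479))) (.node (.node (.leaf (nat_lit 808)) (.leaf (nat_lit 4745))) (.leaf (nat_lit 2289)))) (.node (.node (.node (.leaf (nat_lit 505)) (.leaf (nat_lit 3879))) (.leaf (nat_lit 1863))) (.node (.leaf (nat_lit 1135)) (.leaf (nat_lit 2737))))))) (.node (.node (.node (.node (.node (.node (.leaf (nat_lit 49)) (.leaf (nat_lit 2909))) (.leaf (nat_lit 1253))) (.node (.node (.leaf (nat_lit 622)) (.leaf (nat_lit 4148))) (.leaf (nat_lit 2028)))) (.node (.node (.node (.leaf (nat_lit 323)) (.leaf (nat_lit 3452))) (.leaf (nat_lit 1621))) (.node (.node (.leaf (nat_lit 927)) (.leaf (nat_lit 5443))) (.leaf (nat_lit 2449))))) (.node (.node (.node (.node (.leaf (nat_lit 183)) (.leaf (nat_lit 3174))) (.leaf (nat_lit 1434)))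 (.node (.node (.leaf (nat_lit 773)) (.leaf (nat_lit 4613))) (.leaf (nat_lit 2230)))) (.node (.node (.node (.leaf (nat_lit 467)) (.leaf (nat_lit 3799))) (.leaf (nat_lit 1811))) (.node (.leaf (nat_lit 1099)) (.leaf (nat_lit 2682)))))) (.node (.node (.node (.node (.node (.leaf (nat_lit 116)) (.leaf (nat_lit 3048))) (.leaf (nat_lit 1336))) (.node (.node (.leaf (nat_lit 699)) (.leaf (nat_lit 4369))) (.leaf (nat_lit 2126)))) (.node (.node (.node (.leaf (nat_lit 394)) (.leaf (nat_lit 3619))) (.leaf (nat_lit 1720))) (.node (.leaf (nat_lit 1009)) (.leaf (nat_lit 2575))))) (.node (.node (.node (.node (.leaf (nat_lit 251)) (.leaf (nat_lit 3296))) (.leaf (nat_lit 1523))) (.node (.node (.leaf (nat_lit 849)) (.leaf (nat_lit 4925))) (.leaf (nat_lit 2349)))) (.node (.node (.node (.leaf (nat_lit 541)) (.leaf (nat_lit 3952))) (.leaf (nat_lit 1921))) (.node (.leaf (nat_lit 1170)) (.leaf (nat_lit 2787))))))))) (.node (.node (.node (.node (.node (.node (.node (.node (.leaf (nat_lit 9)) (.leaf (nat_lit 2825))) (.leaf (nat_lit 1204))) (.node (.node (.leaf (nat_lit 572)) (.leaf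 (nat_lit 4030))) (.leaf (nat_lit 1961)))) (.node (.node (.node (.leaf (nat_lit 277)) (.leaf (nat_lit 3355))) (.leaf (nat_lit 1562))) (.node (.node (.leaf (nat_lit 878)) (.leaf (nat_lit 5056))) (.leaf (nat_lit 2385))))) (.node (.node (.node (.node (.leaf (nat_lit 141)) (.leaf (nat_lit 3098))) (.leaf (nat_lit 1373))) (.node (.node (.leaf (nat_lit 726)) (.leaf (nat_lit 4446))) (.leaf (nat_lit 2162)))) (.node (.node (.node (.leaf (nat_lit 423)) (.leaf (nat_lit 3676))) (.leaf (nat_lit 1756))) (.node (.leaf (nat_lit 1039)) (.leaf (nat_lit 2609)))))) (.node (.node (.node (.node (.node (.leaf (nat_lit 74)) (.leaf (nat_lit 2965))) (.leaf (nat_lit 1286))) (.node (.node (.leaf (nat_lit 650)) (.leaf (nat_lit 4228))) (.leaf (nat_lit 2063)))) (.node (.node (.node (.leaf (nat_lit 350)) (.leaf (nat_lit 3520))) (.leaf (nat_lit 1653))) (.node (.leaf (nat_lit 960)) (.leaf (nat_lit 2504))))) (.node (.node (.node (.node (.leaf (nat_lit 209)) (.leaf (nat_lit 3226))) (.leaf (nat_lit 1465))) (.node (.node (.leaf (nat_lit 800)) (.leaf (nat_lit 4713))) (.leaf (nat_lit 2270))))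 (.node (.node (.node (.leaf (nat_lit 495)) (.leaf (nat_lit 3866))) (.leaf (nat_lit 1852))) (.node (.leaf (nat_lit 1125)) (.leaf (nat_lit 2722))))))) (.node (.node (.node (.node (.node (.node (.leaf (nat_lit 41)) (.leaf (nat_lit 2894))) (.leaf (nat_lit 1244))) (.node (.node (.leaf (nat_lit 612)) (.leaf (nat_lit 4128))) (.leaf (nat_lit 2012)))) (.node (.node (.node (.leaf (nat_lit 313)) (.leaf (nat_lit 3429))) (.leaf (nat_lit 1607))) (.node (.node (.leaf (nat_lit 918)) (.leaf (nat_lit 5357))) (.leaf (nat_lit 2441))))) (.node (.node (.node (.node (.leaf (nat_lit 175)) (.leaf (nat_lit 3158))) (.leaf (nat_lit 1419))) (.node (.node (.leaf (nat_lit 762)) (.leaf (nat_lit 4567))) (.leaf (nat_lit 2212)))) (.node (.node (.node (.leaf (nat_lit 459)) (.leaf (nat_lit 3777))) (.leaf (nat_lit 1796))) (.node (.leaf (nat_lit 1087)) (.leaf (nat_lit 2666)))))) (.node (.node (.node (.node (.node (.leaf (nat_lit 107)) (.leaf (nat_lit 3036))) (.leaf (nat_lit 1325))) (.node (.node (.leaf (nat_lit 688)) (.leaf (nat_lit 4338))) (.leaf (nat_lit 2116)))) (.node (.node (.node (.leaf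 (nat_lit 385)) (.leaf (nat_lit 3600))) (.leaf (nat_lit 1707))) (.node (.leaf (nat_lit 1001)) (.leaf (nat_lit 2558))))) (.node (.node (.node (.node (.leaf (nat_lit 242)) (.leaf (nat_lit 3282))) (.leaf (nat_lit 1514))) (.node (.node (.leaf (nat_lit 841)) (.leaf (nat_lit 4895))) (.leaf (nat_lit 2334)))) (.node (.node (.node (.leaf (nat_lit 533)) (.leaf (nat_lit 3938))) (.leaf (nat_lit 1898))) (.node (.leaf (nat_lit 1161)) (.leaf (nat_lit 2774)))))))) (.node (.node (.node (.node (.node (.node (.node (.leaf (nat_lit 25)) (.leaf (nat_lit 2862))) (.leaf (nat_lit 1224))) (.node (.node (.leaf (nat_lit 592)) (.leaf (nat_lit 4081))) (.leaf (nat_lit 1988)))) (.node (.node (.node (.leaf (nat_lit 296)) (.leaf (nat_lit 3391))) (.leaf (nat_lit 1581))) (.node (.node (.leaf (nat_lit 897)) (.leaf (nat_lit 5149))) (.leaf (nat_lit 2417))))) (.node (.node (.node (.node (.leaf (nat_lit 157)) (.leaf (nat_lit 3125))) (.leaf (nat_lit 1399))) (.node (.node (.leaf (nat_lit 746)) (.leaf (nat_lit 4514))) (.leaf (nat_lit 2187)))) (.node (.node (.node (.leaf (nat_lit 441)) (.leaf (nat_lit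 3722))) (.leaf (nat_lit 1777))) (.node (.leaf (nat_lit 1063)) (.leaf (nat_lit 2636)))))) (.node (.node (.node (.node (.node (.leaf (nat_lit 90)) (.leaf (nat_lit 2991))) (.leaf (nat_lit 1304))) (.node (.node (.leaf (nat_lit 670)) (.leaf (nat_lit 4283))) (.leaf (nat_lit 2088)))) (.node (.node (.node (.leaf (nat_lit 368)) (.leaf (nat_lit 3560))) (.leaf (nat_lit 1680))) (.node (.leaf (nat_lit 979)) (.leaf (nat_lit 2526))))) (.node (.node (.node (.node (.leaf (nat_lit 226)) (.leaf (nat_lit 3250))) (.leaf (nat_lit 1491))) (.node (.node (.leaf (nat_lit 819)) (.leaf (nat_lit 4799))) (.leaf (nat_lit 2300)))) (.node (.node (.node (.leaf (nat_lit 516)) (.leaf (nat_lit 3900))) (.leaf (nat_lit 1873))) (.node (.leaf (nat_lit 1144)) (.leaf (nat_lit 2748))))))) (.node (.node (.node (.node (.node (.node (.leaf (nat_lit 57)) (.leaf (nat_lit 2931))) (.leaf (nat_lit 1267))) (.node (.node (.leaf (nat_lit 633)) (.leaf (nat_lit 4181))) (.leaf (nat_lit 2040)))) (.node (.node (.node (.leaf (nat_lit 332)) (.leaf (nat_lit 3473))) (.leaf (nat_lit 1631))) (.node (.node (.leaf (nat_lit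 938)) (.leaf (nat_lit 5570))) (.leaf (nat_lit 2467))))) (.node (.node (.node (.node (.leaf (nat_lit 192)) (.leaf (nat_lit 3189))) (.leaf (nat_lit 1446))) (.node (.node (.leaf (nat_lit 783)) (.leaf (nat_lit 4639))) (.leaf (nat_lit 2248)))) (.node (.node (.node (.leaf (nat_lit 477)) (.leaf (nat_lit 3818))) (.leaf (nat_lit 1825))) (.node (.leaf (nat_lit 1108)) (.leaf (nat_lit 2696)))))) (.node (.node (.node (.node (.node (.leaf (nat_lit 125)) (.leaf (nat_lit 3061))) (.leaf (nat_lit 1352))) (.node (.node (.leaf (nat_lit 708)) (.leaf (nat_lit 4394))) (.leaf (nat_lit 2138)))) (.node (.node (.node (.leaf (nat_lit 405)) (.leaf (nat_lit 3643))) (.leaf (nat_lit 1731))) (.node (.leaf (nat_lit 1018)) (.leaf (nat_lit 2586))))) (.node (.node (.node (.node (.leaf (nat_lit 261)) (.leaf (nat_lit 3312))) (.leaf (nat_lit 1534))) (.node (.node (.leaf (nat_lit 860)) (.leaf (nat_lit 4967))) (.leaf (nat_lit 2359)))) (.node (.node (.node (.leaf (nat_lit 553)) (.leaf (nat_lit 3980))) (.leaf (nat_lit 1933))) (.node (.leaf (nat_lit 1183)) (.leaf (nat_lit 2799)))))))))) (.node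 (.node (.node (.node (.node (.node (.node (.node (.node (.leaf (nat_lit 5)) (.leaf (nat_lit 2820))) (.leaf (nat_lit 1198))) (.node (.node (.leaf (nat_lit 568)) (.leaf (nat_lit 4008))) (.leaf (nat_lit 1951)))) (.node (.node (.node (.leaf (nat_lit 273)) (.leaf (nat_lit 3345))) (.leaf (nat_lit 1558))) (.node (.node (.leaf (nat_lit 874)) (.leaf (nat_lit 5023))) (.leaf (nat_lit 2379))))) (.node (.node (.node (.node (.leaf (nat_lit 137)) (.leaf (nat_lit 3092))) (.leaf (nat_lit 1368))) (.node (.node (.leaf (nat_lit 720)) (.leaf (nat_lit 4435))) (.leaf (nat_lit 2155)))) (.node (.node (.node (.leaf (nat_lit 419)) (.leaf (nat_lit 3667))) (.leaf (nat_lit 1749))) (.node (.leaf (nat_lit 1034)) (.leaf (nat_lit 2602)))))) (.node (.node (.node (.node (.node (.leaf (nat_lit 70)) (.leaf (nat_lit 2960))) (.leaf (nat_lit 1282))) (.node (.node (.leaf (nat_lit 646)) (.leaf (nat_lit 4209))) (.leaf (nat_lit 2057)))) (.node (.node (.node (.leaf (nat_lit 346)) (.leaf (nat_lit 3513))) (.leaf (nat_lit 1645))) (.node (.leaf (nat_lit 952)) (.leaf (nat_lit 2495))))) (.node (.node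 (.node (.node (.leaf (nat_lit 204)) (.leaf (nat_lit 3211))) (.leaf (nat_lit 1461))) (.node (.node (.leaf (nat_lit 796)) (.leaf (nat_lit 4696))) (.leaf (nat_lit 2265)))) (.node (.node (.node (.leaf (nat_lit 490)) (.leaf (nat_lit 3850))) (.leaf (nat_lit 1847))) (.node (.leaf (nat_lit 1120)) (.leaf (nat_lit 2713))))))) (.node (.node (.node (.node (.node (.node (.leaf (nat_lit 37)) (.leaf (nat_lit 2886))) (.leaf (nat_lit 1239))) (.node (.node (.leaf (nat_lit 607)) (.leaf (nat_lit 4122))) (.leaf (nat_lit 2007)))) (.node (.node (.node (.leaf (nat_lit 309)) (.leaf (nat_lit 3420))) (.leaf (nat_lit 1598))) (.node (.node (.leaf (nat_lit 913)) (.leaf (nat_lit 5328))) (.leaf (nat_lit 2435))))) (.node (.node (.node (.node (.leaf (nat_lit 170)) (.leaf (nat_lit 3152))) (.leaf (nat_lit 1414))) (.node (.node (.leaf (nat_lit 758)) (.leaf (nat_lit 4550))) (.leaf (nat_lit 2205)))) (.node (.node (.node (.leaf (nat_lit 454)) (.leaf (nat_lit 3762))) (.leaf (nat_lit 1791))) (.node (.leaf (nat_lit 1081)) (.leaf (nat_lit 2658)))))) (.node (.node (.node (.node (.node (.leaf (nat_lit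 103)) (.leaf (nat_lit 3029))) (.leaf (nat_lit 1320))) (.node (.node (.leaf (nat_lit 684)) (.leaf (nat_lit 4325))) (.leaf (nat_lit 2111)))) (.node (.node (.node (.leaf (nat_lit 381)) (.leaf (nat_lit 3592))) (.leaf (nat_lit 1699))) (.node (.leaf (nat_lit 996)) (.leaf (nat_lit 2552))))) (.node (.node (.node (.node (.leaf (nat_lit 238)) (.leaf (nat_lit 3274))) (.leaf (nat_lit 1506))) (.node (.node (.leaf (nat_lit 836)) (.leaf (nat_lit 4878))) (.leaf (nat_lit 2326)))) (.node (.node (.node (.leaf (nat_lit 529)) (.leaf (nat_lit 3931))) (.leaf (nat_lit 1894))) (.node (.leaf (nat_lit 1157)) (.leaf (nat_lit 2767)))))))) (.node (.node (.node (.node (.node (.node (.node (.leaf (nat_lit 21)) (.leaf (nat_lit 2853))) (.leaf (nat_lit 1219))) (.node (.node (.leaf (nat_lit 587)) (.leaf (nat_lit 4069))) (.leaf (nat_lit 1983)))) (.node (.node (.node (.leaf (nat_lit 292)) (.leaf (nat_lit 3386))) (.leaf (nat_lit 1577))) (.node (.node (.leaf (nat_lit 892)) (.leaf (nat_lit 5117))) (.leaf (nat_lit 2410))))) (.node (.node (.node (.node (.leaf (nat_lit 153)) (.leaf (nat_lit 3119)))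 (.leaf (nat_lit 1393))) (.node (.node (.leaf (nat_lit 742)) (.leaf (nat_lit 4504))) (.leaf (nat_lit 2180)))) (.node (.node (.node (.leaf (nat_lit 436)) (.leaf (nat_lit 3709))) (.leaf (nat_lit 1772))) (.node (.leaf (nat_lit 1056)) (.leaf (nat_lit 2631)))))) (.node (.node (.node (.node (.node (.leaf (nat_lit 86)) (.leaf (nat_lit 2986))) (.leaf (nat_lit 1300))) (.node (.node (.leaf (nat_lit 664)) (.leaf (nat_lit 4262))) (.leaf (nat_lit 2083)))) (.node (.node (.node (.leaf (nat_lit 363)) (.leaf (nat_lit 3553))) (.leaf (nat_lit 1676))) (.node (.leaf (nat_lit 975)) (.leaf (nat_lit 2520))))) (.node (.node (.node (.node (.leaf (nat_lit 221)) (.leaf (nat_lit 3245))) (.leaf (nat_lit 1484))) (.node (.node (.leaf (nat_lit 814)) (.leaf (nat_lit 4772))) (.leaf (nat_lit 2295)))) (.node (.node (.node (.leaf (nat_lit 511)) (.leaf (nat_lit 3887))) (.leaf (nat_lit 1868))) (.node (.leaf (nat_lit 1140)) (.leaf (nat_lit 2743))))))) (.node (.node (.node (.node (.node (.node (.leaf (nat_lit 53)) (.leaf (nat_lit 2917))) (.leaf (nat_lit 1259))) (.node (.node (.leaf (nat_lit 628))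 (.leaf (nat_lit 4165))) (.leaf (nat_lit 2036)))) (.node (.node (.node (.leaf (nat_lit 328)) (.leaf (nat_lit 3466))) (.leaf (nat_lit 1627))) (.node (.node (.leaf (nat_lit 934)) (.leaf (nat_lit 5529))) (.leaf (nat_lit 2459))))) (.node (.node (.node (.node (.leaf (nat_lit 187)) (.leaf (nat_lit 3181))) (.leaf (nat_lit 1442))) (.node (.node (.leaf (nat_lit 778)) (.leaf (nat_lit 4625))) (.leaf (nat_lit 2240)))) (.node (.node (.node (.leaf (nat_lit 471)) (.leaf (nat_lit 3809))) (.leaf (nat_lit 1821))) (.node (.leaf (nat_lit 1103)) (.leaf (nat_lit 2690)))))) (.node (.node (.node (.node (.node (.leaf (nat_lit 120)) (.leaf (nat_lit 3052))) (.leaf (nat_lit 1346))) (.node (.node (.leaf (nat_lit 704)) (.leaf (nat_lit 4378))) (.leaf (nat_lit 2130)))) (.node (.node (.node (.leaf (nat_lit 401)) (.leaf (nat_lit 3628))) (.leaf (nat_lit 1726))) (.node (.leaf (nat_lit 1014)) (.leaf (nat_lit 2582))))) (.node (.node (.node (.node (.leaf (nat_lit 256)) (.leaf (nat_lit 3301))) (.leaf (nat_lit 1528))) (.node (.node (.leaf (nat_lit 855)) (.leaf (nat_lit 4941))) (.leaf (nat_lit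 2354)))) (.node (.node (.node (.leaf (nat_lit 547)) (.leaf (nat_lit 3971))) (.leaf (nat_lit 1927))) (.node (.leaf (nat_lit 1179)) (.leaf (nat_lit 2792))))))))) (.node (.node (.node (.node (.node (.node (.node (.node (.leaf (nat_lit 13)) (.leaf (nat_lit 2832))) (.leaf (nat_lit 1211))) (.node (.node (.leaf (nat_lit 577)) (.leaf (nat_lit 4040))) (.leaf (nat_lit 1966)))) (.node (.node (.node (.leaf (nat_lit 283)) (.leaf (nat_lit 3365))) (.leaf (nat_lit 1568))) (.node (.node (.leaf (nat_lit 883)) (.leaf (nat_lit 5070))) (.leaf (nat_lit 2396))))) (.node (.node (.node (.node (.leaf (nat_lit 145)) (.leaf (nat_lit 3103))) (.leaf (nat_lit 1381))) (.node (.node (.leaf (nat_lit 731)) (.leaf (nat_lit 4466))) (.leaf (nat_lit 2166)))) (.node (.node (.node (.leaf (nat_lit 427)) (.leaf (nat_lit 3688))) (.leaf (nat_lit 1763))) (.node (.leaf (nat_lit 1045)) (.leaf (nat_lit 2617)))))) (.node (.node (.node (.node (.node (.leaf (nat_lit 78)) (.leaf (nat_lit 2971))) (.leaf (nat_lit 1290))) (.node (.node (.leaf (nat_lit 655)) (.leaf (nat_lit 4238))) (.leaf (nat_lit 2071))))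 (.node (.node (.node (.leaf (nat_lit 354)) (.leaf (nat_lit 3530))) (.leaf (nat_lit 1664))) (.node (.leaf (nat_lit 965)) (.leaf (nat_lit 2509))))) (.node (.node (.node (.node (.leaf (nat_lit 213)) (.leaf (nat_lit 3231))) (.leaf (nat_lit 1473))) (.node (.node (.leaf (nat_lit 804)) (.leaf (nat_lit 4727))) (.leaf (nat_lit 2276)))) (.node (.node (.node (.leaf (nat_lit 499)) (.leaf (nat_lit 3870))) (.leaf (nat_lit 1856))) (.node (.leaf (nat_lit 1130)) (.leaf (nat_lit 2733))))))) (.node (.node (.node (.node (.node (.node (.leaf (nat_lit 45)) (.leaf (nat_lit 2898))) (.leaf (nat_lit 1248))) (.node (.node (.leaf (nat_lit 617)) (.leaf (nat_lit 4139))) (.leaf (nat_lit 2021)))) (.node (.node (.node (.leaf (nat_lit 319)) (.leaf (nat_lit 3442))) (.leaf (nat_lit 1616))) (.node (.node (.leaf (nat_lit 922)) (.leaf (nat_lit 5388))) (.leaf (nat_lit 2445))))) (.node (.node (.node (.node (.leaf (nat_lit 179)) (.leaf (nat_lit 3167))) (.leaf (nat_lit 1426))) (.node (.node (.leaf (nat_lit 768)) (.leaf (nat_lit 4595))) (.leaf (nat_lit 2221)))) (.node (.node (.node (.leaf (nat_lit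 463)) (.leaf (nat_lit 3787))) (.leaf (nat_lit 1803))) (.node (.leaf (nat_lit 1092)) (.leaf (nat_lit 2672)))))) (.node (.node (.node (.node (.node (.leaf (nat_lit 112)) (.leaf (nat_lit 3044))) (.leaf (nat_lit 1332))) (.node (.node (.leaf (nat_lit 695)) (.leaf (nat_lit 4352))) (.leaf (nat_lit 2122)))) (.node (.node (.node (.leaf (nat_lit 389)) (.leaf (nat_lit 3609))) (.leaf (nat_lit 1714))) (.node (.leaf (nat_lit 1005)) (.leaf (nat_lit 2568))))) (.node (.node (.node (.node (.leaf (nat_lit 247)) (.leaf (nat_lit 3288))) (.leaf (nat_lit 1519))) (.node (.node (.leaf (nat_lit 845)) (.leaf (nat_lit 4910))) (.leaf (nat_lit 2344)))) (.node (.node (.node (.leaf (nat_lit 537)) (.leaf (nat_lit 3945))) (.leaf (nat_lit 1912))) (.node (.leaf (nat_lit 1165)) (.leaf (nat_lit 2782)))))))) (.node (.node (.node (.node (.node (.node (.node (.leaf (nat_lit 29)) (.leaf (nat_lit 2871))) (.leaf (nat_lit 1228))) (.node (.node (.leaf (nat_lit 597)) (.leaf (nat_lit 4089))) (.leaf (nat_lit 1995)))) (.node (.node (.node (.leaf (nat_lit 300)) (.leaf (nat_lit 3408))) (.leaf (nat_lit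 1587))) (.node (.node (.leaf (nat_lit 902)) (.leaf (nat_lit 5220))) (.leaf (nat_lit 2423))))) (.node (.node (.node (.node (.leaf (nat_lit 161)) (.leaf (nat_lit 3132))) (.leaf (nat_lit 1404))) (.node (.node (.leaf (nat_lit 750)) (.leaf (nat_lit 4522))) (.leaf (nat_lit 2192)))) (.node (.node (.node (.leaf (nat_lit 445)) (.leaf (nat_lit 3736))) (.leaf (nat_lit 1782))) (.node (.leaf (nat_lit 1070)) (.leaf (nat_lit 2642)))))) (.node (.node (.node (.node (.node (.leaf (nat_lit 94)) (.leaf (nat_lit 3007))) (.leaf (nat_lit 1310))) (.node (.node (.leaf (nat_lit 674)) (.leaf (nat_lit 4304))) (.leaf (nat_lit 2096)))) (.node (.node (.node (.leaf (nat_lit 372)) (.leaf (nat_lit 3570))) (.leaf (nat_lit 1684))) (.node (.leaf (nat_lit 983)) (.leaf (nat_lit 2535))))) (.node (.node (.node (.node (.leaf (nat_lit 230)) (.leaf (nat_lit 3256))) (.leaf (nat_lit 1496))) (.node (.node (.leaf (nat_lit 827)) (.leaf (nat_lit 4834))) (.leaf (nat_lit 2310)))) (.node (.node (.node (.leaf (nat_lit 520)) (.leaf (nat_lit 3908))) (.leaf (nat_lit 1881))) (.node (.leaf (nat_lit 1148)) (.leaf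 (nat_lit 2754))))))) (.node (.node (.node (.node (.node (.node (.leaf (nat_lit 61)) (.leaf (nat_lit 2940))) (.leaf (nat_lit 1273))) (.node (.node (.leaf (nat_lit 637)) (.leaf (nat_lit 4192))) (.leaf (nat_lit 2045)))) (.node (.node (.node (.leaf (nat_lit 336)) (.leaf (nat_lit 3490))) (.leaf (nat_lit 1635))) (.node (.node (.leaf (nat_lit 942)) (.leaf (nat_lit 5685))) (.leaf (nat_lit 2475))))) (.node (.node (.node (.node (.leaf (nat_lit 196)) (.leaf (nat_lit 3194))) (.leaf (nat_lit 1451))) (.node (.node (.leaf (nat_lit 787)) (.leaf (nat_lit 4656))) (.leaf (nat_lit 2256)))) (.node (.node (.node (.leaf (nat_lit 481)) (.leaf (nat_lit 3824))) (.leaf (nat_lit 1834))) (.node (.leaf (nat_lit 1112)) (.leaf (nat_lit 2702)))))) (.node (.node (.node (.node (.node (.leaf (nat_lit 129)) (.leaf (nat_lit 3080))) (.leaf (nat_lit 1358))) (.node (.node (.leaf (nat_lit 712)) (.leaf (nat_lit 4404))) (.leaf (nat_lit 2146)))) (.node (.node (.node (.leaf (nat_lit 409)) (.leaf (nat_lit 3647))) (.leaf (nat_lit 1740))) (.node (.leaf (nat_lit 1023)) (.leaf (nat_lit 2590))))) (.node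 (.node (.node (.node (.leaf (nat_lit 265)) (.leaf (nat_lit 3317))) (.leaf (nat_lit 1541))) (.node (.node (.leaf (nat_lit 866)) (.leaf (nat_lit 4990))) (.leaf (nat_lit 2366)))) (.node (.node (.node (.leaf (nat_lit 557)) (.leaf (nat_lit 3987))) (.leaf (nat_lit 1939))) (.node (.leaf (nat_lit 1188)) (.leaf (nat_lit 2808)))))))))))) (.node (.node (.node (.node (.node (.node (.node (.node (.node (.node (.node (.leaf (nat_lit 0)) (.leaf (nat_lit 2811))) (.leaf (nat_lit 1193))) (.node (.node (.leaf (nat_lit 562)) (.leaf (nat_lit 3997))) (.leaf (nat_lit 1942)))) (.node (.node (.node (.leaf (nat_lit 268)) (.leaf (nat_lit 3325))) (.leaf (nat_lit 1545))) (.node (.node (.leaf (nat_lit 869)) (.leaf (nat_lit 4996))) (.leaf (nat_lit 2372))))) (.node (.node (.node (.node (.leaf (nat_lit 132)) (.leaf (nat_lit 3086))) (.leaf (nat_lit 1362))) (.node (.node (.leaf (nat_lit 715)) (.leaf (nat_lit 4415))) (.leaf (nat_lit 2149)))) (.node (.node (.node (.leaf (nat_lit 413)) (.leaf (nat_lit 3653))) (.leaf (nat_lit 1743))) (.node (.leaf (nat_lit 1028)) (.leaf (nat_lit 2594))))))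 (.node (.node (.node (.node (.node (.leaf (nat_lit 65)) (.leaf (nat_lit 2950))) (.leaf (nat_lit 1276))) (.node (.node (.leaf (nat_lit 640)) (.leaf (nat_lit 4196))) (.leaf (nat_lit 2049)))) (.node (.node (.node (.leaf (nat_lit 339)) (.leaf (nat_lit 3500))) (.leaf (nat_lit 1638))) (.node (.leaf (nat_lit 945)) (.leaf (nat_lit 2480))))) (.node (.node (.node (.node (.leaf (nat_lit 199)) (.leaf (nat_lit 3197))) (.leaf (nat_lit 1455))) (.node (.node (.leaf (nat_lit 791)) (.leaf (nat_lit 4669))) (.leaf (nat_lit 2259)))) (.node (.node (.node (.leaf (nat_lit 484)) (.leaf (nat_lit 3834))) (.leaf (nat_lit 1840))) (.node (.leaf (nat_lit 1115)) (.leaf (nat_lit 2706))))))) (.node (.node (.node (.node (.node (.node (.leaf (nat_lit 32)) (.leaf (nat_lit 2874))) (.leaf (nat_lit 1233))) (.node (.node (.leaf (nat_lit 601)) (.leaf (nat_lit 4107))) (.leaf (nat_lit 2002)))) (.node (.node (.node (.leaf (nat_lit 303)) (.leaf (nat_lit 3413))) (.leaf (nat_lit 1591))) (.node (.node (.leaf (nat_lit 906)) (.leaf (nat_lit 5269))) (.leaf (nat_lit 2427))))) (.node (.node (.node (.node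 (.leaf (nat_lit 165)) (.leaf (nat_lit 3141))) (.leaf (nat_lit 1408))) (.node (.node (.leaf (nat_lit 753)) (.leaf (nat_lit 4530))) (.leaf (nat_lit 2199)))) (.node (.node (.node (.leaf (nat_lit 449)) (.leaf (nat_lit 3749))) (.leaf (nat_lit 1785))) (.node (.leaf (nat_lit 1075)) (.leaf (nat_lit 2647)))))) (.node (.node (.node (.node (.node (.leaf (nat_lit 97)) (.leaf (nat_lit 3014))) (.leaf (nat_lit 1313))) (.node (.node (.leaf (nat_lit 677)) (.leaf (nat_lit 4313))) (.leaf (nat_lit 2104)))) (.node (.node (.node (.leaf (nat_lit 375)) (.leaf (nat_lit 3575))) (.leaf (nat_lit 1691))) (.node (.leaf (nat_lit 988)) (.leaf (nat_lit 2541))))) (.node (.node (.node (.node (.leaf (nat_lit 233)) (.leaf (nat_lit 3262))) (.leaf (nat_lit 1501))) (.node (.node (.leaf (nat_lit 830)) (.leaf (nat_lit 4848))) (.leaf (nat_lit 2313)))) (.node (.node (.node (.leaf (nat_lit 523)) (.leaf (nat_lit 3917))) (.leaf (nat_lit 1888))) (.node (.leaf (nat_lit 1152)) (.leaf (nat_lit 2760)))))))) (.node (.node (.node (.node (.node (.node (.node (.leaf (nat_lit 16)) (.leaf (nat_lit 2839))) (.leaf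 (nat_lit 1214))) (.node (.node (.leaf (nat_lit 580)) (.leaf (nat_lit 4050))) (.leaf (nat_lit 1972)))) (.node (.node (.node (.leaf (nat_lit 286)) (.leaf (nat_lit 3379))) (.leaf (nat_lit 1571))) (.node (.node (.leaf (nat_lit 886)) (.leaf (nat_lit 5086))) (.leaf (nat_lit 2404))))) (.node (.node (.node (.node (.leaf (nat_lit 148)) (.leaf (nat_lit 3106))) (.leaf (nat_lit 1388))) (.node (.node (.leaf (nat_lit 734)) (.leaf (nat_lit 4477))) (.leaf (nat_lit 2174)))) (.node (.node (.node (.leaf (nat_lit 430)) (.leaf (nat_lit 3696))) (.leaf (nat_lit 1766))) (.node (.leaf (nat_lit 1051)) (.leaf (nat_lit 2626)))))) (.node (.node (.node (.node (.node (.leaf (nat_lit 81)) (.leaf (nat_lit 2976))) (.leaf (nat_lit 1293))) (.node (.node (.leaf (nat_lit 658)) (.leaf (nat_lit 4242))) (.leaf (nat_lit 2074)))) (.node (.node (.node (.leaf (nat_lit 357)) (.leaf (nat_lit 3539))) (.leaf (nat_lit 1667))) (.node (.leaf (nat_lit 969)) (.leaf (nat_lit 2512))))) (.node (.node (.node (.node (.leaf (nat_lit 216)) (.leaf (nat_lit 3235))) (.leaf (nat_lit 1478))) (.node (.node (.leaf (nat_lit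 807)) (.leaf (nat_lit 4738))) (.leaf (nat_lit 2288)))) (.node (.node (.node (.leaf (nat_lit 504)) (.leaf (nat_lit 3878))) (.leaf (nat_lit 1862))) (.node (.leaf (nat_lit 1133)) (.leaf (nat_lit 2736))))))) (.node (.node (.node (.node (.node (.node (.leaf (nat_lit 48)) (.leaf (nat_lit 2907))) (.leaf (nat_lit 1252))) (.node (.node (.leaf (nat_lit 621)) (.leaf (nat_lit 4147))) (.leaf (nat_lit 2024)))) (.node (.node (.node (.leaf (nat_lit 322)) (.leaf (nat_lit 3450))) (.leaf (nat_lit 1620))) (.node (.node (.leaf (nat_lit 926)) (.leaf (nat_lit 5418))) (.leaf (nat_lit 2448))))) (.node (.node (.node (.node (.leaf (nat_lit 182)) (.leaf (nat_lit 3172))) (.leaf (nat_lit 1432))) (.node (.node (.leaf (nat_lit 772)) (.leaf (nat_lit 4612))) (.leaf (nat_lit 2228)))) (.node (.node (.node (.leaf (nat_lit 466)) (.leaf (nat_lit 3797))) (.leaf (nat_lit 1810))) (.node (.leaf (nat_lit 1096)) (.leaf (nat_lit 2676)))))) (.node (.node (.node (.node (.node (.leaf (nat_lit 115)) (.leaf (nat_lit 3047))) (.leaf (nat_lit 1335))) (.node (.node (.leaf (nat_lit 698)) (.leaf (nat_lit 4368)))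 (.leaf (nat_lit 2125)))) (.node (.node (.node (.leaf (nat_lit 393)) (.leaf (nat_lit 3617))) (.leaf (nat_lit 1718))) (.node (.leaf (nat_lit 1008)) (.leaf (nat_lit 2574))))) (.node (.node (.node (.node (.leaf (nat_lit 250)) (.leaf (nat_lit 3293))) (.leaf (nat_lit 1522))) (.node (.node (.leaf (nat_lit 848)) (.leaf (nat_lit 4922))) (.leaf (nat_lit 2348)))) (.node (.node (.node (.leaf (nat_lit 540)) (.leaf (nat_lit 3950))) (.leaf (nat_lit 1919))) (.node (.leaf (nat_lit 1168)) (.leaf (nat_lit 2786))))))))) (.node (.node (.node (.node (.node (.node (.node (.node (.leaf (nat_lit 8)) (.leaf (nat_lit 2824))) (.leaf (nat_lit 1203))) (.node (.node (.leaf (nat_lit 571)) (.leaf (nat_lit 4026))) (.leaf (nat_lit 1959)))) (.node (.node (.node (.leaf (nat_lit 276)) (.leaf (nat_lit 3354))) (.leaf (nat_lit 1561))) (.node (.node (.leaf (nat_lit 877)) (.leaf (nat_lit 5053))) (.leaf (nat_lit 2384))))) (.node (.node (.node (.node (.leaf (nat_lit 140)) (.leaf (nat_lit 3095))) (.leaf (nat_lit 1372))) (.node (.node (.leaf (nat_lit 725)) (.leaf (nat_lit 4445))) (.leaf (nat_lit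 2161)))) (.node (.node (.node (.leaf (nat_lit 422)) (.leaf (nat_lit 3675))) (.leaf (nat_lit 1755))) (.node (.leaf (nat_lit 1038)) (.leaf (nat_lit 2606)))))) (.node (.node (.node (.node (.node (.leaf (nat_lit 73)) (.leaf (nat_lit 2964))) (.leaf (nat_lit 1285))) (.node (.node (.leaf (nat_lit 649)) (.leaf (nat_lit 4225))) (.leaf (nat_lit 2061)))) (.node (.node (.node (.leaf (nat_lit 349)) (.leaf (nat_lit 3517))) (.leaf (nat_lit 1650))) (.node (.leaf (nat_lit 959)) (.leaf (nat_lit 2502))))) (.node (.node (.node (.node (.leaf (nat_lit 208)) (.leaf (nat_lit 3218))) (.leaf (nat_lit 1464))) (.node (.node (.leaf (nat_lit 799)) (.leaf (nat_lit 4710))) (.leaf (nat_lit 2269)))) (.node (.node (.node (.leaf (nat_lit 494)) (.leaf (nat_lit 3863))) (.leaf (nat_lit 1851))) (.node (.leaf (nat_lit 1123)) (.leaf (nat_lit 2719))))))) (.node (.node (.node (.node (.node (.node (.leaf (nat_lit 40)) (.leaf (nat_lit 2892))) (.leaf (nat_lit 1243))) (.node (.node (.leaf (nat_lit 610)) (.leaf (nat_lit 4125))) (.leaf (nat_lit 2011)))) (.node (.node (.node (.leaf (nat_lit 312)) (.leaf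 (nat_lit 3428))) (.leaf (nat_lit 1604))) (.node (.node (.leaf (nat_lit 917)) (.leaf (nat_lit 5353))) (.leaf (nat_lit 2440))))) (.node (.node (.node (.node (.leaf (nat_lit 174)) (.leaf (nat_lit 3156))) (.leaf (nat_lit 1418))) (.node (.node (.leaf (nat_lit 761)) (.leaf (nat_lit 4564))) (.leaf (nat_lit 2209)))) (.node (.node (.node (.leaf (nat_lit 458)) (.leaf (nat_lit 3773))) (.leaf (nat_lit 1795))) (.node (.leaf (nat_lit 1086)) (.leaf (nat_lit 2665)))))) (.node (.node (.node (.node (.node (.leaf (nat_lit 106)) (.leaf (nat_lit 3033))) (.leaf (nat_lit 1324))) (.node (.node (.leaf (nat_lit 687)) (.leaf (nat_lit 4336))) (.leaf (nat_lit 2114)))) (.node (.node (.node (.leaf (nat_lit 384)) (.leaf (nat_lit 3597))) (.leaf (nat_lit 1706))) (.node (.leaf (nat_lit 1000)) (.leaf (nat_lit 2557))))) (.node (.node (.node (.node (.leaf (nat_lit 241)) (.leaf (nat_lit 3281))) (.leaf (nat_lit 1513))) (.node (.node (.leaf (nat_lit 840)) (.leaf (nat_lit 4893))) (.leaf (nat_lit 2333)))) (.node (.node (.node (.leaf (nat_lit 532)) (.leaf (nat_lit 3935))) (.leaf (nat_lit 1897)))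 (.node (.leaf (nat_lit 1160)) (.leaf (nat_lit 2772)))))))) (.node (.node (.node (.node (.node (.node (.node (.leaf (nat_lit 24)) (.leaf (nat_lit 2858))) (.leaf (nat_lit 1223))) (.node (.node (.leaf (nat_lit 590)) (.leaf (nat_lit 4078))) (.leaf (nat_lit 1987)))) (.node (.node (.node (.leaf (nat_lit 295)) (.leaf (nat_lit 3389))) (.leaf (nat_lit 1580))) (.node (.node (.leaf (nat_lit 896)) (.leaf (nat_lit 5144))) (.leaf (nat_lit 2415))))) (.node (.node (.node (.node (.leaf (nat_lit 156)) (.leaf (nat_lit 3123))) (.leaf (nat_lit 1398))) (.node (.node (.leaf (nat_lit 745)) (.leaf (nat_lit 4512))) (.leaf (nat_lit 2186)))) (.node (.node (.node (.leaf (nat_lit 440)) (.leaf (nat_lit 3719))) (.leaf (nat_lit 1776))) (.node (.leaf (nat_lit 1060)) (.leaf (nat_lit 2634)))))) (.node (.node (.node (.node (.node (.leaf (nat_lit 89)) (.leaf (nat_lit 2990))) (.leaf (nat_lit 1303))) (.node (.node (.leaf (nat_lit 669)) (.leaf (nat_lit 4281))) (.leaf (nat_lit 2087)))) (.node (.node (.node (.leaf (nat_lit 367)) (.leaf (nat_lit 3558))) (.leaf (nat_lit 1679))) (.node (.leaf (nat_lit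 978)) (.leaf (nat_lit 2525))))) (.node (.node (.node (.node (.leaf (nat_lit 225)) (.leaf (nat_lit 3248))) (.leaf (nat_lit 1490))) (.node (.node (.leaf (nat_lit 818)) (.leaf (nat_lit 4787))) (.leaf (nat_lit 2299)))) (.node (.node (.node (.leaf (nat_lit 514)) (.leaf (nat_lit 3894))) (.leaf (nat_lit 1871))) (.node (.leaf (nat_lit 1143)) (.leaf (nat_lit 2746))))))) (.node (.node (.node (.node (.node (.node (.leaf (nat_lit 56)) (.leaf (nat_lit 2926))) (.leaf (nat_lit 1264))) (.node (.node (.leaf (nat_lit 631)) (.leaf (nat_lit 4173))) (.leaf (nat_lit 2039)))) (.node (.node (.node (.leaf (nat_lit 331)) (.leaf (nat_lit 3471))) (.leaf (nat_lit 1630))) (.node (.node (.leaf (nat_lit 937)) (.leaf (nat_lit 5560))) (.leaf (nat_lit 2466))))) (.node (.node (.node (.node (.leaf (nat_lit 191)) (.leaf (nat_lit 3188))) (.leaf (nat_lit 1445))) (.node (.node (.leaf (nat_lit 782)) (.leaf (nat_lit 4637))) (.leaf (nat_lit 2245)))) (.node (.node (.node (.leaf (nat_lit 474)) (.leaf (nat_lit 3817))) (.leaf (nat_lit 1824))) (.node (.leaf (nat_lit 1107)) (.leaf (nat_lit 2694))))))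 (.node (.node (.node (.node (.node (.leaf (nat_lit 124)) (.leaf (nat_lit 3059))) (.leaf (nat_lit 1351))) (.node (.node (.leaf (nat_lit 707)) (.leaf (nat_lit 4387))) (.leaf (nat_lit 2137)))) (.node (.node (.node (.leaf (nat_lit 404)) (.leaf (nat_lit 3642))) (.leaf (nat_lit 1729))) (.node (.leaf (nat_lit 1017)) (.leaf (nat_lit 2585))))) (.node (.node (.node (.node (.leaf (nat_lit 260)) (.leaf (nat_lit 3311))) (.leaf (nat_lit 1533))) (.node (.node (.leaf (nat_lit 859)) (.leaf (nat_lit 4965))) (.leaf (nat_lit 2357)))) (.node (.node (.node (.leaf (nat_lit 551)) (.leaf (nat_lit 3978))) (.leaf (nat_lit 1931))) (.node (.leaf (nat_lit 1182)) (.leaf (nat_lit 2798)))))))))) (.node (.node (.node (.node (.node (.node (.node (.node (.node (.leaf (nat_lit 4)) (.leaf (nat_lit 2819))) (.leaf (nat_lit 1197))) (.node (.node (.leaf (nat_lit 567)) (.leaf (nat_lit 4004))) (.leaf (nat_lit 1950)))) (.node (.node (.node (.leaf (nat_lit 272)) (.leaf (nat_lit 3337))) (.leaf (nat_lit 1553))) (.node (.node (.leaf (nat_lit 873)) (.leaf (nat_lit 5022))) (.leaf (nat_lit 2378))))) (.node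 (.node (.node (.node (.leaf (nat_lit 136)) (.leaf (nat_lit 3090))) (.leaf (nat_lit 1366))) (.node (.node (.leaf (nat_lit 719)) (.leaf (nat_lit 4430))) (.leaf (nat_lit 2154)))) (.node (.node (.node (.leaf (nat_lit 417)) (.leaf (nat_lit 3666))) (.leaf (nat_lit 1747))) (.node (.leaf (nat_lit 1033)) (.leaf (nat_lit 2599)))))) (.node (.node (.node (.node (.node (.leaf (nat_lit 69)) (.leaf (nat_lit 2959))) (.leaf (nat_lit 1281))) (.node (.node (.leaf (nat_lit 645)) (.leaf (nat_lit 4208))) (.leaf (nat_lit 2055)))) (.node (.node (.node (.leaf (nat_lit 344)) (.leaf (nat_lit 3511))) (.leaf (nat_lit 1644))) (.node (.leaf (nat_lit 950)) (.leaf (nat_lit 2489))))) (.node (.node (.node (.node (.leaf (nat_lit 203)) (.leaf (nat_lit 3207))) (.leaf (nat_lit 1460))) (.node (.node (.leaf (nat_lit 795)) (.leaf (nat_lit 4694))) (.leaf (nat_lit 2263)))) (.node (.node (.node (.leaf (nat_lit 489)) (.leaf (nat_lit 3848))) (.leaf (nat_lit 1846))) (.node (.leaf (nat_lit 1119)) (.leaf (nat_lit 2712))))))) (.node (.node (.node (.node (.node (.node (.leaf (nat_lit 36)) (.leaf (nat_lit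 2884))) (.leaf (nat_lit 1237))) (.node (.node (.leaf (nat_lit 606)) (.leaf (nat_lit 4117))) (.leaf (nat_lit 2006)))) (.node (.node (.node (.leaf (nat_lit 308)) (.leaf (nat_lit 3418))) (.leaf (nat_lit 1596))) (.node (.node (.leaf (nat_lit 912)) (.leaf (nat_lit 5314))) (.leaf (nat_lit 2433))))) (.node (.node (.node (.node (.leaf (nat_lit 169)) (.leaf (nat_lit 3151))) (.leaf (nat_lit 1412))) (.node (.node (.leaf (nat_lit 757)) (.leaf (nat_lit 4548))) (.leaf (nat_lit 2204)))) (.node (.node (.node (.leaf (nat_lit 453)) (.leaf (nat_lit 3757))) (.leaf (nat_lit 1790))) (.node (.leaf (nat_lit 1080)) (.leaf (nat_lit 2657)))))) (.node (.node (.node (.node (.node (.leaf (nat_lit 101)) (.leaf (nat_lit 3025))) (.leaf (nat_lit 1318))) (.node (.node (.leaf (nat_lit 683)) (.leaf (nat_lit 4322))) (.leaf (nat_lit 2110)))) (.node (.node (.node (.leaf (nat_lit 380)) (.leaf (nat_lit 3589))) (.leaf (nat_lit 1698))) (.node (.leaf (nat_lit 994)) (.leaf (nat_lit 2551))))) (.node (.node (.node (.node (.leaf (nat_lit 237)) (.leaf (nat_lit 3270))) (.leaf (nat_lit 1505))) (.node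 (.node (.leaf (nat_lit 835)) (.leaf (nat_lit 4872))) (.leaf (nat_lit 2318)))) (.node (.node (.node (.leaf (nat_lit 528)) (.leaf (nat_lit 3927))) (.leaf (nat_lit 1893))) (.node (.leaf (nat_lit 1156)) (.leaf (nat_lit 2764)))))))) (.node (.node (.node (.node (.node (.node (.node (.leaf (nat_lit 20)) (.leaf (nat_lit 2851))) (.leaf (nat_lit 1218))) (.node (.node (.leaf (nat_lit 586)) (.leaf (nat_lit 4063))) (.leaf (nat_lit 1981)))) (.node (.node (.node (.leaf (nat_lit 291)) (.leaf (nat_lit 3385))) (.leaf (nat_lit 1576))) (.node (.node (.leaf (nat_lit 891)) (.leaf (nat_lit 5110))) (.leaf (nat_lit 2408))))) (.node (.node (.node (.node (.leaf (nat_lit 152)) (.leaf (nat_lit 3115))) (.leaf (nat_lit 1392))) (.node (.node (.leaf (nat_lit 740)) (.leaf (nat_lit 4503))) (.leaf (nat_lit 2178)))) (.node (.node (.node (.leaf (nat_lit 435)) (.leaf (nat_lit 3708))) (.leaf (nat_lit 1771))) (.node (.leaf (nat_lit 1055)) (.leaf (nat_lit 2630)))))) (.node (.node (.node (.node (.node (.leaf (nat_lit 85)) (.leaf (nat_lit 2984))) (.leaf (nat_lit 1299))) (.node (.node (.leaf (nat_lit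 663)) (.leaf (nat_lit 4254))) (.leaf (nat_lit 2081)))) (.node (.node (.node (.leaf (nat_lit 361)) (.leaf (nat_lit 3549))) (.leaf (nat_lit 1672))) (.node (.leaf (nat_lit 974)) (.leaf (nat_lit 2519))))) (.node (.node (.node (.node (.leaf (nat_lit 220)) (.leaf (nat_lit 3244))) (.leaf (nat_lit 1482))) (.node (.node (.leaf (nat_lit 813)) (.leaf (nat_lit 4769))) (.leaf (nat_lit 2294)))) (.node (.node (.node (.leaf (nat_lit 510)) (.leaf (nat_lit 3885))) (.leaf (nat_lit 1866))) (.node (.leaf (nat_lit 1139)) (.leaf (nat_lit 2740))))))) (.node (.node (.node (.node (.node (.node (.leaf (nat_lit 52)) (.leaf (nat_lit 2916))) (.leaf (nat_lit 1258))) (.node (.node (.leaf (nat_lit 627)) (.leaf (nat_lit 4164))) (.leaf (nat_lit 2035)))) (.node (.node (.node (.leaf (nat_lit 327)) (.leaf (nat_lit 3465))) (.leaf (nat_lit 1626))) (.node (.node (.leaf (nat_lit 932)) (.leaf (nat_lit 5526))) (.leaf (nat_lit 2458))))) (.node (.node (.node (.node (.leaf (nat_lit 186)) (.leaf (nat_lit 3177))) (.leaf (nat_lit 1441))) (.node (.node (.leaf (nat_lit 776)) (.leaf (nat_lit 4618))) (.leaf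 (nat_lit 2237)))) (.node (.node (.node (.leaf (nat_lit 470)) (.leaf (nat_lit 3807))) (.leaf (nat_lit 1817))) (.node (.leaf (nat_lit 1102)) (.leaf (nat_lit 2687)))))) (.node (.node (.node (.node (.node (.leaf (nat_lit 119)) (.leaf (nat_lit 3051))) (.leaf (nat_lit 1343))) (.node (.node (.leaf (nat_lit 703)) (.leaf (nat_lit 4372))) (.leaf (nat_lit 2129)))) (.node (.node (.node (.leaf (nat_lit 398)) (.leaf (nat_lit 3625))) (.leaf (nat_lit 1724))) (.node (.leaf (nat_lit 1013)) (.leaf (nat_lit 2579))))) (.node (.node (.node (.node (.leaf (nat_lit 255)) (.leaf (nat_lit 3300))) (.leaf (nat_lit 1527))) (.node (.node (.leaf (nat_lit 854)) (.leaf (nat_lit 4932))) (.leaf (nat_lit 2353)))) (.node (.node (.node (.leaf (nat_lit 546)) (.leaf (nat_lit 3966))) (.leaf (nat_lit 1925))) (.node (.leaf (nat_lit 1177)) (.leaf (nat_lit 2791))))))))) (.node (.node (.node (.node (.node (.node (.node (.node (.leaf (nat_lit 12)) (.leaf (nat_lit 2831))) (.leaf (nat_lit 1209))) (.node (.node (.leaf (nat_lit 576)) (.leaf (nat_lit 4038))) (.leaf (nat_lit 1964)))) (.node (.node (.node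 (.leaf (nat_lit 281)) (.leaf (nat_lit 3361))) (.leaf (nat_lit 1566))) (.node (.node (.leaf (nat_lit 882)) (.leaf (nat_lit 5064))) (.leaf (nat_lit 2395))))) (.node (.node (.node (.node (.leaf (nat_lit 144)) (.leaf (nat_lit 3102))) (.leaf (nat_lit 1380))) (.node (.node (.leaf (nat_lit 730)) (.leaf (nat_lit 4462))) (.leaf (nat_lit 2165)))) (.node (.node (.node (.leaf (nat_lit 426)) (.leaf (nat_lit 3681))) (.leaf (nat_lit 1761))) (.node (.leaf (nat_lit 1043)) (.leaf (nat_lit 2616)))))) (.node (.node (.node (.node (.node (.leaf (nat_lit 77)) (.leaf (nat_lit 2969))) (.leaf (nat_lit 1289))) (.node (.node (.leaf (nat_lit 654)) (.leaf (nat_lit 4236))) (.leaf (nat_lit 2067)))) (.node (.node (.node (.leaf (nat_lit 353)) (.leaf (nat_lit 3528))) (.leaf (nat_lit 1660))) (.node (.leaf (nat_lit 964)) (.leaf (nat_lit 2508))))) (.node (.node (.node (.node (.leaf (nat_lit 212)) (.leaf (nat_lit 3230))) (.leaf (nat_lit 1472))) (.node (.node (.leaf (nat_lit 803)) (.leaf (nat_lit 4723))) (.leaf (nat_lit 2275)))) (.node (.node (.node (.leaf (nat_lit 498)) (.leaf (nat_lit 3869)))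 (.leaf (nat_lit 1855))) (.node (.leaf (nat_lit 1129)) (.leaf (nat_lit 2731))))))) (.node (.node (.node (.node (.node (.node (.leaf (nat_lit 44)) (.leaf (nat_lit 2897))) (.leaf (nat_lit 1247))) (.node (.node (.leaf (nat_lit 616)) (.leaf (nat_lit 4136))) (.leaf (nat_lit 2017)))) (.node (.node (.node (.leaf (nat_lit 317)) (.leaf (nat_lit 3440))) (.leaf (nat_lit 1613))) (.node (.node (.leaf (nat_lit 921)) (.leaf (nat_lit 5380))) (.leaf (nat_lit 2444))))) (.node (.node (.node (.node (.leaf (nat_lit 178)) (.leaf (nat_lit 3166))) (.leaf (nat_lit 1425))) (.node (.node (.leaf (nat_lit 766)) (.leaf (nat_lit 4592))) (.leaf (nat_lit 2220)))) (.node (.node (.node (.leaf (nat_lit 462)) (.leaf (nat_lit 3786))) (.leaf (nat_lit 1802))) (.node (.leaf (nat_lit 1091)) (.leaf (nat_lit 2671)))))) (.node (.node (.node (.node (.node (.leaf (nat_lit 111)) (.leaf (nat_lit 3043))) (.leaf (nat_lit 1330))) (.node (.node (.leaf (nat_lit 693)) (.leaf (nat_lit 4350))) (.leaf (nat_lit 2120)))) (.node (.node (.node (.leaf (nat_lit 388)) (.leaf (nat_lit 3605))) (.leaf (nat_lit 1711)))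 (.node (.leaf (nat_lit 1004)) (.leaf (nat_lit 2565))))) (.node (.node (.node (.node (.leaf (nat_lit 246)) (.leaf (nat_lit 3287))) (.leaf (nat_lit 1517))) (.node (.node (.leaf (nat_lit 844)) (.leaf (nat_lit 4905))) (.leaf (nat_lit 2343)))) (.node (.node (.node (.leaf (nat_lit 536)) (.leaf (nat_lit 3943))) (.leaf (nat_lit 1909))) (.node (.leaf (nat_lit 1164)) (.leaf (nat_lit 2781)))))))) (.node (.node (.node (.node (.node (.node (.node (.leaf (nat_lit 28)) (.leaf (nat_lit 2868))) (.leaf (nat_lit 1227))) (.node (.node (.leaf (nat_lit 596)) (.leaf (nat_lit 4085))) (.leaf (nat_lit 1993)))) (.node (.node (.node (.leaf (nat_lit 299)) (.leaf (nat_lit 3406))) (.leaf (nat_lit 1586))) (.node (.node (.leaf (nat_lit 901)) (.leaf (nat_lit 5173))) (.leaf (nat_lit 2421))))) (.node (.node (.node (.node (.leaf (nat_lit 160)) (.leaf (nat_lit 3131))) (.leaf (nat_lit 1402))) (.node (.node (.leaf (nat_lit 749)) (.leaf (nat_lit 4521))) (.leaf (nat_lit 2191)))) (.node (.node (.node (.leaf (nat_lit 444)) (.leaf (nat_lit 3734))) (.leaf (nat_lit 1781))) (.node (.leaf (nat_lit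 1069)) (.leaf (nat_lit 2641)))))) (.node (.node (.node (.node (.node (.leaf (nat_lit 93)) (.leaf (nat_lit 2996))) (.leaf (nat_lit 1309))) (.node (.node (.leaf (nat_lit 673)) (.leaf (nat_lit 4300))) (.leaf (nat_lit 2093)))) (.node (.node (.node (.leaf (nat_lit 371)) (.leaf (nat_lit 3568))) (.leaf (nat_lit 1683))) (.node (.leaf (nat_lit 982)) (.leaf (nat_lit 2533))))) (.node (.node (.node (.node (.leaf (nat_lit 229)) (.leaf (nat_lit 3255))) (.leaf (nat_lit 1495))) (.node (.node (.leaf (nat_lit 825)) (.leaf (nat_lit 4829))) (.leaf (nat_lit 2306)))) (.node (.node (.node (.leaf (nat_lit 519)) (.leaf (nat_lit 3907))) (.leaf (nat_lit 1880))) (.node (.leaf (nat_lit 1147)) (.leaf (nat_lit 2753))))))) (.node (.node (.node (.node (.node (.node (.leaf (nat_lit 60)) (.leaf (nat_lit 2937))) (.leaf (nat_lit 1272))) (.node (.node (.leaf (nat_lit 636)) (.leaf (nat_lit 4191))) (.leaf (nat_lit 2043)))) (.node (.node (.node (.leaf (nat_lit 335)) (.leaf (nat_lit 3486))) (.leaf (nat_lit 1634))) (.node (.node (.leaf (nat_lit 941)) (.leaf (nat_lit 5621))) (.leaf (nat_lit 2473)))))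 (.node (.node (.node (.node (.leaf (nat_lit 195)) (.leaf (nat_lit 3193))) (.leaf (nat_lit 1449))) (.node (.node (.leaf (nat_lit 786)) (.leaf (nat_lit 4646))) (.leaf (nat_lit 2255)))) (.node (.node (.node (.leaf (nat_lit 480)) (.leaf (nat_lit 3823))) (.leaf (nat_lit 1831))) (.node (.leaf (nat_lit 1111)) (.leaf (nat_lit 2701)))))) (.node (.node (.node (.node (.node (.leaf (nat_lit 128)) (.leaf (nat_lit 3070))) (.leaf (nat_lit 1357))) (.node (.node (.leaf (nat_lit 711)) (.leaf (nat_lit 4403))) (.leaf (nat_lit 2143)))) (.node (.node (.node (.leaf (nat_lit 408)) (.leaf (nat_lit 3646))) (.leaf (nat_lit 1739))) (.node (.leaf (nat_lit 1021)) (.leaf (nat_lit 2589))))) (.node (.node (.node (.node (.leaf (nat_lit 264)) (.leaf (nat_lit 3316))) (.leaf (nat_lit 1540))) (.node (.node (.leaf (nat_lit 865)) (.leaf (nat_lit 4984))) (.leaf (nat_lit 2365)))) (.node (.node (.node (.leaf (nat_lit 556)) (.leaf (nat_lit 3986))) (.leaf (nat_lit 1938))) (.node (.leaf (nat_lit 1187)) (.leaf (nat_lit 2806))))))))))) (.node (.node (.node (.node (.node (.node (.node (.node (.node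 (.node (.leaf (nat_lit 2)) (.leaf (nat_lit 2815))) (.leaf (nat_lit 1195))) (.node (.node (.leaf (nat_lit 565)) (.leaf (nat_lit 4000))) (.leaf (nat_lit 1947)))) (.node (.node (.node (.leaf (nat_lit 270)) (.leaf (nat_lit 3329))) (.leaf (nat_lit 1550))) (.node (.node (.leaf (nat_lit 871)) (.leaf (nat_lit 5003))) (.leaf (nat_lit 2375))))) (.node (.node (.node (.node (.leaf (nat_lit 134)) (.leaf (nat_lit 3088))) (.leaf (nat_lit 1364))) (.node (.node (.leaf (nat_lit 717)) (.leaf (nat_lit 4424))) (.leaf (nat_lit 2151)))) (.node (.node (.node (.leaf (nat_lit 415)) (.leaf (nat_lit 3662))) (.leaf (nat_lit 1745))) (.node (.leaf (nat_lit 1031)) (.leaf (nat_lit 2596)))))) (.node (.node (.node (.node (.node (.leaf (nat_lit 67)) (.leaf (nat_lit 2955))) (.leaf (nat_lit 1278))) (.node (.node (.leaf (nat_lit 643)) (.leaf (nat_lit 4205))) (.leaf (nat_lit 2052)))) (.node (.node (.node (.leaf (nat_lit 341)) (.leaf (nat_lit 3504))) (.leaf (nat_lit 1642))) (.node (.leaf (nat_lit 948)) (.leaf (nat_lit 2482))))) (.node (.node (.node (.node (.leaf (nat_lit 201)) (.leaf (nat_lit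 3203))) (.leaf (nat_lit 1457))) (.node (.node (.leaf (nat_lit 793)) (.leaf (nat_lit 4671))) (.leaf (nat_lit 2261)))) (.node (.node (.node (.leaf (nat_lit 486)) (.leaf (nat_lit 3843))) (.leaf (nat_lit 1844))) (.node (.leaf (nat_lit 1117)) (.leaf (nat_lit 2709))))))) (.node (.node (.node (.node (.node (.node (.leaf (nat_lit 34)) (.leaf (nat_lit 2877))) (.leaf (nat_lit 1235))) (.node (.node (.leaf (nat_lit 603)) (.leaf (nat_lit 4114))) (.leaf (nat_lit 2004)))) (.node (.node (.node (.leaf (nat_lit 305)) (.leaf (nat_lit 3416))) (.leaf (nat_lit 1594))) (.node (.node (.leaf (nat_lit 908)) (.leaf (nat_lit 5299))) (.leaf (nat_lit 2430))))) (.node (.node (.node (.node (.leaf (nat_lit 167)) (.leaf (nat_lit 3147))) (.leaf (nat_lit 1410))) (.node (.node (.leaf (nat_lit 755)) (.leaf (nat_lit 4538))) (.leaf (nat_lit 2202)))) (.node (.node (.node (.leaf (nat_lit 451)) (.leaf (nat_lit 3755))) (.leaf (nat_lit 1787))) (.node (.leaf (nat_lit 1077)) (.leaf (nat_lit 2653)))))) (.node (.node (.node (.node (.node (.leaf (nat_lit 99)) (.leaf (nat_lit 3018))) (.leaf (nat_lit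 1316))) (.node (.node (.leaf (nat_lit 681)) (.leaf (nat_lit 4318))) (.leaf (nat_lit 2106)))) (.node (.node (.node (.leaf (nat_lit 377)) (.leaf (nat_lit 3582))) (.leaf (nat_lit 1694))) (.node (.leaf (nat_lit 990)) (.leaf (nat_lit 2546))))) (.node (.node (.node (.node (.leaf (nat_lit 235)) (.leaf (nat_lit 3265))) (.leaf (nat_lit 1503))) (.node (.node (.leaf (nat_lit 833)) (.leaf (nat_lit 4868))) (.leaf (nat_lit 2316)))) (.node (.node (.node (.leaf (nat_lit 525)) (.leaf (nat_lit 3924))) (.leaf (nat_lit 1890))) (.node (.leaf (nat_lit 1154)) (.leaf (nat_lit 2762)))))))) (.node (.node (.node (.node (.node (.node (.node (.leaf (nat_lit 18)) (.leaf (nat_lit 2848))) (.leaf (nat_lit 1216))) (.node (.node (.leaf (nat_lit 582)) (.leaf (nat_lit 4054))) (.leaf (nat_lit 1978)))) (.node (.node (.node (.leaf (nat_lit 289)) (.leaf (nat_lit 3383))) (.leaf (nat_lit 1573))) (.node (.node (.leaf (nat_lit 888)) (.leaf (nat_lit 5104))) (.leaf (nat_lit 2406))))) (.node (.node (.node (.node (.leaf (nat_lit 150)) (.leaf (nat_lit 3109))) (.leaf (nat_lit 1390))) (.node (.node (.leaf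 (nat_lit 736)) (.leaf (nat_lit 4488))) (.leaf (nat_lit 2176)))) (.node (.node (.node (.leaf (nat_lit 432)) (.leaf (nat_lit 3701))) (.leaf (nat_lit 1768))) (.node (.leaf (nat_lit 1053)) (.leaf (nat_lit 2628)))))) (.node (.node (.node (.node (.node (.leaf (nat_lit 83)) (.leaf (nat_lit 2981))) (.leaf (nat_lit 1296))) (.node (.node (.leaf (nat_lit 660)) (.leaf (nat_lit 4247))) (.leaf (nat_lit 2078)))) (.node (.node (.node (.leaf (nat_lit 359)) (.leaf (nat_lit 3544))) (.leaf (nat_lit 1670))) (.node (.leaf (nat_lit 971)) (.leaf (nat_lit 2516))))) (.node (.node (.node (.node (.leaf (nat_lit 218)) (.leaf (nat_lit 3242))) (.leaf (nat_lit 1480))) (.node (.node (.leaf (nat_lit 810)) (.leaf (nat_lit 4748))) (.leaf (nat_lit 2290)))) (.node (.node (.node (.leaf (nat_lit 506)) (.leaf (nat_lit 3881))) (.leaf (nat_lit 1864))) (.node (.leaf (nat_lit 1136)) (.leaf (nat_lit 2738))))))) (.node (.node (.node (.node (.node (.node (.leaf (nat_lit 50)) (.leaf (nat_lit 2913))) (.leaf (nat_lit 1256))) (.node (.node (.leaf (nat_lit 623)) (.leaf (nat_lit 4149))) (.leaf (nat_lit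 2029)))) (.node (.node (.node (.leaf (nat_lit 324)) (.leaf (nat_lit 3461))) (.leaf (nat_lit 1623))) (.node (.node (.leaf (nat_lit 928)) (.leaf (nat_lit 5464))) (.leaf (nat_lit 2450))))) (.node (.node (.node (.node (.leaf (nat_lit 184)) (.leaf (nat_lit 3175))) (.leaf (nat_lit 1438))) (.node (.node (.leaf (nat_lit 774)) (.leaf (nat_lit 4616))) (.leaf (nat_lit 2233)))) (.node (.node (.node (.leaf (nat_lit 468)) (.leaf (nat_lit 3802))) (.leaf (nat_lit 1812))) (.node (.leaf (nat_lit 1100)) (.leaf (nat_lit 2683)))))) (.node (.node (.node (.node (.node (.leaf (nat_lit 117)) (.leaf (nat_lit 3049))) (.leaf (nat_lit 1340))) (.node (.node (.leaf (nat_lit 701)) (.leaf (nat_lit 4370))) (.leaf (nat_lit 2127)))) (.node (.node (.node (.leaf (nat_lit 395)) (.leaf (nat_lit 3621))) (.leaf (nat_lit 1721))) (.node (.leaf (nat_lit 1010)) (.leaf (nat_lit 2577))))) (.node (.node (.node (.node (.leaf (nat_lit 253)) (.leaf (nat_lit 3298))) (.leaf (nat_lit 1524))) (.node (.node (.leaf (nat_lit 850)) (.leaf (nat_lit 4927))) (.leaf (nat_lit 2350)))) (.node (.node (.node (.leaf (nat_lit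 542)) (.leaf (nat_lit 3960))) (.leaf (nat_lit 1922))) (.node (.leaf (nat_lit 1175)) (.leaf (nat_lit 2788))))))))) (.node (.node (.node (.node (.node (.node (.node (.node (.leaf (nat_lit 10)) (.leaf (nat_lit 2826))) (.leaf (nat_lit 1207))) (.node (.node (.leaf (nat_lit 574)) (.leaf (nat_lit 4035))) (.leaf (nat_lit 1962)))) (.node (.node (.node (.leaf (nat_lit 278)) (.leaf (nat_lit 3358))) (.leaf (nat_lit 1563))) (.node (.node (.leaf (nat_lit 880)) (.leaf (nat_lit 5057))) (.leaf (nat_lit 2389))))) (.node (.node (.node (.node (.leaf (nat_lit 142)) (.leaf (nat_lit 3099))) (.leaf (nat_lit 1374))) (.node (.node (.leaf (nat_lit 728)) (.leaf (nat_lit 4449))) (.leaf (nat_lit 2163)))) (.node (.node (.node (.leaf (nat_lit 424)) (.leaf (nat_lit 3677))) (.leaf (nat_lit 1758))) (.node (.leaf (nat_lit 1040)) (.leaf (nat_lit 2611)))))) (.node (.node (.node (.node (.node (.leaf (nat_lit 75)) (.leaf (nat_lit 2967))) (.leaf (nat_lit 1287))) (.node (.node (.leaf (nat_lit 652)) (.leaf (nat_lit 4229))) (.leaf (nat_lit 2064)))) (.node (.node (.node (.leaf (nat_lit 351)) (.leaf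 (nat_lit 3522))) (.leaf (nat_lit 1654))) (.node (.leaf (nat_lit 961)) (.leaf (nat_lit 2505))))) (.node (.node (.node (.node (.leaf (nat_lit 210)) (.leaf (nat_lit 3227))) (.leaf (nat_lit 1468))) (.node (.node (.leaf (nat_lit 801)) (.leaf (nat_lit 4718))) (.leaf (nat_lit 2271)))) (.node (.node (.node (.leaf (nat_lit 496)) (.leaf (nat_lit 3867))) (.leaf (nat_lit 1853))) (.node (.leaf (nat_lit 1126)) (.leaf (nat_lit 2723))))))) (.node (.node (.node (.node (.node (.node (.leaf (nat_lit 42)) (.leaf (nat_lit 2895))) (.leaf (nat_lit 1245))) (.node (.node (.leaf (nat_lit 613)) (.leaf (nat_lit 4130))) (.leaf (nat_lit 2013)))) (.node (.node (.node (.leaf (nat_lit 314)) (.leaf (nat_lit 3436))) (.leaf (nat_lit 1608))) (.node (.node (.leaf (nat_lit 919)) (.leaf (nat_lit 5359))) (.leaf (nat_lit 2442))))) (.node (.node (.node (.node (.leaf (nat_lit 176)) (.leaf (nat_lit 3161))) (.leaf (nat_lit 1420))) (.node (.node (.leaf (nat_lit 763)) (.leaf (nat_lit 4568))) (.leaf (nat_lit 2217)))) (.node (.node (.node (.leaf (nat_lit 460)) (.leaf (nat_lit 3780))) (.leaf (nat_lit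 1798))) (.node (.leaf (nat_lit 1088)) (.leaf (nat_lit 2668)))))) (.node (.node (.node (.node (.node (.leaf (nat_lit 108)) (.leaf (nat_lit 3041))) (.leaf (nat_lit 1328))) (.node (.node (.leaf (nat_lit 689)) (.leaf (nat_lit 4344))) (.leaf (nat_lit 2117)))) (.node (.node (.node (.leaf (nat_lit 386)) (.leaf (nat_lit 3601))) (.leaf (nat_lit 1708))) (.node (.leaf (nat_lit 1002)) (.leaf (nat_lit 2559))))) (.node (.node (.node (.node (.leaf (nat_lit 243)) (.leaf (nat_lit 3283))) (.leaf (nat_lit 1515))) (.node (.node (.leaf (nat_lit 842)) (.leaf (nat_lit 4897))) (.leaf (nat_lit 2337)))) (.node (.node (.node (.leaf (nat_lit 534)) (.leaf (nat_lit 3940))) (.leaf (nat_lit 1899))) (.node (.leaf (nat_lit 1162)) (.leaf (nat_lit 2777)))))))) (.node (.node (.node (.node (.node (.node (.node (.leaf (nat_lit 26)) (.leaf (nat_lit 2863))) (.leaf (nat_lit 1225))) (.node (.node (.leaf (nat_lit 593)) (.leaf (nat_lit 4082))) (.leaf (nat_lit 1990)))) (.node (.node (.node (.leaf (nat_lit 297)) (.leaf (nat_lit 3397))) (.leaf (nat_lit 1584))) (.node (.node (.leaf (nat_lit 899)) (.leaf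 (nat_lit 5156))) (.leaf (nat_lit 2418))))) (.node (.node (.node (.node (.leaf (nat_lit 158)) (.leaf (nat_lit 3128))) (.leaf (nat_lit 1400))) (.node (.node (.leaf (nat_lit 747)) (.leaf (nat_lit 4516))) (.leaf (nat_lit 2188)))) (.node (.node (.node (.leaf (nat_lit 442)) (.leaf (nat_lit 3723))) (.leaf (nat_lit 1779))) (.node (.leaf (nat_lit 1064)) (.leaf (nat_lit 2637)))))) (.node (.node (.node (.node (.node (.leaf (nat_lit 91)) (.leaf (nat_lit 2994))) (.leaf (nat_lit 1305))) (.node (.node (.leaf (nat_lit 671)) (.leaf (nat_lit 4291))) (.leaf (nat_lit 2089)))) (.node (.node (.node (.leaf (nat_lit 369)) (.leaf (nat_lit 3566))) (.leaf (nat_lit 1681))) (.node (.leaf (nat_lit 980)) (.leaf (nat_lit 2529))))) (.node (.node (.node (.node (.leaf (nat_lit 227)) (.leaf (nat_lit 3253))) (.leaf (nat_lit 1492))) (.node (.node (.leaf (nat_lit 820)) (.leaf (nat_lit 4809))) (.leaf (nat_lit 2301)))) (.node (.node (.node (.leaf (nat_lit 517)) (.leaf (nat_lit 3903))) (.leaf (nat_lit 1876))) (.node (.leaf (nat_lit 1145)) (.leaf (nat_lit 2750))))))) (.node (.node (.node (.node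 (.node (.node (.leaf (nat_lit 58)) (.leaf (nat_lit 2932))) (.leaf (nat_lit 1268))) (.node (.node (.leaf (nat_lit 634)) (.leaf (nat_lit 4182))) (.leaf (nat_lit 2041)))) (.node (.node (.node (.leaf (nat_lit 333)) (.leaf (nat_lit 3478))) (.leaf (nat_lit 1632))) (.node (.node (.leaf (nat_lit 939)) (.leaf (nat_lit 5587))) (.leaf (nat_lit 2469))))) (.node (.node (.node (.node (.leaf (nat_lit 193)) (.leaf (nat_lit 3190))) (.leaf (nat_lit 1447))) (.node (.node (.leaf (nat_lit 784)) (.leaf (nat_lit 4640))) (.leaf (nat_lit 2250)))) (.node (.node (.node (.leaf (nat_lit 478)) (.leaf (nat_lit 3819))) (.leaf (nat_lit 1827))) (.node (.leaf (nat_lit 1109)) (.leaf (nat_lit 2699)))))) (.node (.node (.node (.node (.node (.leaf (nat_lit 126)) (.leaf (nat_lit 3063))) (.leaf (nat_lit 1353))) (.node (.node (.leaf (nat_lit 709)) (.leaf (nat_lit 4397))) (.leaf (nat_lit 2140)))) (.node (.node (.node (.leaf (nat_lit 406)) (.leaf (nat_lit 3644))) (.leaf (nat_lit 1737))) (.node (.leaf (nat_lit 1019)) (.leaf (nat_lit 2587))))) (.node (.node (.node (.node (.leaf (nat_lit 262)) (.leaf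 (nat_lit 3313))) (.leaf (nat_lit 1537))) (.node (.node (.leaf (nat_lit 863)) (.leaf (nat_lit 4973))) (.leaf (nat_lit 2363)))) (.node (.node (.node (.leaf (nat_lit 554)) (.leaf (nat_lit 3984))) (.leaf (nat_lit 1934))) (.node (.leaf (nat_lit 1184)) (.leaf (nat_lit 2803)))))))))) (.node (.node (.node (.node (.node (.node (.node (.node (.node (.leaf (nat_lit 6)) (.leaf (nat_lit 2822))) (.leaf (nat_lit 1199))) (.node (.node (.leaf (nat_lit 569)) (.leaf (nat_lit 4015))) (.leaf (nat_lit 1953)))) (.node (.node (.node (.leaf (nat_lit 274)) (.leaf (nat_lit 3350))) (.leaf (nat_lit 1559))) (.node (.node (.leaf (nat_lit 875)) (.leaf (nat_lit 5031))) (.leaf (nat_lit 2380))))) (.node (.node (.node (.node (.leaf (nat_lit 138)) (.leaf (nat_lit 3093))) (.leaf (nat_lit 1369))) (.node (.node (.leaf (nat_lit 721)) (.leaf (nat_lit 4442))) (.leaf (nat_lit 2158)))) (.node (.node (.node (.leaf (nat_lit 420)) (.leaf (nat_lit 3672))) (.leaf (nat_lit 1751))) (.node (.leaf (nat_lit 1036)) (.leaf (nat_lit 2603)))))) (.node (.node (.node (.node (.node (.leaf (nat_lit 71)) (.leaf (nat_lit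 2962))) (.leaf (nat_lit 1283))) (.node (.node (.leaf (nat_lit 647)) (.leaf (nat_lit 4210))) (.leaf (nat_lit 2058)))) (.node (.node (.node (.leaf (nat_lit 347)) (.leaf (nat_lit 3514))) (.leaf (nat_lit 1647))) (.node (.leaf (nat_lit 953)) (.leaf (nat_lit 2497))))) (.node (.node (.node (.node (.leaf (nat_lit 205)) (.leaf (nat_lit 3212))) (.leaf (nat_lit 1462))) (.node (.node (.leaf (nat_lit 797)) (.leaf (nat_lit 4700))) (.leaf (nat_lit 2266)))) (.node (.node (.node (.leaf (nat_lit 492)) (.leaf (nat_lit 3856))) (.leaf (nat_lit 1848))) (.node (.leaf (nat_lit 1121)) (.leaf (nat_lit 2714))))))) (.node (.node (.node (.node (.node (.node (.leaf (nat_lit 38)) (.leaf (nat_lit 2887))) (.leaf (nat_lit 1240))) (.node (.node (.leaf (nat_lit 608)) (.leaf (nat_lit 4123))) (.leaf (nat_lit 2008)))) (.node (.node (.node (.leaf (nat_lit 310)) (.leaf (nat_lit 3425))) (.leaf (nat_lit 1599))) (.node (.node (.leaf (nat_lit 915)) (.leaf (nat_lit 5329))) (.leaf (nat_lit 2437))))) (.node (.node (.node (.node (.leaf (nat_lit 172)) (.leaf (nat_lit 3154))) (.leaf (nat_lit 1416)))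 (.node (.node (.leaf (nat_lit 759)) (.leaf (nat_lit 4553))) (.leaf (nat_lit 2206)))) (.node (.node (.node (.leaf (nat_lit 455)) (.leaf (nat_lit 3765))) (.leaf (nat_lit 1792))) (.node (.leaf (nat_lit 1083)) (.leaf (nat_lit 2660)))))) (.node (.node (.node (.node (.node (.leaf (nat_lit 104)) (.leaf (nat_lit 3031))) (.leaf (nat_lit 1322))) (.node (.node (.leaf (nat_lit 685)) (.leaf (nat_lit 4328))) (.leaf (nat_lit 2112)))) (.node (.node (.node (.leaf (nat_lit 382)) (.leaf (nat_lit 3594))) (.leaf (nat_lit 1703))) (.node (.leaf (nat_lit 997)) (.leaf (nat_lit 2555))))) (.node (.node (.node (.node (.leaf (nat_lit 239)) (.leaf (nat_lit 3276))) (.leaf (nat_lit 1511))) (.node (.node (.leaf (nat_lit 837)) (.leaf (nat_lit 4891))) (.leaf (nat_lit 2328)))) (.node (.node (.node (.leaf (nat_lit 530)) (.leaf (nat_lit 3932))) (.leaf (nat_lit 1895))) (.node (.leaf (nat_lit 1158)) (.leaf (nat_lit 2769)))))))) (.node (.node (.node (.node (.node (.node (.node (.leaf (nat_lit 22)) (.leaf (nat_lit 2856))) (.leaf (nat_lit 1220))) (.node (.node (.leaf (nat_lit 588)) (.leaf (nat_lit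 4072))) (.leaf (nat_lit 1984)))) (.node (.node (.node (.leaf (nat_lit 293)) (.leaf (nat_lit 3387))) (.leaf (nat_lit 1578))) (.node (.node (.leaf (nat_lit 893)) (.leaf (nat_lit 5121))) (.leaf (nat_lit 2411))))) (.node (.node (.node (.node (.leaf (nat_lit 154)) (.leaf (nat_lit 3121))) (.leaf (nat_lit 1395))) (.node (.node (.leaf (nat_lit 743)) (.leaf (nat_lit 4505))) (.leaf (nat_lit 2182)))) (.node (.node (.node (.leaf (nat_lit 438)) (.leaf (nat_lit 3716))) (.leaf (nat_lit 1773))) (.node (.leaf (nat_lit 1057)) (.leaf (nat_lit 2632)))))) (.node (.node (.node (.node (.node (.leaf (nat_lit 87)) (.leaf (nat_lit 2988))) (.leaf (nat_lit 1301))) (.node (.node (.leaf (nat_lit 666)) (.leaf (nat_lit 4264))) (.leaf (nat_lit 2084)))) (.node (.node (.node (.leaf (nat_lit 364)) (.leaf (nat_lit 3554))) (.leaf (nat_lit 1677))) (.node (.leaf (nat_lit 976)) (.leaf (nat_lit 2523))))) (.node (.node (.node (.node (.leaf (nat_lit 222)) (.leaf (nat_lit 3246))) (.leaf (nat_lit 1486))) (.node (.node (.leaf (nat_lit 816)) (.leaf (nat_lit 4777))) (.leaf (nat_lit 2296)))) (.node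 (.node (.node (.leaf (nat_lit 512)) (.leaf (nat_lit 3888))) (.leaf (nat_lit 1869))) (.node (.leaf (nat_lit 1141)) (.leaf (nat_lit 2744))))))) (.node (.node (.node (.node (.node (.node (.leaf (nat_lit 54)) (.leaf (nat_lit 2920))) (.leaf (nat_lit 1262))) (.node (.node (.leaf (nat_lit 629)) (.leaf (nat_lit 4170))) (.leaf (nat_lit 2037)))) (.node (.node (.node (.leaf (nat_lit 329)) (.leaf (nat_lit 3469))) (.leaf (nat_lit 1628))) (.node (.node (.leaf (nat_lit 935)) (.leaf (nat_lit 5549))) (.leaf (nat_lit 2462))))) (.node (.node (.node (.node (.leaf (nat_lit 189)) (.leaf (nat_lit 3182))) (.leaf (nat_lit 1443))) (.node (.node (.leaf (nat_lit 779)) (.leaf (nat_lit 4626))) (.leaf (nat_lit 2241)))) (.node (.node (.node (.leaf (nat_lit 472)) (.leaf (nat_lit 3814))) (.leaf (nat_lit 1822))) (.node (.leaf (nat_lit 1105)) (.leaf (nat_lit 2691)))))) (.node (.node (.node (.node (.node (.leaf (nat_lit 121)) (.leaf (nat_lit 3053))) (.leaf (nat_lit 1348))) (.node (.node (.leaf (nat_lit 705)) (.leaf (nat_lit 4379))) (.leaf (nat_lit 2135)))) (.node (.node (.node (.leaf (nat_lit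 402)) (.leaf (nat_lit 3633))) (.leaf (nat_lit 1727))) (.node (.leaf (nat_lit 1015)) (.leaf (nat_lit 2583))))) (.node (.node (.node (.node (.leaf (nat_lit 258)) (.leaf (nat_lit 3306))) (.leaf (nat_lit 1530))) (.node (.node (.leaf (nat_lit 856)) (.leaf (nat_lit 4957))) (.leaf (nat_lit 2355)))) (.node (.node (.node (.leaf (nat_lit 549)) (.leaf (nat_lit 3974))) (.leaf (nat_lit 1929))) (.node (.leaf (nat_lit 1180)) (.leaf (nat_lit 2796))))))))) (.node (.node (.node (.node (.node (.node (.node (.node (.leaf (nat_lit 14)) (.leaf (nat_lit 2834))) (.leaf (nat_lit 1212))) (.node (.node (.leaf (nat_lit 578)) (.leaf (nat_lit 4043))) (.leaf (nat_lit 1967)))) (.node (.node (.node (.leaf (nat_lit 284)) (.leaf (nat_lit 3371))) (.leaf (nat_lit 1569))) (.node (.node (.leaf (nat_lit 884)) (.leaf (nat_lit 5072))) (.leaf (nat_lit 2398))))) (.node (.node (.node (.node (.leaf (nat_lit 146)) (.leaf (nat_lit 3104))) (.leaf (nat_lit 1384))) (.node (.node (.leaf (nat_lit 732)) (.leaf (nat_lit 4467))) (.leaf (nat_lit 2172)))) (.node (.node (.node (.leaf (nat_lit 428)) (.leaf (nat_lit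 3689))) (.leaf (nat_lit 1764))) (.node (.leaf (nat_lit 1046)) (.leaf (nat_lit 2620)))))) (.node (.node (.node (.node (.node (.leaf (nat_lit 79)) (.leaf (nat_lit 2973))) (.leaf (nat_lit 1291))) (.node (.node (.leaf (nat_lit 656)) (.leaf (nat_lit 4240))) (.leaf (nat_lit 2072)))) (.node (.node (.node (.leaf (nat_lit 355)) (.leaf (nat_lit 3533))) (.leaf (nat_lit 1665))) (.node (.leaf (nat_lit 966)) (.leaf (nat_lit 2510))))) (.node (.node (.node (.node (.leaf (nat_lit 214)) (.leaf (nat_lit 3232))) (.leaf (nat_lit 1474))) (.node (.node (.leaf (nat_lit 805)) (.leaf (nat_lit 4732))) (.leaf (nat_lit 2286)))) (.node (.node (.node (.leaf (nat_lit 501)) (.leaf (nat_lit 3873))) (.leaf (nat_lit 1857))) (.node (.leaf (nat_lit 1131)) (.leaf (nat_lit 2734))))))) (.node (.node (.node (.node (.node (.node (.leaf (nat_lit 46)) (.leaf (nat_lit 2899))) (.leaf (nat_lit 1249))) (.node (.node (.leaf (nat_lit 618)) (.leaf (nat_lit 4145))) (.leaf (nat_lit 2022)))) (.node (.node (.node (.leaf (nat_lit 320)) (.leaf (nat_lit 3446))) (.leaf (nat_lit 1617))) (.node (.node (.leaf (nat_lit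 923)) (.leaf (nat_lit 5389))) (.leaf (nat_lit 2446))))) (.node (.node (.node (.node (.leaf (nat_lit 180)) (.leaf (nat_lit 3169))) (.leaf (nat_lit 1430))) (.node (.node (.leaf (nat_lit 770)) (.leaf (nat_lit 4603))) (.leaf (nat_lit 2222)))) (.node (.node (.node (.leaf (nat_lit 464)) (.leaf (nat_lit 3794))) (.leaf (nat_lit 1804))) (.node (.leaf (nat_lit 1094)) (.leaf (nat_lit 2673)))))) (.node (.node (.node (.node (.node (.leaf (nat_lit 113)) (.leaf (nat_lit 3045))) (.leaf (nat_lit 1333))) (.node (.node (.leaf (nat_lit 696)) (.leaf (nat_lit 4361))) (.leaf (nat_lit 2123)))) (.node (.node (.node (.leaf (nat_lit 390)) (.leaf (nat_lit 3611))) (.leaf (nat_lit 1716))) (.node (.leaf (nat_lit 1006)) (.leaf (nat_lit 2569))))) (.node (.node (.node (.node (.leaf (nat_lit 248)) (.leaf (nat_lit 3289))) (.leaf (nat_lit 1520))) (.node (.node (.leaf (nat_lit 846)) (.leaf (nat_lit 4914))) (.leaf (nat_lit 2345)))) (.node (.node (.node (.leaf (nat_lit 538)) (.leaf (nat_lit 3947))) (.leaf (nat_lit 1914))) (.node (.leaf (nat_lit 1166)) (.leaf (nat_lit 2784)))))))) (.node (.node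 (.node (.node (.node (.node (.node (.leaf (nat_lit 30)) (.leaf (nat_lit 2872))) (.leaf (nat_lit 1229))) (.node (.node (.leaf (nat_lit 598)) (.leaf (nat_lit 4092))) (.leaf (nat_lit 1997)))) (.node (.node (.node (.leaf (nat_lit 301)) (.leaf (nat_lit 3409))) (.leaf (nat_lit 1588))) (.node (.node (.leaf (nat_lit 904)) (.leaf (nat_lit 5260))) (.leaf (nat_lit 2424))))) (.node (.node (.node (.node (.leaf (nat_lit 162)) (.leaf (nat_lit 3133))) (.leaf (nat_lit 1405))) (.node (.node (.leaf (nat_lit 751)) (.leaf (nat_lit 4527))) (.leaf (nat_lit 2194)))) (.node (.node (.node (.leaf (nat_lit 447)) (.leaf (nat_lit 3741))) (.leaf (nat_lit 1783))) (.node (.leaf (nat_lit 1071)) (.leaf (nat_lit 2643)))))) (.node (.node (.node (.node (.node (.leaf (nat_lit 95)) (.leaf (nat_lit 3010))) (.leaf (nat_lit 1311))) (.node (.node (.leaf (nat_lit 675)) (.leaf (nat_lit 4308))) (.leaf (nat_lit 2100)))) (.node (.node (.node (.leaf (nat_lit 373)) (.leaf (nat_lit 3571))) (.leaf (nat_lit 1685))) (.node (.leaf (nat_lit 984)) (.leaf (nat_lit 2537))))) (.node (.node (.node (.node (.leaf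 (nat_lit 231)) (.leaf (nat_lit 3258))) (.leaf (nat_lit 1497))) (.node (.node (.leaf (nat_lit 828)) (.leaf (nat_lit 4839))) (.leaf (nat_lit 2311)))) (.node (.node (.node (.leaf (nat_lit 521)) (.leaf (nat_lit 3911))) (.leaf (nat_lit 1882))) (.node (.leaf (nat_lit 1149)) (.leaf (nat_lit 2758))))))) (.node (.node (.node (.node (.node (.node (.leaf (nat_lit 63)) (.leaf (nat_lit 2942))) (.leaf (nat_lit 1274))) (.node (.node (.leaf (nat_lit 638)) (.leaf (nat_lit 4194))) (.leaf (nat_lit 2046)))) (.node (.node (.node (.leaf (nat_lit 337)) (.leaf (nat_lit 3492))) (.leaf (nat_lit 1636))) (.node (.node (.leaf (nat_lit 943)) (.leaf (nat_lit 5690))) (.leaf (nat_lit 2477))))) (.node (.node (.node (.node (.leaf (nat_lit 197)) (.leaf (nat_lit 3195))) (.leaf (nat_lit 1452))) (.node (.node (.leaf (nat_lit 789)) (.leaf (nat_lit 4663))) (.leaf (nat_lit 2257)))) (.node (.node (.node (.leaf (nat_lit 482)) (.leaf (nat_lit 3828))) (.leaf (nat_lit 1835))) (.node (.leaf (nat_lit 1113)) (.leaf (nat_lit 2703)))))) (.node (.node (.node (.node (.node (.leaf (nat_lit 130)) (.leaf (nat_lit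 3083))) (.leaf (nat_lit 1360))) (.node (.node (.leaf (nat_lit 713)) (.leaf (nat_lit 4409))) (.leaf (nat_lit 2147)))) (.node (.node (.node (.leaf (nat_lit 411)) (.leaf (nat_lit 3649))) (.leaf (nat_lit 1741))) (.node (.leaf (nat_lit 1024)) (.leaf (nat_lit 2591))))) (.node (.node (.node (.node (.leaf (nat_lit 266)) (.leaf (nat_lit 3320))) (.leaf (nat_lit 1542))) (.node (.node (.leaf (nat_lit 867)) (.leaf (nat_lit 4992))) (.leaf (nat_lit 2368)))) (.node (.node (.node (.leaf (nat_lit 558)) (.leaf (nat_lit 3988))) (.leaf (nat_lit 1940))) (.node (.leaf (nat_lit 1189)) (.leaf (nat_lit 2809)))))))))))))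

noncomputable def c_H0 : NT := (.node (.node (.node (.node (.node (.node (.node (.node (.node (.node (.node (.node (.node (.leaf (nat_lit 1)) (.leaf (nat_lit 643081))) (.leaf (nat_lit 1600))) (.node (.node (.leaf (nat_lit 895)) (.leaf (nat_lit 624902))) (.leaf (nat_lit 1262624)))) (.node (.node (.node (.leaf (nat_lit 471)) (.leaf (nat_lit 114765))) (.leaf (nat_lit 649178))) (.node (.node (.leaf (nat_lit 890578)) (.leaf (nat_lit 258852))) (.leaf (nat_lit 670121))))) (.node (.node (.node (.node (.leaf (nat_lit 246)) (.leaf (nat_lit 2670))) (.leaf (nat_lit 244901))) (.node (.node (.leaf (nat_lit 24)) (.leaf (nat_lit 1217324))) (.leaf (nat_lit 2306)))) (.node (.node (.node (.leaf (nat_lit 686)) (.leaf (nat_lit 202570))) (.leaf (nat_lit 469717))) (.node (.leaf (nat_lit 1447)) (.leaf (nat_lit 124)))))) (.node (.node (.node (.node (.node (.leaf (nat_lit 125)) (.leaf (nat_lit 1009752))) (.leaf (nat_lit 1683))) (.node (.node (.leaf (nat_lit 993)) (.leaf (nat_lit 559453))) (.leaf (nat_lit 676960)))) (.node (.node (.node (.leaf (nat_lit 577)) (.leaf (nat_lit 873253))) (.leaf (nat_lit 1060455))) (.node (.leaf (nat_lit 1358)) (.leaf (nat_lit 120))))) (.node (.node (.node (.node (.leaf (nat_lit 361)) (.leaf (nat_lit 62464))) (.leaf (nat_lit 1828))) (.node (.node (.leaf (nat_lit 1185)) (.leaf (nat_lit 540814))) (.leaf (nat_lit 607127)))) (.node (.node (.node (.leaf (nat_lit 793)) (.leaf (nat_lit 2815))) (.leaf (nat_lit 2112))) (.node (.leaf (nat_lit 476721)) (.leaf (nat_lit 811172))))))) (.node (.node (.node (.node (.node (.node (.leaf (nat_lit 64)) (.leaf (nat_lit 861681))) (.leaf (nat_lit 1639))) (.node (.node (.leaf (nat_lit 939)) (.leaf (nat_lit 300798))) (.leaf (nat_lit 910490)))) (.node (.node (.node (.leaf (nat_lit 525)) (.leaf (nat_lit 411130))) (.leaf (nat_lit 214241))) (.node (.node (.leaf (nat_lit 1320)) (.leaf (nat_lit 502918))) (.leaf (nat_lit 479519))))) (.node (.node (.node (.node (.leaf (nat_lit 303)) (.leaf (nat_lit 385697))) (.leaf (nat_lit 1791))) (.node (.node (.leaf (nat_lit 99)) (.leaf (nat_lit 1140172))) (.leaf (nat_lit 370712)))) (.node (.node (.node (.leaf (nat_lit 14)) (.leaf (nat_lit 480494))) (.leaf (nat_lit 537182))) (.node (.leaf (nat_lit 1486)) (.leaf (nat_lit 2524)))))) (.node (.node (.node (.node (.node (.leaf (nat_lit 186)) (.leaf (nat_lit 1263266))) (.leaf (nat_lit 1718))) (.node (.node (.leaf (nat_lit 1043)) (.leaf (nat_lit 1062523))) (.leaf (nat_lit 2274)))) (.node (.node (.node (.leaf (nat_lit 630)) (.leaf (nat_lit 218626))) (.leaf (nat_lit 2002))) (.node (.leaf (nat_lit 1400)) (.leaf (nat_lit 759004))))) (.node (.node (.node (.node (.leaf (nat_lit 416)) (.leaf (nat_lit 1103753))) (.leaf (nat_lit 802333))) (.node (.node (.leaf (nat_lit 1229)) (.leaf (nat_lit 1117316))) (.leaf (nat_lit 2378)))) (.node (.node (.node (.leaf (nat_lit 842)) (.leaf (nat_lit 2826))) (.leaf (nat_lit 64700))) (.node (.leaf (nat_lit 1559)) (.leaf (nat_lit 138688)))))))) (.node (.node (.node (.node (.node (.node (.node (.leaf (nat_lit 33)) (.leaf (nat_lit 2602))) (.leaf (nat_lit 1620))) (.node (.node (.leaf (nat_lit 918)) (.leaf (nat_lit 432667))) (.leaf (nat_lit 2191)))) (.node (.node (.node (.leaf (nat_lit 500)) (.leaf (nat_lit 2747))) (.leaf (nat_lit 1920))) (.node (.node (.leaf (nat_lit 1294)) (.leaf (nat_lit 172779))) (.leaf (nat_lit 1191423))))) (.node (.node (.node (.node (.leaf (nat_lit 274)) (.leaf (nat_lit 2680))) (.leaf (nat_lit 844831))) (.node (.node (.leaf (nat_lit 1120)) (.leaf (nat_lit 17099))) (.leaf (nat_lit 2316)))) (.node (.node (.node (.leaf (nat_lit 714)) (.leaf (nat_lit 732))) (.leaf (nat_lit 2067))) (.node (.leaf (nat_lit 1465)) (.leaf (nat_lit 483)))))) (.node (.node (.node (.node (.node (.leaf (nat_lit 157)) (.leaf (nat_lit 659081))) (.leaf (nat_lit 692758))) (.node (.node (.leaf (nat_lit 1019)) (.leaf (nat_lit 1107012))) (.leaf (nat_lit 2255)))) (.node (.node (.node (.leaf (nat_lit 604)) (.leaf (nat_lit 460324))) (.leaf (nat_lit 1285894))) (.node (.leaf (nat_lit 466968)) (.leaf (nat_lit 920764))))) (.node (.node (.node (.node (.leaf (nat_lit 388)) (.leaf (nat_lit 2713))) (.leaf (nat_lit 1848))) (.node (.node (.leaf (nat_lit 1204)) (.leaf (nat_lit 228737))) (.leaf (nat_lit 872981)))) (.node (.node (.node (.leaf (nat_lit 819)) (.leaf (nat_lit 417003))) (.leaf (nat_lit 2129))) (.node (.leaf (nat_lit 253663)) (.leaf (nat_lit 2563))))))) (.node (.node (.node (.node (.node (.node (.leaf (nat_lit 96)) (.leaf (nat_lit 2622))) (.leaf (nat_lit 461536))) (.node (.node (.leaf (nat_lit 966)) (.leaf (nat_lit 904178))) (.leaf (nat_lit 571827)))) (.node (.node (.node (.leaf (nat_lit 551)) (.leaf (nat_lit 860388))) (.leaf (nat_lit 1011599))) (.node (.node (.leaf (nat_lit 1339)) (.leaf (nat_lit 128285))) (.leaf (nat_lit 2444))))) (.node (.node (.node (.node (.leaf (nat_lit 332)) (.leaf (nat_lit 937224))) (.leaf (nat_lit 1808))) (.node (.node (.leaf (nat_lit 3651)) (.leaf (nat_lit 333962))) (.leaf (nat_lit 1182790)))) (.node (.node (.node (.leaf (nat_lit 764)) (.leaf (nat_lit 832892))) (.leaf (nat_lit 26591))) (.node (.leaf (nat_lit 1505)) (.leaf (nat_lit 803844)))))) (.node (.node (.node (.node (.node (.leaf (nat_lit 187)) (.leaf (nat_lit 165734))) (.leaf (nat_lit 1417))) (.node (.node (.leaf (nat_lit 1070)) (.leaf (nat_lit 900759))) (.leaf (nat_lit 2290)))) (.node (.node (.node (.leaf (nat_lit 659)) (.leaf (nat_lit 512871))) (.leaf (nat_lit 2031))) (.node (.leaf (nat_lit 939559)) (.leaf (nat_lit 997593))))) (.node (.node (.node (.node (.leaf (nat_lit 445)) (.leaf (nat_lit 144419))) (.leaf (nat_lit 1147508))) (.node (.node (.leaf (nat_lit 1252)) (.leaf (nat_lit 189619))) (.leaf (nat_lit 387738)))) (.node (.node (.node (.leaf (nat_lit 1172823)) (.leaf (nat_lit 964389))) (.leaf (nat_lit 822564))) (.node (.leaf (nat_lit 479511)) (.leaf (nat_lit 637496))))))))) (.node (.node (.node (.node (.node (.node (.node (.node (.leaf (nat_lit 17)) (.leaf (nat_lit 552661))) (.leaf (nat_lit 1611))) (.node (.node (.leaf (nat_lit 907)) (.leaf (nat_lit 944563))) (.leaf (nat_lit 2179)))) (.node (.node (.node (.leaf (nat_lit 485)) (.leaf (nat_lit 195315))) (.leaf (nat_lit 631218))) (.node (.node (.leaf (nat_lit 123888)) (.leaf (nat_lit 738178))) (.leaf (nat_lit 2410))))) (.node (.node (.node (.node (.leaf (nat_lit 261)) (.leaf (nat_lit 2673))) (.leaf (nat_lit 1755))) (.node (.node (.leaf (nat_lit 1107)) (.leaf (nat_lit 581705))) (.leaf (nat_lit 405247)))) (.node (.node (.node (.leaf (nat_lit 699)) (.leaf (nat_lit 414326))) (.leaf (nat_lit 2062))) (.node (.leaf (nat_lit 279890)) (.leaf (nat_lit 2503)))))) (.node (.node (.node (.node (.node (.leaf (nat_lit 141)) (.leaf (nat_lit 2639))) (.leaf (nat_lit 1694))) (.node (.node (.leaf (nat_lit 1009)) (.leaf (nat_lit 2848))) (.leaf (nat_lit 701719)))) (.node (.node (.node (.leaf (nat_lit 591)) (.leaf (nat_lit 204))) (.leaf (nat_lit 1060605))) (.node (.leaf (nat_lit 1370)) (.leaf (nat_lit 513922))))) (.node (.node (.node (.node (.leaf (nat_lit 347)) (.leaf (nat_lit 1144836))) (.leaf (nat_lit 1841))) (.node (.node (.leaf (nat_lit 633665)) (.leaf (nat_lit 109410))) (.leaf (nat_lit 568761)))) (.node (.node (.node (.leaf (nat_lit 805)) (.leaf (nat_lit 133680))) (.leaf (nat_lit 2118))) (.node (.leaf (nat_lit 1219674)) (.leaf (nat_lit 2555))))))) (.node (.node (.node (.node (.node (.node (.leaf (nat_lit 80)) (.leaf (nat_lit 212253))) (.leaf (nat_lit 1652))) (.node (.node (.leaf (nat_lit 1178226)) (.leaf (nat_lit 1220875))) (.leaf (nat_lit 2214)))) (.node (.node (.node (.leaf (nat_lit 538)) (.leaf (nat_lit 606553))) (.leaf (nat_lit 356029))) (.node (.node (.leaf (nat_lit 1326)) (.leaf (nat_lit 414294))) (.leaf (nat_lit 407196))))) (.node (.node (.node (.node (.leaf (nat_lit 318)) (.leaf (nat_lit 902996))) (.leaf (nat_lit 1801))) (.node (.node (.leaf (nat_lit 1151)) (.leaf (nat_lit 1171897))) (.leaf (nat_lit 2334)))) (.node (.node (.node (.leaf (nat_lit 753)) (.leaf (nat_lit 187763))) (.leaf (nat_lit 2092))) (.node (.leaf (nat_lit 879438)) (.leaf (nat_lit 985814)))))) (.node (.node (.node (.node (.node (.leaf (nat_lit 201)) (.leaf (nat_lit 2654))) (.leaf (nat_lit 1726))) (.node (.node (.leaf (nat_lit 605794)) (.leaf (nat_lit 2854))) (.leaf (nat_lit 995597)))) (.node (.node (.node (.leaf (nat_lit 646)) (.leaf (nat_lit 61947))) (.leaf (nat_lit 838962))) (.node (.leaf (nat_lit 1410)) (.leaf (nat_lit 237755))))) (.node (.node (.node (.node (.leaf (nat_lit 431)) (.leaf (nat_lit 765790))) (.leaf (nat_lit 1873))) (.node (.node (.leaf (nat_lit 95681)) (.leaf (nat_lit 31051))) (.leaf (nat_lit 265548)))) (.node (.node (.node (.leaf (nat_lit 855)) (.leaf (nat_lit 2831))) (.leaf (nat_lit 423587))) (.node (.leaf (nat_lit 1568)) (.leaf (nat_lit 138)))))))) (.node (.node (.node (.node (.node (.node (.node (.leaf (nat_lit 49)) (.leaf (nat_lit 710853))) (.leaf (nat_lit 1630))) (.node (.node (.leaf (nat_lit 815480)) (.leaf (nat_lit 2844))) (.leaf (nat_lit 435348)))) (.node (.node (.node (.leaf (nat_lit 488)) (.leaf (nat_lit 2750))) (.leaf (nat_lit 1164717))) (.node (.node (.leaf (nat_lit 1307)) (.leaf (nat_lit 3962))) (.leaf (nat_lit 1049872))))) (.node (.node (.node (.node (.leaf (nat_lit 290)) (.leaf (nat_lit 258066))) (.leaf (nat_lit 271437))) (.node (.node (.leaf (nat_lit 1131)) (.leaf (nat_lit 705029))) (.leaf (nat_lit 813776)))) (.node (.node (.node (.leaf (nat_lit 727)) (.leaf (nat_lit 607449))) (.leaf (nat_lit 896868))) (.node (.leaf (nat_lit 1473)) (.leaf (nat_lit 2519)))))) (.node (.node (.node (.node (.node (.leaf (nat_lit 171)) (.leaf (nat_lit 86648))) (.leaf (nat_lit 1712))) (.node (.node (.leaf (nat_lit 649002)) (.leaf (nat_lit 788216))) (.leaf (nat_lit 2265)))) (.node (.node (.node (.leaf (nat_lit 618)) (.leaf (nat_lit 1281353))) (.leaf (nat_lit 2001))) (.node (.leaf (nat_lit 182)) (.leaf (nat_lit 1229257))))) (.node (.node (.node (.node (.leaf (nat_lit 403)) (.leaf (nat_lit 477439))) (.leaf (nat_lit 1857))) (.node (.node (.leaf (nat_lit 1218)) (.leaf (nat_lit 695256))) (.leaf (nat_lit 2371)))) (.node (.node (.node (.leaf (nat_lit 832)) (.leaf (nat_lit 9965))) (.leaf (nat_lit 1155793))) (.node (.leaf (nat_lit 1487)) (.leaf (nat_lit 209672))))))) (.node (.node (.node (.node (.node (.node (.leaf (nat_lit 110)) (.leaf (nat_lit 2629))) (.leaf (nat_lit 1672))) (.node (.node (.leaf (nat_lit 979)) (.leaf (nat_lit 365520))) (.leaf (nat_lit 2222)))) (.node (.node (.node (.leaf (nat_lit 36)) (.leaf (nat_lit 2764))) (.leaf (nat_lit 1966))) (.node (.node (.leaf (nat_lit 122294)) (.leaf (nat_lit 365438))) (.leaf (nat_lit 2449))))) (.node (.node (.node (.node (.leaf (nat_lit 346)) (.leaf (nat_lit 264603))) (.leaf (nat_lit 899086))) (.node (.node (.leaf (nat_lit 1173)) (.leaf (nat_lit 163822))) (.leaf (nat_lit 2349)))) (.node (.node (.node (.leaf (nat_lit 779)) (.leaf (nat_lit 914633))) (.leaf (nat_lit 1184604))) (.node (.leaf (nat_lit 729508)) (.leaf (nat_lit 2546)))))) (.node (.node (.node (.node (.node (.leaf (nat_lit 232)) (.leaf (nat_lit 2665))) (.leaf (nat_lit 1745))) (.node (.node (.leaf (nat_lit 1081)) (.leaf (nat_lit 1241207))) (.leaf (nat_lit 2298)))) (.node (.node (.node (.leaf (nat_lit 672)) (.leaf (nat_lit 2785))) (.leaf (nat_lit 1172787))) (.node (.leaf (nat_lit 1433)) (.leaf (nat_lit 2494))))) (.node (.node (.node (.node (.leaf (nat_lit 459)) (.leaf (nat_lit 2733))) (.leaf (nat_lit 838409))) (.node (.node (.leaf (nat_lit 1263)) (.leaf (nat_lit 914812))) (.leaf (nat_lit 2397)))) (.node (.node (.node (.leaf (nat_lit 881)) (.leaf (nat_lit 2835))) (.leaf (nat_lit 1069238))) (.node (.leaf (nat_lit 1075502)) (.leaf (nat_lit 1525)))))))))) (.node (.node (.node (.node (.node (.node (.node (.node (.node (.leaf (nat_lit 9)) (.leaf (nat_lit 68207))) (.leaf (nat_lit 764666))) (.node (.node (.leaf (nat_lit 900)) (.leaf (nat_lit 728598))) (.leaf (nat_lit 2174)))) (.node (.node (.node (.leaf (nat_lit 478)) (.leaf (nat_lit 2739))) (.leaf (nat_lit 1902))) (.node (.node (.leaf (nat_lit 1280)) (.leaf (nat_lit 857743))) (.leaf (nat_lit 2406))))) (.node (.node (.node (.node (.leaf (nat_lit 253)) (.leaf (nat_lit 353987))) (.leaf (nat_lit 1760))) (.node (.node (.leaf (nat_lit 1100)) (.leaf (nat_lit 228244))) (.leaf (nat_lit 862244)))) (.node (.node (.node (.leaf (nat_lit 693)) (.leaf (nat_lit 2789))) (.leaf (nat_lit 2057))) (.node (.leaf (nat_lit 1040259)) (.leaf (nat_lit 2501)))))) (.node (.node (.node (.node (.node (.leaf (nat_lit 133)) (.leaf (nat_lit 827583))) (.leaf (nat_lit 931647))) (.node (.node (.leaf (nat_lit 1001)) (.leaf (nat_lit 1278037))) (.leaf (nat_lit 999508)))) (.node (.node (.node (.leaf (nat_lit 584)) (.leaf (nat_lit 1206392))) (.leaf (nat_lit 1978))) (.node (.leaf (nat_lit 1365)) (.leaf (nat_lit 478482))))) (.node (.node (.node (.node (.leaf (nat_lit 1094608)) (.leaf (nat_lit 2707))) (.leaf (nat_lit 1833))) (.node (.node (.leaf (nat_lit 1191)) (.leaf (nat_lit 1160059))) (.leaf (nat_lit 102)))) (.node (.node (.node (.leaf (nat_lit 799)) (.leaf (nat_lit 206969))) (.leaf (nat_lit 2114))) (.node (.leaf (nat_lit 769655)) (.leaf (nat_lit 2529))))))) (.node (.node (.node (.node (.node (.node (.leaf (nat_lit 72)) (.leaf (nat_lit 238651))) (.leaf (nat_lit 1645))) (.node (.node (.leaf (nat_lit 945)) (.leaf (nat_lit 139936))) (.leaf (nat_lit 353)))) (.node (.node (.node (.leaf (nat_lit 532)) (.leaf (nat_lit 732909))) (.leaf (nat_lit 1943))) (.node (.node (.leaf (nat_lit 1323)) (.leaf (nat_lit 1862))) (.leaf (nat_lit 924964))))) (.node (.node (.node (.node (.leaf (nat_lit 310)) (.leaf (nat_lit 2691))) (.leaf (nat_lit 1796))) (.node (.node (.leaf (nat_lit 1146)) (.leaf (nat_lit 342))) (.leaf (nat_lit 289955)))) (.node (.node (.node (.leaf (nat_lit 745)) (.leaf (nat_lit 729605))) (.leaf (nat_lit 2088))) (.node (.leaf (nat_lit 1491)) (.leaf (nat_lit 982476)))))) (.node (.node (.node (.node (.node (.leaf (nat_lit 194)) (.leaf (nat_lit 969062))) (.leaf (nat_lit 1722))) (.node (.node (.leaf (nat_lit 1050)) (.leaf (nat_lit 543892))) (.leaf (nat_lit 430210)))) (.node (.node (.node (.leaf (nat_lit 638)) (.leaf (nat_lit 510717))) (.leaf (nat_lit 2017))) (.node (.leaf (nat_lit 326518)) (.leaf (nat_lit 255853))))) (.node (.node (.node (.node (.leaf (nat_lit 394)) (.leaf (nat_lit 1218435))) (.leaf (nat_lit 1866))) (.node (.node (.leaf (nat_lit 1235)) (.leaf (nat_lit 362567))) (.leaf (nat_lit 2381)))) (.node (.node (.node (.leaf (nat_lit 848)) (.leaf (nat_lit 2829))) (.leaf (nat_lit 2146))) (.node (.leaf (nat_lit 378408)) (.leaf (nat_lit 2574)))))))) (.node (.node (.node (.node (.node (.node (.node (.leaf (nat_lit 41)) (.leaf (nat_lit 2605))) (.leaf (nat_lit 1626))) (.node (.node (.leaf (nat_lit 923)) (.leaf (nat_lit 744247))) (.leaf (nat_lit 511033)))) (.node (.node (.node (.leaf (nat_lit 535980)) (.leaf (nat_lit 979462))) (.leaf (nat_lit 1913))) (.node (.node (.leaf (nat_lit 1301)) (.leaf (nat_lit 25670))) (.leaf (nat_lit 912352))))) (.node (.node (.node (.node (.leaf (nat_lit 282)) (.leaf (nat_lit 430849))) (.leaf (nat_lit 1774))) (.node (.node (.leaf (nat_lit 1126)) (.leaf (nat_lit 1194601))) (.leaf (nat_lit 180589)))) (.node (.node (.node (.leaf (nat_lit 722)) (.leaf (nat_lit 937248))) (.leaf (nat_lit 2071))) (.node (.leaf (nat_lit 1458)) (.leaf (nat_lit 696158)))))) (.node (.node (.node (.node (.node (.leaf (nat_lit 164)) (.leaf (nat_lit 2647))) (.leaf (nat_lit 90269))) (.node (.node (.leaf (nat_lit 1024)) (.leaf (nat_lit 59422))) (.leaf (nat_lit 321341)))) (.node (.node (.node (.leaf (nat_lit 242416)) (.leaf (nat_lit 1098417))) (.leaf (nat_lit 1996))) (.node (.leaf (nat_lit 1384)) (.leaf (nat_lit 361805))))) (.node (.node (.node (.node (.leaf (nat_lit 395)) (.leaf (nat_lit 604983))) (.leaf (nat_lit 767))) (.node (.node (.leaf (nat_lit 1212)) (.leaf (nat_lit 967328))) (.leaf (nat_lit 606034)))) (.node (.node (.node (.leaf (nat_lit 824)) (.leaf (nat_lit 1092942))) (.leaf (nat_lit 2133))) (.node (.leaf (nat_lit 773054)) (.leaf (nat_lit 2566))))))) (.node (.node (.node (.node (.node (.node (.leaf (nat_lit 103)) (.leaf (nat_lit 943206))) (.leaf (nat_lit 1668))) (.node (.node (.leaf (nat_lit 972)) (.leaf (nat_lit 930155))) (.leaf (nat_lit 2228)))) (.node (.node (.node (.leaf (nat_lit 557)) (.leaf (nat_lit 92770))) (.leaf (nat_lit 89932))) (.node (.node (.leaf (nat_lit 1327)) (.leaf (nat_lit 1000404))) (.leaf (nat_lit 2446))))) (.node (.node (.node (.node (.leaf (nat_lit 340)) (.leaf (nat_lit 174))) (.leaf (nat_lit 1813))) (.node (.node (.leaf (nat_lit 1167)) (.leaf (nat_lit 416573))) (.leaf (nat_lit 423504)))) (.node (.node (.node (.leaf (nat_lit 772)) (.leaf (nat_lit 497871))) (.leaf (nat_lit 2103))) (.node (.leaf (nat_lit 1512)) (.leaf (nat_lit 704604)))))) (.node (.node (.node (.node (.node (.leaf (nat_lit 224)) (.leaf (nat_lit 2663))) (.leaf (nat_lit 110140))) (.node (.node (.leaf (nat_lit 1075)) (.leaf (nat_lit 42150))) (.leaf (nat_lit 1273552)))) (.node (.node (.node (.leaf (nat_lit 664)) (.leaf (nat_lit 2784))) (.leaf (nat_lit 2038))) (.node (.leaf (nat_lit 1427)) (.leaf (nat_lit 2488))))) (.node (.node (.node (.node (.leaf (nat_lit 800854)) (.leaf (nat_lit 614132))) (.leaf (nat_lit 254178))) (.node (.node (.leaf (nat_lit 1256)) (.leaf (nat_lit 120489))) (.leaf (nat_lit 2394)))) (.node (.node (.node (.leaf (nat_lit 873)) (.leaf (nat_lit 115032))) (.leaf (nat_lit 2162))) (.node (.leaf (nat_lit 1585)) (.leaf (nat_lit 2583))))))))) (.node (.node (.node (.node (.node (.node (.node (.node (.leaf (nat_lit 25)) (.leaf (nat_lit 927))) (.leaf (nat_lit 1615))) (.node (.node (.leaf (nat_lit 912)) (.leaf (nat_lit 2841))) (.leaf (nat_lit 105449)))) (.node (.node (.node (.leaf (nat_lit 493)) (.leaf (nat_lit 327742))) (.leaf (nat_lit 1912))) (.node (.node (.leaf (nat_lit 1288)) (.leaf (nat_lit 794668))) (.leaf (nat_lit 528038))))) (.node (.node (.node (.node (.leaf (nat_lit 268)) (.leaf (nat_lit 531169))) (.leaf (nat_lit 1767))) (.node (.node (.leaf (nat_lit 1114)) (.leaf (nat_lit 857719))) (.leaf (nat_lit 62690)))) (.node (.node (.node (.leaf (nat_lit 706)) (.leaf (nat_lit 58382))) (.leaf (nat_lit 231009))) (.node (.leaf (nat_lit 1460)) (.leaf (nat_lit 154)))))) (.node (.node (.node (.node (.node (.leaf (nat_lit 149)) (.leaf (nat_lit 2507))) (.leaf (nat_lit 1698))) (.node (.node (.leaf (nat_lit 1012)) (.leaf (nat_lit 638090))) (.leaf (nat_lit 1270559)))) (.node (.node (.node (.leaf (nat_lit 598)) (.leaf (nat_lit 603295))) (.leaf (nat_lit 1989))) (.node (.leaf (nat_lit 1376)) (.leaf (nat_lit 2462))))) (.node (.node (.node (.node (.leaf (nat_lit 381)) (.leaf (nat_lit 2710))) (.leaf (nat_lit 1836))) (.node (.node (.leaf (nat_lit 1201)) (.leaf (nat_lit 954639))) (.leaf (nat_lit 727643)))) (.node (.node (.node (.leaf (nat_lit 812)) (.leaf (nat_lit 1218551))) (.leaf (nat_lit 2124))) (.node (.leaf (nat_lit 1538)) (.leaf (nat_lit 787755))))))) (.node (.node (.node (.node (.node (.node (.leaf (nat_lit 88)) (.leaf (nat_lit 735480))) (.leaf (nat_lit 1656))) (.node (.node (.leaf (nat_lit 958)) (.leaf (nat_lit 1078987))) (.leaf (nat_lit 647310)))) (.node (.node (.node (.leaf (nat_lit 48978)) (.leaf (nat_lit 2758))) (.leaf (nat_lit 770657))) (.node (.node (.leaf (nat_lit 1332)) (.leaf (nat_lit 607394))) (.leaf (nat_lit 2439))))) (.node (.node (.node (.node (.leaf (nat_lit 325)) (.leaf (nat_lit 889538))) (.leaf (nat_lit 1804))) (.node (.node (.leaf (nat_lit 1158)) (.leaf (nat_lit 2867))) (.leaf (nat_lit 2339)))) (.node (.node (.node (.leaf (nat_lit 759)) (.leaf (nat_lit 189636))) (.leaf (nat_lit 430690))) (.node (.leaf (nat_lit 1501)) (.leaf (nat_lit 1112749)))))) (.node (.node (.node (.node (.node (.leaf (nat_lit 209)) (.leaf (nat_lit 435043))) (.leaf (nat_lit 430592))) (.node (.node (.leaf (nat_lit 1063)) (.leaf (nat_lit 978857))) (.leaf (nat_lit 2286)))) (.node (.node (.node (.leaf (nat_lit 651)) (.leaf (nat_lit 1812))) (.leaf (nat_lit 75))) (.node (.leaf (nat_lit 202889)) (.leaf (nat_lit 697252))))) (.node (.node (.node (.node (.leaf (nat_lit 439)) (.leaf (nat_lit 2731))) (.leaf (nat_lit 1878))) (.node (.node (.leaf (nat_lit 1246)) (.leaf (nat_lit 526690))) (.leaf (nat_lit 2387)))) (.node (.node (.node (.leaf (nat_lit 863)) (.leaf (nat_lit 477756))) (.leaf (nat_lit 2152))) (.node (.leaf (nat_lit 1575)) (.leaf (nat_lit 2580)))))))) (.node (.node (.node (.node (.node (.node (.node (.leaf (nat_lit 57)) (.leaf (nat_lit 145488))) (.leaf (nat_lit 1633))) (.node (.node (.leaf (nat_lit 933)) (.leaf (nat_lit 846367))) (.leaf (nat_lit 2203)))) (.node (.node (.node (.leaf (nat_lit 518)) (.leaf (nat_lit 2752))) (.leaf (nat_lit 1933))) (.node (.node (.leaf (nat_lit 1314)) (.leaf (nat_lit 336460))) (.leaf (nat_lit 453589))))) (.node (.node (.node (.node (.leaf (nat_lit 297)) (.leaf (nat_lit 1050941))) (.leaf (nat_lit 605339))) (.node (.node (.leaf (nat_lit 1138)) (.leaf (nat_lit 666777))) (.leaf (nat_lit 2324)))) (.node (.node (.node (.leaf (nat_lit 645309)) (.leaf (nat_lit 324182))) (.leaf (nat_lit 2079))) (.node (.leaf (nat_lit 1479)) (.leaf (nat_lit 831199)))))) (.node (.node (.node (.node (.node (.leaf (nat_lit 179)) (.leaf (nat_lit 1214131))) (.leaf (nat_lit 389226))) (.node (.node (.leaf (nat_lit 1036)) (.leaf (nat_lit 363867))) (.leaf (nat_lit 2270)))) (.node (.node (.node (.leaf (nat_lit 623)) (.leaf (nat_lit 1058877))) (.leaf (nat_lit 2007))) (.node (.leaf (nat_lit 1394)) (.leaf (nat_lit 2472))))) (.node (.node (.node (.node (.leaf (nat_lit 409)) (.leaf (nat_lit 2722))) (.leaf (nat_lit 1850))) (.node (.node (.leaf (nat_lit 1225)) (.leaf (nat_lit 2873))) (.leaf (nat_lit 578099)))) (.node (.node (.node (.leaf (nat_lit 838)) (.leaf (nat_lit 657374))) (.leaf (nat_lit 794028))) (.node (.leaf (nat_lit 676881)) (.leaf (nat_lit 347005))))))) (.node (.node (.node (.node (.node (.node (.leaf (nat_lit 118)) (.leaf (nat_lit 2632))) (.leaf (nat_lit 584896))) (.node (.node (.leaf (nat_lit 986)) (.leaf (nat_lit 765890))) (.leaf (nat_lit 2236)))) (.node (.node (.node (.leaf (nat_lit 10)) (.leaf (nat_lit 154088))) (.leaf (nat_lit 174651))) (.node (.node (.leaf (nat_lit 107726)) (.leaf (nat_lit 418581))) (.leaf (nat_lit 103030))))) (.node (.node (.node (.node (.leaf (nat_lit 354)) (.leaf (nat_lit 725003))) (.leaf (nat_lit 1823))) (.node (.node (.leaf (nat_lit 1179)) (.leaf (nat_lit 78272))) (.leaf (nat_lit 743873)))) (.node (.node (.node (.leaf (nat_lit 787)) (.leaf (nat_lit 2813))) (.leaf (nat_lit 606085))) (.node (.leaf (nat_lit 1518)) (.leaf (nat_lit 2547)))))) (.node (.node (.node (.node (.node (.leaf (nat_lit 239)) (.leaf (nat_lit 2667))) (.leaf (nat_lit 1751))) (.node (.node (.leaf (nat_lit 1085)) (.leaf (nat_lit 856903))) (.leaf (nat_lit 2303)))) (.node (.node (.node (.leaf (nat_lit 680)) (.leaf (nat_lit 802692))) (.leaf (nat_lit 2046))) (.node (.leaf (nat_lit 1440)) (.leaf (nat_lit 2496))))) (.node (.node (.node (.node (.leaf (nat_lit 465)) (.leaf (nat_lit 925951))) (.leaf (nat_lit 1894))) (.node (.node (.leaf (nat_lit 1270)) (.leaf (nat_lit 215245))) (.leaf (nat_lit 163475)))) (.node (.node (.node (.leaf (nat_lit 888)) (.leaf (nat_lit 157980))) (.leaf (nat_lit 2172))) (.node (.leaf (nat_lit 1594)) (.leaf (nat_lit 950774))))))))))) (.node (.node (.node (.node (.node (.node (.node (.node (.node (.node (.leaf (nat_lit 5)) (.leaf (nat_lit 2592))) (.leaf (nat_lit 1603))) (.node (.node (.leaf (nat_lit 897)) (.leaf (nat_lit 919658))) (.leaf (nat_lit 2171)))) (.node (.node (.node (.leaf (nat_lit 474)) (.leaf (nat_lit 2737))) (.leaf (nat_lit 21143))) (.node (.node (.leaf (nat_lit 1277)) (.leaf (nat_lit 1109347))) (.leaf (nat_lit 878870))))) (.node (.node (.node (.node (.leaf (nat_lit 249)) (.leaf (nat_lit 1060159))) (.leaf (nat_lit 930885))) (.node (.node (.leaf (nat_lit 1096)) (.leaf (nat_lit 2861))) (.leaf (nat_lit 865135)))) (.node (.node (.node (.leaf (nat_lit 689)) (.leaf (nat_lit 2787))) (.leaf (nat_lit 2054))) (.node (.leaf (nat_lit 1450)) (.leaf (nat_lit 1210346)))))) (.node (.node (.node (.node (.node (.leaf (nat_lit 129)) (.leaf (nat_lit 2634))) (.leaf (nat_lit 1686))) (.node (.node (.leaf (nat_lit 997)) (.leaf (nat_lit 386337))) (.leaf (nat_lit 1154169)))) (.node (.node (.node (.leaf (nat_lit 580)) (.leaf (nat_lit 899010))) (.leaf (nat_lit 82276))) (.node (.leaf (nat_lit 1362)) (.leaf (nat_lit 2455))))) (.node (.node (.node (.node (.leaf (nat_lit 365)) (.leaf (nat_lit 914925))) (.leaf (nat_lit 1009677))) (.node (.node (.leaf (nat_lit 1189)) (.leaf (nat_lit 377239))) (.leaf (nat_lit 537830)))) (.node (.node (.node (.leaf (nat_lit 796)) (.leaf (nat_lit 2817))) (.leaf (nat_lit 231712))) (.node (.leaf (nat_lit 158)) (.leaf (nat_lit 1226433))))))) (.node (.node (.node (.node (.node (.node (.leaf (nat_lit 68)) (.leaf (nat_lit 2613))) (.leaf (nat_lit 1642))) (.node (.node (.leaf (nat_lit 942)) (.leaf (nat_lit 874170))) (.leaf (nat_lit 580773)))) (.node (.node (.node (.leaf (nat_lit 529)) (.leaf (nat_lit 443236))) (.leaf (nat_lit 1939))) (.node (.node (.leaf (nat_lit 1321)) (.leaf (nat_lit 20157))) (.leaf (nat_lit 549295))))) (.node (.node (.node (.node (.leaf (nat_lit 307)) (.leaf (nat_lit 1111462))) (.leaf (nat_lit 1793))) (.node (.node (.leaf (nat_lit 1143)) (.leaf (nat_lit 456968))) (.leaf (nat_lit 426609)))) (.node (.node (.node (.leaf (nat_lit 742)) (.leaf (nat_lit 2805))) (.leaf (nat_lit 2085))) (.node (.leaf (nat_lit 44)) (.leaf (nat_lit 2526)))))) (.node (.node (.node (.node (.node (.leaf (nat_lit 190)) (.leaf (nat_lit 2652))) (.leaf (nat_lit 665961))) (.node (.node (.leaf (nat_lit 1047)) (.leaf (nat_lit 799637))) (.leaf (nat_lit 364769)))) (.node (.node (.node (.leaf (nat_lit 634)) (.leaf (nat_lit 618712))) (.leaf (nat_lit 1008309))) (.node (.leaf (nat_lit 309290)) (.leaf (nat_lit 2475))))) (.node (.node (.node (.node (.leaf (nat_lit 420)) (.leaf (nat_lit 2725))) (.leaf (nat_lit 1107284))) (.node (.node (.leaf (nat_lit 1232)) (.leaf (nat_lit 141040))) (.leaf (nat_lit 156012)))) (.node (.node (.node (.leaf (nat_lit 845)) (.leaf (nat_lit 1012461))) (.leaf (nat_lit 645541))) (.node (.leaf (nat_lit 1562)) (.leaf (nat_lit 844750)))))))) (.node (.node (.node (.node (.node (.node (.node (.leaf (nat_lit 37)) (.leaf (nat_lit 1164274))) (.leaf (nat_lit 1623))) (.node (.node (.leaf (nat_lit 921)) (.leaf (nat_lit 2843))) (.leaf (nat_lit 657370)))) (.node (.node (.node (.leaf (nat_lit 340206)) (.leaf (nat_lit 503691))) (.leaf (nat_lit 1923))) (.node (.node (.leaf (nat_lit 1298)) (.leaf (nat_lit 353300))) (.leaf (nat_lit 795726))))) (.node (.node (.node (.node (.leaf (nat_lit 278)) (.leaf (nat_lit 518164))) (.leaf (nat_lit 1127463))) (.node (.node (.leaf (nat_lit 1123)) (.leaf (nat_lit 120102))) (.leaf (nat_lit 454298)))) (.node (.node (.node (.leaf (nat_lit 718)) (.leaf (nat_lit 247230))) (.leaf (nat_lit 477090))) (.node (.leaf (nat_lit 875737)) (.leaf (nat_lit 969655)))))) (.node (.node (.node (.node (.node (.leaf (nat_lit 126)) (.leaf (nat_lit 370094))) (.leaf (nat_lit 1706))) (.node (.node (.leaf (nat_lit 1022)) (.leaf (nat_lit 969942))) (.leaf (nat_lit 1198896)))) (.node (.node (.node (.leaf (nat_lit 608)) (.leaf (nat_lit 2774))) (.leaf (nat_lit 1150133))) (.node (.leaf (nat_lit 1291)) (.leaf (nat_lit 174525))))) (.node (.node (.node (.node (.leaf (nat_lit 391)) (.leaf (nat_lit 2715))) (.leaf (nat_lit 743749))) (.node (.node (.leaf (nat_lit 1208)) (.leaf (nat_lit 442206))) (.leaf (nat_lit 2367)))) (.node (.node (.node (.leaf (nat_lit 821)) (.leaf (nat_lit 852018))) (.leaf (nat_lit 534108))) (.node (.leaf (nat_lit 1544)) (.leaf (nat_lit 2565))))))) (.node (.node (.node (.node (.node (.node (.leaf (nat_lit 100)) (.leaf (nat_lit 2625))) (.leaf (nat_lit 1664))) (.node (.node (.leaf (nat_lit 643141)) (.leaf (nat_lit 2846))) (.leaf (nat_lit 2225)))) (.node (.node (.node (.leaf (nat_lit 554)) (.leaf (nat_lit 1224959))) (.leaf (nat_lit 1959))) (.node (.node (.leaf (nat_lit 1343)) (.leaf (nat_lit 353667))) (.leaf (nat_lit 5205))))) (.node (.node (.node (.node (.leaf (nat_lit 336)) (.leaf (nat_lit 1188691))) (.leaf (nat_lit 1809))) (.node (.node (.leaf (nat_lit 1165)) (.leaf (nat_lit 676673))) (.leaf (nat_lit 2345)))) (.node (.node (.node (.leaf (nat_lit 768)) (.leaf (nat_lit 2808))) (.leaf (nat_lit 2101))) (.node (.leaf (nat_lit 1508)) (.leaf (nat_lit 2539)))))) (.node (.node (.node (.node (.node (.leaf (nat_lit 220)) (.leaf (nat_lit 213378))) (.leaf (nat_lit 1742))) (.node (.node (.leaf (nat_lit 1073)) (.leaf (nat_lit 494422))) (.leaf (nat_lit 2293)))) (.node (.node (.node (.leaf (nat_lit 661)) (.leaf (nat_lit 473169))) (.leaf (nat_lit 2035))) (.node (.leaf (nat_lit 1423)) (.leaf (nat_lit 524665))))) (.node (.node (.node (.node (.leaf (nat_lit 449)) (.leaf (nat_lit 834))) (.leaf (nat_lit 1064112))) (.node (.node (.leaf (nat_lit 332052)) (.leaf (nat_lit 524763))) (.leaf (nat_lit 1131265)))) (.node (.node (.node (.leaf (nat_lit 870)) (.leaf (nat_lit 302285))) (.leaf (nat_lit 2158))) (.node (.leaf (nat_lit 372127)) (.leaf (nat_lit 388124))))))))) (.node (.node (.node (.node (.node (.node (.node (.node (.leaf (nat_lit 21)) (.leaf (nat_lit 154841))) (.leaf (nat_lit 1601))) (.node (.node (.leaf (nat_lit 887)) (.leaf (nat_lit 1936))) (.leaf (nat_lit 2182)))) (.node (.node (.node (.leaf (nat_lit 489)) (.leaf (nat_lit 1251547))) (.leaf (nat_lit 63))) (.node (.node (.leaf (nat_lit 605980)) (.leaf (nat_lit 932614))) (.leaf (nat_lit 108490))))) (.node (.node (.node (.node (.leaf (nat_lit 265)) (.leaf (nat_lit 2677))) (.leaf (nat_lit 304120))) (.node (.node (.leaf (nat_lit 1110)) (.leaf (nat_lit 349824))) (.leaf (nat_lit 415787)))) (.node (.node (.node (.leaf (nat_lit 634056)) (.leaf (nat_lit 805029))) (.leaf (nat_lit 655015))) (.node (.leaf (nat_lit 1459)) (.leaf (nat_lit 963436)))))) (.node (.node (.node (.node (.node (.leaf (nat_lit 145)) (.leaf (nat_lit 306021))) (.leaf (nat_lit 1077701))) (.node (.node (.leaf (nat_lit 985)) (.leaf (nat_lit 903566))) (.leaf (nat_lit 557874)))) (.node (.node (.node (.leaf (nat_lit 595)) (.leaf (nat_lit 840565))) (.leaf (nat_lit 568684))) (.node (.leaf (nat_lit 1374)) (.leaf (nat_lit 242975))))) (.node (.node (.node (.node (.leaf (nat_lit 377)) (.leaf (nat_lit 2708))) (.leaf (nat_lit 1844))) (.node (.node (.leaf (nat_lit 936434)) (.leaf (nat_lit 972531))) (.leaf (nat_lit 1215711)))) (.node (.node (.node (.leaf (nat_lit 808)) (.leaf (nat_lit 738924))) (.leaf (nat_lit 2121))) (.node (.leaf (nat_lit 1535)) (.leaf (nat_lit 2559))))))) (.node (.node (.node (.node (.node (.node (.leaf (nat_lit 84)) (.leaf (nat_lit 606131))) (.leaf (nat_lit 49404))) (.node (.node (.leaf (nat_lit 954)) (.leaf (nat_lit 969271))) (.leaf (nat_lit 2217)))) (.node (.node (.node (.leaf (nat_lit 541)) (.leaf (nat_lit 87864))) (.leaf (nat_lit 1952))) (.node (.node (.leaf (nat_lit 1329)) (.leaf (nat_lit 656579))) (.leaf (nat_lit 1188022))))) (.node (.node (.node (.node (.leaf (nat_lit 322)) (.leaf (nat_lit 661696))) (.leaf (nat_lit 128169))) (.node (.node (.leaf (nat_lit 1155)) (.leaf (nat_lit 872511))) (.leaf (nat_lit 2336)))) (.node (.node (.node (.leaf (nat_lit 756)) (.leaf (nat_lit 324816))) (.leaf (nat_lit 306749))) (.node (.leaf (nat_lit 1499)) (.leaf (nat_lit 2531)))))) (.node (.node (.node (.node (.node (.leaf (nat_lit 205)) (.leaf (nat_lit 2655))) (.leaf (nat_lit 1730))) (.node (.node (.leaf (nat_lit 1060)) (.leaf (nat_lit 1166976))) (.leaf (nat_lit 646294)))) (.node (.node (.node (.leaf (nat_lit 1008054)) (.leaf (nat_lit 209706))) (.leaf (nat_lit 2025))) (.node (.leaf (nat_lit 535784)) (.leaf (nat_lit 543580))))) (.node (.node (.node (.node (.leaf (nat_lit 435)) (.leaf (nat_lit 2729))) (.leaf (nat_lit 1875))) (.node (.node (.leaf (nat_lit 1243)) (.leaf (nat_lit 2876))) (.leaf (nat_lit 419284)))) (.node (.node (.node (.leaf (nat_lit 859)) (.leaf (nat_lit 2832))) (.leaf (nat_lit 242013))) (.node (.leaf (nat_lit 1571)) (.leaf (nat_lit 1047337)))))))) (.node (.node (.node (.node (.node (.node (.node (.leaf (nat_lit 53)) (.leaf (nat_lit 2610))) (.leaf (nat_lit 1631))) (.node (.node (.leaf (nat_lit 930)) (.leaf (nat_lit 356960))) (.leaf (nat_lit 605656)))) (.node (.node (.node (.leaf (nat_lit 514)) (.leaf (nat_lit 605447))) (.leaf (nat_lit 1121987))) (.node (.node (.leaf (nat_lit 1311)) (.leaf (nat_lit 800171))) (.leaf (nat_lit 577817))))) (.node (.node (.node (.node (.leaf (nat_lit 293)) (.leaf (nat_lit 2686))) (.leaf (nat_lit 1784))) (.node (.node (.leaf (nat_lit 1134)) (.leaf (nat_lit 108235))) (.leaf (nat_lit 483208)))) (.node (.node (.node (.leaf (nat_lit 731)) (.leaf (nat_lit 834245))) (.leaf (nat_lit 2077))) (.node (.leaf (nat_lit 1475)) (.leaf (nat_lit 2520)))))) (.node (.node (.node (.node (.node (.leaf (nat_lit 175)) (.leaf (nat_lit 173431))) (.leaf (nat_lit 1713))) (.node (.node (.leaf (nat_lit 1034)) (.leaf (nat_lit 879954))) (.leaf (nat_lit 73721)))) (.node (.node (.node (.leaf (nat_lit 458)) (.leaf (nat_lit 670548))) (.leaf (nat_lit 2005))) (.node (.leaf (nat_lit 1391)) (.leaf (nat_lit 2318))))) (.node (.node (.node (.node (.leaf (nat_lit 406)) (.leaf (nat_lit 242117))) (.leaf (nat_lit 107625))) (.node (.node (.leaf (nat_lit 1221)) (.leaf (nat_lit 953051))) (.leaf (nat_lit 1979)))) (.node (.node (.node (.leaf (nat_lit 835)) (.leaf (nat_lit 1284402))) (.leaf (nat_lit 2141))) (.node (.leaf (nat_lit 1553)) (.leaf (nat_lit 136))))))) (.node (.node (.node (.node (.node (.node (.leaf (nat_lit 114)) (.leaf (nat_lit 857261))) (.leaf (nat_lit 1676))) (.node (.node (.leaf (nat_lit 982)) (.leaf (nat_lit 926870))) (.leaf (nat_lit 2233)))) (.node (.node (.node (.leaf (nat_lit 566)) (.leaf (nat_lit 163747))) (.leaf (nat_lit 1969))) (.node (.node (.leaf (nat_lit 34)) (.leaf (nat_lit 1219451))) (.leaf (nat_lit 1257))))) (.node (.node (.node (.node (.leaf (nat_lit 350)) (.leaf (nat_lit 944049))) (.leaf (nat_lit 1140722))) (.node (.node (.leaf (nat_lit 428)) (.leaf (nat_lit 1019334))) (.leaf (nat_lit 350790)))) (.node (.node (.node (.leaf (nat_lit 783)) (.leaf (nat_lit 455526))) (.leaf (nat_lit 2107))) (.node (.leaf (nat_lit 522164)) (.leaf (nat_lit 462)))))) (.node (.node (.node (.node (.node (.leaf (nat_lit 236)) (.leaf (nat_lit 301850))) (.leaf (nat_lit 138875))) (.node (.node (.leaf (nat_lit 1083)) (.leaf (nat_lit 964189))) (.leaf (nat_lit 2301)))) (.node (.node (.node (.leaf (nat_lit 676)) (.leaf (nat_lit 1024563))) (.leaf (nat_lit 1068612))) (.node (.leaf (nat_lit 1436)) (.leaf (nat_lit 2495))))) (.node (.node (.node (.node (.leaf (nat_lit 809452)) (.leaf (nat_lit 185))) (.leaf (nat_lit 229))) (.node (.node (.leaf (nat_lit 1267)) (.leaf (nat_lit 290648))) (.leaf (nat_lit 350602)))) (.node (.node (.node (.leaf (nat_lit 300231)) (.leaf (nat_lit 996844))) (.leaf (nat_lit 643883))) (.node (.leaf (nat_lit 1590)) (.leaf (nat_lit 2588)))))))))) (.node (.node (.node (.node (.node (.node (.node (.node (.node (.leaf (nat_lit 13)) (.leaf (nat_lit 476242))) (.leaf (nat_lit 1608))) (.node (.node (.leaf (nat_lit 903)) (.leaf (nat_lit 197236))) (.leaf (nat_lit 524379)))) (.node (.node (.node (.leaf (nat_lit 482)) (.leaf (nat_lit 635553))) (.leaf (nat_lit 1899))) (.node (.node (.leaf (nat_lit 605717)) (.leaf (nat_lit 120815))) (.leaf (nat_lit 2408))))) (.node (.node (.node (.node (.leaf (nat_lit 257)) (.leaf (nat_lit 564))) (.leaf (nat_lit 1763))) (.node (.node (.leaf (nat_lit 1104)) (.leaf (nat_lit 2862))) (.leaf (nat_lit 733556)))) (.node (.node (.node (.leaf (nat_lit 633632)) (.leaf (nat_lit 1846))) (.leaf (nat_lit 487380))) (.node (.leaf (nat_lit 1455)) (.leaf (nat_lit 460214)))))) (.node (.node (.node (.node (.node (.leaf (nat_lit 137)) (.leaf (nat_lit 2637))) (.leaf (nat_lit 1691))) (.node (.node (.leaf (nat_lit 1005)) (.leaf (nat_lit 2847))) (.leaf (nat_lit 2247)))) (.node (.node (.node (.leaf (nat_lit 587)) (.leaf (nat_lit 2771))) (.leaf (nat_lit 1980))) (.node (.leaf (nat_lit 1366)) (.leaf (nat_lit 880440))))) (.node (.node (.node (.node (.leaf (nat_lit 372)) (.leaf (nat_lit 489204))) (.leaf (nat_lit 1837))) (.node (.node (.leaf (nat_lit 1195)) (.leaf (nat_lit 581653))) (.leaf (nat_lit 165989)))) (.node (.node (.node (.leaf (nat_lit 803)) (.leaf (nat_lit 2820))) (.leaf (nat_lit 2116))) (.node (.leaf (nat_lit 42)) (.leaf (nat_lit 2554))))))) (.node (.node (.node (.node (.node (.node (.leaf (nat_lit 76)) (.leaf (nat_lit 2616))) (.leaf (nat_lit 1648))) (.node (.node (.leaf (nat_lit 947)) (.leaf (nat_lit 521175))) (.leaf (nat_lit 2212)))) (.node (.node (.node (.leaf (nat_lit 535)) (.leaf (nat_lit 749573))) (.leaf (nat_lit 1946))) (.node (.node (.leaf (nat_lit 357336)) (.leaf (nat_lit 1204626))) (.leaf (nat_lit 549620))))) (.node (.node (.node (.node (.leaf (nat_lit 314)) (.leaf (nat_lit 239607))) (.leaf (nat_lit 1799))) (.node (.node (.leaf (nat_lit 26)) (.leaf (nat_lit 302201))) (.leaf (nat_lit 427359)))) (.node (.node (.node (.leaf (nat_lit 749)) (.leaf (nat_lit 845957))) (.leaf (nat_lit 2089))) (.node (.leaf (nat_lit 1494)) (.leaf (nat_lit 624216)))))) (.node (.node (.node (.node (.node (.leaf (nat_lit 198)) (.leaf (nat_lit 2653))) (.leaf (nat_lit 1724))) (.node (.node (.leaf (nat_lit 1054)) (.leaf (nat_lit 852161))) (.leaf (nat_lit 2279)))) (.node (.node (.node (.leaf (nat_lit 642)) (.leaf (nat_lit 998129))) (.leaf (nat_lit 2021))) (.node (.leaf (nat_lit 1406)) (.leaf (nat_lit 244394))))) (.node (.node (.node (.node (.leaf (nat_lit 427)) (.leaf (nat_lit 242672))) (.leaf (nat_lit 1869))) (.node (.node (.leaf (nat_lit 1238)) (.leaf (nat_lit 414))) (.leaf (nat_lit 6338)))) (.node (.node (.node (.leaf (nat_lit 432503)) (.leaf (nat_lit 773661))) (.leaf (nat_lit 1283157))) (.node (.leaf (nat_lit 1066194)) (.leaf (nat_lit 951457)))))))) (.node (.node (.node (.node (.node (.node (.node (.leaf (nat_lit 45)) (.leaf (nat_lit 836760))) (.leaf (nat_lit 34633))) (.node (.node (.leaf (nat_lit 327)) (.leaf (nat_lit 733375))) (.leaf (nat_lit 1074923)))) (.node (.node (.node (.leaf (nat_lit 509)) (.leaf (nat_lit 650734))) (.leaf (nat_lit 646229))) (.node (.node (.leaf (nat_lit 1305)) (.leaf (nat_lit 839139))) (.leaf (nat_lit 2422))))) (.node (.node (.node (.node (.leaf (nat_lit 286)) (.leaf (nat_lit 681921))) (.leaf (nat_lit 1777))) (.node (.node (.leaf (nat_lit 1129)) (.leaf (nat_lit 1094216))) (.leaf (nat_lit 2320)))) (.node (.node (.node (.leaf (nat_lit 698)) (.leaf (nat_lit 880395))) (.leaf (nat_lit 1046311))) (.node (.leaf (nat_lit 525527)) (.leaf (nat_lit 241369)))))) (.node (.node (.node (.node (.node (.leaf (nat_lit 167)) (.leaf (nat_lit 156))) (.leaf (nat_lit 1709))) (.node (.node (.leaf (nat_lit 1028)) (.leaf (nat_lit 1009371))) (.leaf (nat_lit 2261)))) (.node (.node (.node (.leaf (nat_lit 614)) (.leaf (nat_lit 848172))) (.leaf (nat_lit 69))) (.node (.leaf (nat_lit 1387)) (.leaf (nat_lit 2468))))) (.node (.node (.node (.node (.leaf (nat_lit 399)) (.leaf (nat_lit 951421))) (.leaf (nat_lit 469721))) (.node (.node (.leaf (nat_lit 1215)) (.leaf (nat_lit 74027))) (.leaf (nat_lit 2369)))) (.node (.node (.node (.leaf (nat_lit 828)) (.leaf (nat_lit 312155))) (.leaf (nat_lit 2135))) (.node (.leaf (nat_lit 1549)) (.leaf (nat_lit 373208))))))) (.node (.node (.node (.node (.node (.node (.leaf (nat_lit 107)) (.leaf (nat_lit 40039))) (.leaf (nat_lit 334241))) (.node (.node (.leaf (nat_lit 976)) (.leaf (nat_lit 102042))) (.leaf (nat_lit 641146)))) (.node (.node (.node (.leaf (nat_lit 560)) (.leaf (nat_lit 1076121))) (.leaf (nat_lit 1963))) (.node (.node (.leaf (nat_lit 1349)) (.leaf (nat_lit 178551))) (.leaf (nat_lit 2448))))) (.node (.node (.node (.node (.leaf (nat_lit 343)) (.leaf (nat_lit 626290))) (.leaf (nat_lit 1816))) (.node (.node (.leaf (nat_lit 1169)) (.leaf (nat_lit 839914))) (.leaf (nat_lit 2347)))) (.node (.node (.node (.leaf (nat_lit 776)) (.leaf (nat_lit 336704))) (.leaf (nat_lit 1210819))) (.node (.leaf (nat_lit 1129656)) (.leaf (nat_lit 2544)))))) (.node (.node (.node (.node (.node (.leaf (nat_lit 228)) (.leaf (nat_lit 730237))) (.leaf (nat_lit 1273049))) (.node (.node (.leaf (nat_lit 28)) (.leaf (nat_lit 643725))) (.leaf (nat_lit 2296)))) (.node (.node (.node (.leaf (nat_lit 668)) (.leaf (nat_lit 474600))) (.leaf (nat_lit 2039))) (.node (.leaf (nat_lit 1430)) (.leaf (nat_lit 434357))))) (.node (.node (.node (.node (.leaf (nat_lit 455)) (.leaf (nat_lit 913200))) (.leaf (nat_lit 606268))) (.node (.node (.leaf (nat_lit 1260)) (.leaf (nat_lit 729296))) (.leaf (nat_lit 605079)))) (.node (.node (.node (.leaf (nat_lit 877)) (.leaf (nat_lit 2834))) (.leaf (nat_lit 2166))) (.node (.leaf (nat_lit 1586)) (.leaf (nat_lit 903174))))))))) (.node (.node (.node (.node (.node (.node (.node (.node (.leaf (nat_lit 29)) (.leaf (nat_lit 2600))) (.leaf (nat_lit 1618))) (.node (.node (.leaf (nat_lit 914)) (.leaf (nat_lit 995658))) (.leaf (nat_lit 2188)))) (.node (.node (.node (.leaf (nat_lit 497)) (.leaf (nat_lit 2744))) (.leaf (nat_lit 1916))) (.node (.node (.leaf (nat_lit 1292)) (.leaf (nat_lit 543029))) (.leaf (nat_lit 2412))))) (.node (.node (.node (.node (.leaf (nat_lit 271)) (.leaf (nat_lit 647625))) (.leaf (nat_lit 740865))) (.node (.node (.leaf (nat_lit 1149637)) (.leaf (nat_lit 538391))) (.leaf (nat_lit 97)))) (.node (.node (.node (.leaf (nat_lit 710)) (.leaf (nat_lit 2792))) (.leaf (nat_lit 1006151))) (.node (.leaf (nat_lit 1245573)) (.leaf (nat_lit 2508)))))) (.node (.node (.node (.node (.node (.leaf (nat_lit 153)) (.leaf (nat_lit 1101850))) (.leaf (nat_lit 1701))) (.node (.node (.leaf (nat_lit 1015)) (.leaf (nat_lit 160917))) (.leaf (nat_lit 2252)))) (.node (.node (.node (.leaf (nat_lit 574)) (.leaf (nat_lit 647684))) (.leaf (nat_lit 1051839))) (.node (.leaf (nat_lit 436036)) (.leaf (nat_lit 239906))))) (.node (.node (.node (.node (.leaf (nat_lit 384)) (.leaf (nat_lit 676623))) (.leaf (nat_lit 314681))) (.node (.node (.leaf (nat_lit 513070)) (.leaf (nat_lit 883828))) (.leaf (nat_lit 39312)))) (.node (.node (.node (.leaf (nat_lit 982787)) (.leaf (nat_lit 245))) (.leaf (nat_lit 79))) (.node (.leaf (nat_lit 1265812)) (.leaf (nat_lit 920954))))))) (.node (.node (.node (.node (.node (.node (.leaf (nat_lit 92)) (.leaf (nat_lit 1287014))) (.leaf (nat_lit 1659))) (.node (.node (.leaf (nat_lit 962)) (.leaf (nat_lit 54067))) (.leaf (nat_lit 415852)))) (.node (.node (.node (.leaf (nat_lit 49249)) (.leaf (nat_lit 2759))) (.leaf (nat_lit 95))) (.node (.node (.leaf (nat_lit 1335)) (.leaf (nat_lit 329840))) (.leaf (nat_lit 2442))))) (.node (.node (.node (.node (.leaf (nat_lit 328)) (.leaf (nat_lit 942824))) (.leaf (nat_lit 1806))) (.node (.node (.leaf (nat_lit 1161)) (.leaf (nat_lit 1166180))) (.leaf (nat_lit 2342)))) (.node (.node (.node (.leaf (nat_lit 762)) (.leaf (nat_lit 1252637))) (.leaf (nat_lit 67343))) (.node (.leaf (nat_lit 1504)) (.leaf (nat_lit 2535)))))) (.node (.node (.node (.node (.node (.leaf (nat_lit 213)) (.leaf (nat_lit 2658))) (.leaf (nat_lit 1736))) (.node (.node (.leaf (nat_lit 1066)) (.leaf (nat_lit 1251874))) (.leaf (nat_lit 449662)))) (.node (.node (.node (.leaf (nat_lit 655)) (.leaf (nat_lit 525038))) (.leaf (nat_lit 770266))) (.node (.leaf (nat_lit 1418)) (.leaf (nat_lit 22594))))) (.node (.node (.node (.node (.leaf (nat_lit 165)) (.leaf (nat_lit 888530))) (.leaf (nat_lit 1880))) (.node (.node (.leaf (nat_lit 1089241)) (.leaf (nat_lit 888664))) (.leaf (nat_lit 1132050)))) (.node (.node (.node (.leaf (nat_lit 865)) (.leaf (nat_lit 1089400))) (.leaf (nat_lit 2154))) (.node (.leaf (nat_lit 1578)) (.leaf (nat_lit 2578)))))))) (.node (.node (.node (.node (.node (.node (.node (.leaf (nat_lit 61)) (.leaf (nat_lit 2612))) (.leaf (nat_lit 1628))) (.node (.node (.leaf (nat_lit 936)) (.leaf (nat_lit 934381))) (.leaf (nat_lit 2206)))) (.node (.node (.node (.leaf (nat_lit 522)) (.leaf (nat_lit 366905))) (.leaf (nat_lit 1935))) (.node (.node (.leaf (nat_lit 1317)) (.leaf (nat_lit 872537))) (.leaf (nat_lit 2427))))) (.node (.node (.node (.node (.leaf (nat_lit 656755)) (.leaf (nat_lit 953007))) (.leaf (nat_lit 1788))) (.node (.node (.leaf (nat_lit 1139)) (.leaf (nat_lit 1019180))) (.leaf (nat_lit 2328)))) (.node (.node (.node (.leaf (nat_lit 735)) (.leaf (nat_lit 719203))) (.leaf (nat_lit 1262584))) (.node (.leaf (nat_lit 1482)) (.leaf (nat_lit 2522)))))) (.node (.node (.node (.node (.node (.leaf (nat_lit 2)) (.leaf (nat_lit 162402))) (.leaf (nat_lit 1716))) (.node (.node (.leaf (nat_lit 1039)) (.leaf (nat_lit 1045353))) (.leaf (nat_lit 2267)))) (.node (.node (.node (.leaf (nat_lit 570678)) (.leaf (nat_lit 1285369))) (.leaf (nat_lit 2010))) (.node (.leaf (nat_lit 1397)) (.leaf (nat_lit 1131416))))) (.node (.node (.node (.node (.leaf (nat_lit 413)) (.leaf (nat_lit 2724))) (.leaf (nat_lit 122508))) (.node (.node (.leaf (nat_lit 1227)) (.leaf (nat_lit 6325))) (.leaf (nat_lit 2376)))) (.node (.node (.node (.leaf (nat_lit 1083060)) (.leaf (nat_lit 148459))) (.leaf (nat_lit 646329))) (.node (.leaf (nat_lit 1136062)) (.leaf (nat_lit 863544))))))) (.node (.node (.node (.node (.node (.node (.leaf (nat_lit 121)) (.leaf (nat_lit 605035))) (.leaf (nat_lit 1679))) (.node (.node (.leaf (nat_lit 990)) (.leaf (nat_lit 880032))) (.leaf (nat_lit 2240)))) (.node (.node (.node (.leaf (nat_lit 573)) (.leaf (nat_lit 2767))) (.leaf (nat_lit 809371))) (.node (.node (.leaf (nat_lit 1357)) (.leaf (nat_lit 348115))) (.leaf (nat_lit 2453))))) (.node (.node (.node (.node (.leaf (nat_lit 357)) (.leaf (nat_lit 581138))) (.leaf (nat_lit 913235))) (.node (.node (.leaf (nat_lit 1182)) (.leaf (nat_lit 358))) (.leaf (nat_lit 2354)))) (.node (.node (.node (.leaf (nat_lit 790)) (.leaf (nat_lit 451120))) (.leaf (nat_lit 2110))) (.node (.leaf (nat_lit 348819)) (.leaf (nat_lit 1078837)))))) (.node (.node (.node (.node (.node (.leaf (nat_lit 106)) (.leaf (nat_lit 1000528))) (.leaf (nat_lit 1754))) (.node (.node (.leaf (nat_lit 1089)) (.leaf (nat_lit 976868))) (.leaf (nat_lit 1061946)))) (.node (.node (.node (.leaf (nat_lit 684)) (.leaf (nat_lit 557931))) (.leaf (nat_lit 91261))) (.node (.leaf (nat_lit 191100)) (.leaf (nat_lit 1179705))))) (.node (.node (.node (.node (.leaf (nat_lit 728711)) (.leaf (nat_lit 310834))) (.leaf (nat_lit 1896))) (.node (.node (.leaf (nat_lit 1272)) (.leaf (nat_lit 442))) (.leaf (nat_lit 1228936)))) (.node (.node (.node (.leaf (nat_lit 892)) (.leaf (nat_lit 828959))) (.leaf (nat_lit 333038))) (.node (.leaf (nat_lit 913767)) (.leaf (nat_lit 2591)))))))))))) (.node (.node (.node (.node (.node (.node (.node (.node (.node (.node (.node (.leaf (nat_lit 3)) (.leaf (nat_lit 1103768))) (.leaf (nat_lit 1602))) (.node (.node (.leaf (nat_lit 1045665)) (.leaf (nat_lit 2840))) (.leaf (nat_lit 958132)))) (.node (.node (.node (.leaf (nat_lit 473)) (.leaf (nat_lit 352108))) (.leaf (nat_lit 1900))) (.node (.node (.leaf (nat_lit 605853)) (.leaf (nat_lit 829356))) (.leaf (nat_lit 1044445))))) (.node (.node (.node (.node (.leaf (nat_lit 247)) (.leaf (nat_lit 1260087))) (.leaf (nat_lit 1757))) (.node (.node (.leaf (nat_lit 1094)) (.leaf (nat_lit 665079))) (.leaf (nat_lit 2308)))) (.node (.node (.node (.leaf (nat_lit 687)) (.leaf (nat_lit 2786))) (.leaf (nat_lit 260288))) (.node (.leaf (nat_lit 73027)) (.leaf (nat_lit 569100)))))) (.node (.node (.node (.node (.node (.leaf (nat_lit 127)) (.leaf (nat_lit 878723))) (.leaf (nat_lit 1685))) (.node (.node (.leaf (nat_lit 995)) (.leaf (nat_lit 600337))) (.leaf (nat_lit 1051)))) (.node (.node (.node (.leaf (nat_lit 227925)) (.leaf (nat_lit 2769))) (.leaf (nat_lit 1974))) (.node (.leaf (nat_lit 1360)) (.leaf (nat_lit 238497))))) (.node (.node (.node (.node (.leaf (nat_lit 363)) (.leaf (nat_lit 1113511))) (.leaf (nat_lit 396121))) (.node (.node (.leaf (nat_lit 1187)) (.leaf (nat_lit 163100))) (.leaf (nat_lit 498790)))) (.node (.node (.node (.leaf (nat_lit 858561)) (.leaf (nat_lit 2816))) (.leaf (nat_lit 553166))) (.node (.leaf (nat_lit 1523)) (.leaf (nat_lit 526521))))))) (.node (.node (.node (.node (.node (.node (.leaf (nat_lit 66)) (.leaf (nat_lit 69769))) (.leaf (nat_lit 1641))) (.node (.node (.leaf (nat_lit 940)) (.leaf (nat_lit 135252))) (.leaf (nat_lit 879795)))) (.node (.node (.node (.leaf (nat_lit 527)) (.leaf (nat_lit 685838))) (.leaf (nat_lit 1937))) (.node (.node (.leaf (nat_lit 156345)) (.leaf (nat_lit 1231098))) (.leaf (nat_lit 2432))))) (.node (.node (.node (.node (.leaf (nat_lit 305)) (.leaf (nat_lit 1289132))) (.leaf (nat_lit 1792))) (.node (.node (.leaf (nat_lit 1142)) (.leaf (nat_lit 324418))) (.leaf (nat_lit 206221)))) (.node (.node (.node (.leaf (nat_lit 740)) (.leaf (nat_lit 247489))) (.leaf (nat_lit 306980))) (.node (.leaf (nat_lit 40917)) (.leaf (nat_lit 801716)))))) (.node (.node (.node (.node (.node (.leaf (nat_lit 188)) (.leaf (nat_lit 739482))) (.leaf (nat_lit 452750))) (.node (.node (.leaf (nat_lit 1045)) (.leaf (nat_lit 2853))) (.leaf (nat_lit 643387)))) (.node (.node (.node (.leaf (nat_lit 632)) (.leaf (nat_lit 677658))) (.leaf (nat_lit 2014))) (.node (.leaf (nat_lit 726692)) (.leaf (nat_lit 1236426))))) (.node (.node (.node (.node (.leaf (nat_lit 418)) (.leaf (nat_lit 643984))) (.leaf (nat_lit 1864))) (.node (.node (.leaf (nat_lit 1231)) (.leaf (nat_lit 2874))) (.leaf (nat_lit 2379)))) (.node (.node (.node (.leaf (nat_lit 844)) (.leaf (nat_lit 901142))) (.leaf (nat_lit 2143))) (.node (.leaf (nat_lit 1161665)) (.leaf (nat_lit 82795)))))))) (.node (.node (.node (.node (.node (.node (.node (.leaf (nat_lit 35)) (.leaf (nat_lit 2603))) (.leaf (nat_lit 1009605))) (.node (.node (.leaf (nat_lit 1250780)) (.leaf (nat_lit 1221405))) (.leaf (nat_lit 2193)))) (.node (.node (.node (.leaf (nat_lit 501)) (.leaf (nat_lit 1707))) (.leaf (nat_lit 1921))) (.node (.node (.leaf (nat_lit 1296)) (.leaf (nat_lit 179050))) (.leaf (nat_lit 39829))))) (.node (.node (.node (.node (.leaf (nat_lit 276)) (.leaf (nat_lit 823263))) (.leaf (nat_lit 47339))) (.node (.node (.leaf (nat_lit 1097)) (.leaf (nat_lit 943623))) (.leaf (nat_lit 1219175)))) (.node (.node (.node (.leaf (nat_lit 716)) (.leaf (nat_lit 84784))) (.leaf (nat_lit 862741))) (.node (.leaf (nat_lit 138877)) (.leaf (nat_lit 97116)))))) (.node (.node (.node (.node (.node (.leaf (nat_lit 159)) (.leaf (nat_lit 802733))) (.leaf (nat_lit 426290))) (.node (.node (.leaf (nat_lit 878633)) (.leaf (nat_lit 294))) (.leaf (nat_lit 1199987)))) (.node (.node (.node (.leaf (nat_lit 606)) (.leaf (nat_lit 759921))) (.leaf (nat_lit 1994))) (.node (.leaf (nat_lit 1381)) (.leaf (nat_lit 998312))))) (.node (.node (.node (.node (.leaf (nat_lit 6)) (.leaf (nat_lit 2714))) (.leaf (nat_lit 1849))) (.node (.node (.leaf (nat_lit 1206)) (.leaf (nat_lit 466525))) (.leaf (nat_lit 2366)))) (.node (.node (.node (.leaf (nat_lit 820)) (.leaf (nat_lit 877890))) (.leaf (nat_lit 1032744))) (.node (.leaf (nat_lit 112801)) (.leaf (nat_lit 122846))))))) (.node (.node (.node (.node (.node (.node (.leaf (nat_lit 98)) (.leaf (nat_lit 2623))) (.leaf (nat_lit 1662))) (.node (.node (.leaf (nat_lit 968)) (.leaf (nat_lit 752060))) (.leaf (nat_lit 781170)))) (.node (.node (.node (.leaf (nat_lit 553)) (.leaf (nat_lit 2760))) (.leaf (nat_lit 1958))) (.node (.node (.leaf (nat_lit 1341)) (.leaf (nat_lit 800615))) (.leaf (nat_lit 531526))))) (.node (.node (.node (.node (.leaf (nat_lit 334)) (.leaf (nat_lit 396558))) (.leaf (nat_lit 1000189))) (.node (.node (.leaf (nat_lit 1008362)) (.leaf (nat_lit 607627))) (.leaf (nat_lit 979660)))) (.node (.node (.node (.leaf (nat_lit 766)) (.leaf (nat_lit 226632))) (.leaf (nat_lit 2100))) (.node (.leaf (nat_lit 1507)) (.leaf (nat_lit 2538)))))) (.node (.node (.node (.node (.node (.leaf (nat_lit 218)) (.leaf (nat_lit 2661))) (.leaf (nat_lit 876461))) (.node (.node (.leaf (nat_lit 1072)) (.leaf (nat_lit 109354))) (.leaf (nat_lit 2291)))) (.node (.node (.node (.leaf (nat_lit 360191)) (.leaf (nat_lit 2782))) (.leaf (nat_lit 2033))) (.node (.leaf (nat_lit 1115129)) (.leaf (nat_lit 617437))))) (.node (.node (.node (.node (.leaf (nat_lit 447)) (.leaf (nat_lit 1273974))) (.leaf (nat_lit 1098258))) (.node (.node (.leaf (nat_lit 1254)) (.leaf (nat_lit 277904))) (.leaf (nat_lit 2391)))) (.node (.node (.node (.leaf (nat_lit 869)) (.leaf (nat_lit 111965))) (.leaf (nat_lit 2156))) (.node (.leaf (nat_lit 830255)) (.leaf (nat_lit 950063))))))))) (.node (.node (.node (.node (.node (.node (.node (.node (.leaf (nat_lit 19)) (.leaf (nat_lit 2595))) (.leaf (nat_lit 1612))) (.node (.node (.leaf (nat_lit 908)) (.leaf (nat_lit 1266395))) (.leaf (nat_lit 2181)))) (.node (.node (.node (.leaf (nat_lit 487)) (.leaf (nat_lit 2743))) (.leaf (nat_lit 1908))) (.node (.node (.leaf (nat_lit 1251092)) (.leaf (nat_lit 987561))) (.leaf (nat_lit 650016))))) (.node (.node (.node (.node (.leaf (nat_lit 263)) (.leaf (nat_lit 2675))) (.leaf (nat_lit 1285400))) (.node (.node (.leaf (nat_lit 1108)) (.leaf (nat_lit 1131090))) (.leaf (nat_lit 324613)))) (.node (.node (.node (.leaf (nat_lit 701)) (.leaf (nat_lit 351677))) (.leaf (nat_lit 2063))) (.node (.leaf (nat_lit 1457)) (.leaf (nat_lit 2499)))))) (.node (.node (.node (.node (.node (.leaf (nat_lit 143)) (.leaf (nat_lit 2641))) (.leaf (nat_lit 1695))) (.node (.node (.leaf (nat_lit 1010)) (.leaf (nat_lit 1008800))) (.leaf (nat_lit 2249)))) (.node (.node (.node (.leaf (nat_lit 593)) (.leaf (nat_lit 402247))) (.leaf (nat_lit 1985))) (.node (.leaf (nat_lit 1372)) (.leaf (nat_lit 1070488))))) (.node (.node (.node (.node (.leaf (nat_lit 375)) (.leaf (nat_lit 990352))) (.leaf (nat_lit 1843))) (.node (.node (.leaf (nat_lit 1198)) (.leaf (nat_lit 30051))) (.leaf (nat_lit 1128131)))) (.node (.node (.node (.leaf (nat_lit 16)) (.leaf (nat_lit 1252207))) (.leaf (nat_lit 2119))) (.node (.leaf (nat_lit 1533)) (.leaf (nat_lit 2557))))))) (.node (.node (.node (.node (.node (.node (.leaf (nat_lit 82)) (.leaf (nat_lit 1273479))) (.leaf (nat_lit 1654))) (.node (.node (.leaf (nat_lit 952)) (.leaf (nat_lit 413454))) (.leaf (nat_lit 2215)))) (.node (.node (.node (.leaf (nat_lit 540)) (.leaf (nat_lit 511675))) (.leaf (nat_lit 1950))) (.node (.node (.leaf (nat_lit 1328)) (.leaf (nat_lit 242490))) (.leaf (nat_lit 2437))))) (.node (.node (.node (.node (.leaf (nat_lit 320)) (.leaf (nat_lit 581358))) (.leaf (nat_lit 73004))) (.node (.node (.leaf (nat_lit 1153)) (.leaf (nat_lit 356946))) (.leaf (nat_lit 1263173)))) (.node (.node (.node (.leaf (nat_lit 755)) (.leaf (nat_lit 992470))) (.leaf (nat_lit 2094))) (.node (.leaf (nat_lit 40)) (.leaf (nat_lit 901652)))))) (.node (.node (.node (.node (.node (.leaf (nat_lit 203)) (.leaf (nat_lit 1157373))) (.leaf (nat_lit 1728))) (.node (.node (.leaf (nat_lit 1058)) (.leaf (nat_lit 1290044))) (.leaf (nat_lit 2282)))) (.node (.node (.node (.leaf (nat_lit 619)) (.leaf (nat_lit 114664))) (.leaf (nat_lit 2024))) (.node (.leaf (nat_lit 1412)) (.leaf (nat_lit 2479))))) (.node (.node (.node (.node (.leaf (nat_lit 433)) (.leaf (nat_lit 606429))) (.leaf (nat_lit 646626))) (.node (.node (.leaf (nat_lit 1241)) (.leaf (nat_lit 315722))) (.leaf (nat_lit 649778)))) (.node (.node (.node (.leaf (nat_lit 857)) (.leaf (nat_lit 650323))) (.leaf (nat_lit 723213))) (.node (.leaf (nat_lit 1569)) (.leaf (nat_lit 2577)))))))) (.node (.node (.node (.node (.node (.node (.node (.leaf (nat_lit 51)) (.leaf (nat_lit 2608))) (.leaf (nat_lit 993734))) (.node (.node (.leaf (nat_lit 928)) (.leaf (nat_lit 716002))) (.leaf (nat_lit 2200)))) (.node (.node (.node (.leaf (nat_lit 513)) (.leaf (nat_lit 871440))) (.leaf (nat_lit 821525))) (.node (.node (.leaf (nat_lit 1309)) (.leaf (nat_lit 826546))) (.leaf (nat_lit 173750))))) (.node (.node (.node (.node (.leaf (nat_lit 4)) (.leaf (nat_lit 435855))) (.leaf (nat_lit 1782))) (.node (.node (.leaf (nat_lit 1133)) (.leaf (nat_lit 9959))) (.leaf (nat_lit 450691)))) (.node (.node (.node (.leaf (nat_lit 729)) (.leaf (nat_lit 2799))) (.leaf (nat_lit 1048865))) (.node (.leaf (nat_lit 606209)) (.leaf (nat_lit 336299)))))) (.node (.node (.node (.node (.node (.leaf (nat_lit 173)) (.leaf (nat_lit 819858))) (.leaf (nat_lit 375773))) (.node (.node (.leaf (nat_lit 1032)) (.leaf (nat_lit 645959))) (.leaf (nat_lit 2266)))) (.node (.node (.node (.leaf (nat_lit 620)) (.leaf (nat_lit 983436))) (.leaf (nat_lit 2003))) (.node (.leaf (nat_lit 1390)) (.leaf (nat_lit 2470))))) (.node (.node (.node (.node (.leaf (nat_lit 404)) (.leaf (nat_lit 2721))) (.leaf (nat_lit 1859))) (.node (.node (.leaf (nat_lit 352285)) (.leaf (nat_lit 156528))) (.leaf (nat_lit 897912)))) (.node (.node (.node (.leaf (nat_lit 811)) (.leaf (nat_lit 2824))) (.leaf (nat_lit 2139))) (.node (.leaf (nat_lit 605)) (.leaf (nat_lit 2568))))))) (.node (.node (.node (.node (.node (.node (.leaf (nat_lit 112)) (.leaf (nat_lit 2631))) (.leaf (nat_lit 1674))) (.node (.node (.leaf (nat_lit 980)) (.leaf (nat_lit 928129))) (.leaf (nat_lit 943425)))) (.node (.node (.node (.leaf (nat_lit 604928)) (.leaf (nat_lit 634053))) (.leaf (nat_lit 1968))) (.node (.node (.leaf (nat_lit 1353)) (.leaf (nat_lit 2451))) (.leaf (nat_lit 480496))))) (.node (.node (.node (.node (.leaf (nat_lit 348)) (.leaf (nat_lit 2702))) (.leaf (nat_lit 1819))) (.node (.node (.leaf (nat_lit 571017)) (.leaf (nat_lit 425791))) (.leaf (nat_lit 2350)))) (.node (.node (.node (.leaf (nat_lit 781)) (.leaf (nat_lit 2812))) (.leaf (nat_lit 594856))) (.node (.leaf (nat_lit 332522)) (.leaf (nat_lit 411322)))))) (.node (.node (.node (.node (.node (.leaf (nat_lit 234)) (.leaf (nat_lit 2666))) (.leaf (nat_lit 1747))) (.node (.node (.leaf (nat_lit 522228)) (.leaf (nat_lit 1097130))) (.leaf (nat_lit 2300)))) (.node (.node (.node (.leaf (nat_lit 674)) (.leaf (nat_lit 1233834))) (.leaf (nat_lit 544519))) (.node (.leaf (nat_lit 717963)) (.leaf (nat_lit 536302))))) (.node (.node (.node (.node (.leaf (nat_lit 461)) (.leaf (nat_lit 981828))) (.leaf (nat_lit 1891))) (.node (.node (.leaf (nat_lit 1265)) (.leaf (nat_lit 97898))) (.leaf (nat_lit 2398)))) (.node (.node (.node (.leaf (nat_lit 883)) (.leaf (nat_lit 954455))) (.leaf (nat_lit 839327))) (.node (.leaf (nat_lit 1588)) (.leaf (nat_lit 2587)))))))))) (.node (.node (.node (.node (.node (.node (.node (.node (.node (.leaf (nat_lit 11)) (.leaf (nat_lit 360876))) (.leaf (nat_lit 1607))) (.node (.node (.leaf (nat_lit 902)) (.leaf (nat_lit 1201937))) (.leaf (nat_lit 79780)))) (.node (.node (.node (.leaf (nat_lit 480)) (.leaf (nat_lit 2741))) (.leaf (nat_lit 447541))) (.node (.node (.leaf (nat_lit 1187722)) (.leaf (nat_lit 318980))) (.leaf (nat_lit 2407))))) (.node (.node (.node (.node (.leaf (nat_lit 255)) (.leaf (nat_lit 794006))) (.leaf (nat_lit 547560))) (.node (.node (.leaf (nat_lit 1102)) (.leaf (nat_lit 360934))) (.leaf (nat_lit 502407)))) (.node (.node (.node (.leaf (nat_lit 694)) (.leaf (nat_lit 416375))) (.leaf (nat_lit 2059))) (.node (.leaf (nat_lit 1453)) (.leaf (nat_lit 2502)))))) (.node (.node (.node (.node (.node (.leaf (nat_lit 135)) (.leaf (nat_lit 111145))) (.leaf (nat_lit 1689))) (.node (.node (.leaf (nat_lit 1003)) (.leaf (nat_lit 233209))) (.leaf (nat_lit 283191)))) (.node (.node (.node (.leaf (nat_lit 586)) (.leaf (nat_lit 1134157))) (.leaf (nat_lit 730042))) (.node (.leaf (nat_lit 1181685)) (.leaf (nat_lit 2458))))) (.node (.node (.node (.node (.leaf (nat_lit 370)) (.leaf (nat_lit 998945))) (.leaf (nat_lit 1835))) (.node (.node (.leaf (nat_lit 1193)) (.leaf (nat_lit 1071286))) (.leaf (nat_lit 2358)))) (.node (.node (.node (.leaf (nat_lit 801)) (.leaf (nat_lit 2818))) (.leaf (nat_lit 292161))) (.node (.leaf (nat_lit 1528)) (.leaf (nat_lit 2553))))))) (.node (.node (.node (.node (.node (.node (.leaf (nat_lit 74)) (.leaf (nat_lit 2615))) (.leaf (nat_lit 1646))) (.node (.node (.leaf (nat_lit 1282196)) (.leaf (nat_lit 79358))) (.leaf (nat_lit 379007)))) (.node (.node (.node (.leaf (nat_lit 533)) (.leaf (nat_lit 193))) (.leaf (nat_lit 1945))) (.node (.node (.leaf (nat_lit 800700)) (.leaf (nat_lit 154061))) (.leaf (nat_lit 376404))))) (.node (.node (.node (.node (.leaf (nat_lit 312)) (.leaf (nat_lit 2692))) (.leaf (nat_lit 1797))) (.node (.node (.leaf (nat_lit 1148)) (.leaf (nat_lit 678311))) (.leaf (nat_lit 2321)))) (.node (.node (.node (.leaf (nat_lit 747)) (.leaf (nat_lit 271184))) (.leaf (nat_lit 693095))) (.node (.leaf (nat_lit 1493)) (.leaf (nat_lit 967)))))) (.node (.node (.node (.node (.node (.leaf (nat_lit 196)) (.leaf (nat_lit 1099075))) (.leaf (nat_lit 1723))) (.node (.node (.leaf (nat_lit 1052)) (.leaf (nat_lit 518229))) (.leaf (nat_lit 2278)))) (.node (.node (.node (.leaf (nat_lit 640)) (.leaf (nat_lit 2780))) (.leaf (nat_lit 2019))) (.node (.leaf (nat_lit 1404)) (.leaf (nat_lit 2477))))) (.node (.node (.node (.node (.leaf (nat_lit 425)) (.leaf (nat_lit 2728))) (.leaf (nat_lit 1868))) (.node (.node (.leaf (nat_lit 1237)) (.leaf (nat_lit 200957))) (.leaf (nat_lit 2382)))) (.node (.node (.node (.leaf (nat_lit 850)) (.leaf (nat_lit 1117017))) (.leaf (nat_lit 2147))) (.node (.leaf (nat_lit 285505)) (.leaf (nat_lit 1168553)))))))) (.node (.node (.node (.node (.node (.node (.node (.leaf (nat_lit 43)) (.leaf (nat_lit 1129515))) (.leaf (nat_lit 243236))) (.node (.node (.leaf (nat_lit 792)) (.leaf (nat_lit 1013220))) (.leaf (nat_lit 2196)))) (.node (.node (.node (.leaf (nat_lit 507)) (.leaf (nat_lit 1220))) (.leaf (nat_lit 1926))) (.node (.node (.leaf (nat_lit 1303)) (.leaf (nat_lit 1053519))) (.leaf (nat_lit 29606))))) (.node (.node (.node (.node (.leaf (nat_lit 284)) (.leaf (nat_lit 2682))) (.leaf (nat_lit 1776))) (.node (.node (.leaf (nat_lit 1127)) (.leaf (nat_lit 2865))) (.leaf (nat_lit 645532)))) (.node (.node (.node (.leaf (nat_lit 723)) (.leaf (nat_lit 228786))) (.leaf (nat_lit 2073))) (.node (.leaf (nat_lit 1470)) (.leaf (nat_lit 511111)))))) (.node (.node (.node (.node (.node (.leaf (nat_lit 166)) (.leaf (nat_lit 77297))) (.leaf (nat_lit 1708))) (.node (.node (.leaf (nat_lit 1026)) (.leaf (nat_lit 407799))) (.leaf (nat_lit 2259)))) (.node (.node (.node (.leaf (nat_lit 612)) (.leaf (nat_lit 2776))) (.leaf (nat_lit 252))) (.node (.leaf (nat_lit 1385)) (.leaf (nat_lit 2466))))) (.node (.node (.node (.node (.leaf (nat_lit 397)) (.leaf (nat_lit 2718))) (.leaf (nat_lit 1052218))) (.node (.node (.leaf (nat_lit 231262)) (.leaf (nat_lit 1266447))) (.leaf (nat_lit 2368)))) (.node (.node (.node (.leaf (nat_lit 826)) (.leaf (nat_lit 1100035))) (.leaf (nat_lit 2134))) (.node (.leaf (nat_lit 1547)) (.leaf (nat_lit 2562))))))) (.node (.node (.node (.node (.node (.node (.leaf (nat_lit 105)) (.leaf (nat_lit 535982))) (.leaf (nat_lit 1669))) (.node (.node (.leaf (nat_lit 974)) (.leaf (nat_lit 53858))) (.leaf (nat_lit 724363)))) (.node (.node (.node (.leaf (nat_lit 559)) (.leaf (nat_lit 939144))) (.leaf (nat_lit 1962))) (.node (.node (.leaf (nat_lit 1347)) (.leaf (nat_lit 259111))) (.leaf (nat_lit 409309))))) (.node (.node (.node (.node (.leaf (nat_lit 242224)) (.leaf (nat_lit 2700))) (.leaf (nat_lit 1814))) (.node (.node (.leaf (nat_lit 1152)) (.leaf (nat_lit 322367))) (.leaf (nat_lit 340637)))) (.node (.node (.node (.leaf (nat_lit 774)) (.leaf (nat_lit 1021330))) (.leaf (nat_lit 2104))) (.node (.leaf (nat_lit 1514)) (.leaf (nat_lit 1226415)))))) (.node (.node (.node (.node (.node (.leaf (nat_lit 226)) (.leaf (nat_lit 2664))) (.leaf (nat_lit 610992))) (.node (.node (.leaf (nat_lit 1077)) (.leaf (nat_lit 244777))) (.leaf (nat_lit 2295)))) (.node (.node (.node (.leaf (nat_lit 666)) (.leaf (nat_lit 646923))) (.leaf (nat_lit 553406))) (.node (.leaf (nat_lit 1428)) (.leaf (nat_lit 2490))))) (.node (.node (.node (.node (.leaf (nat_lit 454)) (.leaf (nat_lit 121663))) (.leaf (nat_lit 41746))) (.node (.node (.leaf (nat_lit 1258)) (.leaf (nat_lit 517042))) (.leaf (nat_lit 189111)))) (.node (.node (.node (.leaf (nat_lit 875)) (.leaf (nat_lit 805451))) (.leaf (nat_lit 2164))) (.node (.leaf (nat_lit 770022)) (.leaf (nat_lit 2584))))))))) (.node (.node (.node (.node (.node (.node (.node (.node (.leaf (nat_lit 27)) (.leaf (nat_lit 2598))) (.leaf (nat_lit 1617))) (.node (.node (.leaf (nat_lit 604830)) (.leaf (nat_lit 952914))) (.leaf (nat_lit 2186)))) (.node (.node (.node (.leaf (nat_lit 495)) (.leaf (nat_lit 22498))) (.leaf (nat_lit 1914))) (.node (.node (.leaf (nat_lit 1290)) (.leaf (nat_lit 1079516))) (.leaf (nat_lit 317189))))) (.node (.node (.node (.node (.leaf (nat_lit 238)) (.leaf (nat_lit 2678))) (.leaf (nat_lit 1768))) (.node (.node (.leaf (nat_lit 361105)) (.leaf (nat_lit 615549))) (.leaf (nat_lit 2313)))) (.node (.node (.node (.leaf (nat_lit 708)) (.leaf (nat_lit 245591))) (.leaf (nat_lit 127819))) (.node (.leaf (nat_lit 24036)) (.leaf (nat_lit 2506)))))) (.node (.node (.node (.node (.node (.leaf (nat_lit 151)) (.leaf (nat_lit 1237607))) (.leaf (nat_lit 1699))) (.node (.node (.leaf (nat_lit 83)) (.leaf (nat_lit 673556))) (.leaf (nat_lit 2250)))) (.node (.node (.node (.leaf (nat_lit 599)) (.leaf (nat_lit 1249786))) (.leaf (nat_lit 1991))) (.node (.leaf (nat_lit 90375)) (.leaf (nat_lit 7462))))) (.node (.node (.node (.node (.leaf (nat_lit 20)) (.leaf (nat_lit 178))) (.leaf (nat_lit 1845))) (.node (.node (.leaf (nat_lit 1202)) (.leaf (nat_lit 728571))) (.leaf (nat_lit 1245059)))) (.node (.node (.node (.leaf (nat_lit 814)) (.leaf (nat_lit 156940))) (.leaf (nat_lit 1250714))) (.node (.leaf (nat_lit 1049533)) (.leaf (nat_lit 683171))))))) (.node (.node (.node (.node (.node (.node (.leaf (nat_lit 90)) (.leaf (nat_lit 634913))) (.leaf (nat_lit 1658))) (.node (.node (.leaf (nat_lit 960)) (.leaf (nat_lit 903685))) (.leaf (nat_lit 2220)))) (.node (.node (.node (.leaf (nat_lit 546)) (.leaf (nat_lit 603630))) (.leaf (nat_lit 559172))) (.node (.node (.leaf (nat_lit 1333)) (.leaf (nat_lit 353504))) (.leaf (nat_lit 2440))))) (.node (.node (.node (.node (.leaf (nat_lit 326)) (.leaf (nat_lit 2695))) (.leaf (nat_lit 1271266))) (.node (.node (.leaf (nat_lit 1160)) (.leaf (nat_lit 267574))) (.leaf (nat_lit 2341)))) (.node (.node (.node (.leaf (nat_lit 435619)) (.leaf (nat_lit 1076858))) (.leaf (nat_lit 433934))) (.node (.leaf (nat_lit 1503)) (.leaf (nat_lit 390278)))))) (.node (.node (.node (.node (.node (.leaf (nat_lit 211)) (.leaf (nat_lit 1131610))) (.leaf (nat_lit 1735))) (.node (.node (.leaf (nat_lit 335026)) (.leaf (nat_lit 863325))) (.leaf (nat_lit 607060)))) (.node (.node (.node (.leaf (nat_lit 653)) (.leaf (nat_lit 1232357))) (.leaf (nat_lit 876703))) (.node (.leaf (nat_lit 1416)) (.leaf (nat_lit 2483))))) (.node (.node (.node (.node (.leaf (nat_lit 441)) (.leaf (nat_lit 710305))) (.leaf (nat_lit 418805))) (.node (.node (.leaf (nat_lit 1100793)) (.leaf (nat_lit 444526))) (.leaf (nat_lit 64149)))) (.node (.node (.node (.leaf (nat_lit 864)) (.leaf (nat_lit 8095))) (.leaf (nat_lit 484303))) (.node (.leaf (nat_lit 839002)) (.leaf (nat_lit 771252)))))))) (.node (.node (.node (.node (.node (.node (.node (.leaf (nat_lit 59)) (.leaf (nat_lit 382203))) (.leaf (nat_lit 1635))) (.node (.node (.leaf (nat_lit 113022)) (.leaf (nat_lit 976276))) (.leaf (nat_lit 1213491)))) (.node (.node (.node (.leaf (nat_lit 520)) (.leaf (nat_lit 1275657))) (.leaf (nat_lit 801832))) (.node (.node (.leaf (nat_lit 1315)) (.leaf (nat_lit 2879))) (.leaf (nat_lit 2425))))) (.node (.node (.node (.node (.leaf (nat_lit 299)) (.leaf (nat_lit 1211642))) (.leaf (nat_lit 355159))) (.node (.node (.leaf (nat_lit 1037755)) (.leaf (nat_lit 146797))) (.leaf (nat_lit 2326)))) (.node (.node (.node (.leaf (nat_lit 351918)) (.leaf (nat_lit 2801))) (.leaf (nat_lit 2081))) (.node (.leaf (nat_lit 656698)) (.leaf (nat_lit 519844)))))) (.node (.node (.node (.node (.node (.leaf (nat_lit 181)) (.leaf (nat_lit 488377))) (.leaf (nat_lit 179189))) (.node (.node (.leaf (nat_lit 1134970)) (.leaf (nat_lit 514510))) (.leaf (nat_lit 2271)))) (.node (.node (.node (.leaf (nat_lit 625)) (.leaf (nat_lit 530356))) (.leaf (nat_lit 2009))) (.node (.leaf (nat_lit 1068734)) (.leaf (nat_lit 1121755))))) (.node (.node (.node (.node (.leaf (nat_lit 411)) (.leaf (nat_lit 2723))) (.leaf (nat_lit 1196009))) (.node (.node (.leaf (nat_lit 1179142)) (.leaf (nat_lit 574893))) (.leaf (nat_lit 2375)))) (.node (.node (.node (.leaf (nat_lit 870578)) (.leaf (nat_lit 476695))) (.leaf (nat_lit 202108))) (.node (.leaf (nat_lit 1555)) (.leaf (nat_lit 2569))))))) (.node (.node (.node (.node (.node (.node (.leaf (nat_lit 604877)) (.leaf (nat_lit 1061904))) (.leaf (nat_lit 20429))) (.node (.node (.leaf (nat_lit 988)) (.leaf (nat_lit 79875))) (.leaf (nat_lit 2238)))) (.node (.node (.node (.leaf (nat_lit 571)) (.leaf (nat_lit 202))) (.leaf (nat_lit 1970))) (.node (.node (.leaf (nat_lit 72111)) (.leaf (nat_lit 65234))) (.leaf (nat_lit 1093714))))) (.node (.node (.node (.node (.leaf (nat_lit 356)) (.leaf (nat_lit 2704))) (.leaf (nat_lit 1824))) (.node (.node (.leaf (nat_lit 1181)) (.leaf (nat_lit 1056691))) (.leaf (nat_lit 2353)))) (.node (.node (.node (.leaf (nat_lit 788)) (.leaf (nat_lit 111792))) (.leaf (nat_lit 1246107))) (.node (.leaf (nat_lit 1519)) (.leaf (nat_lit 743820)))))) (.node (.node (.node (.node (.node (.leaf (nat_lit 241)) (.leaf (nat_lit 644525))) (.leaf (nat_lit 485314))) (.node (.node (.leaf (nat_lit 1087)) (.leaf (nat_lit 913328))) (.leaf (nat_lit 2304)))) (.node (.node (.node (.leaf (nat_lit 682)) (.leaf (nat_lit 1249253))) (.leaf (nat_lit 2048))) (.node (.leaf (nat_lit 1442)) (.leaf (nat_lit 2497))))) (.node (.node (.node (.node (.leaf (nat_lit 467)) (.leaf (nat_lit 874847))) (.leaf (nat_lit 62))) (.node (.node (.leaf (nat_lit 1271)) (.leaf (nat_lit 434870))) (.leaf (nat_lit 2402)))) (.node (.node (.node (.leaf (nat_lit 890)) (.leaf (nat_lit 1209543))) (.leaf (nat_lit 1233675))) (.node (.leaf (nat_lit 1596)) (.leaf (nat_lit 39649))))))))))) (.node (.node (.node (.node (.node (.node (.node (.node (.node (.node (.leaf (nat_lit 7)) (.leaf (nat_lit 834507))) (.leaf (nat_lit 1604))) (.node (.node (.leaf (nat_lit 536355)) (.leaf (nat_lit 1107907))) (.leaf (nat_lit 310146)))) (.node (.node (.node (.leaf (nat_lit 476)) (.leaf (nat_lit 736986))) (.leaf (nat_lit 1141517))) (.node (.node (.leaf (nat_lit 1279)) (.leaf (nat_lit 355701))) (.leaf (nat_lit 354768))))) (.node (.node (.node (.node (.leaf (nat_lit 251)) (.leaf (nat_lit 963150))) (.leaf (nat_lit 1758))) (.node (.node (.leaf (nat_lit 1098)) (.leaf (nat_lit 1109761))) (.leaf (nat_lit 731786)))) (.node (.node (.node (.leaf (nat_lit 691)) (.leaf (nat_lit 2788))) (.leaf (nat_lit 2055))) (.node (.leaf (nat_lit 1451)) (.leaf (nat_lit 1280885)))))) (.node (.node (.node (.node (.node (.leaf (nat_lit 131)) (.leaf (nat_lit 2636))) (.leaf (nat_lit 1687))) (.node (.node (.leaf (nat_lit 999)) (.leaf (nat_lit 704966))) (.leaf (nat_lit 2244)))) (.node (.node (.node (.leaf (nat_lit 582)) (.leaf (nat_lit 859822))) (.leaf (nat_lit 1977))) (.node (.leaf (nat_lit 1363)) (.leaf (nat_lit 117))))) (.node (.node (.node (.node (.leaf (nat_lit 367)) (.leaf (nat_lit 188603))) (.leaf (nat_lit 226401))) (.node (.node (.leaf (nat_lit 1190)) (.leaf (nat_lit 1203823))) (.leaf (nat_lit 108016)))) (.node (.node (.node (.leaf (nat_lit 798)) (.leaf (nat_lit 1229661))) (.leaf (nat_lit 2113))) (.node (.leaf (nat_lit 242456)) (.leaf (nat_lit 2551))))))) (.node (.node (.node (.node (.node (.node (.leaf (nat_lit 70)) (.leaf (nat_lit 561163))) (.leaf (nat_lit 355399))) (.node (.node (.leaf (nat_lit 943)) (.leaf (nat_lit 272))) (.leaf (nat_lit 392713)))) (.node (.node (.node (.leaf (nat_lit 531)) (.leaf (nat_lit 267062))) (.leaf (nat_lit 1941))) (.node (.node (.leaf (nat_lit 1310)) (.leaf (nat_lit 163491))) (.leaf (nat_lit 727302))))) (.node (.node (.node (.node (.leaf (nat_lit 308)) (.leaf (nat_lit 552452))) (.leaf (nat_lit 1794))) (.node (.node (.leaf (nat_lit 49102)) (.leaf (nat_lit 244217))) (.leaf (nat_lit 2332)))) (.node (.node (.node (.leaf (nat_lit 744)) (.leaf (nat_lit 783826))) (.leaf (nat_lit 2086))) (.node (.leaf (nat_lit 1489)) (.leaf (nat_lit 646089)))))) (.node (.node (.node (.node (.node (.leaf (nat_lit 192)) (.leaf (nat_lit 71303))) (.leaf (nat_lit 348880))) (.node (.node (.leaf (nat_lit 1048)) (.leaf (nat_lit 498202))) (.leaf (nat_lit 2277)))) (.node (.node (.node (.leaf (nat_lit 636)) (.leaf (nat_lit 517640))) (.leaf (nat_lit 2015))) (.node (.leaf (nat_lit 1172515)) (.leaf (nat_lit 1257463))))) (.node (.node (.node (.node (.leaf (nat_lit 422)) (.leaf (nat_lit 2726))) (.leaf (nat_lit 1865))) (.node (.node (.leaf (nat_lit 1233)) (.leaf (nat_lit 284912))) (.leaf (nat_lit 58661)))) (.node (.node (.node (.leaf (nat_lit 847)) (.leaf (nat_lit 322255))) (.leaf (nat_lit 2145))) (.node (.leaf (nat_lit 1563)) (.leaf (nat_lit 2573)))))))) (.node (.node (.node (.node (.node (.node (.node (.leaf (nat_lit 39)) (.leaf (nat_lit 2604))) (.leaf (nat_lit 46))) (.node (.node (.leaf (nat_lit 605696)) (.leaf (nat_lit 1030047))) (.leaf (nat_lit 401757)))) (.node (.node (.node (.leaf (nat_lit 504)) (.leaf (nat_lit 2749))) (.leaf (nat_lit 1924))) (.node (.node (.leaf (nat_lit 1300)) (.leaf (nat_lit 250351))) (.leaf (nat_lit 735645))))) (.node (.node (.node (.node (.leaf (nat_lit 280)) (.leaf (nat_lit 838378))) (.leaf (nat_lit 142498))) (.node (.node (.leaf (nat_lit 1125)) (.leaf (nat_lit 283169))) (.leaf (nat_lit 781384)))) (.node (.node (.node (.leaf (nat_lit 720)) (.leaf (nat_lit 995684))) (.leaf (nat_lit 876072))) (.node (.leaf (nat_lit 156569)) (.leaf (nat_lit 2513)))))) (.node (.node (.node (.node (.node (.leaf (nat_lit 162)) (.leaf (nat_lit 2646))) (.leaf (nat_lit 50500))) (.node (.node (.leaf (nat_lit 22)) (.leaf (nat_lit 1089714))) (.leaf (nat_lit 1271449)))) (.node (.node (.node (.leaf (nat_lit 803997)) (.leaf (nat_lit 428483))) (.leaf (nat_lit 816564))) (.node (.leaf (nat_lit 515)) (.leaf (nat_lit 119))))) (.node (.node (.node (.node (.leaf (nat_lit 393)) (.leaf (nat_lit 670066))) (.leaf (nat_lit 1787))) (.node (.node (.leaf (nat_lit 1210)) (.leaf (nat_lit 762913))) (.leaf (nat_lit 251491)))) (.node (.node (.node (.leaf (nat_lit 822)) (.leaf (nat_lit 80349))) (.leaf (nat_lit 2132))) (.node (.leaf (nat_lit 1532)) (.leaf (nat_lit 83857))))))) (.node (.node (.node (.node (.node (.node (.leaf (nat_lit 67)) (.leaf (nat_lit 279089))) (.leaf (nat_lit 1666))) (.node (.node (.leaf (nat_lit 971)) (.leaf (nat_lit 1255628))) (.leaf (nat_lit 2226)))) (.node (.node (.node (.leaf (nat_lit 534)) (.leaf (nat_lit 2761))) (.leaf (nat_lit 291))) (.node (.node (.leaf (nat_lit 1345)) (.leaf (nat_lit 119718))) (.leaf (nat_lit 2438))))) (.node (.node (.node (.node (.leaf (nat_lit 338)) (.leaf (nat_lit 176201))) (.leaf (nat_lit 1811))) (.node (.node (.leaf (nat_lit 167190)) (.leaf (nat_lit 1275665))) (.leaf (nat_lit 1127460)))) (.node (.node (.node (.leaf (nat_lit 770)) (.leaf (nat_lit 626))) (.leaf (nat_lit 520139))) (.node (.leaf (nat_lit 1510)) (.leaf (nat_lit 185391)))))) (.node (.node (.node (.node (.node (.leaf (nat_lit 222)) (.leaf (nat_lit 996050))) (.leaf (nat_lit 49834))) (.node (.node (.leaf (nat_lit 20300)) (.leaf (nat_lit 297909))) (.leaf (nat_lit 510448)))) (.node (.node (.node (.leaf (nat_lit 662)) (.leaf (nat_lit 796419))) (.leaf (nat_lit 838250))) (.node (.leaf (nat_lit 1425)) (.leaf (nat_lit 2487))))) (.node (.node (.node (.node (.leaf (nat_lit 451)) (.leaf (nat_lit 1087192))) (.leaf (nat_lit 436740))) (.node (.node (.leaf (nat_lit 1236)) (.leaf (nat_lit 1032944))) (.leaf (nat_lit 2393)))) (.node (.node (.node (.leaf (nat_lit 851)) (.leaf (nat_lit 48859))) (.leaf (nat_lit 2160))) (.node (.leaf (nat_lit 1583)) (.leaf (nat_lit 1250072))))))))) (.node (.node (.node (.node (.node (.node (.node (.node (.leaf (nat_lit 23)) (.leaf (nat_lit 408162))) (.leaf (nat_lit 637921))) (.node (.node (.leaf (nat_lit 911)) (.leaf (nat_lit 581072))) (.leaf (nat_lit 2184)))) (.node (.node (.node (.leaf (nat_lit 491)) (.leaf (nat_lit 940617))) (.leaf (nat_lit 1910))) (.node (.node (.leaf (nat_lit 1286)) (.leaf (nat_lit 1050963))) (.leaf (nat_lit 106975))))) (.node (.node (.node (.node (.leaf (nat_lit 267)) (.leaf (nat_lit 1199166))) (.leaf (nat_lit 1766))) (.node (.node (.leaf (nat_lit 1112)) (.leaf (nat_lit 872236))) (.leaf (nat_lit 2311)))) (.node (.node (.node (.leaf (nat_lit 704)) (.leaf (nat_lit 820647))) (.leaf (nat_lit 203509))) (.node (.leaf (nat_lit 1179306)) (.leaf (nat_lit 2504)))))) (.node (.node (.node (.node (.node (.leaf (nat_lit 147)) (.leaf (nat_lit 2642))) (.leaf (nat_lit 231967))) (.node (.node (.leaf (nat_lit 942433)) (.leaf (nat_lit 576502))) (.leaf (nat_lit 1162737)))) (.node (.node (.node (.leaf (nat_lit 769331)) (.leaf (nat_lit 656502))) (.leaf (nat_lit 1988))) (.node (.leaf (nat_lit 1009295)) (.leaf (nat_lit 2461))))) (.node (.node (.node (.node (.leaf (nat_lit 379)) (.leaf (nat_lit 839355))) (.leaf (nat_lit 919673))) (.node (.node (.leaf (nat_lit 1199)) (.leaf (nat_lit 2869))) (.leaf (nat_lit 2363)))) (.node (.node (.node (.leaf (nat_lit 810)) (.leaf (nat_lit 1415))) (.leaf (nat_lit 1185016))) (.node (.leaf (nat_lit 1537)) (.leaf (nat_lit 2560))))))) (.node (.node (.node (.node (.node (.node (.leaf (nat_lit 86)) (.leaf (nat_lit 2619))) (.leaf (nat_lit 494052))) (.node (.node (.leaf (nat_lit 956)) (.leaf (nat_lit 951750))) (.leaf (nat_lit 2218)))) (.node (.node (.node (.leaf (nat_lit 543)) (.leaf (nat_lit 2757))) (.leaf (nat_lit 605113))) (.node (.node (.leaf (nat_lit 899475)) (.leaf (nat_lit 1151969))) (.leaf (nat_lit 172077))))) (.node (.node (.node (.node (.leaf (nat_lit 296)) (.leaf (nat_lit 69363))) (.leaf (nat_lit 735640))) (.node (.node (.leaf (nat_lit 1157)) (.leaf (nat_lit 607660))) (.leaf (nat_lit 666434)))) (.node (.node (.node (.leaf (nat_lit 757)) (.leaf (nat_lit 589705))) (.leaf (nat_lit 706954))) (.node (.leaf (nat_lit 1500)) (.leaf (nat_lit 762390)))))) (.node (.node (.node (.node (.node (.leaf (nat_lit 207)) (.leaf (nat_lit 2656))) (.leaf (nat_lit 1732))) (.node (.node (.leaf (nat_lit 376)) (.leaf (nat_lit 315))) (.leaf (nat_lit 2284)))) (.node (.node (.node (.leaf (nat_lit 650)) (.leaf (nat_lit 1252698))) (.leaf (nat_lit 2026))) (.node (.leaf (nat_lit 231446)) (.leaf (nat_lit 697923))))) (.node (.node (.node (.node (.leaf (nat_lit 437)) (.leaf (nat_lit 837144))) (.leaf (nat_lit 1876))) (.node (.node (.leaf (nat_lit 1244)) (.leaf (nat_lit 402870))) (.leaf (nat_lit 2386)))) (.node (.node (.node (.leaf (nat_lit 861)) (.leaf (nat_lit 82157))) (.leaf (nat_lit 423))) (.node (.leaf (nat_lit 1573)) (.leaf (nat_lit 2579)))))))) (.node (.node (.node (.node (.node (.node (.node (.leaf (nat_lit 55)) (.leaf (nat_lit 105629))) (.leaf (nat_lit 654591))) (.node (.node (.leaf (nat_lit 122)) (.leaf (nat_lit 1069832))) (.leaf (nat_lit 87)))) (.node (.node (.node (.leaf (nat_lit 516)) (.leaf (nat_lit 1181275))) (.leaf (nat_lit 1932))) (.node (.node (.leaf (nat_lit 829570)) (.leaf (nat_lit 1284001))) (.leaf (nat_lit 855870))))) (.node (.node (.node (.node (.leaf (nat_lit 295)) (.leaf (nat_lit 778315))) (.leaf (nat_lit 1196931))) (.node (.node (.leaf (nat_lit 1136)) (.leaf (nat_lit 459446))) (.leaf (nat_lit 2288)))) (.node (.node (.node (.leaf (nat_lit 52)) (.leaf (nat_lit 598908))) (.leaf (nat_lit 35864))) (.node (.leaf (nat_lit 1477)) (.leaf (nat_lit 2521)))))) (.node (.node (.node (.node (.node (.leaf (nat_lit 177)) (.leaf (nat_lit 197510))) (.leaf (nat_lit 1714))) (.node (.node (.leaf (nat_lit 556642)) (.leaf (nat_lit 739439))) (.leaf (nat_lit 2268)))) (.node (.node (.node (.leaf (nat_lit 221)) (.leaf (nat_lit 650216))) (.leaf (nat_lit 960624))) (.node (.leaf (nat_lit 1393)) (.leaf (nat_lit 785458))))) (.node (.node (.node (.node (.leaf (nat_lit 407)) (.leaf (nat_lit 1640))) (.leaf (nat_lit 657317))) (.node (.node (.leaf (nat_lit 1223)) (.leaf (nat_lit 25105))) (.leaf (nat_lit 1170)))) (.node (.node (.node (.leaf (nat_lit 837)) (.leaf (nat_lit 501044))) (.leaf (nat_lit 395400))) (.node (.leaf (nat_lit 1077741)) (.leaf (nat_lit 667317))))))) (.node (.node (.node (.node (.node (.node (.leaf (nat_lit 116)) (.leaf (nat_lit 184496))) (.leaf (nat_lit 1678))) (.node (.node (.leaf (nat_lit 984)) (.leaf (nat_lit 935546))) (.leaf (nat_lit 2235)))) (.node (.node (.node (.leaf (nat_lit 568)) (.leaf (nat_lit 738914))) (.leaf (nat_lit 737822))) (.node (.node (.leaf (nat_lit 1355)) (.leaf (nat_lit 504784))) (.leaf (nat_lit 979501))))) (.node (.node (.node (.node (.leaf (nat_lit 352)) (.leaf (nat_lit 1093570))) (.leaf (nat_lit 1179297))) (.node (.node (.leaf (nat_lit 1177)) (.leaf (nat_lit 1006466))) (.leaf (nat_lit 2351)))) (.node (.node (.node (.leaf (nat_lit 785)) (.leaf (nat_lit 578405))) (.leaf (nat_lit 2108))) (.node (.leaf (nat_lit 245454)) (.leaf (nat_lit 1217007)))))) (.node (.node (.node (.node (.node (.leaf (nat_lit 237)) (.leaf (nat_lit 1546))) (.leaf (nat_lit 1749))) (.node (.node (.leaf (nat_lit 170949)) (.leaf (nat_lit 692915))) (.leaf (nat_lit 1957)))) (.node (.node (.node (.leaf (nat_lit 678)) (.leaf (nat_lit 526900))) (.leaf (nat_lit 2045))) (.node (.leaf (nat_lit 1438)) (.leaf (nat_lit 414183))))) (.node (.node (.node (.node (.leaf (nat_lit 12)) (.leaf (nat_lit 834996))) (.leaf (nat_lit 174026))) (.node (.node (.leaf (nat_lit 646064)) (.leaf (nat_lit 610490))) (.leaf (nat_lit 2400)))) (.node (.node (.node (.leaf (nat_lit 886)) (.leaf (nat_lit 2837))) (.leaf (nat_lit 624))) (.node (.leaf (nat_lit 1592)) (.leaf (nat_lit 811360)))))))))) (.node (.node (.node (.node (.node (.node (.node (.node (.node (.leaf (nat_lit 15)) (.leaf (nat_lit 550586))) (.leaf (nat_lit 787720))) (.node (.node (.leaf (nat_lit 905)) (.leaf (nat_lit 1240598))) (.leaf (nat_lit 2177)))) (.node (.node (.node (.leaf (nat_lit 8)) (.leaf (nat_lit 1240373))) (.leaf (nat_lit 1905))) (.node (.node (.leaf (nat_lit 1283)) (.leaf (nat_lit 316453))) (.leaf (nat_lit 954628))))) (.node (.node (.node (.node (.leaf (nat_lit 259)) (.leaf (nat_lit 646654))) (.leaf (nat_lit 1765))) (.node (.node (.leaf (nat_lit 1106)) (.leaf (nat_lit 2864))) (.leaf (nat_lit 209135)))) (.node (.node (.node (.leaf (nat_lit 697)) (.leaf (nat_lit 2790))) (.leaf (nat_lit 2060))) (.node (.leaf (nat_lit 38)) (.leaf (nat_lit 264112)))))) (.node (.node (.node (.node (.node (.leaf (nat_lit 139)) (.leaf (nat_lit 2638))) (.leaf (nat_lit 1692))) (.node (.node (.leaf (nat_lit 1007)) (.leaf (nat_lit 287))) (.leaf (nat_lit 708858)))) (.node (.node (.node (.leaf (nat_lit 589)) (.leaf (nat_lit 166302))) (.leaf (nat_lit 1982))) (.node (.leaf (nat_lit 1368)) (.leaf (nat_lit 1274553))))) (.node (.node (.node (.node (.leaf (nat_lit 373)) (.leaf (nat_lit 650447))) (.leaf (nat_lit 1839))) (.node (.node (.leaf (nat_lit 1248133)) (.leaf (nat_lit 2868))) (.leaf (nat_lit 2360)))) (.node (.node (.node (.leaf (nat_lit 804)) (.leaf (nat_lit 494794))) (.leaf (nat_lit 491400))) (.node (.leaf (nat_lit 1531)) (.leaf (nat_lit 1052284))))))) (.node (.node (.node (.node (.node (.node (.leaf (nat_lit 78)) (.leaf (nat_lit 82807))) (.leaf (nat_lit 1650))) (.node (.node (.leaf (nat_lit 949)) (.leaf (nat_lit 1282902))) (.leaf (nat_lit 1055828)))) (.node (.node (.node (.leaf (nat_lit 537)) (.leaf (nat_lit 425878))) (.leaf (nat_lit 295036))) (.node (.node (.leaf (nat_lit 891116)) (.leaf (nat_lit 877335))) (.leaf (nat_lit 2435))))) (.node (.node (.node (.node (.leaf (nat_lit 316)) (.leaf (nat_lit 2693))) (.leaf (nat_lit 56))) (.node (.node (.leaf (nat_lit 1150)) (.leaf (nat_lit 1075493))) (.leaf (nat_lit 2333)))) (.node (.node (.node (.leaf (nat_lit 751)) (.leaf (nat_lit 169362))) (.leaf (nat_lit 2090))) (.node (.leaf (nat_lit 1496)) (.leaf (nat_lit 158002)))))) (.node (.node (.node (.node (.node (.leaf (nat_lit 200)) (.leaf (nat_lit 1237795))) (.leaf (nat_lit 243545))) (.node (.node (.leaf (nat_lit 1056)) (.leaf (nat_lit 840932))) (.leaf (nat_lit 134703)))) (.node (.node (.node (.leaf (nat_lit 644)) (.leaf (nat_lit 955236))) (.leaf (nat_lit 708863))) (.node (.leaf (nat_lit 1408)) (.leaf (nat_lit 699419))))) (.node (.node (.node (.node (.leaf (nat_lit 429)) (.leaf (nat_lit 65013))) (.leaf (nat_lit 1871))) (.node (.node (.leaf (nat_lit 1239)) (.leaf (nat_lit 1039029))) (.leaf (nat_lit 2384)))) (.node (.node (.node (.leaf (nat_lit 853)) (.leaf (nat_lit 2830))) (.leaf (nat_lit 405296))) (.node (.leaf (nat_lit 798583)) (.leaf (nat_lit 2576)))))))) (.node (.node (.node (.node (.node (.node (.node (.leaf (nat_lit 47)) (.leaf (nat_lit 552411))) (.leaf (nat_lit 1361))) (.node (.node (.leaf (nat_lit 926)) (.leaf (nat_lit 472156))) (.leaf (nat_lit 252511)))) (.node (.node (.node (.leaf (nat_lit 511)) (.leaf (nat_lit 1028491))) (.leaf (nat_lit 1929))) (.node (.node (.leaf (nat_lit 418640)) (.leaf (nat_lit 722264))) (.leaf (nat_lit 900721))))) (.node (.node (.node (.node (.leaf (nat_lit 288)) (.leaf (nat_lit 378564))) (.leaf (nat_lit 1779))) (.node (.node (.leaf (nat_lit 904580)) (.leaf (nat_lit 637374))) (.leaf (nat_lit 585112)))) (.node (.node (.node (.leaf (nat_lit 726)) (.leaf (nat_lit 2798))) (.leaf (nat_lit 2074))) (.node (.leaf (nat_lit 959149)) (.leaf (nat_lit 607309)))))) (.node (.node (.node (.node (.node (.leaf (nat_lit 169)) (.leaf (nat_lit 427817))) (.leaf (nat_lit 1711))) (.node (.node (.leaf (nat_lit 1030)) (.leaf (nat_lit 524654))) (.leaf (nat_lit 2263)))) (.node (.node (.node (.leaf (nat_lit 616)) (.leaf (nat_lit 645737))) (.leaf (nat_lit 1999))) (.node (.leaf (nat_lit 1388)) (.leaf (nat_lit 825193))))) (.node (.node (.node (.node (.leaf (nat_lit 401)) (.leaf (nat_lit 435752))) (.leaf (nat_lit 1856))) (.node (.node (.leaf (nat_lit 1216)) (.leaf (nat_lit 2872))) (.leaf (nat_lit 494402)))) (.node (.node (.node (.leaf (nat_lit 830)) (.leaf (nat_lit 1228489))) (.leaf (nat_lit 2137))) (.node (.leaf (nat_lit 1550)) (.leaf (nat_lit 920732))))))) (.node (.node (.node (.node (.node (.node (.leaf (nat_lit 108)) (.leaf (nat_lit 411566))) (.leaf (nat_lit 1671))) (.node (.node (.leaf (nat_lit 815564)) (.leaf (nat_lit 1210711))) (.leaf (nat_lit 2231)))) (.node (.node (.node (.leaf (nat_lit 562)) (.leaf (nat_lit 2763))) (.leaf (nat_lit 804315))) (.node (.node (.leaf (nat_lit 766363)) (.leaf (nat_lit 399221))) (.leaf (nat_lit 984501))))) (.node (.node (.node (.node (.leaf (nat_lit 344)) (.leaf (nat_lit 2701))) (.leaf (nat_lit 271264))) (.node (.node (.leaf (nat_lit 1171)) (.leaf (nat_lit 387969))) (.leaf (nat_lit 2348)))) (.node (.node (.node (.leaf (nat_lit 778)) (.leaf (nat_lit 775))) (.leaf (nat_lit 2105))) (.node (.leaf (nat_lit 657225)) (.leaf (nat_lit 2545)))))) (.node (.node (.node (.node (.node (.leaf (nat_lit 230)) (.leaf (nat_lit 1033540))) (.leaf (nat_lit 1743))) (.node (.node (.leaf (nat_lit 1079)) (.leaf (nat_lit 2068))) (.leaf (nat_lit 488562)))) (.node (.node (.node (.leaf (nat_lit 670)) (.leaf (nat_lit 958063))) (.leaf (nat_lit 2041))) (.node (.leaf (nat_lit 608067)) (.leaf (nat_lit 2492))))) (.node (.node (.node (.node (.leaf (nat_lit 457)) (.leaf (nat_lit 2732))) (.leaf (nat_lit 240439))) (.node (.node (.leaf (nat_lit 113)) (.leaf (nat_lit 494951))) (.leaf (nat_lit 2395)))) (.node (.node (.node (.leaf (nat_lit 879)) (.leaf (nat_lit 514588))) (.leaf (nat_lit 2168))) (.node (.leaf (nat_lit 375549)) (.leaf (nat_lit 2585))))))))) (.node (.node (.node (.node (.node (.node (.node (.node (.leaf (nat_lit 31)) (.leaf (nat_lit 940903))) (.leaf (nat_lit 1619))) (.node (.node (.leaf (nat_lit 916)) (.leaf (nat_lit 901343))) (.leaf (nat_lit 2189)))) (.node (.node (.node (.leaf (nat_lit 499)) (.leaf (nat_lit 938385))) (.leaf (nat_lit 1918))) (.node (.node (.leaf (nat_lit 1293)) (.leaf (nat_lit 463519))) (.leaf (nat_lit 1099168))))) (.node (.node (.node (.node (.leaf (nat_lit 273)) (.leaf (nat_lit 71039))) (.leaf (nat_lit 1770))) (.node (.node (.leaf (nat_lit 1118)) (.leaf (nat_lit 513741))) (.leaf (nat_lit 2315)))) (.node (.node (.node (.leaf (nat_lit 712)) (.leaf (nat_lit 457264))) (.leaf (nat_lit 2066))) (.node (.leaf (nat_lit 1463)) (.leaf (nat_lit 2510)))))) (.node (.node (.node (.node (.node (.leaf (nat_lit 155)) (.leaf (nat_lit 2645))) (.leaf (nat_lit 1703))) (.node (.node (.leaf (nat_lit 1017)) (.leaf (nat_lit 332736))) (.leaf (nat_lit 2253)))) (.node (.node (.node (.leaf (nat_lit 602)) (.leaf (nat_lit 811141))) (.leaf (nat_lit 982745))) (.node (.leaf (nat_lit 1379)) (.leaf (nat_lit 2464))))) (.node (.node (.node (.node (.leaf (nat_lit 386)) (.leaf (nat_lit 10185))) (.leaf (nat_lit 1847))) (.node (.node (.leaf (nat_lit 1203)) (.leaf (nat_lit 110331))) (.leaf (nat_lit 2365)))) (.node (.node (.node (.leaf (nat_lit 817)) (.leaf (nat_lit 2821))) (.leaf (nat_lit 2128))) (.node (.leaf (nat_lit 1541)) (.leaf (nat_lit 13669))))))) (.node (.node (.node (.node (.node (.node (.leaf (nat_lit 94)) (.leaf (nat_lit 2620))) (.leaf (nat_lit 1660))) (.node (.node (.leaf (nat_lit 964)) (.leaf (nat_lit 932985))) (.leaf (nat_lit 2221)))) (.node (.node (.node (.leaf (nat_lit 549)) (.leaf (nat_lit 460605))) (.leaf (nat_lit 836))) (.node (.node (.leaf (nat_lit 1337)) (.leaf (nat_lit 252041))) (.leaf (nat_lit 1104040))))) (.node (.node (.node (.node (.leaf (nat_lit 330)) (.leaf (nat_lit 2698))) (.leaf (nat_lit 1807))) (.node (.node (.leaf (nat_lit 1163)) (.leaf (nat_lit 852456))) (.leaf (nat_lit 968573)))) (.node (.node (.node (.leaf (nat_lit 743)) (.leaf (nat_lit 603880))) (.leaf (nat_lit 1285149))) (.node (.leaf (nat_lit 165459)) (.leaf (nat_lit 2536)))))) (.node (.node (.node (.node (.node (.leaf (nat_lit 215)) (.leaf (nat_lit 2659))) (.leaf (nat_lit 1738))) (.node (.node (.leaf (nat_lit 1068)) (.leaf (nat_lit 1232611))) (.leaf (nat_lit 78640)))) (.node (.node (.node (.leaf (nat_lit 657)) (.leaf (nat_lit 762577))) (.leaf (nat_lit 2030))) (.node (.leaf (nat_lit 1419)) (.leaf (nat_lit 1239163))))) (.node (.node (.node (.node (.leaf (nat_lit 443)) (.leaf (nat_lit 1250503))) (.leaf (nat_lit 1882))) (.node (.node (.leaf (nat_lit 1250)) (.leaf (nat_lit 808393))) (.leaf (nat_lit 1133522)))) (.node (.node (.node (.leaf (nat_lit 867)) (.leaf (nat_lit 2833))) (.leaf (nat_lit 1130124))) (.node (.leaf (nat_lit 1580)) (.leaf (nat_lit 1248703)))))))) (.node (.node (.node (.node (.node (.node (.node (.leaf (nat_lit 0)) (.leaf (nat_lit 146))) (.leaf (nat_lit 1637))) (.node (.node (.leaf (nat_lit 937)) (.leaf (nat_lit 270))) (.leaf (nat_lit 2208)))) (.node (.node (.node (.leaf (nat_lit 523)) (.leaf (nat_lit 2754))) (.leaf (nat_lit 833871))) (.node (.node (.leaf (nat_lit 1318)) (.leaf (nat_lit 996478))) (.leaf (nat_lit 2429))))) (.node (.node (.node (.node (.leaf (nat_lit 1281768)) (.leaf (nat_lit 2688))) (.leaf (nat_lit 1790))) (.node (.node (.leaf (nat_lit 1140)) (.leaf (nat_lit 751228))) (.leaf (nat_lit 578276)))) (.node (.node (.node (.leaf (nat_lit 737)) (.leaf (nat_lit 204080))) (.leaf (nat_lit 589049))) (.node (.leaf (nat_lit 1484)) (.leaf (nat_lit 678978)))))) (.node (.node (.node (.node (.node (.leaf (nat_lit 184)) (.leaf (nat_lit 1266743))) (.leaf (nat_lit 348904))) (.node (.node (.leaf (nat_lit 1041)) (.leaf (nat_lit 1131029))) (.leaf (nat_lit 2273)))) (.node (.node (.node (.leaf (nat_lit 628)) (.leaf (nat_lit 765261))) (.leaf (nat_lit 2011))) (.node (.leaf (nat_lit 1398)) (.leaf (nat_lit 986731))))) (.node (.node (.node (.node (.leaf (nat_lit 512725)) (.leaf (nat_lit 1064333))) (.leaf (nat_lit 335053))) (.node (.node (.leaf (nat_lit 1228)) (.leaf (nat_lit 853293))) (.leaf (nat_lit 647120)))) (.node (.node (.node (.leaf (nat_lit 599640)) (.leaf (nat_lit 301695))) (.leaf (nat_lit 410740))) (.node (.leaf (nat_lit 291528)) (.leaf (nat_lit 2570))))))) (.node (.node (.node (.node (.node (.node (.leaf (nat_lit 123)) (.leaf (nat_lit 522778))) (.leaf (nat_lit 1681))) (.node (.node (.leaf (nat_lit 992)) (.leaf (nat_lit 1121070))) (.leaf (nat_lit 2242)))) (.node (.node (.node (.leaf (nat_lit 575)) (.leaf (nat_lit 2768))) (.leaf (nat_lit 1224556))) (.node (.node (.leaf (nat_lit 1083215)) (.leaf (nat_lit 471913))) (.leaf (nat_lit 95867))))) (.node (.node (.node (.node (.leaf (nat_lit 359)) (.leaf (nat_lit 1045101))) (.leaf (nat_lit 1827))) (.node (.node (.leaf (nat_lit 121305)) (.leaf (nat_lit 1015911))) (.leaf (nat_lit 936643)))) (.node (.node (.node (.leaf (nat_lit 801030)) (.leaf (nat_lit 2814))) (.leaf (nat_lit 2111))) (.node (.leaf (nat_lit 389709)) (.leaf (nat_lit 2549)))))) (.node (.node (.node (.node (.node (.leaf (nat_lit 244)) (.leaf (nat_lit 2669))) (.leaf (nat_lit 1756))) (.node (.node (.leaf (nat_lit 1091)) (.leaf (nat_lit 377166))) (.leaf (nat_lit 266814)))) (.node (.node (.node (.leaf (nat_lit 685)) (.leaf (nat_lit 647890))) (.leaf (nat_lit 197283))) (.node (.leaf (nat_lit 1445)) (.leaf (nat_lit 1141201))))) (.node (.node (.node (.node (.leaf (nat_lit 469)) (.leaf (nat_lit 2736))) (.leaf (nat_lit 1898))) (.node (.node (.leaf (nat_lit 1274)) (.leaf (nat_lit 705595))) (.leaf (nat_lit 2403)))) (.node (.node (.node (.leaf (nat_lit 605192)) (.leaf (nat_lit 474676))) (.leaf (nat_lit 2173))) (.node (.leaf (nat_lit 1599)) (.leaf (nat_lit 215484))))))))))))) (.node (.node (.node (.node (.node (.node (.node (.node (.node (.node (.node (.node (.leaf (nat_lit 2)) (.leaf (nat_lit 295654))) (.leaf (nat_lit 1601))) (.node (.node (.leaf (nat_lit 896)) (.leaf (nat_lit 2839))) (.leaf (nat_lit 983097)))) (.node (.node (.node (.leaf (nat_lit 472)) (.leaf (nat_lit 659313))) (.leaf (nat_lit 401175))) (.node (.node (.leaf (nat_lit 1275)) (.leaf (nat_lit 14165))) (.leaf (nat_lit 878876))))) (.node (.node (.node (.node (.leaf (nat_lit 604815)) (.leaf (nat_lit 95335))) (.leaf (nat_lit 611793))) (.node (.node (.leaf (nat_lit 1093)) (.leaf (nat_lit 1003))) (.leaf (nat_lit 2307)))) (.node (.node (.node (.leaf (nat_lit 7)) (.leaf (nat_lit 875200))) (.leaf (nat_lit 2052))) (.node (.leaf (nat_lit 1448)) (.leaf (nat_lit 532307)))))) (.node (.node (.node (.node (.node (.leaf (nat_lit 126)) (.leaf (nat_lit 2633))) (.leaf (nat_lit 1684))) (.node (.node (.leaf (nat_lit 994)) (.leaf (nat_lit 192865))) (.leaf (nat_lit 354831)))) (.node (.node (.node (.leaf (nat_lit 578)) (.leaf (nat_lit 525287))) (.leaf (nat_lit 217318))) (.node (.leaf (nat_lit 1359)) (.leaf (nat_lit 1151111))))) (.node (.node (.node (.node (.leaf (nat_lit 362)) (.leaf (nat_lit 657348))) (.leaf (nat_lit 1829))) (.node (.node (.leaf (nat_lit 1186)) (.leaf (nat_lit 711344))) (.leaf (nat_lit 990190)))) (.node (.node (.node (.leaf (nat_lit 794)) (.leaf (nat_lit 191872))) (.leaf (nat_lit 1289423))) (.node (.leaf (nat_lit 1522)) (.leaf (nat_lit 941151))))))) (.node (.node (.node (.node (.node (.node (.leaf (nat_lit 65)) (.leaf (nat_lit 598289))) (.leaf (nat_lit 1640))) (.node (.node (.leaf (nat_lit 1201221)) (.leaf (nat_lit 663326))) (.leaf (nat_lit 923411)))) (.node (.node (.node (.leaf (nat_lit 526)) (.leaf (nat_lit 667557))) (.leaf (nat_lit 1250161))) (.node (.node (.leaf (nat_lit 858786)) (.leaf (nat_lit 414904))) (.leaf (nat_lit 2431))))) (.node (.node (.node (.node (.leaf (nat_lit 304)) (.leaf (nat_lit 183246))) (.leaf (nat_lit 110008))) (.node (.node (.leaf (nat_lit 49107)) (.leaf (nat_lit 411428))) (.leaf (nat_lit 712503)))) (.node (.node (.node (.leaf (nat_lit 739)) (.leaf (nat_lit 42998))) (.leaf (nat_lit 1045499))) (.node (.leaf (nat_lit 1487)) (.leaf (nat_lit 830775)))))) (.node (.node (.node (.node (.node (.leaf (nat_lit 187)) (.leaf (nat_lit 300618))) (.leaf (nat_lit 1719))) (.node (.node (.leaf (nat_lit 1044)) (.leaf (nat_lit 1134540))) (.leaf (nat_lit 2275)))) (.node (.node (.node (.leaf (nat_lit 631)) (.leaf (nat_lit 605520))) (.leaf (nat_lit 2013))) (.node (.leaf (nat_lit 1401)) (.leaf (nat_lit 2474))))) (.node (.node (.node (.node (.leaf (nat_lit 417)) (.leaf (nat_lit 375145))) (.leaf (nat_lit 1863))) (.node (.node (.leaf (nat_lit 1230)) (.leaf (nat_lit 878143))) (.leaf (nat_lit 1047363)))) (.node (.node (.node (.leaf (nat_lit 843)) (.leaf (nat_lit 2827))) (.leaf (nat_lit 639692))) (.node (.leaf (nat_lit 1560)) (.leaf (nat_lit 977288)))))))) (.node (.node (.node (.node (.node (.node (.node (.leaf (nat_lit 34)) (.leaf (nat_lit 856281))) (.leaf (nat_lit 1621))) (.node (.node (.leaf (nat_lit 919)) (.leaf (nat_lit 489478))) (.leaf (nat_lit 2192)))) (.node (.node (.node (.leaf (nat_lit 1008451)) (.leaf (nat_lit 2748))) (.leaf (nat_lit 540180))) (.node (.node (.leaf (nat_lit 1295)) (.leaf (nat_lit 220934))) (.leaf (nat_lit 2417))))) (.node (.node (.node (.node (.leaf (nat_lit 275)) (.leaf (nat_lit 411284))) (.leaf (nat_lit 1771))) (.node (.node (.leaf (nat_lit 1121)) (.leaf (nat_lit 2228))) (.leaf (nat_lit 2317)))) (.node (.node (.node (.leaf (nat_lit 715)) (.leaf (nat_lit 2795))) (.leaf (nat_lit 2068))) (.node (.leaf (nat_lit 1466)) (.leaf (nat_lit 2511)))))) (.node (.node (.node (.node (.node (.leaf (nat_lit 158)) (.leaf (nat_lit 1033374))) (.leaf (nat_lit 1705))) (.node (.node (.leaf (nat_lit 1020)) (.leaf (nat_lit 483786))) (.leaf (nat_lit 2256)))) (.node (.node (.node (.leaf (nat_lit 605)) (.leaf (nat_lit 2773))) (.leaf (nat_lit 1052879))) (.node (.leaf (nat_lit 536819)) (.leaf (nat_lit 454451))))) (.node (.node (.node (.node (.leaf (nat_lit 389)) (.leaf (nat_lit 389774))) (.leaf (nat_lit 646421))) (.node (.node (.leaf (nat_lit 1205)) (.leaf (nat_lit 1115920))) (.leaf (nat_lit 890543)))) (.node (.node (.node (.leaf (nat_lit 127277)) (.leaf (nat_lit 936560))) (.leaf (nat_lit 2130))) (.node (.leaf (nat_lit 1543)) (.leaf (nat_lit 2564))))))) (.node (.node (.node (.node (.node (.node (.leaf (nat_lit 97)) (.leaf (nat_lit 879388))) (.leaf (nat_lit 265076))) (.node (.node (.leaf (nat_lit 967)) (.leaf (nat_lit 462380))) (.leaf (nat_lit 2223)))) (.node (.node (.node (.leaf (nat_lit 552)) (.leaf (nat_lit 693696))) (.leaf (nat_lit 1957))) (.node (.node (.leaf (nat_lit 1340)) (.leaf (nat_lit 858123))) (.leaf (nat_lit 2445))))) (.node (.node (.node (.node (.leaf (nat_lit 333)) (.leaf (nat_lit 2699))) (.leaf (nat_lit 524433))) (.node (.node (.leaf (nat_lit 1164)) (.leaf (nat_lit 703601))) (.leaf (nat_lit 2343)))) (.node (.node (.node (.leaf (nat_lit 765)) (.leaf (nat_lit 661))) (.leaf (nat_lit 2099))) (.node (.leaf (nat_lit 1506)) (.leaf (nat_lit 538045)))))) (.node (.node (.node (.node (.node (.leaf (nat_lit 217)) (.leaf (nat_lit 2660))) (.leaf (nat_lit 1740))) (.node (.node (.leaf (nat_lit 1071)) (.leaf (nat_lit 182299))) (.leaf (nat_lit 352)))) (.node (.node (.node (.leaf (nat_lit 660)) (.leaf (nat_lit 702082))) (.leaf (nat_lit 2032))) (.node (.leaf (nat_lit 1421)) (.leaf (nat_lit 2486))))) (.node (.node (.node (.node (.leaf (nat_lit 446)) (.leaf (nat_lit 1076824))) (.leaf (nat_lit 1883))) (.node (.node (.leaf (nat_lit 1253)) (.leaf (nat_lit 619196))) (.leaf (nat_lit 2390)))) (.node (.node (.node (.leaf (nat_lit 875913)) (.leaf (nat_lit 1076710))) (.leaf (nat_lit 2155))) (.node (.leaf (nat_lit 1581)) (.leaf (nat_lit 121449))))))))) (.node (.node (.node (.node (.node (.node (.node (.node (.leaf (nat_lit 18)) (.leaf (nat_lit 314238))) (.leaf (nat_lit 331649))) (.node (.node (.leaf (nat_lit 576166)) (.leaf (nat_lit 122198))) (.leaf (nat_lit 2180)))) (.node (.node (.node (.leaf (nat_lit 486)) (.leaf (nat_lit 2742))) (.leaf (nat_lit 1907))) (.node (.node (.leaf (nat_lit 1285)) (.leaf (nat_lit 1058353))) (.leaf (nat_lit 2411))))) (.node (.node (.node (.node (.leaf (nat_lit 262)) (.leaf (nat_lit 2674))) (.leaf (nat_lit 844811))) (.node (.node (.leaf (nat_lit 697285)) (.leaf (nat_lit 695391))) (.leaf (nat_lit 2310)))) (.node (.node (.node (.leaf (nat_lit 700)) (.leaf (nat_lit 939961))) (.leaf (nat_lit 976381))) (.node (.leaf (nat_lit 1456)) (.leaf (nat_lit 1726)))))) (.node (.node (.node (.node (.node (.leaf (nat_lit 142)) (.leaf (nat_lit 2640))) (.leaf (nat_lit 368785))) (.node (.node (.leaf (nat_lit 962)) (.leaf (nat_lit 1033584))) (.leaf (nat_lit 903277)))) (.node (.node (.node (.leaf (nat_lit 592)) (.leaf (nat_lit 673660))) (.leaf (nat_lit 1984))) (.node (.leaf (nat_lit 1371)) (.leaf (nat_lit 479283))))) (.node (.node (.node (.node (.leaf (nat_lit 374)) (.leaf (nat_lit 1147346))) (.leaf (nat_lit 1842))) (.node (.node (.leaf (nat_lit 1197)) (.leaf (nat_lit 364565))) (.leaf (nat_lit 2362)))) (.node (.node (.node (.leaf (nat_lit 806)) (.leaf (nat_lit 1131344))) (.leaf (nat_lit 554872))) (.node (.leaf (nat_lit 1532)) (.leaf (nat_lit 2556))))))) (.node (.node (.node (.node (.node (.node (.leaf (nat_lit 81)) (.leaf (nat_lit 862653))) (.leaf (nat_lit 1653))) (.node (.node (.leaf (nat_lit 951)) (.leaf (nat_lit 463193))) (.leaf (nat_lit 72487)))) (.node (.node (.node (.leaf (nat_lit 539)) (.leaf (nat_lit 860719))) (.leaf (nat_lit 1949))) (.node (.node (.leaf (nat_lit 1327)) (.leaf (nat_lit 684825))) (.leaf (nat_lit 363))))) (.node (.node (.node (.node (.leaf (nat_lit 319)) (.leaf (nat_lit 1160943))) (.leaf (nat_lit 1802))) (.node (.node (.leaf (nat_lit 1152)) (.leaf (nat_lit 85214))) (.leaf (nat_lit 2335)))) (.node (.node (.node (.leaf (nat_lit 754)) (.leaf (nat_lit 1875))) (.leaf (nat_lit 2093))) (.node (.leaf (nat_lit 1498)) (.leaf (nat_lit 777046)))))) (.node (.node (.node (.node (.node (.leaf (nat_lit 202)) (.leaf (nat_lit 1283874))) (.leaf (nat_lit 1727))) (.node (.node (.leaf (nat_lit 1057)) (.leaf (nat_lit 2855))) (.leaf (nat_lit 2281)))) (.node (.node (.node (.leaf (nat_lit 647)) (.leaf (nat_lit 802775))) (.leaf (nat_lit 2023))) (.node (.leaf (nat_lit 1411)) (.leaf (nat_lit 1142097))))) (.node (.node (.node (.node (.leaf (nat_lit 432)) (.leaf (nat_lit 1027121))) (.leaf (nat_lit 1874))) (.node (.node (.leaf (nat_lit 469962)) (.leaf (nat_lit 158156))) (.leaf (nat_lit 600648)))) (.node (.node (.node (.leaf (nat_lit 856)) (.leaf (nat_lit 812005))) (.leaf (nat_lit 2149))) (.node (.leaf (nat_lit 476182)) (.leaf (nat_lit 60989)))))))) (.node (.node (.node (.node (.node (.node (.node (.leaf (nat_lit 50)) (.leaf (nat_lit 2607))) (.leaf (nat_lit 595))) (.node (.node (.leaf (nat_lit 241998)) (.leaf (nat_lit 325400))) (.leaf (nat_lit 2199)))) (.node (.node (.node (.leaf (nat_lit 536091)) (.leaf (nat_lit 390056))) (.leaf (nat_lit 1930))) (.node (.node (.leaf (nat_lit 1308)) (.leaf (nat_lit 603565))) (.leaf (nat_lit 2423))))) (.node (.node (.node (.node (.leaf (nat_lit 291)) (.leaf (nat_lit 2684))) (.leaf (nat_lit 1781))) (.node (.node (.leaf (nat_lit 1132)) (.leaf (nat_lit 1200911))) (.leaf (nat_lit 570924)))) (.node (.node (.node (.leaf (nat_lit 728)) (.leaf (nat_lit 656853))) (.leaf (nat_lit 425034))) (.node (.leaf (nat_lit 1474)) (.leaf (nat_lit 836503)))))) (.node (.node (.node (.node (.node (.leaf (nat_lit 172)) (.leaf (nat_lit 355627))) (.leaf (nat_lit 648143))) (.node (.node (.leaf (nat_lit 242010)) (.leaf (nat_lit 301344))) (.leaf (nat_lit 655115)))) (.node (.node (.node (.leaf (nat_lit 619)) (.leaf (nat_lit 1857))) (.leaf (nat_lit 2002))) (.node (.leaf (nat_lit 481559)) (.leaf (nat_lit 634405))))) (.node (.node (.node (.node (.leaf (nat_lit 604827)) (.leaf (nat_lit 2720))) (.leaf (nat_lit 1858))) (.node (.node (.leaf (nat_lit 1219)) (.leaf (nat_lit 967379))) (.leaf (nat_lit 2372)))) (.node (.node (.node (.leaf (nat_lit 833)) (.leaf (nat_lit 1180469))) (.leaf (nat_lit 471071))) (.node (.leaf (nat_lit 1552)) (.leaf (nat_lit 468987))))))) (.node (.node (.node (.node (.node (.node (.leaf (nat_lit 111)) (.leaf (nat_lit 2630))) (.leaf (nat_lit 1673))) (.node (.node (.leaf (nat_lit 1218767)) (.leaf (nat_lit 1261155))) (.leaf (nat_lit 104233)))) (.node (.node (.node (.leaf (nat_lit 564)) (.leaf (nat_lit 941616))) (.leaf (nat_lit 1967))) (.node (.node (.leaf (nat_lit 1352)) (.leaf (nat_lit 633588))) (.leaf (nat_lit 2450))))) (.node (.node (.node (.node (.leaf (nat_lit 347)) (.leaf (nat_lit 727884))) (.leaf (nat_lit 1818))) (.node (.node (.leaf (nat_lit 1174)) (.leaf (nat_lit 350))) (.leaf (nat_lit 1187363)))) (.node (.node (.node (.leaf (nat_lit 780)) (.leaf (nat_lit 1107157))) (.leaf (nat_lit 1205187))) (.node (.leaf (nat_lit 853098)) (.leaf (nat_lit 1226410)))))) (.node (.node (.node (.node (.node (.leaf (nat_lit 233)) (.leaf (nat_lit 929381))) (.leaf (nat_lit 1746))) (.node (.node (.leaf (nat_lit 103)) (.leaf (nat_lit 433374))) (.leaf (nat_lit 2299)))) (.node (.node (.node (.leaf (nat_lit 673)) (.leaf (nat_lit 356113))) (.leaf (nat_lit 405008))) (.node (.leaf (nat_lit 1434)) (.leaf (nat_lit 352709))))) (.node (.node (.node (.node (.leaf (nat_lit 460)) (.leaf (nat_lit 641741))) (.leaf (nat_lit 1890))) (.node (.node (.leaf (nat_lit 1264)) (.leaf (nat_lit 1283))) (.leaf (nat_lit 669065)))) (.node (.node (.node (.leaf (nat_lit 882)) (.leaf (nat_lit 1040689))) (.leaf (nat_lit 1018433))) (.node (.leaf (nat_lit 902512)) (.leaf (nat_lit 2586)))))))))) (.node (.node (.node (.node (.node (.node (.node (.node (.node (.leaf (nat_lit 10)) (.leaf (nat_lit 212546))) (.leaf (nat_lit 1606))) (.node (.node (.leaf (nat_lit 901)) (.leaf (nat_lit 1042699))) (.leaf (nat_lit 179960)))) (.node (.node (.node (.leaf (nat_lit 479)) (.leaf (nat_lit 2740))) (.leaf (nat_lit 1903))) (.node (.node (.leaf (nat_lit 1281)) (.leaf (nat_lit 743034))) (.leaf (nat_lit 606004))))) (.node (.node (.node (.node (.leaf (nat_lit 254)) (.leaf (nat_lit 2671))) (.leaf (nat_lit 1761))) (.node (.node (.leaf (nat_lit 1101)) (.leaf (nat_lit 515501))) (.leaf (nat_lit 2309)))) (.node (.node (.node (.leaf (nat_lit 1008657)) (.leaf (nat_lit 120732))) (.leaf (nat_lit 2058))) (.node (.leaf (nat_lit 948901)) (.leaf (nat_lit 471198)))))) (.node (.node (.node (.node (.node (.leaf (nat_lit 134)) (.leaf (nat_lit 291650))) (.leaf (nat_lit 1688))) (.node (.node (.leaf (nat_lit 1002)) (.leaf (nat_lit 471131))) (.leaf (nat_lit 825898)))) (.node (.node (.node (.leaf (nat_lit 585)) (.leaf (nat_lit 2770))) (.leaf (nat_lit 890638))) (.node (.leaf (nat_lit 645758)) (.leaf (nat_lit 163046))))) (.node (.node (.node (.node (.leaf (nat_lit 369)) (.leaf (nat_lit 353880))) (.leaf (nat_lit 1834))) (.node (.node (.leaf (nat_lit 1192)) (.leaf (nat_lit 705021))) (.leaf (nat_lit 2357)))) (.node (.node (.node (.leaf (nat_lit 800)) (.leaf (nat_lit 567198))) (.leaf (nat_lit 600883))) (.node (.leaf (nat_lit 1527)) (.leaf (nat_lit 2552))))))) (.node (.node (.node (.node (.node (.node (.leaf (nat_lit 73)) (.leaf (nat_lit 683799))) (.leaf (nat_lit 124742))) (.node (.node (.leaf (nat_lit 363606)) (.leaf (nat_lit 550437))) (.leaf (nat_lit 363117)))) (.node (.node (.node (.leaf (nat_lit 435216)) (.leaf (nat_lit 1216595))) (.leaf (nat_lit 1944))) (.node (.node (.leaf (nat_lit 1324)) (.leaf (nat_lit 278525))) (.leaf (nat_lit 361372))))) (.node (.node (.node (.node (.leaf (nat_lit 311)) (.leaf (nat_lit 1563))) (.leaf (nat_lit 294273))) (.node (.node (.leaf (nat_lit 1147)) (.leaf (nat_lit 558531))) (.leaf (nat_lit 400357)))) (.node (.node (.node (.leaf (nat_lit 746)) (.leaf (nat_lit 492392))) (.leaf (nat_lit 514453))) (.node (.leaf (nat_lit 1492)) (.leaf (nat_lit 2528)))))) (.node (.node (.node (.node (.node (.leaf (nat_lit 195)) (.leaf (nat_lit 336515))) (.leaf (nat_lit 1130663))) (.node (.node (.leaf (nat_lit 1051)) (.leaf (nat_lit 365431))) (.leaf (nat_lit 484313)))) (.node (.node (.node (.leaf (nat_lit 639)) (.leaf (nat_lit 2779))) (.leaf (nat_lit 2018))) (.node (.leaf (nat_lit 1403)) (.leaf (nat_lit 154772))))) (.node (.node (.node (.node (.leaf (nat_lit 424)) (.leaf (nat_lit 2727))) (.leaf (nat_lit 1867))) (.node (.node (.leaf (nat_lit 1236)) (.leaf (nat_lit 418771))) (.leaf (nat_lit 123253)))) (.node (.node (.node (.leaf (nat_lit 849)) (.leaf (nat_lit 573011))) (.leaf (nat_lit 626926))) (.node (.leaf (nat_lit 1565)) (.leaf (nat_lit 1024087)))))))) (.node (.node (.node (.node (.node (.node (.node (.leaf (nat_lit 42)) (.leaf (nat_lit 471782))) (.leaf (nat_lit 1627))) (.node (.node (.leaf (nat_lit 657053)) (.leaf (nat_lit 62561))) (.leaf (nat_lit 876226)))) (.node (.node (.node (.leaf (nat_lit 506)) (.leaf (nat_lit 1227864))) (.leaf (nat_lit 537464))) (.node (.node (.leaf (nat_lit 1302)) (.leaf (nat_lit 900892))) (.leaf (nat_lit 2421))))) (.node (.node (.node (.node (.leaf (nat_lit 283)) (.leaf (nat_lit 43))) (.leaf (nat_lit 1775))) (.node (.node (.leaf (nat_lit 141257)) (.leaf (nat_lit 869433))) (.leaf (nat_lit 1197188)))) (.node (.node (.node (.leaf (nat_lit 672)) (.leaf (nat_lit 2797))) (.leaf (nat_lit 2072))) (.node (.leaf (nat_lit 576966)) (.leaf (nat_lit 2515)))))) (.node (.node (.node (.node (.node (.leaf (nat_lit 165)) (.leaf (nat_lit 675439))) (.leaf (nat_lit 1707))) (.node (.node (.leaf (nat_lit 1025)) (.leaf (nat_lit 2850))) (.leaf (nat_lit 2258)))) (.node (.node (.node (.leaf (nat_lit 611)) (.leaf (nat_lit 2775))) (.leaf (nat_lit 1153384))) (.node (.leaf (nat_lit 486820)) (.leaf (nat_lit 1098824))))) (.node (.node (.node (.node (.leaf (nat_lit 396)) (.leaf (nat_lit 2717))) (.leaf (nat_lit 1853))) (.node (.node (.leaf (nat_lit 1213)) (.leaf (nat_lit 351027))) (.leaf (nat_lit 803779)))) (.node (.node (.node (.leaf (nat_lit 825)) (.leaf (nat_lit 215559))) (.leaf (nat_lit 775518))) (.node (.leaf (nat_lit 1546)) (.leaf (nat_lit 1231484))))))) (.node (.node (.node (.node (.node (.node (.leaf (nat_lit 104)) (.leaf (nat_lit 2626))) (.leaf (nat_lit 597226))) (.node (.node (.leaf (nat_lit 973)) (.leaf (nat_lit 335889))) (.leaf (nat_lit 2229)))) (.node (.node (.node (.leaf (nat_lit 558)) (.leaf (nat_lit 2762))) (.leaf (nat_lit 1961))) (.node (.node (.leaf (nat_lit 1346)) (.leaf (nat_lit 1170727))) (.leaf (nat_lit 2447))))) (.node (.node (.node (.node (.leaf (nat_lit 341)) (.leaf (nat_lit 188486))) (.leaf (nat_lit 346829))) (.node (.node (.leaf (nat_lit 605894)) (.leaf (nat_lit 937728))) (.leaf (nat_lit 580647)))) (.node (.node (.node (.leaf (nat_lit 773)) (.leaf (nat_lit 181126))) (.leaf (nat_lit 433745))) (.node (.leaf (nat_lit 1513)) (.leaf (nat_lit 2542)))))) (.node (.node (.node (.node (.node (.leaf (nat_lit 225)) (.leaf (nat_lit 589))) (.leaf (nat_lit 48977))) (.node (.node (.leaf (nat_lit 1076)) (.leaf (nat_lit 2857))) (.leaf (nat_lit 511185)))) (.node (.node (.node (.leaf (nat_lit 665)) (.leaf (nat_lit 903425))) (.leaf (nat_lit 222280))) (.node (.leaf (nat_lit 536820)) (.leaf (nat_lit 2489))))) (.node (.node (.node (.node (.leaf (nat_lit 453)) (.leaf (nat_lit 822601))) (.leaf (nat_lit 1887))) (.node (.node (.leaf (nat_lit 1257)) (.leaf (nat_lit 474147))) (.leaf (nat_lit 701197)))) (.node (.node (.node (.leaf (nat_lit 874)) (.leaf (nat_lit 1208861))) (.leaf (nat_lit 2163))) (.node (.leaf (nat_lit 942820)) (.leaf (nat_lit 896458))))))))) (.node (.node (.node (.node (.node (.node (.node (.node (.leaf (nat_lit 26)) (.leaf (nat_lit 664))) (.leaf (nat_lit 1616))) (.node (.node (.leaf (nat_lit 121036)) (.leaf (nat_lit 646167))) (.leaf (nat_lit 199581)))) (.node (.node (.node (.leaf (nat_lit 494)) (.leaf (nat_lit 1220079))) (.leaf (nat_lit 1913))) (.node (.node (.leaf (nat_lit 1289)) (.leaf (nat_lit 336348))) (.leaf (nat_lit 2414))))) (.node (.node (.node (.node (.leaf (nat_lit 269)) (.leaf (nat_lit 460104))) (.leaf (nat_lit 155787))) (.node (.node (.leaf (nat_lit 1115)) (.leaf (nat_lit 944499))) (.leaf (nat_lit 2312)))) (.node (.node (.node (.leaf (nat_lit 707)) (.leaf (nat_lit 1115392))) (.leaf (nat_lit 516448))) (.node (.leaf (nat_lit 1461)) (.leaf (nat_lit 1157080)))))) (.node (.node (.node (.node (.node (.leaf (nat_lit 150)) (.leaf (nat_lit 1974))) (.leaf (nat_lit 913228))) (.node (.node (.leaf (nat_lit 1013)) (.leaf (nat_lit 293367))) (.leaf (nat_lit 163139)))) (.node (.node (.node (.leaf (nat_lit 654015)) (.leaf (nat_lit 1129642))) (.leaf (nat_lit 1990))) (.node (.leaf (nat_lit 617036)) (.leaf (nat_lit 1178876))))) (.node (.node (.node (.node (.leaf (nat_lit 382)) (.leaf (nat_lit 2711))) (.leaf (nat_lit 456052))) (.node (.node (.leaf (nat_lit 1048891)) (.leaf (nat_lit 2870))) (.leaf (nat_lit 2364)))) (.node (.node (.node (.leaf (nat_lit 813)) (.leaf (nat_lit 500850))) (.leaf (nat_lit 2125))) (.node (.leaf (nat_lit 205)) (.leaf (nat_lit 683174))))))) (.node (.node (.node (.node (.node (.node (.leaf (nat_lit 89)) (.leaf (nat_lit 1076236))) (.leaf (nat_lit 1657))) (.node (.node (.leaf (nat_lit 959)) (.leaf (nat_lit 612595))) (.leaf (nat_lit 2219)))) (.node (.node (.node (.leaf (nat_lit 545)) (.leaf (nat_lit 1069745))) (.leaf (nat_lit 306314))) (.node (.node (.leaf (nat_lit 622377)) (.leaf (nat_lit 876565))) (.leaf (nat_lit 575231))))) (.node (.node (.node (.node (.leaf (nat_lit 331264)) (.leaf (nat_lit 51558))) (.leaf (nat_lit 796679))) (.node (.node (.leaf (nat_lit 1159)) (.leaf (nat_lit 77057))) (.leaf (nat_lit 2340)))) (.node (.node (.node (.leaf (nat_lit 760)) (.leaf (nat_lit 175248))) (.leaf (nat_lit 2096))) (.node (.leaf (nat_lit 1502)) (.leaf (nat_lit 1660)))))) (.node (.node (.node (.node (.node (.leaf (nat_lit 210)) (.leaf (nat_lit 2657))) (.leaf (nat_lit 1734))) (.node (.node (.leaf (nat_lit 1064)) (.leaf (nat_lit 349943))) (.leaf (nat_lit 2287)))) (.node (.node (.node (.leaf (nat_lit 652)) (.leaf (nat_lit 221106))) (.leaf (nat_lit 2027))) (.node (.leaf (nat_lit 427510)) (.leaf (nat_lit 648697))))) (.node (.node (.node (.node (.leaf (nat_lit 440)) (.leaf (nat_lit 243434))) (.leaf (nat_lit 729760))) (.node (.node (.leaf (nat_lit 1247)) (.leaf (nat_lit 647399))) (.leaf (nat_lit 2388)))) (.node (.node (.node (.leaf (nat_lit 714293)) (.leaf (nat_lit 1082536))) (.leaf (nat_lit 2153))) (.node (.leaf (nat_lit 1576)) (.leaf (nat_lit 871040)))))))) (.node (.node (.node (.node (.node (.node (.node (.leaf (nat_lit 58)) (.leaf (nat_lit 840113))) (.leaf (nat_lit 1634))) (.node (.node (.leaf (nat_lit 934)) (.leaf (nat_lit 865))) (.leaf (nat_lit 2204)))) (.node (.node (.node (.leaf (nat_lit 519)) (.leaf (nat_lit 606123))) (.leaf (nat_lit 1934))) (.node (.node (.leaf (nat_lit 858407)) (.leaf (nat_lit 846277))) (.leaf (nat_lit 524722))))) (.node (.node (.node (.node (.leaf (nat_lit 298)) (.leaf (nat_lit 2687))) (.leaf (nat_lit 275338))) (.node (.node (.leaf (nat_lit 112)) (.leaf (nat_lit 353863))) (.leaf (nat_lit 2325)))) (.node (.node (.node (.leaf (nat_lit 733)) (.leaf (nat_lit 2638))) (.leaf (nat_lit 2080))) (.node (.leaf (nat_lit 1480)) (.leaf (nat_lit 739524)))))) (.node (.node (.node (.node (.node (.leaf (nat_lit 180)) (.leaf (nat_lit 2649))) (.leaf (nat_lit 1715))) (.node (.node (.leaf (nat_lit 1037)) (.leaf (nat_lit 777500))) (.leaf (nat_lit 52862)))) (.node (.node (.node (.leaf (nat_lit 624)) (.leaf (nat_lit 756791))) (.leaf (nat_lit 2008))) (.node (.leaf (nat_lit 1395)) (.leaf (nat_lit 628563))))) (.node (.node (.node (.node (.leaf (nat_lit 410)) (.leaf (nat_lit 587034))) (.leaf (nat_lit 1861))) (.node (.node (.leaf (nat_lit 1226)) (.leaf (nat_lit 960360))) (.leaf (nat_lit 2374)))) (.node (.node (.node (.leaf (nat_lit 839)) (.leaf (nat_lit 431569))) (.leaf (nat_lit 1012724))) (.node (.leaf (nat_lit 732332)) (.leaf (nat_lit 479915))))))) (.node (.node (.node (.node (.node (.node (.leaf (nat_lit 119)) (.leaf (nat_lit 998438))) (.leaf (nat_lit 162524))) (.node (.node (.leaf (nat_lit 987)) (.leaf (nat_lit 322989))) (.leaf (nat_lit 2237)))) (.node (.node (.node (.leaf (nat_lit 570)) (.leaf (nat_lit 1212216))) (.leaf (nat_lit 1250169))) (.node (.node (.leaf (nat_lit 1083220)) (.leaf (nat_lit 729))) (.leaf (nat_lit 2452))))) (.node (.node (.node (.node (.leaf (nat_lit 355)) (.leaf (nat_lit 542180))) (.leaf (nat_lit 1247061))) (.node (.node (.leaf (nat_lit 1180)) (.leaf (nat_lit 117969))) (.leaf (nat_lit 2352)))) (.node (.node (.node (.leaf (nat_lit 962556)) (.leaf (nat_lit 1754))) (.leaf (nat_lit 2109))) (.node (.leaf (nat_lit 1062956)) (.leaf (nat_lit 729504)))))) (.node (.node (.node (.node (.node (.leaf (nat_lit 240)) (.leaf (nat_lit 2668))) (.leaf (nat_lit 1752))) (.node (.node (.leaf (nat_lit 1086)) (.leaf (nat_lit 1080278))) (.leaf (nat_lit 646209)))) (.node (.node (.node (.leaf (nat_lit 681)) (.leaf (nat_lit 941399))) (.leaf (nat_lit 2047))) (.node (.leaf (nat_lit 1441)) (.leaf (nat_lit 224010))))) (.node (.node (.node (.node (.leaf (nat_lit 466)) (.leaf (nat_lit 587153))) (.leaf (nat_lit 1000367))) (.node (.node (.leaf (nat_lit 416)) (.leaf (nat_lit 817643))) (.leaf (nat_lit 141598)))) (.node (.node (.node (.leaf (nat_lit 889)) (.leaf (nat_lit 60314))) (.leaf (nat_lit 246054))) (.node (.leaf (nat_lit 1595)) (.leaf (nat_lit 2590))))))))))) (.node (.node (.node (.node (.node (.node (.node (.node (.node (.node (.leaf (nat_lit 6)) (.leaf (nat_lit 460949))) (.leaf (nat_lit 803942))) (.node (.node (.leaf (nat_lit 898)) (.leaf (nat_lit 333924))) (.leaf (nat_lit 144653)))) (.node (.node (.node (.leaf (nat_lit 475)) (.leaf (nat_lit 2738))) (.leaf (nat_lit 1901))) (.node (.node (.leaf (nat_lit 1278)) (.leaf (nat_lit 863018))) (.leaf (nat_lit 2405))))) (.node (.node (.node (.node (.leaf (nat_lit 250)) (.leaf (nat_lit 1181933))) (.leaf (nat_lit 323951))) (.node (.node (.leaf (nat_lit 1097)) (.leaf (nat_lit 941734))) (.leaf (nat_lit 2238)))) (.node (.node (.node (.leaf (nat_lit 690)) (.leaf (nat_lit 65076))) (.leaf (nat_lit 280))) (.node (.leaf (nat_lit 628868)) (.leaf (nat_lit 553770)))))) (.node (.node (.node (.node (.node (.leaf (nat_lit 130)) (.leaf (nat_lit 2635))) (.leaf (nat_lit 605274))) (.node (.node (.leaf (nat_lit 998)) (.leaf (nat_lit 295863))) (.leaf (nat_lit 275376)))) (.node (.node (.node (.leaf (nat_lit 581)) (.leaf (nat_lit 232673))) (.leaf (nat_lit 1976))) (.node (.leaf (nat_lit 898961)) (.leaf (nat_lit 2456))))) (.node (.node (.node (.node (.leaf (nat_lit 366)) (.leaf (nat_lit 914742))) (.leaf (nat_lit 1831))) (.node (.node (.leaf (nat_lit 374973)) (.leaf (nat_lit 1167297))) (.leaf (nat_lit 2355)))) (.node (.node (.node (.leaf (nat_lit 797)) (.leaf (nat_lit 450130))) (.leaf (nat_lit 870406))) (.node (.leaf (nat_lit 1525)) (.leaf (nat_lit 418673))))))) (.node (.node (.node (.node (.node (.node (.leaf (nat_lit 69)) (.leaf (nat_lit 2614))) (.leaf (nat_lit 1643))) (.node (.node (.leaf (nat_lit 88)) (.leaf (nat_lit 834986))) (.leaf (nat_lit 2209)))) (.node (.node (.node (.leaf (nat_lit 530)) (.leaf (nat_lit 30456))) (.leaf (nat_lit 1940))) (.node (.node (.leaf (nat_lit 875588)) (.leaf (nat_lit 1010869))) (.leaf (nat_lit 2433))))) (.node (.node (.node (.node (.leaf (nat_lit 0)) (.leaf (nat_lit 1059215))) (.leaf (nat_lit 83926))) (.node (.node (.leaf (nat_lit 1144)) (.leaf (nat_lit 340347))) (.leaf (nat_lit 2331)))) (.node (.node (.node (.leaf (nat_lit 743)) (.leaf (nat_lit 13449))) (.leaf (nat_lit 286))) (.node (.leaf (nat_lit 1488)) (.leaf (nat_lit 997325)))))) (.node (.node (.node (.node (.node (.leaf (nat_lit 191)) (.leaf (nat_lit 1056170))) (.leaf (nat_lit 1721))) (.node (.node (.leaf (nat_lit 1284971)) (.leaf (nat_lit 989263))) (.leaf (nat_lit 287150)))) (.node (.node (.node (.leaf (nat_lit 635)) (.leaf (nat_lit 866300))) (.leaf (nat_lit 816166))) (.node (.leaf (nat_lit 821900)) (.leaf (nat_lit 879705))))) (.node (.node (.node (.node (.leaf (nat_lit 421)) (.leaf (nat_lit 175))) (.leaf (nat_lit 923108))) (.node (.node (.leaf (nat_lit 1198)) (.leaf (nat_lit 863938))) (.leaf (nat_lit 1045679)))) (.node (.node (.node (.leaf (nat_lit 846)) (.leaf (nat_lit 837560))) (.leaf (nat_lit 50402))) (.node (.leaf (nat_lit 35570)) (.leaf (nat_lit 2572)))))))) (.node (.node (.node (.node (.node (.node (.node (.leaf (nat_lit 38)) (.leaf (nat_lit 494977))) (.leaf (nat_lit 1624))) (.node (.node (.leaf (nat_lit 835743)) (.leaf (nat_lit 553501))) (.leaf (nat_lit 2195)))) (.node (.node (.node (.leaf (nat_lit 503)) (.leaf (nat_lit 610077))) (.leaf (nat_lit 482601))) (.node (.node (.leaf (nat_lit 1299)) (.leaf (nat_lit 525375))) (.leaf (nat_lit 2419))))) (.node (.node (.node (.node (.leaf (nat_lit 279)) (.leaf (nat_lit 222507))) (.leaf (nat_lit 1772))) (.node (.node (.leaf (nat_lit 1124)) (.leaf (nat_lit 808864))) (.leaf (nat_lit 2318)))) (.node (.node (.node (.leaf (nat_lit 719)) (.leaf (nat_lit 1156510))) (.leaf (nat_lit 2070))) (.node (.leaf (nat_lit 1468)) (.leaf (nat_lit 2512)))))) (.node (.node (.node (.node (.node (.leaf (nat_lit 161)) (.leaf (nat_lit 1130546))) (.leaf (nat_lit 1086920))) (.node (.node (.leaf (nat_lit 1023)) (.leaf (nat_lit 265984))) (.leaf (nat_lit 86)))) (.node (.node (.node (.leaf (nat_lit 609)) (.leaf (nat_lit 72787))) (.leaf (nat_lit 1978))) (.node (.leaf (nat_lit 649296)) (.leaf (nat_lit 2465))))) (.node (.node (.node (.node (.leaf (nat_lit 392)) (.leaf (nat_lit 2716))) (.leaf (nat_lit 1851))) (.node (.node (.leaf (nat_lit 1209)) (.leaf (nat_lit 1238361))) (.leaf (nat_lit 123318)))) (.node (.node (.node (.leaf (nat_lit 1129743)) (.leaf (nat_lit 33187))) (.leaf (nat_lit 2131))) (.node (.leaf (nat_lit 898834)) (.leaf (nat_lit 920197))))))) (.node (.node (.node (.node (.node (.node (.leaf (nat_lit 101)) (.leaf (nat_lit 316014))) (.leaf (nat_lit 1665))) (.node (.node (.leaf (nat_lit 970)) (.leaf (nat_lit 92079))) (.leaf (nat_lit 930)))) (.node (.node (.node (.leaf (nat_lit 555)) (.leaf (nat_lit 722286))) (.leaf (nat_lit 500136))) (.node (.node (.leaf (nat_lit 1344)) (.leaf (nat_lit 54532))) (.leaf (nat_lit 4622))))) (.node (.node (.node (.node (.leaf (nat_lit 337)) (.leaf (nat_lit 942104))) (.leaf (nat_lit 1810))) (.node (.node (.leaf (nat_lit 1166)) (.leaf (nat_lit 842368))) (.leaf (nat_lit 2346)))) (.node (.node (.node (.leaf (nat_lit 769)) (.leaf (nat_lit 2809))) (.leaf (nat_lit 2102))) (.node (.leaf (nat_lit 1509)) (.leaf (nat_lit 2540)))))) (.node (.node (.node (.node (.node (.leaf (nat_lit 221)) (.leaf (nat_lit 2662))) (.leaf (nat_lit 1087322))) (.node (.node (.leaf (nat_lit 1074)) (.leaf (nat_lit 293715))) (.leaf (nat_lit 2294)))) (.node (.node (.node (.leaf (nat_lit 1094505)) (.leaf (nat_lit 209676))) (.leaf (nat_lit 2036))) (.node (.leaf (nat_lit 1424)) (.leaf (nat_lit 991838))))) (.node (.node (.node (.node (.leaf (nat_lit 450)) (.leaf (nat_lit 498460))) (.leaf (nat_lit 1885))) (.node (.node (.leaf (nat_lit 509939)) (.leaf (nat_lit 1263402))) (.leaf (nat_lit 2392)))) (.node (.node (.node (.leaf (nat_lit 871)) (.leaf (nat_lit 1048241))) (.leaf (nat_lit 2159))) (.node (.leaf (nat_lit 1582)) (.leaf (nat_lit 2582))))))))) (.node (.node (.node (.node (.node (.node (.node (.node (.leaf (nat_lit 22)) (.leaf (nat_lit 2597))) (.leaf (nat_lit 770045))) (.node (.node (.leaf (nat_lit 910)) (.leaf (nat_lit 1079337))) (.leaf (nat_lit 2183)))) (.node (.node (.node (.leaf (nat_lit 490)) (.leaf (nat_lit 2741))) (.leaf (nat_lit 1121775))) (.node (.node (.leaf (nat_lit 394695)) (.leaf (nat_lit 780293))) (.leaf (nat_lit 2413))))) (.node (.node (.node (.node (.leaf (nat_lit 266)) (.leaf (nat_lit 643566))) (.leaf (nat_lit 395823))) (.node (.node (.leaf (nat_lit 1111)) (.leaf (nat_lit 480933))) (.leaf (nat_lit 48376)))) (.node (.node (.node (.leaf (nat_lit 703)) (.leaf (nat_lit 198193))) (.leaf (nat_lit 634605))) (.node (.leaf (nat_lit 280134)) (.leaf (nat_lit 121405)))))) (.node (.node (.node (.node (.node (.leaf (nat_lit 146)) (.leaf (nat_lit 1047481))) (.leaf (nat_lit 1696))) (.node (.node (.leaf (nat_lit 507126)) (.leaf (nat_lit 2849))) (.leaf (nat_lit 1193086)))) (.node (.node (.node (.leaf (nat_lit 596)) (.leaf (nat_lit 451772))) (.leaf (nat_lit 1987))) (.node (.leaf (nat_lit 1375)) (.leaf (nat_lit 900599))))) (.node (.node (.node (.node (.leaf (nat_lit 378)) (.leaf (nat_lit 842089))) (.leaf (nat_lit 1055778))) (.node (.node (.leaf (nat_lit 118)) (.leaf (nat_lit 873470))) (.leaf (nat_lit 494417)))) (.node (.node (.node (.leaf (nat_lit 809)) (.leaf (nat_lit 675138))) (.leaf (nat_lit 2122))) (.node (.leaf (nat_lit 1536)) (.leaf (nat_lit 916567))))))) (.node (.node (.node (.node (.node (.node (.leaf (nat_lit 85)) (.leaf (nat_lit 2618))) (.leaf (nat_lit 192))) (.node (.node (.leaf (nat_lit 955)) (.leaf (nat_lit 879))) (.leaf (nat_lit 838609)))) (.node (.node (.node (.leaf (nat_lit 542)) (.leaf (nat_lit 2756))) (.leaf (nat_lit 1109293))) (.node (.node (.leaf (nat_lit 1330)) (.leaf (nat_lit 1186322))) (.leaf (nat_lit 856972))))) (.node (.node (.node (.node (.leaf (nat_lit 323)) (.leaf (nat_lit 1110323))) (.leaf (nat_lit 1803))) (.node (.node (.leaf (nat_lit 1156)) (.leaf (nat_lit 886893))) (.leaf (nat_lit 2337)))) (.node (.node (.node (.leaf (nat_lit 242634)) (.leaf (nat_lit 857377))) (.leaf (nat_lit 1041166))) (.node (.leaf (nat_lit 1089825)) (.leaf (nat_lit 2532)))))) (.node (.node (.node (.node (.node (.leaf (nat_lit 206)) (.leaf (nat_lit 509227))) (.leaf (nat_lit 1731))) (.node (.node (.leaf (nat_lit 1061)) (.leaf (nat_lit 2856))) (.leaf (nat_lit 936883)))) (.node (.node (.node (.leaf (nat_lit 649)) (.leaf (nat_lit 954100))) (.leaf (nat_lit 1260519))) (.node (.leaf (nat_lit 1414)) (.leaf (nat_lit 2481))))) (.node (.node (.node (.node (.leaf (nat_lit 436)) (.leaf (nat_lit 532505))) (.leaf (nat_lit 510548))) (.node (.node (.leaf (nat_lit 84654)) (.leaf (nat_lit 205297))) (.leaf (nat_lit 854216)))) (.node (.node (.node (.leaf (nat_lit 860)) (.leaf (nat_lit 283064))) (.leaf (nat_lit 2150))) (.node (.leaf (nat_lit 1572)) (.leaf (nat_lit 960536)))))))) (.node (.node (.node (.node (.node (.node (.node (.leaf (nat_lit 54)) (.leaf (nat_lit 2611))) (.leaf (nat_lit 559948))) (.node (.node (.leaf (nat_lit 931)) (.leaf (nat_lit 2845))) (.leaf (nat_lit 2202)))) (.node (.node (.node (.leaf (nat_lit 515)) (.leaf (nat_lit 736663))) (.leaf (nat_lit 392656))) (.node (.node (.leaf (nat_lit 1312)) (.leaf (nat_lit 2878))) (.leaf (nat_lit 536625))))) (.node (.node (.node (.node (.leaf (nat_lit 294)) (.leaf (nat_lit 347677))) (.leaf (nat_lit 1785))) (.node (.node (.leaf (nat_lit 1135)) (.leaf (nat_lit 1199980))) (.leaf (nat_lit 2322)))) (.node (.node (.node (.leaf (nat_lit 1057544)) (.leaf (nat_lit 755))) (.leaf (nat_lit 415577))) (.node (.leaf (nat_lit 1476)) (.leaf (nat_lit 1089484)))))) (.node (.node (.node (.node (.node (.leaf (nat_lit 176)) (.leaf (nat_lit 1129500))) (.leaf (nat_lit 38022))) (.node (.node (.leaf (nat_lit 316)) (.leaf (nat_lit 2852))) (.leaf (nat_lit 2267)))) (.node (.node (.node (.leaf (nat_lit 621)) (.leaf (nat_lit 375694))) (.leaf (nat_lit 826))) (.node (.leaf (nat_lit 1392)) (.leaf (nat_lit 2471))))) (.node (.node (.node (.node (.leaf (nat_lit 94)) (.leaf (nat_lit 128882))) (.leaf (nat_lit 838836))) (.node (.node (.leaf (nat_lit 1222)) (.leaf (nat_lit 168753))) (.leaf (nat_lit 932251)))) (.node (.node (.node (.leaf (nat_lit 836)) (.leaf (nat_lit 1211103))) (.leaf (nat_lit 453385))) (.node (.leaf (nat_lit 1554)) (.leaf (nat_lit 327789))))))) (.node (.node (.node (.node (.node (.node (.leaf (nat_lit 115)) (.leaf (nat_lit 5493))) (.leaf (nat_lit 1677))) (.node (.node (.leaf (nat_lit 983)) (.leaf (nat_lit 1950))) (.leaf (nat_lit 2234)))) (.node (.node (.node (.leaf (nat_lit 567)) (.leaf (nat_lit 151865))) (.leaf (nat_lit 531115))) (.node (.node (.leaf (nat_lit 1354)) (.leaf (nat_lit 477393))) (.leaf (nat_lit 2451))))) (.node (.node (.node (.node (.leaf (nat_lit 351)) (.leaf (nat_lit 957799))) (.leaf (nat_lit 1821))) (.node (.node (.leaf (nat_lit 1176)) (.leaf (nat_lit 768840))) (.leaf (nat_lit 350349)))) (.node (.node (.node (.leaf (nat_lit 784)) (.leaf (nat_lit 353864))) (.leaf (nat_lit 424689))) (.node (.leaf (nat_lit 1517)) (.leaf (nat_lit 1263422)))))) (.node (.node (.node (.node (.node (.leaf (nat_lit 162)) (.leaf (nat_lit 41732))) (.leaf (nat_lit 1748))) (.node (.node (.leaf (nat_lit 1084)) (.leaf (nat_lit 1118358))) (.leaf (nat_lit 2302)))) (.node (.node (.node (.leaf (nat_lit 677)) (.leaf (nat_lit 1126249))) (.leaf (nat_lit 2044))) (.node (.leaf (nat_lit 1437)) (.leaf (nat_lit 257653))))) (.node (.node (.node (.node (.leaf (nat_lit 463)) (.leaf (nat_lit 634696))) (.leaf (nat_lit 1892))) (.node (.node (.leaf (nat_lit 1268)) (.leaf (nat_lit 2877))) (.leaf (nat_lit 805308)))) (.node (.node (.node (.leaf (nat_lit 885)) (.leaf (nat_lit 1281535))) (.leaf (nat_lit 2170))) (.node (.leaf (nat_lit 1591)) (.leaf (nat_lit 2589)))))))))) (.node (.node (.node (.node (.node (.node (.node (.node (.node (.leaf (nat_lit 14)) (.leaf (nat_lit 471577))) (.leaf (nat_lit 1609))) (.node (.node (.leaf (nat_lit 904)) (.leaf (nat_lit 952566))) (.leaf (nat_lit 2176)))) (.node (.node (.node (.leaf (nat_lit 483)) (.leaf (nat_lit 1096510))) (.leaf (nat_lit 1182176))) (.node (.node (.leaf (nat_lit 469724)) (.leaf (nat_lit 776902))) (.leaf (nat_lit 2409))))) (.node (.node (.node (.node (.leaf (nat_lit 258)) (.leaf (nat_lit 2672))) (.leaf (nat_lit 1764))) (.node (.node (.leaf (nat_lit 1105)) (.leaf (nat_lit 2863))) (.leaf (nat_lit 1153406)))) (.node (.node (.node (.leaf (nat_lit 696)) (.leaf (nat_lit 673462))) (.leaf (nat_lit 312032))) (.node (.leaf (nat_lit 145328)) (.leaf (nat_lit 129145)))))) (.node (.node (.node (.node (.node (.leaf (nat_lit 138)) (.leaf (nat_lit 490789))) (.leaf (nat_lit 1008207))) (.node (.node (.leaf (nat_lit 1006)) (.leaf (nat_lit 820737))) (.leaf (nat_lit 2248)))) (.node (.node (.node (.leaf (nat_lit 588)) (.leaf (nat_lit 478949))) (.leaf (nat_lit 1981))) (.node (.leaf (nat_lit 1367)) (.leaf (nat_lit 977682))))) (.node (.node (.node (.node (.leaf (nat_lit 312)) (.leaf (nat_lit 678952))) (.leaf (nat_lit 1838))) (.node (.node (.leaf (nat_lit 1196)) (.leaf (nat_lit 774571))) (.leaf (nat_lit 2359)))) (.node (.node (.node (.leaf (nat_lit 800748)) (.leaf (nat_lit 266961))) (.leaf (nat_lit 347073))) (.node (.leaf (nat_lit 1530)) (.leaf (nat_lit 163790))))))) (.node (.node (.node (.node (.node (.node (.leaf (nat_lit 77)) (.leaf (nat_lit 2617))) (.leaf (nat_lit 1649))) (.node (.node (.leaf (nat_lit 948)) (.leaf (nat_lit 533))) (.leaf (nat_lit 378029)))) (.node (.node (.node (.leaf (nat_lit 536)) (.leaf (nat_lit 376968))) (.leaf (nat_lit 1947))) (.node (.node (.leaf (nat_lit 1325)) (.leaf (nat_lit 535672))) (.leaf (nat_lit 2434))))) (.node (.node (.node (.node (.leaf (nat_lit 315)) (.leaf (nat_lit 318724))) (.leaf (nat_lit 1800))) (.node (.node (.leaf (nat_lit 1149)) (.leaf (nat_lit 1137255))) (.leaf (nat_lit 564975)))) (.node (.node (.node (.leaf (nat_lit 750)) (.leaf (nat_lit 2806))) (.leaf (nat_lit 265395))) (.node (.leaf (nat_lit 1495)) (.leaf (nat_lit 2529)))))) (.node (.node (.node (.node (.node (.leaf (nat_lit 199)) (.leaf (nat_lit 840135))) (.leaf (nat_lit 562473))) (.node (.node (.leaf (nat_lit 1055)) (.leaf (nat_lit 812041))) (.leaf (nat_lit 1225791)))) (.node (.node (.node (.leaf (nat_lit 643)) (.leaf (nat_lit 1192729))) (.leaf (nat_lit 896075))) (.node (.leaf (nat_lit 1407)) (.leaf (nat_lit 203311))))) (.node (.node (.node (.node (.leaf (nat_lit 428)) (.leaf (nat_lit 108523))) (.leaf (nat_lit 1870))) (.node (.node (.leaf (nat_lit 939522)) (.leaf (nat_lit 530518))) (.leaf (nat_lit 2383)))) (.node (.node (.node (.leaf (nat_lit 852)) (.leaf (nat_lit 1208672))) (.leaf (nat_lit 2148))) (.node (.leaf (nat_lit 1567)) (.leaf (nat_lit 242405)))))))) (.node (.node (.node (.node (.node (.node (.node (.leaf (nat_lit 46)) (.leaf (nat_lit 53482))) (.leaf (nat_lit 1629))) (.node (.node (.leaf (nat_lit 925)) (.leaf (nat_lit 1246984))) (.leaf (nat_lit 1241779)))) (.node (.node (.node (.leaf (nat_lit 510)) (.leaf (nat_lit 561376))) (.leaf (nat_lit 1928))) (.node (.node (.leaf (nat_lit 1306)) (.leaf (nat_lit 1200924))) (.leaf (nat_lit 607202))))) (.node (.node (.node (.node (.leaf (nat_lit 287)) (.leaf (nat_lit 2683))) (.leaf (nat_lit 1778))) (.node (.node (.leaf (nat_lit 1130)) (.leaf (nat_lit 597093))) (.leaf (nat_lit 1182947)))) (.node (.node (.node (.leaf (nat_lit 725)) (.leaf (nat_lit 371407))) (.leaf (nat_lit 1178810))) (.node (.leaf (nat_lit 536617)) (.leaf (nat_lit 2517)))))) (.node (.node (.node (.node (.node (.leaf (nat_lit 168)) (.leaf (nat_lit 30551))) (.leaf (nat_lit 1710))) (.node (.node (.leaf (nat_lit 1029)) (.leaf (nat_lit 1238242))) (.leaf (nat_lit 2262)))) (.node (.node (.node (.leaf (nat_lit 615)) (.leaf (nat_lit 1243741))) (.leaf (nat_lit 1998))) (.node (.leaf (nat_lit 956911)) (.leaf (nat_lit 2469))))) (.node (.node (.node (.node (.leaf (nat_lit 400)) (.leaf (nat_lit 369547))) (.leaf (nat_lit 1855))) (.node (.node (.leaf (nat_lit 322719)) (.leaf (nat_lit 2871))) (.leaf (nat_lit 980143)))) (.node (.node (.node (.leaf (nat_lit 829)) (.leaf (nat_lit 430595))) (.leaf (nat_lit 2136))) (.node (.leaf (nat_lit 228730)) (.leaf (nat_lit 1165558))))))) (.node (.node (.node (.node (.node (.node (.leaf (nat_lit 1008005)) (.leaf (nat_lit 2627))) (.leaf (nat_lit 604986))) (.node (.node (.leaf (nat_lit 977)) (.leaf (nat_lit 534472))) (.leaf (nat_lit 2230)))) (.node (.node (.node (.leaf (nat_lit 561)) (.leaf (nat_lit 501))) (.leaf (nat_lit 1964))) (.node (.node (.leaf (nat_lit 1350)) (.leaf (nat_lit 855294))) (.leaf (nat_lit 177476))))) (.node (.node (.node (.node (.leaf (nat_lit 271)) (.leaf (nat_lit 440372))) (.leaf (nat_lit 606594))) (.node (.node (.leaf (nat_lit 1170)) (.leaf (nat_lit 829422))) (.leaf (nat_lit 2164)))) (.node (.node (.node (.leaf (nat_lit 777)) (.leaf (nat_lit 2811))) (.leaf (nat_lit 1167144))) (.node (.leaf (nat_lit 1516)) (.leaf (nat_lit 1161809)))))) (.node (.node (.node (.node (.node (.leaf (nat_lit 229)) (.leaf (nat_lit 291114))) (.leaf (nat_lit 47))) (.node (.node (.leaf (nat_lit 738216)) (.leaf (nat_lit 2858))) (.leaf (nat_lit 36586)))) (.node (.node (.node (.leaf (nat_lit 669)) (.leaf (nat_lit 884009))) (.leaf (nat_lit 2040))) (.node (.leaf (nat_lit 1431)) (.leaf (nat_lit 605255))))) (.node (.node (.node (.node (.leaf (nat_lit 456)) (.leaf (nat_lit 1011727))) (.leaf (nat_lit 1889))) (.node (.node (.leaf (nat_lit 1261)) (.leaf (nat_lit 333406))) (.leaf (nat_lit 929268)))) (.node (.node (.node (.leaf (nat_lit 878)) (.leaf (nat_lit 308070))) (.leaf (nat_lit 2167))) (.node (.leaf (nat_lit 1587)) (.leaf (nat_lit 565659))))))))) (.node (.node (.node (.node (.node (.node (.node (.node (.leaf (nat_lit 30)) (.leaf (nat_lit 2601))) (.leaf (nat_lit 1198441))) (.node (.node (.leaf (nat_lit 915)) (.leaf (nat_lit 2842))) (.leaf (nat_lit 643308)))) (.node (.node (.node (.leaf (nat_lit 498)) (.leaf (nat_lit 2745))) (.leaf (nat_lit 1917))) (.node (.node (.leaf (nat_lit 487885)) (.leaf (nat_lit 420145))) (.leaf (nat_lit 2416))))) (.node (.node (.node (.node (.leaf (nat_lit 272)) (.leaf (nat_lit 1194653))) (.leaf (nat_lit 1769))) (.node (.node (.leaf (nat_lit 1117)) (.leaf (nat_lit 424745))) (.leaf (nat_lit 338010)))) (.node (.node (.node (.leaf (nat_lit 711)) (.leaf (nat_lit 2793))) (.leaf (nat_lit 860217))) (.node (.leaf (nat_lit 1462)) (.leaf (nat_lit 2509)))))) (.node (.node (.node (.node (.node (.leaf (nat_lit 154)) (.leaf (nat_lit 871288))) (.leaf (nat_lit 1702))) (.node (.node (.leaf (nat_lit 1016)) (.leaf (nat_lit 25728))) (.leaf (nat_lit 244033)))) (.node (.node (.node (.leaf (nat_lit 601)) (.leaf (nat_lit 1239882))) (.leaf (nat_lit 709618))) (.node (.leaf (nat_lit 1378)) (.leaf (nat_lit 2463))))) (.node (.node (.node (.node (.leaf (nat_lit 385)) (.leaf (nat_lit 1154675))) (.leaf (nat_lit 387438))) (.node (.node (.leaf (nat_lit 795722)) (.leaf (nat_lit 613347))) (.leaf (nat_lit 1095131)))) (.node (.node (.node (.leaf (nat_lit 816)) (.leaf (nat_lit 1504))) (.leaf (nat_lit 2127))) (.node (.leaf (nat_lit 1540)) (.leaf (nat_lit 2561))))))) (.node (.node (.node (.node (.node (.node (.leaf (nat_lit 93)) (.leaf (nat_lit 434508))) (.leaf (nat_lit 874189))) (.node (.node (.leaf (nat_lit 963)) (.leaf (nat_lit 2834))) (.leaf (nat_lit 232018)))) (.node (.node (.node (.leaf (nat_lit 548)) (.leaf (nat_lit 1251353))) (.leaf (nat_lit 1955))) (.node (.node (.leaf (nat_lit 1336)) (.leaf (nat_lit 502796))) (.leaf (nat_lit 2443))))) (.node (.node (.node (.node (.leaf (nat_lit 329)) (.leaf (nat_lit 2697))) (.leaf (nat_lit 13))) (.node (.node (.leaf (nat_lit 1162)) (.leaf (nat_lit 495328))) (.leaf (nat_lit 1228696)))) (.node (.node (.node (.leaf (nat_lit 1195447)) (.leaf (nat_lit 2807))) (.leaf (nat_lit 2098))) (.node (.leaf (nat_lit 1017821)) (.leaf (nat_lit 803967)))))) (.node (.node (.node (.node (.node (.leaf (nat_lit 214)) (.leaf (nat_lit 1069740))) (.leaf (nat_lit 1737))) (.node (.node (.leaf (nat_lit 1067)) (.leaf (nat_lit 476759))) (.leaf (nat_lit 2289)))) (.node (.node (.node (.leaf (nat_lit 656)) (.leaf (nat_lit 2781))) (.leaf (nat_lit 2029))) (.node (.leaf (nat_lit 725870)) (.leaf (nat_lit 697883))))) (.node (.node (.node (.node (.leaf (nat_lit 442)) (.leaf (nat_lit 336744))) (.leaf (nat_lit 1881))) (.node (.node (.leaf (nat_lit 1249)) (.leaf (nat_lit 984199))) (.leaf (nat_lit 2389)))) (.node (.node (.node (.leaf (nat_lit 866)) (.leaf (nat_lit 1101660))) (.leaf (nat_lit 156956))) (.node (.leaf (nat_lit 1579)) (.leaf (nat_lit 608369)))))))) (.node (.node (.node (.node (.node (.node (.node (.leaf (nat_lit 62)) (.leaf (nat_lit 532218))) (.leaf (nat_lit 1636))) (.node (.node (.leaf (nat_lit 878937)) (.leaf (nat_lit 1120005))) (.leaf (nat_lit 2207)))) (.node (.node (.node (.leaf (nat_lit 535760)) (.leaf (nat_lit 2753))) (.leaf (nat_lit 1936))) (.node (.node (.leaf (nat_lit 1072485)) (.leaf (nat_lit 1747))) (.leaf (nat_lit 2428))))) (.node (.node (.node (.node (.leaf (nat_lit 301)) (.leaf (nat_lit 319419))) (.leaf (nat_lit 1789))) (.node (.node (.leaf (nat_lit 441744)) (.leaf (nat_lit 1282220))) (.leaf (nat_lit 2329)))) (.node (.node (.node (.leaf (nat_lit 736)) (.leaf (nat_lit 2802))) (.leaf (nat_lit 2083))) (.node (.leaf (nat_lit 1483)) (.leaf (nat_lit 650146)))))) (.node (.node (.node (.node (.node (.leaf (nat_lit 183)) (.leaf (nat_lit 318464))) (.leaf (nat_lit 1717))) (.node (.node (.leaf (nat_lit 1040)) (.leaf (nat_lit 102904))) (.leaf (nat_lit 2272)))) (.node (.node (.node (.leaf (nat_lit 627)) (.leaf (nat_lit 2744))) (.leaf (nat_lit 617511))) (.node (.leaf (nat_lit 34788)) (.leaf (nat_lit 2473))))) (.node (.node (.node (.node (.leaf (nat_lit 414)) (.leaf (nat_lit 36626))) (.leaf (nat_lit 232))) (.node (.node (.leaf (nat_lit 412474)) (.leaf (nat_lit 293482))) (.leaf (nat_lit 2377)))) (.node (.node (.node (.leaf (nat_lit 840)) (.leaf (nat_lit 2825))) (.leaf (nat_lit 296747))) (.node (.leaf (nat_lit 1557)) (.leaf (nat_lit 82688))))))) (.node (.node (.node (.node (.node (.node (.leaf (nat_lit 122)) (.leaf (nat_lit 1236950))) (.leaf (nat_lit 1680))) (.node (.node (.leaf (nat_lit 991)) (.leaf (nat_lit 728468))) (.leaf (nat_lit 2241)))) (.node (.node (.node (.leaf (nat_lit 574)) (.leaf (nat_lit 895095))) (.leaf (nat_lit 1972))) (.node (.node (.leaf (nat_lit 770147)) (.leaf (nat_lit 1019209))) (.leaf (nat_lit 2454))))) (.node (.node (.node (.node (.leaf (nat_lit 358)) (.leaf (nat_lit 2705))) (.leaf (nat_lit 1826))) (.node (.node (.leaf (nat_lit 1183)) (.leaf (nat_lit 369493))) (.leaf (nat_lit 554388)))) (.node (.node (.node (.leaf (nat_lit 791)) (.leaf (nat_lit 655867))) (.leaf (nat_lit 903))) (.node (.leaf (nat_lit 171)) (.leaf (nat_lit 1241506)))))) (.node (.node (.node (.node (.node (.leaf (nat_lit 243)) (.leaf (nat_lit 1699))) (.leaf (nat_lit 1755))) (.node (.node (.leaf (nat_lit 1090)) (.leaf (nat_lit 2860))) (.leaf (nat_lit 2305)))) (.node (.node (.node (.leaf (nat_lit 608050)) (.leaf (nat_lit 85992))) (.leaf (nat_lit 2050))) (.node (.leaf (nat_lit 1444)) (.leaf (nat_lit 2498))))) (.node (.node (.node (.node (.leaf (nat_lit 468)) (.leaf (nat_lit 1249597))) (.leaf (nat_lit 1897))) (.node (.node (.leaf (nat_lit 1273)) (.leaf (nat_lit 140771))) (.leaf (nat_lit 506363)))) (.node (.node (.node (.leaf (nat_lit 893)) (.leaf (nat_lit 2838))) (.leaf (nat_lit 645430))) (.node (.leaf (nat_lit 1598)) (.leaf (nat_lit 1180362)))))))))))) (.node (.node (.node (.node (.node (.node (.node (.node (.node (.node (.node (.leaf (nat_lit 4)) (.leaf (nat_lit 341300))) (.leaf (nat_lit 1060217))) (.node (.node (.leaf (nat_lit 263)) (.leaf (nat_lit 1131230))) (.leaf (nat_lit 1074933)))) (.node (.node (.node (.leaf (nat_lit 1083210)) (.leaf (nat_lit 243557))) (.leaf (nat_lit 1182170))) (.node (.node (.leaf (nat_lit 1276)) (.leaf (nat_lit 621854))) (.leaf (nat_lit 1245107))))) (.node (.node (.node (.node (.leaf (nat_lit 248)) (.leaf (nat_lit 1220341))) (.leaf (nat_lit 92997))) (.node (.node (.leaf (nat_lit 1095)) (.leaf (nat_lit 1217800))) (.leaf (nat_lit 1142)))) (.node (.node (.node (.leaf (nat_lit 688)) (.leaf (nat_lit 225215))) (.leaf (nat_lit 2053))) (.node (.leaf (nat_lit 1449)) (.leaf (nat_lit 2499)))))) (.node (.node (.node (.node (.node (.leaf (nat_lit 128)) (.leaf (nat_lit 686683))) (.leaf (nat_lit 645249))) (.node (.node (.leaf (nat_lit 996)) (.leaf (nat_lit 833208))) (.leaf (nat_lit 2243)))) (.node (.node (.node (.leaf (nat_lit 579)) (.leaf (nat_lit 51017))) (.leaf (nat_lit 1975))) (.node (.leaf (nat_lit 1361)) (.leaf (nat_lit 425))))) (.node (.node (.node (.node (.leaf (nat_lit 364)) (.leaf (nat_lit 336447))) (.leaf (nat_lit 1830))) (.node (.node (.leaf (nat_lit 1188)) (.leaf (nat_lit 137818))) (.leaf (nat_lit 321596)))) (.node (.node (.node (.leaf (nat_lit 795)) (.leaf (nat_lit 452093))) (.leaf (nat_lit 1234352))) (.node (.leaf (nat_lit 1524)) (.leaf (nat_lit 2550))))))) (.node (.node (.node (.node (.node (.node (.leaf (nat_lit 67)) (.leaf (nat_lit 192313))) (.leaf (nat_lit 783556))) (.node (.node (.leaf (nat_lit 941)) (.leaf (nat_lit 819))) (.leaf (nat_lit 1109108)))) (.node (.node (.node (.leaf (nat_lit 528)) (.leaf (nat_lit 832723))) (.leaf (nat_lit 1938))) (.node (.node (.leaf (nat_lit 801399)) (.leaf (nat_lit 561504))) (.leaf (nat_lit 532169))))) (.node (.node (.node (.node (.leaf (nat_lit 306)) (.leaf (nat_lit 184101))) (.leaf (nat_lit 536087))) (.node (.node (.leaf (nat_lit 749638)) (.leaf (nat_lit 2866))) (.leaf (nat_lit 665721)))) (.node (.node (.node (.leaf (nat_lit 741)) (.leaf (nat_lit 2804))) (.leaf (nat_lit 2084))) (.node (.leaf (nat_lit 839095)) (.leaf (nat_lit 2525)))))) (.node (.node (.node (.node (.node (.leaf (nat_lit 189)) (.leaf (nat_lit 2651))) (.leaf (nat_lit 1720))) (.node (.node (.leaf (nat_lit 1046)) (.leaf (nat_lit 339336))) (.leaf (nat_lit 2276)))) (.node (.node (.node (.leaf (nat_lit 633)) (.leaf (nat_lit 679415))) (.leaf (nat_lit 1187146))) (.node (.leaf (nat_lit 1402)) (.leaf (nat_lit 804194))))) (.node (.node (.node (.node (.leaf (nat_lit 419)) (.leaf (nat_lit 1047574))) (.leaf (nat_lit 427266))) (.node (.node (.leaf (nat_lit 953798)) (.leaf (nat_lit 431950))) (.leaf (nat_lit 2380)))) (.node (.node (.node (.leaf (nat_lit 919019)) (.leaf (nat_lit 2828))) (.leaf (nat_lit 2144))) (.node (.leaf (nat_lit 1561)) (.leaf (nat_lit 2571)))))))) (.node (.node (.node (.node (.node (.node (.node (.leaf (nat_lit 36)) (.leaf (nat_lit 1049110))) (.leaf (nat_lit 1622))) (.node (.node (.leaf (nat_lit 920)) (.leaf (nat_lit 705552))) (.leaf (nat_lit 2194)))) (.node (.node (.node (.leaf (nat_lit 502)) (.leaf (nat_lit 1275662))) (.leaf (nat_lit 1922))) (.node (.node (.leaf (nat_lit 1297)) (.leaf (nat_lit 810895))) (.leaf (nat_lit 2418))))) (.node (.node (.node (.node (.leaf (nat_lit 277)) (.leaf (nat_lit 2681))) (.leaf (nat_lit 64650))) (.node (.node (.leaf (nat_lit 1122)) (.leaf (nat_lit 857999))) (.leaf (nat_lit 238468)))) (.node (.node (.node (.leaf (nat_lit 717)) (.leaf (nat_lit 734624))) (.leaf (nat_lit 2069))) (.node (.leaf (nat_lit 1467)) (.leaf (nat_lit 454)))))) (.node (.node (.node (.node (.node (.leaf (nat_lit 160)) (.leaf (nat_lit 656862))) (.leaf (nat_lit 807379))) (.node (.node (.leaf (nat_lit 1021)) (.leaf (nat_lit 105303))) (.leaf (nat_lit 2257)))) (.node (.node (.node (.leaf (nat_lit 607)) (.leaf (nat_lit 980731))) (.leaf (nat_lit 1995))) (.node (.leaf (nat_lit 1382)) (.leaf (nat_lit 298346))))) (.node (.node (.node (.node (.leaf (nat_lit 390)) (.leaf (nat_lit 789905))) (.leaf (nat_lit 1850))) (.node (.node (.leaf (nat_lit 1207)) (.leaf (nat_lit 811145))) (.leaf (nat_lit 1137071)))) (.node (.node (.node (.leaf (nat_lit 3)) (.leaf (nat_lit 1099949))) (.leaf (nat_lit 19))) (.node (.leaf (nat_lit 498950)) (.leaf (nat_lit 1066580))))))) (.node (.node (.node (.node (.node (.node (.leaf (nat_lit 99)) (.leaf (nat_lit 2624))) (.leaf (nat_lit 1663))) (.node (.node (.leaf (nat_lit 969)) (.leaf (nat_lit 1189207))) (.leaf (nat_lit 2224)))) (.node (.node (.node (.leaf (nat_lit 51)) (.leaf (nat_lit 538333))) (.leaf (nat_lit 338674))) (.node (.node (.leaf (nat_lit 1342)) (.leaf (nat_lit 1074149))) (.leaf (nat_lit 578315))))) (.node (.node (.node (.node (.leaf (nat_lit 335)) (.leaf (nat_lit 1219997))) (.leaf (nat_lit 796246))) (.node (.node (.leaf (nat_lit 1060892)) (.leaf (nat_lit 86332))) (.leaf (nat_lit 2344)))) (.node (.node (.node (.leaf (nat_lit 767)) (.leaf (nat_lit 947426))) (.leaf (nat_lit 91054))) (.node (.leaf (nat_lit 1129526)) (.leaf (nat_lit 174912)))))) (.node (.node (.node (.node (.node (.leaf (nat_lit 219)) (.leaf (nat_lit 598794))) (.leaf (nat_lit 1741))) (.node (.node (.leaf (nat_lit 585436)) (.leaf (nat_lit 967346))) (.leaf (nat_lit 2292)))) (.node (.node (.node (.leaf (nat_lit 1230353)) (.leaf (nat_lit 836236))) (.leaf (nat_lit 2034))) (.node (.leaf (nat_lit 1422)) (.leaf (nat_lit 1277))))) (.node (.node (.node (.node (.leaf (nat_lit 448)) (.leaf (nat_lit 31262))) (.leaf (nat_lit 1884))) (.node (.node (.leaf (nat_lit 633844)) (.leaf (nat_lit 469319))) (.leaf (nat_lit 154240)))) (.node (.node (.node (.leaf (nat_lit 82)) (.leaf (nat_lit 2816))) (.leaf (nat_lit 2157))) (.node (.leaf (nat_lit 964988)) (.leaf (nat_lit 1147921))))))))) (.node (.node (.node (.node (.node (.node (.node (.node (.leaf (nat_lit 20)) (.leaf (nat_lit 2596))) (.leaf (nat_lit 1613))) (.node (.node (.leaf (nat_lit 909)) (.leaf (nat_lit 961738))) (.leaf (nat_lit 845418)))) (.node (.node (.node (.leaf (nat_lit 488)) (.leaf (nat_lit 62049))) (.leaf (nat_lit 1909))) (.node (.node (.leaf (nat_lit 1008121)) (.leaf (nat_lit 371487))) (.leaf (nat_lit 2412))))) (.node (.node (.node (.node (.leaf (nat_lit 264)) (.leaf (nat_lit 2676))) (.leaf (nat_lit 829473))) (.node (.node (.leaf (nat_lit 1109)) (.leaf (nat_lit 22248))) (.leaf (nat_lit 900501)))) (.node (.node (.node (.leaf (nat_lit 702)) (.leaf (nat_lit 102568))) (.leaf (nat_lit 2064))) (.node (.leaf (nat_lit 1458)) (.leaf (nat_lit 481303)))))) (.node (.node (.node (.node (.node (.leaf (nat_lit 144)) (.leaf (nat_lit 649298))) (.leaf (nat_lit 1008678))) (.node (.node (.leaf (nat_lit 242878)) (.leaf (nat_lit 114463))) (.leaf (nat_lit 244041)))) (.node (.node (.node (.leaf (nat_lit 594)) (.leaf (nat_lit 399654))) (.leaf (nat_lit 1986))) (.node (.leaf (nat_lit 1373)) (.leaf (nat_lit 180880))))) (.node (.node (.node (.node (.leaf (nat_lit 376)) (.leaf (nat_lit 648668))) (.leaf (nat_lit 630))) (.node (.node (.leaf (nat_lit 911134)) (.leaf (nat_lit 244186))) (.leaf (nat_lit 872754)))) (.node (.node (.node (.leaf (nat_lit 807)) (.leaf (nat_lit 941560))) (.leaf (nat_lit 2120))) (.node (.leaf (nat_lit 1534)) (.leaf (nat_lit 2558))))))) (.node (.node (.node (.node (.node (.node (.leaf (nat_lit 83)) (.leaf (nat_lit 1225599))) (.leaf (nat_lit 1288971))) (.node (.node (.leaf (nat_lit 953)) (.leaf (nat_lit 1058563))) (.leaf (nat_lit 2216)))) (.node (.node (.node (.leaf (nat_lit 1160922)) (.leaf (nat_lit 116693))) (.leaf (nat_lit 1951))) (.node (.node (.leaf (nat_lit 296669)) (.leaf (nat_lit 122507))) (.leaf (nat_lit 2438))))) (.node (.node (.node (.node (.leaf (nat_lit 321)) (.leaf (nat_lit 2694))) (.leaf (nat_lit 513402))) (.node (.node (.leaf (nat_lit 1154)) (.leaf (nat_lit 786667))) (.leaf (nat_lit 733735)))) (.node (.node (.node (.leaf (nat_lit 209)) (.leaf (nat_lit 1242266))) (.leaf (nat_lit 2095))) (.node (.leaf (nat_lit 334517)) (.leaf (nat_lit 2530)))))) (.node (.node (.node (.node (.node (.leaf (nat_lit 204)) (.leaf (nat_lit 808002))) (.leaf (nat_lit 1729))) (.node (.node (.leaf (nat_lit 1059)) (.leaf (nat_lit 423229))) (.leaf (nat_lit 2283)))) (.node (.node (.node (.leaf (nat_lit 648)) (.leaf (nat_lit 22348))) (.leaf (nat_lit 551769))) (.node (.leaf (nat_lit 1413)) (.leaf (nat_lit 2480))))) (.node (.node (.node (.node (.leaf (nat_lit 434)) (.leaf (nat_lit 942933))) (.leaf (nat_lit 479928))) (.node (.node (.leaf (nat_lit 1242)) (.leaf (nat_lit 2875))) (.leaf (nat_lit 2385)))) (.node (.node (.node (.leaf (nat_lit 858)) (.leaf (nat_lit 737444))) (.leaf (nat_lit 779018))) (.node (.leaf (nat_lit 1570)) (.leaf (nat_lit 2578)))))))) (.node (.node (.node (.node (.node (.node (.node (.leaf (nat_lit 52)) (.leaf (nat_lit 2609))) (.leaf (nat_lit 994710))) (.node (.node (.leaf (nat_lit 929)) (.leaf (nat_lit 998871))) (.leaf (nat_lit 2201)))) (.node (.node (.node (.leaf (nat_lit 1060244)) (.leaf (nat_lit 21308))) (.leaf (nat_lit 1931))) (.node (.node (.leaf (nat_lit 1310)) (.leaf (nat_lit 161128))) (.leaf (nat_lit 2424))))) (.node (.node (.node (.node (.leaf (nat_lit 292)) (.leaf (nat_lit 2685))) (.leaf (nat_lit 1783))) (.node (.node (.leaf (nat_lit 374754)) (.leaf (nat_lit 1163043))) (.leaf (nat_lit 2321)))) (.node (.node (.node (.leaf (nat_lit 730)) (.leaf (nat_lit 2800))) (.leaf (nat_lit 2076))) (.node (.leaf (nat_lit 576877)) (.leaf (nat_lit 1070)))))) (.node (.node (.node (.node (.node (.leaf (nat_lit 174)) (.leaf (nat_lit 636007))) (.leaf (nat_lit 898711))) (.node (.node (.leaf (nat_lit 1033)) (.leaf (nat_lit 2851))) (.leaf (nat_lit 531643)))) (.node (.node (.node (.leaf (nat_lit 121178)) (.leaf (nat_lit 2777))) (.leaf (nat_lit 2004))) (.node (.leaf (nat_lit 346357)) (.leaf (nat_lit 29601))))) (.node (.node (.node (.node (.leaf (nat_lit 405)) (.leaf (nat_lit 437164))) (.leaf (nat_lit 1860))) (.node (.node (.leaf (nat_lit 1220)) (.leaf (nat_lit 448983))) (.leaf (nat_lit 1012677)))) (.node (.node (.node (.leaf (nat_lit 834)) (.leaf (nat_lit 416972))) (.leaf (nat_lit 2140))) (.node (.leaf (nat_lit 70034)) (.leaf (nat_lit 467042))))))) (.node (.node (.node (.node (.node (.node (.leaf (nat_lit 113)) (.leaf (nat_lit 62250))) (.leaf (nat_lit 1675))) (.node (.node (.leaf (nat_lit 981)) (.leaf (nat_lit 364542))) (.leaf (nat_lit 2232)))) (.node (.node (.node (.leaf (nat_lit 565)) (.leaf (nat_lit 2765))) (.leaf (nat_lit 805455))) (.node (.node (.leaf (nat_lit 804827)) (.leaf (nat_lit 362408))) (.leaf (nat_lit 447085))))) (.node (.node (.node (.node (.leaf (nat_lit 349)) (.leaf (nat_lit 2703))) (.leaf (nat_lit 1820))) (.node (.node (.leaf (nat_lit 1175)) (.leaf (nat_lit 397310))) (.leaf (nat_lit 758020)))) (.node (.node (.node (.leaf (nat_lit 782)) (.leaf (nat_lit 1289125))) (.leaf (nat_lit 2106))) (.node (.leaf (nat_lit 706043)) (.leaf (nat_lit 1268532)))))) (.node (.node (.node (.node (.node (.leaf (nat_lit 235)) (.leaf (nat_lit 121519))) (.leaf (nat_lit 833659))) (.node (.node (.leaf (nat_lit 1082)) (.leaf (nat_lit 391620))) (.leaf (nat_lit 266626)))) (.node (.node (.node (.leaf (nat_lit 675)) (.leaf (nat_lit 1248030))) (.leaf (nat_lit 2043))) (.node (.leaf (nat_lit 1435)) (.leaf (nat_lit 962632))))) (.node (.node (.node (.node (.leaf (nat_lit 462)) (.leaf (nat_lit 2734))) (.leaf (nat_lit 72265))) (.node (.node (.leaf (nat_lit 1266)) (.leaf (nat_lit 641991))) (.leaf (nat_lit 2399)))) (.node (.node (.node (.leaf (nat_lit 884)) (.leaf (nat_lit 2836))) (.leaf (nat_lit 2169))) (.node (.leaf (nat_lit 1589)) (.leaf (nat_lit 716622)))))))))) (.node (.node (.node (.node (.node (.node (.node (.node (.node (.leaf (nat_lit 12)) (.leaf (nat_lit 2593))) (.leaf (nat_lit 522848))) (.node (.node (.leaf (nat_lit 305924)) (.leaf (nat_lit 577575))) (.leaf (nat_lit 2175)))) (.node (.node (.node (.leaf (nat_lit 481)) (.leaf (nat_lit 1185991))) (.leaf (nat_lit 1904))) (.node (.node (.leaf (nat_lit 1282)) (.leaf (nat_lit 1085069))) (.leaf (nat_lit 680203))))) (.node (.node (.node (.node (.leaf (nat_lit 256)) (.leaf (nat_lit 1050752))) (.leaf (nat_lit 1762))) (.node (.node (.leaf (nat_lit 1103)) (.leaf (nat_lit 46373))) (.leaf (nat_lit 188358)))) (.node (.node (.node (.leaf (nat_lit 695)) (.leaf (nat_lit 1125644))) (.leaf (nat_lit 767899))) (.node (.leaf (nat_lit 1454)) (.leaf (nat_lit 572615)))))) (.node (.node (.node (.node (.node (.leaf (nat_lit 136)) (.leaf (nat_lit 1914))) (.leaf (nat_lit 1690))) (.node (.node (.leaf (nat_lit 1004)) (.leaf (nat_lit 984419))) (.leaf (nat_lit 2246)))) (.node (.node (.node (.leaf (nat_lit 153)) (.leaf (nat_lit 367490))) (.leaf (nat_lit 1979))) (.node (.leaf (nat_lit 683168)) (.leaf (nat_lit 2459))))) (.node (.node (.node (.node (.leaf (nat_lit 371)) (.leaf (nat_lit 526635))) (.leaf (nat_lit 1836))) (.node (.node (.leaf (nat_lit 1194)) (.leaf (nat_lit 906097))) (.leaf (nat_lit 374779)))) (.node (.node (.node (.leaf (nat_lit 802)) (.leaf (nat_lit 2819))) (.leaf (nat_lit 2115))) (.node (.leaf (nat_lit 1529)) (.leaf (nat_lit 1280480))))))) (.node (.node (.node (.node (.node (.node (.leaf (nat_lit 75)) (.leaf (nat_lit 1061114))) (.leaf (nat_lit 1647))) (.node (.node (.leaf (nat_lit 946)) (.leaf (nat_lit 968619))) (.leaf (nat_lit 2211)))) (.node (.node (.node (.leaf (nat_lit 534)) (.leaf (nat_lit 817542))) (.leaf (nat_lit 1145167))) (.node (.node (.leaf (nat_lit 606100)) (.leaf (nat_lit 204465))) (.leaf (nat_lit 1084848))))) (.node (.node (.node (.node (.leaf (nat_lit 313)) (.leaf (nat_lit 155228))) (.leaf (nat_lit 1798))) (.node (.node (.leaf (nat_lit 531032)) (.leaf (nat_lit 489300))) (.leaf (nat_lit 732960)))) (.node (.node (.node (.leaf (nat_lit 748)) (.leaf (nat_lit 825571))) (.leaf (nat_lit 530526))) (.node (.leaf (nat_lit 429987)) (.leaf (nat_lit 646798)))))) (.node (.node (.node (.node (.node (.leaf (nat_lit 197)) (.leaf (nat_lit 1136510))) (.leaf (nat_lit 416255))) (.node (.node (.leaf (nat_lit 1053)) (.leaf (nat_lit 165161))) (.leaf (nat_lit 1043)))) (.node (.node (.node (.leaf (nat_lit 641)) (.leaf (nat_lit 956358))) (.leaf (nat_lit 2020))) (.node (.leaf (nat_lit 1405)) (.leaf (nat_lit 2478))))) (.node (.node (.node (.node (.leaf (nat_lit 426)) (.leaf (nat_lit 91453))) (.leaf (nat_lit 358821))) (.node (.node (.leaf (nat_lit 332070)) (.leaf (nat_lit 927054))) (.leaf (nat_lit 1223328)))) (.node (.node (.node (.leaf (nat_lit 851)) (.leaf (nat_lit 921452))) (.leaf (nat_lit 70437))) (.node (.leaf (nat_lit 1566)) (.leaf (nat_lit 2575)))))))) (.node (.node (.node (.node (.node (.node (.node (.leaf (nat_lit 44)) (.leaf (nat_lit 2606))) (.leaf (nat_lit 1628))) (.node (.node (.leaf (nat_lit 924)) (.leaf (nat_lit 140568))) (.leaf (nat_lit 2197)))) (.node (.node (.node (.leaf (nat_lit 508)) (.leaf (nat_lit 691935))) (.leaf (nat_lit 1927))) (.node (.node (.leaf (nat_lit 1304)) (.leaf (nat_lit 845390))) (.leaf (nat_lit 1052785))))) (.node (.node (.node (.node (.leaf (nat_lit 285)) (.leaf (nat_lit 206701))) (.leaf (nat_lit 1028621))) (.node (.node (.leaf (nat_lit 1128)) (.leaf (nat_lit 791030))) (.leaf (nat_lit 2319)))) (.node (.node (.node (.leaf (nat_lit 724)) (.leaf (nat_lit 217457))) (.leaf (nat_lit 605076))) (.node (.leaf (nat_lit 1471)) (.leaf (nat_lit 2516)))))) (.node (.node (.node (.node (.node (.leaf (nat_lit 1128969)) (.leaf (nat_lit 266231))) (.leaf (nat_lit 899869))) (.node (.node (.leaf (nat_lit 1027)) (.leaf (nat_lit 1162093))) (.leaf (nat_lit 2260)))) (.node (.node (.node (.leaf (nat_lit 613)) (.leaf (nat_lit 696533))) (.leaf (nat_lit 1997))) (.node (.leaf (nat_lit 1386)) (.leaf (nat_lit 2467))))) (.node (.node (.node (.node (.leaf (nat_lit 398)) (.leaf (nat_lit 131594))) (.leaf (nat_lit 1854))) (.node (.node (.leaf (nat_lit 1214)) (.leaf (nat_lit 659130))) (.leaf (nat_lit 50297)))) (.node (.node (.node (.leaf (nat_lit 827)) (.leaf (nat_lit 312319))) (.leaf (nat_lit 553759))) (.node (.leaf (nat_lit 1548)) (.leaf (nat_lit 997259))))))) (.node (.node (.node (.node (.node (.node (.leaf (nat_lit 106)) (.leaf (nat_lit 1125435))) (.leaf (nat_lit 1670))) (.node (.node (.leaf (nat_lit 975)) (.leaf (nat_lit 503963))) (.leaf (nat_lit 144722)))) (.node (.node (.node (.leaf (nat_lit 1140695)) (.leaf (nat_lit 650663))) (.leaf (nat_lit 672519))) (.node (.node (.leaf (nat_lit 1348)) (.leaf (nat_lit 328307))) (.leaf (nat_lit 700541))))) (.node (.node (.node (.node (.leaf (nat_lit 342)) (.leaf (nat_lit 936604))) (.leaf (nat_lit 1815))) (.node (.node (.leaf (nat_lit 1168)) (.leaf (nat_lit 96))) (.leaf (nat_lit 1282965)))) (.node (.node (.node (.leaf (nat_lit 775)) (.leaf (nat_lit 676602))) (.leaf (nat_lit 896873))) (.node (.leaf (nat_lit 1515)) (.leaf (nat_lit 2543)))))) (.node (.node (.node (.node (.node (.leaf (nat_lit 227)) (.leaf (nat_lit 880591))) (.leaf (nat_lit 903162))) (.node (.node (.leaf (nat_lit 1078)) (.leaf (nat_lit 778799))) (.leaf (nat_lit 917829)))) (.node (.node (.node (.leaf (nat_lit 667)) (.leaf (nat_lit 742184))) (.leaf (nat_lit 727251))) (.node (.leaf (nat_lit 1429)) (.leaf (nat_lit 2491))))) (.node (.node (.node (.node (.leaf (nat_lit 1284770)) (.leaf (nat_lit 79429))) (.leaf (nat_lit 1888))) (.node (.node (.leaf (nat_lit 1259)) (.leaf (nat_lit 779580))) (.leaf (nat_lit 242311)))) (.node (.node (.node (.leaf (nat_lit 876)) (.leaf (nat_lit 843305))) (.leaf (nat_lit 2165))) (.node (.leaf (nat_lit 692160)) (.leaf (nat_lit 1451))))))))) (.node (.node (.node (.node (.node (.node (.node (.node (.leaf (nat_lit 28)) (.leaf (nat_lit 2599))) (.leaf (nat_lit 53428))) (.node (.node (.leaf (nat_lit 913)) (.leaf (nat_lit 205773))) (.leaf (nat_lit 2187)))) (.node (.node (.node (.leaf (nat_lit 496)) (.leaf (nat_lit 208517))) (.leaf (nat_lit 1915))) (.node (.node (.leaf (nat_lit 1291)) (.leaf (nat_lit 321699))) (.leaf (nat_lit 2415))))) (.node (.node (.node (.node (.leaf (nat_lit 270)) (.leaf (nat_lit 2679))) (.leaf (nat_lit 1008190))) (.node (.node (.leaf (nat_lit 1116)) (.leaf (nat_lit 1151586))) (.leaf (nat_lit 2314)))) (.node (.node (.node (.leaf (nat_lit 709)) (.leaf (nat_lit 2791))) (.leaf (nat_lit 997979))) (.node (.leaf (nat_lit 231477)) (.leaf (nat_lit 2507)))))) (.node (.node (.node (.node (.node (.leaf (nat_lit 152)) (.leaf (nat_lit 2644))) (.leaf (nat_lit 1700))) (.node (.node (.leaf (nat_lit 1014)) (.leaf (nat_lit 771758))) (.leaf (nat_lit 2251)))) (.node (.node (.node (.leaf (nat_lit 600)) (.leaf (nat_lit 667926))) (.leaf (nat_lit 1992))) (.node (.leaf (nat_lit 1377)) (.leaf (nat_lit 1095372))))) (.node (.node (.node (.node (.leaf (nat_lit 383)) (.leaf (nat_lit 2712))) (.leaf (nat_lit 1846))) (.node (.node (.leaf (nat_lit 962319)) (.leaf (nat_lit 351035))) (.leaf (nat_lit 862883)))) (.node (.node (.node (.leaf (nat_lit 815)) (.leaf (nat_lit 606050))) (.leaf (nat_lit 2126))) (.node (.leaf (nat_lit 1539)) (.leaf (nat_lit 730645))))))) (.node (.node (.node (.node (.node (.node (.leaf (nat_lit 91)) (.leaf (nat_lit 608847))) (.leaf (nat_lit 1213985))) (.node (.node (.leaf (nat_lit 961)) (.leaf (nat_lit 1169147))) (.leaf (nat_lit 2196)))) (.node (.node (.node (.leaf (nat_lit 547)) (.leaf (nat_lit 454220))) (.leaf (nat_lit 1954))) (.node (.node (.leaf (nat_lit 1334)) (.leaf (nat_lit 1212321))) (.leaf (nat_lit 2441))))) (.node (.node (.node (.node (.leaf (nat_lit 327)) (.leaf (nat_lit 2696))) (.leaf (nat_lit 1805))) (.node (.node (.leaf (nat_lit 251)) (.leaf (nat_lit 1282630))) (.leaf (nat_lit 983270)))) (.node (.node (.node (.leaf (nat_lit 761)) (.leaf (nat_lit 840320))) (.leaf (nat_lit 2097))) (.node (.leaf (nat_lit 899435)) (.leaf (nat_lit 2534)))))) (.node (.node (.node (.node (.node (.leaf (nat_lit 212)) (.leaf (nat_lit 666972))) (.leaf (nat_lit 1419))) (.node (.node (.leaf (nat_lit 1065)) (.leaf (nat_lit 526948))) (.leaf (nat_lit 2288)))) (.node (.node (.node (.leaf (nat_lit 654)) (.leaf (nat_lit 514496))) (.leaf (nat_lit 2028))) (.node (.leaf (nat_lit 1417)) (.leaf (nat_lit 2484))))) (.node (.node (.node (.node (.leaf (nat_lit 999748)) (.leaf (nat_lit 1220325))) (.leaf (nat_lit 1879))) (.node (.node (.leaf (nat_lit 1248)) (.leaf (nat_lit 607025))) (.leaf (nat_lit 111254)))) (.node (.node (.node (.leaf (nat_lit 676994)) (.leaf (nat_lit 721619))) (.leaf (nat_lit 966197))) (.node (.leaf (nat_lit 1577)) (.leaf (nat_lit 295230)))))))) (.node (.node (.node (.node (.node (.node (.node (.leaf (nat_lit 60)) (.leaf (nat_lit 938608))) (.leaf (nat_lit 83885))) (.node (.node (.leaf (nat_lit 935)) (.leaf (nat_lit 474720))) (.leaf (nat_lit 2205)))) (.node (.node (.node (.leaf (nat_lit 521)) (.leaf (nat_lit 793671))) (.leaf (nat_lit 694708))) (.node (.node (.leaf (nat_lit 1316)) (.leaf (nat_lit 554123))) (.leaf (nat_lit 2426))))) (.node (.node (.node (.node (.leaf (nat_lit 300)) (.leaf (nat_lit 880586))) (.leaf (nat_lit 1787))) (.node (.node (.leaf (nat_lit 122067)) (.leaf (nat_lit 954906))) (.leaf (nat_lit 2327)))) (.node (.node (.node (.leaf (nat_lit 734)) (.leaf (nat_lit 551))) (.leaf (nat_lit 2082))) (.node (.leaf (nat_lit 1481)) (.leaf (nat_lit 284746)))))) (.node (.node (.node (.node (.node (.leaf (nat_lit 182)) (.leaf (nat_lit 2650))) (.leaf (nat_lit 1270172))) (.node (.node (.leaf (nat_lit 1038)) (.leaf (nat_lit 1180074))) (.leaf (nat_lit 605138)))) (.node (.node (.node (.leaf (nat_lit 626)) (.leaf (nat_lit 51134))) (.leaf (nat_lit 721394))) (.node (.leaf (nat_lit 1396)) (.leaf (nat_lit 1252076))))) (.node (.node (.node (.node (.leaf (nat_lit 412)) (.leaf (nat_lit 480))) (.leaf (nat_lit 937091))) (.node (.node (.leaf (nat_lit 109860)) (.leaf (nat_lit 646347))) (.leaf (nat_lit 612268)))) (.node (.node (.node (.leaf (nat_lit 1106755)) (.leaf (nat_lit 120702))) (.leaf (nat_lit 471108))) (.node (.leaf (nat_lit 1556)) (.leaf (nat_lit 1035993))))))) (.node (.node (.node (.node (.node (.node (.leaf (nat_lit 120)) (.leaf (nat_lit 727706))) (.leaf (nat_lit 634404))) (.node (.node (.leaf (nat_lit 989)) (.leaf (nat_lit 428992))) (.leaf (nat_lit 2239)))) (.node (.node (.node (.leaf (nat_lit 572)) (.leaf (nat_lit 589058))) (.leaf (nat_lit 1971))) (.node (.node (.leaf (nat_lit 1356)) (.leaf (nat_lit 535679))) (.leaf (nat_lit 385276))))) (.node (.node (.node (.node (.leaf (nat_lit 645143)) (.leaf (nat_lit 1217238))) (.leaf (nat_lit 1825))) (.node (.node (.leaf (nat_lit 878533)) (.leaf (nat_lit 178086))) (.leaf (nat_lit 494539)))) (.node (.node (.node (.leaf (nat_lit 789)) (.leaf (nat_lit 494878))) (.leaf (nat_lit 605088))) (.node (.leaf (nat_lit 1520)) (.leaf (nat_lit 2548)))))) (.node (.node (.node (.node (.node (.leaf (nat_lit 242)) (.leaf (nat_lit 563343))) (.leaf (nat_lit 1753))) (.node (.node (.leaf (nat_lit 1088)) (.leaf (nat_lit 1129953))) (.leaf (nat_lit 459796)))) (.node (.node (.node (.leaf (nat_lit 683)) (.leaf (nat_lit 737157))) (.leaf (nat_lit 2049))) (.node (.leaf (nat_lit 1443)) (.leaf (nat_lit 1185788))))) (.node (.node (.node (.node (.leaf (nat_lit 41)) (.leaf (nat_lit 2735))) (.leaf (nat_lit 1895))) (.node (.node (.leaf (nat_lit 1130206)) (.leaf (nat_lit 531121))) (.leaf (nat_lit 1149591)))) (.node (.node (.node (.leaf (nat_lit 891)) (.leaf (nat_lit 901082))) (.leaf (nat_lit 1219126))) (.node (.leaf (nat_lit 1597)) (.leaf (nat_lit 1069302))))))))))) (.node (.node (.node (.node (.node (.node (.node (.node (.node (.node (.leaf (nat_lit 8)) (.leaf (nat_lit 250204))) (.leaf (nat_lit 1605))) (.node (.node (.leaf (nat_lit 899)) (.leaf (nat_lit 13030))) (.leaf (nat_lit 617526)))) (.node (.node (.node (.leaf (nat_lit 477)) (.leaf (nat_lit 1067258))) (.leaf (nat_lit 605325))) (.node (.node (.leaf (nat_lit 902335)) (.leaf (nat_lit 2570))) (.leaf (nat_lit 815702))))) (.node (.node (.node (.node (.leaf (nat_lit 252)) (.leaf (nat_lit 8042))) (.leaf (nat_lit 1759))) (.node (.node (.leaf (nat_lit 1099)) (.leaf (nat_lit 278495))) (.leaf (nat_lit 1248103)))) (.node (.node (.node (.leaf (nat_lit 692)) (.leaf (nat_lit 186883))) (.leaf (nat_lit 2056))) (.node (.leaf (nat_lit 1452)) (.leaf (nat_lit 2500)))))) (.node (.node (.node (.node (.node (.leaf (nat_lit 132)) (.leaf (nat_lit 355608))) (.leaf (nat_lit 646779))) (.node (.node (.leaf (nat_lit 1000)) (.leaf (nat_lit 983960))) (.leaf (nat_lit 2245)))) (.node (.node (.node (.leaf (nat_lit 583)) (.leaf (nat_lit 510581))) (.leaf (nat_lit 223367))) (.node (.leaf (nat_lit 1364)) (.leaf (nat_lit 2457))))) (.node (.node (.node (.node (.leaf (nat_lit 368)) (.leaf (nat_lit 2706))) (.leaf (nat_lit 1832))) (.node (.node (.leaf (nat_lit 919406)) (.leaf (nat_lit 541237))) (.leaf (nat_lit 2356)))) (.node (.node (.node (.leaf (nat_lit 72)) (.leaf (nat_lit 136705))) (.leaf (nat_lit 408147))) (.node (.leaf (nat_lit 1526)) (.leaf (nat_lit 1083728))))))) (.node (.node (.node (.node (.node (.node (.leaf (nat_lit 71)) (.leaf (nat_lit 416372))) (.leaf (nat_lit 1644))) (.node (.node (.leaf (nat_lit 944)) (.leaf (nat_lit 1261297))) (.leaf (nat_lit 2210)))) (.node (.node (.node (.leaf (nat_lit 465)) (.leaf (nat_lit 1139101))) (.leaf (nat_lit 1942))) (.node (.node (.leaf (nat_lit 1322)) (.leaf (nat_lit 1286505))) (.leaf (nat_lit 678831))))) (.node (.node (.node (.node (.leaf (nat_lit 309)) (.leaf (nat_lit 2690))) (.leaf (nat_lit 1795))) (.node (.node (.leaf (nat_lit 1145)) (.leaf (nat_lit 359053))) (.leaf (nat_lit 427363)))) (.node (.node (.node (.leaf (nat_lit 645293)) (.leaf (nat_lit 503745))) (.leaf (nat_lit 2087))) (.node (.leaf (nat_lit 1490)) (.leaf (nat_lit 2527)))))) (.node (.node (.node (.node (.node (.leaf (nat_lit 193)) (.leaf (nat_lit 469192))) (.leaf (nat_lit 640))) (.node (.node (.leaf (nat_lit 1049)) (.leaf (nat_lit 1214975))) (.leaf (nat_lit 1123700)))) (.node (.node (.node (.leaf (nat_lit 637)) (.leaf (nat_lit 1004935))) (.leaf (nat_lit 2016))) (.node (.leaf (nat_lit 844608)) (.leaf (nat_lit 2476))))) (.node (.node (.node (.node (.leaf (nat_lit 423)) (.leaf (nat_lit 1250451))) (.leaf (nat_lit 1100482))) (.node (.node (.leaf (nat_lit 1234)) (.leaf (nat_lit 809005))) (.leaf (nat_lit 609023)))) (.node (.node (.node (.leaf (nat_lit 384)) (.leaf (nat_lit 164044))) (.leaf (nat_lit 576549))) (.node (.leaf (nat_lit 1564)) (.leaf (nat_lit 300761)))))))) (.node (.node (.node (.node (.node (.node (.node (.leaf (nat_lit 40)) (.leaf (nat_lit 1079063))) (.leaf (nat_lit 1625))) (.node (.node (.leaf (nat_lit 922)) (.leaf (nat_lit 536350))) (.leaf (nat_lit 655759)))) (.node (.node (.node (.leaf (nat_lit 505)) (.leaf (nat_lit 819208))) (.leaf (nat_lit 1925))) (.node (.node (.leaf (nat_lit 118774)) (.leaf (nat_lit 713478))) (.leaf (nat_lit 2420))))) (.node (.node (.node (.node (.leaf (nat_lit 281)) (.leaf (nat_lit 952489))) (.leaf (nat_lit 1773))) (.node (.node (.leaf (nat_lit 1008386)) (.leaf (nat_lit 374243))) (.leaf (nat_lit 1018090)))) (.node (.node (.node (.leaf (nat_lit 721)) (.leaf (nat_lit 2796))) (.leaf (nat_lit 822450))) (.node (.leaf (nat_lit 1469)) (.leaf (nat_lit 2514)))))) (.node (.node (.node (.node (.node (.leaf (nat_lit 163)) (.leaf (nat_lit 1142284))) (.leaf (nat_lit 200))) (.node (.node (.leaf (nat_lit 654217)) (.leaf (nat_lit 1238246))) (.leaf (nat_lit 1017981)))) (.node (.node (.node (.leaf (nat_lit 610)) (.leaf (nat_lit 203))) (.leaf (nat_lit 733425))) (.node (.leaf (nat_lit 1383)) (.leaf (nat_lit 263903))))) (.node (.node (.node (.node (.leaf (nat_lit 394)) (.leaf (nat_lit 1137259))) (.leaf (nat_lit 1852))) (.node (.node (.leaf (nat_lit 1211)) (.leaf (nat_lit 1007191))) (.leaf (nat_lit 50348)))) (.node (.node (.node (.leaf (nat_lit 823)) (.leaf (nat_lit 2823))) (.leaf (nat_lit 104634))) (.node (.leaf (nat_lit 1545)) (.leaf (nat_lit 782981))))))) (.node (.node (.node (.node (.node (.node (.leaf (nat_lit 102)) (.leaf (nat_lit 160149))) (.leaf (nat_lit 1667))) (.node (.node (.leaf (nat_lit 818607)) (.leaf (nat_lit 537825))) (.leaf (nat_lit 2227)))) (.node (.node (.node (.leaf (nat_lit 556)) (.leaf (nat_lit 278640))) (.leaf (nat_lit 1960))) (.node (.node (.leaf (nat_lit 141)) (.leaf (nat_lit 37219))) (.leaf (nat_lit 9252))))) (.node (.node (.node (.node (.leaf (nat_lit 339)) (.leaf (nat_lit 1866))) (.leaf (nat_lit 1812))) (.node (.node (.leaf (nat_lit 1009102)) (.leaf (nat_lit 602379))) (.leaf (nat_lit 764416)))) (.node (.node (.node (.leaf (nat_lit 771)) (.leaf (nat_lit 2810))) (.leaf (nat_lit 237750))) (.node (.leaf (nat_lit 1511)) (.leaf (nat_lit 2541)))))) (.node (.node (.node (.node (.node (.leaf (nat_lit 223)) (.leaf (nat_lit 606649))) (.leaf (nat_lit 530692))) (.node (.node (.leaf (nat_lit 415501)) (.leaf (nat_lit 353663))) (.leaf (nat_lit 1075315)))) (.node (.node (.node (.leaf (nat_lit 663)) (.leaf (nat_lit 2783))) (.leaf (nat_lit 2037))) (.node (.leaf (nat_lit 1426)) (.leaf (nat_lit 606900))))) (.node (.node (.node (.node (.leaf (nat_lit 452)) (.leaf (nat_lit 1142608))) (.leaf (nat_lit 1886))) (.node (.node (.leaf (nat_lit 1255)) (.leaf (nat_lit 511139))) (.leaf (nat_lit 676306)))) (.node (.node (.node (.leaf (nat_lit 872)) (.leaf (nat_lit 129549))) (.leaf (nat_lit 2161))) (.node (.leaf (nat_lit 1584)) (.leaf (nat_lit 307621))))))))) (.node (.node (.node (.node (.node (.node (.node (.node (.leaf (nat_lit 24)) (.leaf (nat_lit 538048))) (.leaf (nat_lit 1614))) (.node (.node (.leaf (nat_lit 1046182)) (.leaf (nat_lit 1061711))) (.leaf (nat_lit 2185)))) (.node (.node (.node (.leaf (nat_lit 492)) (.leaf (nat_lit 946181))) (.leaf (nat_lit 1911))) (.node (.node (.leaf (nat_lit 1287)) (.leaf (nat_lit 243553))) (.leaf (nat_lit 645517))))) (.node (.node (.node (.node (.leaf (nat_lit 535881)) (.leaf (nat_lit 160345))) (.leaf (nat_lit 1207952))) (.node (.node (.leaf (nat_lit 1113)) (.leaf (nat_lit 1275547))) (.leaf (nat_lit 1121359)))) (.node (.node (.node (.leaf (nat_lit 705)) (.leaf (nat_lit 814825))) (.leaf (nat_lit 2065))) (.node (.leaf (nat_lit 260241)) (.leaf (nat_lit 2505)))))) (.node (.node (.node (.node (.node (.leaf (nat_lit 148)) (.leaf (nat_lit 2643))) (.leaf (nat_lit 1697))) (.node (.node (.leaf (nat_lit 1011)) (.leaf (nat_lit 910033))) (.leaf (nat_lit 993946)))) (.node (.node (.node (.leaf (nat_lit 597)) (.leaf (nat_lit 477210))) (.leaf (nat_lit 1082925))) (.node (.leaf (nat_lit 571393)) (.leaf (nat_lit 178916))))) (.node (.node (.node (.node (.leaf (nat_lit 380)) (.leaf (nat_lit 2709))) (.leaf (nat_lit 351898))) (.node (.node (.leaf (nat_lit 1200)) (.leaf (nat_lit 100674))) (.leaf (nat_lit 997563)))) (.node (.node (.node (.leaf (nat_lit 811)) (.leaf (nat_lit 34387))) (.leaf (nat_lit 2123))) (.node (.leaf (nat_lit 642754)) (.leaf (nat_lit 914805))))))) (.node (.node (.node (.node (.node (.node (.leaf (nat_lit 87)) (.leaf (nat_lit 1225573))) (.leaf (nat_lit 1655))) (.node (.node (.leaf (nat_lit 957)) (.leaf (nat_lit 1136))) (.leaf (nat_lit 873754)))) (.node (.node (.node (.leaf (nat_lit 544)) (.leaf (nat_lit 919875))) (.leaf (nat_lit 1953))) (.node (.node (.leaf (nat_lit 1331)) (.leaf (nat_lit 132421))) (.leaf (nat_lit 575491))))) (.node (.node (.node (.node (.leaf (nat_lit 324)) (.leaf (nat_lit 1358))) (.leaf (nat_lit 6816))) (.node (.node (.leaf (nat_lit 72123)) (.leaf (nat_lit 1191978))) (.leaf (nat_lit 2338)))) (.node (.node (.node (.leaf (nat_lit 758)) (.leaf (nat_lit 175246))) (.leaf (nat_lit 70))) (.node (.leaf (nat_lit 49876)) (.leaf (nat_lit 2533)))))) (.node (.node (.node (.node (.node (.leaf (nat_lit 208)) (.leaf (nat_lit 497))) (.leaf (nat_lit 1733))) (.node (.node (.leaf (nat_lit 1062)) (.leaf (nat_lit 980835))) (.leaf (nat_lit 2285)))) (.node (.node (.node (.leaf (nat_lit 57)) (.leaf (nat_lit 914788))) (.leaf (nat_lit 1011988))) (.node (.leaf (nat_lit 1415)) (.leaf (nat_lit 2482))))) (.node (.node (.node (.node (.leaf (nat_lit 438)) (.leaf (nat_lit 2730))) (.leaf (nat_lit 1877))) (.node (.node (.leaf (nat_lit 1245)) (.leaf (nat_lit 50556))) (.leaf (nat_lit 1006657)))) (.node (.node (.node (.leaf (nat_lit 862)) (.leaf (nat_lit 1093653))) (.leaf (nat_lit 2151))) (.node (.leaf (nat_lit 1574)) (.leaf (nat_lit 1201955)))))))) (.node (.node (.node (.node (.node (.node (.node (.leaf (nat_lit 56)) (.leaf (nat_lit 1225583))) (.leaf (nat_lit 1632))) (.node (.node (.leaf (nat_lit 932)) (.leaf (nat_lit 726271))) (.leaf (nat_lit 1004122)))) (.node (.node (.node (.leaf (nat_lit 517)) (.leaf (nat_lit 2751))) (.leaf (nat_lit 1161))) (.node (.node (.leaf (nat_lit 1313)) (.leaf (nat_lit 456505))) (.leaf (nat_lit 376409))))) (.node (.node (.node (.node (.leaf (nat_lit 296)) (.leaf (nat_lit 229949))) (.leaf (nat_lit 1786))) (.node (.node (.leaf (nat_lit 1137)) (.leaf (nat_lit 2253))) (.leaf (nat_lit 2323)))) (.node (.node (.node (.leaf (nat_lit 732)) (.leaf (nat_lit 532))) (.leaf (nat_lit 2078))) (.node (.leaf (nat_lit 1478)) (.leaf (nat_lit 385986)))))) (.node (.node (.node (.node (.node (.leaf (nat_lit 178)) (.leaf (nat_lit 555481))) (.leaf (nat_lit 426895))) (.node (.node (.leaf (nat_lit 1035)) (.leaf (nat_lit 978394))) (.leaf (nat_lit 2269)))) (.node (.node (.node (.leaf (nat_lit 622)) (.leaf (nat_lit 137952))) (.leaf (nat_lit 2006))) (.node (.leaf (nat_lit 222553)) (.leaf (nat_lit 525892))))) (.node (.node (.node (.node (.leaf (nat_lit 408)) (.leaf (nat_lit 430565))) (.leaf (nat_lit 1089639))) (.node (.node (.leaf (nat_lit 1224)) (.leaf (nat_lit 508972))) (.leaf (nat_lit 2373)))) (.node (.node (.node (.leaf (nat_lit 982833)) (.leaf (nat_lit 1166328))) (.leaf (nat_lit 1129274))) (.node (.leaf (nat_lit 838513)) (.leaf (nat_lit 437258))))))) (.node (.node (.node (.node (.node (.node (.leaf (nat_lit 117)) (.leaf (nat_lit 123589))) (.leaf (nat_lit 939546))) (.node (.node (.leaf (nat_lit 985)) (.leaf (nat_lit 592086))) (.leaf (nat_lit 121288)))) (.node (.node (.node (.leaf (nat_lit 569)) (.leaf (nat_lit 2766))) (.leaf (nat_lit 257))) (.node (.node (.leaf (nat_lit 311731)) (.leaf (nat_lit 235342))) (.leaf (nat_lit 76101))))) (.node (.node (.node (.node (.leaf (nat_lit 353)) (.leaf (nat_lit 681759))) (.leaf (nat_lit 1822))) (.node (.node (.leaf (nat_lit 1178)) (.leaf (nat_lit 162792))) (.leaf (nat_lit 1228966)))) (.node (.node (.node (.leaf (nat_lit 786)) (.leaf (nat_lit 917708))) (.leaf (nat_lit 231721))) (.node (.leaf (nat_lit 657932)) (.leaf (nat_lit 650220)))))) (.node (.node (.node (.node (.node (.leaf (nat_lit 238)) (.leaf (nat_lit 493139))) (.leaf (nat_lit 1750))) (.node (.node (.leaf (nat_lit 835572)) (.leaf (nat_lit 316590))) (.leaf (nat_lit 1404)))) (.node (.node (.node (.leaf (nat_lit 679)) (.leaf (nat_lit 1709))) (.leaf (nat_lit 979669))) (.node (.leaf (nat_lit 1439)) (.leaf (nat_lit 62968))))) (.node (.node (.node (.node (.leaf (nat_lit 464)) (.leaf (nat_lit 793494))) (.leaf (nat_lit 1893))) (.node (.node (.leaf (nat_lit 1269)) (.leaf (nat_lit 362768))) (.leaf (nat_lit 2401)))) (.node (.node (.node (.leaf (nat_lit 887)) (.leaf (nat_lit 983815))) (.leaf (nat_lit 2171))) (.node (.leaf (nat_lit 1593)) (.leaf (nat_lit 748088)))))))))) (.node (.node (.node (.node (.node (.node (.node (.node (.node (.leaf (nat_lit 16)) (.leaf (nat_lit 2594))) (.leaf (nat_lit 1610))) (.node (.node (.leaf (nat_lit 906)) (.leaf (nat_lit 964702))) (.leaf (nat_lit 2178)))) (.node (.node (.node (.leaf (nat_lit 484)) (.leaf (nat_lit 365374))) (.leaf (nat_lit 1906))) (.node (.node (.leaf (nat_lit 1284)) (.leaf (nat_lit 606114))) (.leaf (nat_lit 954488))))) (.node (.node (.node (.node (.leaf (nat_lit 260)) (.leaf (nat_lit 875244))) (.leaf (nat_lit 395812))) (.node (.node (.leaf (nat_lit 604898)) (.leaf (nat_lit 509623))) (.leaf (nat_lit 1149722)))) (.node (.node (.node (.leaf (nat_lit 698)) (.leaf (nat_lit 1153648))) (.leaf (nat_lit 2061))) (.node (.leaf (nat_lit 1179310)) (.leaf (nat_lit 171318)))))) (.node (.node (.node (.node (.node (.leaf (nat_lit 140)) (.leaf (nat_lit 388167))) (.leaf (nat_lit 1693))) (.node (.node (.leaf (nat_lit 1008)) (.leaf (nat_lit 81955))) (.leaf (nat_lit 764111)))) (.node (.node (.node (.leaf (nat_lit 590)) (.leaf (nat_lit 577592))) (.leaf (nat_lit 1983))) (.node (.leaf (nat_lit 1369)) (.leaf (nat_lit 2460))))) (.node (.node (.node (.node (.leaf (nat_lit 605105)) (.leaf (nat_lit 788877))) (.leaf (nat_lit 1840))) (.node (.node (.leaf (nat_lit 351778)) (.leaf (nat_lit 1026851))) (.leaf (nat_lit 2361)))) (.node (.node (.node (.leaf (nat_lit 700174)) (.leaf (nat_lit 857278))) (.leaf (nat_lit 2117))) (.node (.leaf (nat_lit 683592)) (.leaf (nat_lit 463277))))))) (.node (.node (.node (.node (.node (.node (.leaf (nat_lit 79)) (.leaf (nat_lit 281292))) (.leaf (nat_lit 1651))) (.node (.node (.leaf (nat_lit 950)) (.leaf (nat_lit 875677))) (.leaf (nat_lit 2213)))) (.node (.node (.node (.leaf (nat_lit 144084)) (.leaf (nat_lit 227298))) (.leaf (nat_lit 1948))) (.node (.node (.leaf (nat_lit 721048)) (.leaf (nat_lit 388274))) (.leaf (nat_lit 2436))))) (.node (.node (.node (.node (.leaf (nat_lit 317)) (.leaf (nat_lit 757114))) (.leaf (nat_lit 735672))) (.node (.node (.leaf (nat_lit 433131)) (.leaf (nat_lit 242728))) (.leaf (nat_lit 367)))) (.node (.node (.node (.leaf (nat_lit 752)) (.leaf (nat_lit 1099492))) (.leaf (nat_lit 2091))) (.node (.leaf (nat_lit 1497)) (.leaf (nat_lit 867967)))))) (.node (.node (.node (.node (.node (.leaf (nat_lit 31)) (.leaf (nat_lit 286271))) (.leaf (nat_lit 1725))) (.node (.node (.leaf (nat_lit 1019959)) (.leaf (nat_lit 1068710))) (.leaf (nat_lit 2280)))) (.node (.node (.node (.leaf (nat_lit 645)) (.leaf (nat_lit 981726))) (.leaf (nat_lit 2022))) (.node (.leaf (nat_lit 1409)) (.leaf (nat_lit 649363))))) (.node (.node (.node (.node (.leaf (nat_lit 430)) (.leaf (nat_lit 777375))) (.leaf (nat_lit 1872))) (.node (.node (.leaf (nat_lit 1240)) (.leaf (nat_lit 666934))) (.leaf (nat_lit 1088021)))) (.node (.node (.node (.leaf (nat_lit 854)) (.leaf (nat_lit 849115))) (.leaf (nat_lit 1247575))) (.node (.leaf (nat_lit 177)) (.leaf (nat_lit 772986)))))))) (.node (.node (.node (.node (.node (.node (.node (.leaf (nat_lit 48)) (.leaf (nat_lit 900206))) (.leaf (nat_lit 280787))) (.node (.node (.leaf (nat_lit 927)) (.leaf (nat_lit 538280))) (.leaf (nat_lit 2198)))) (.node (.node (.node (.leaf (nat_lit 512)) (.leaf (nat_lit 690689))) (.leaf (nat_lit 646351))) (.node (.node (.leaf (nat_lit 632)) (.leaf (nat_lit 298821))) (.leaf (nat_lit 899423))))) (.node (.node (.node (.node (.leaf (nat_lit 289)) (.leaf (nat_lit 878187))) (.leaf (nat_lit 1780))) (.node (.node (.leaf (nat_lit 1079)) (.leaf (nat_lit 1245855))) (.leaf (nat_lit 277380)))) (.node (.node (.node (.leaf (nat_lit 633727)) (.leaf (nat_lit 1162754))) (.leaf (nat_lit 2075))) (.node (.leaf (nat_lit 1472)) (.leaf (nat_lit 2518)))))) (.node (.node (.node (.node (.node (.leaf (nat_lit 170)) (.leaf (nat_lit 2648))) (.leaf (nat_lit 361555))) (.node (.node (.leaf (nat_lit 1031)) (.leaf (nat_lit 970384))) (.leaf (nat_lit 2264)))) (.node (.node (.node (.leaf (nat_lit 617)) (.leaf (nat_lit 920899))) (.leaf (nat_lit 2000))) (.node (.leaf (nat_lit 1389)) (.leaf (nat_lit 21993))))) (.node (.node (.node (.node (.leaf (nat_lit 402)) (.leaf (nat_lit 2719))) (.leaf (nat_lit 470332))) (.node (.node (.leaf (nat_lit 1217)) (.leaf (nat_lit 494259))) (.leaf (nat_lit 2370)))) (.node (.node (.node (.leaf (nat_lit 831)) (.leaf (nat_lit 425708))) (.leaf (nat_lit 2138))) (.node (.leaf (nat_lit 1551)) (.leaf (nat_lit 2567))))))) (.node (.node (.node (.node (.node (.node (.leaf (nat_lit 109)) (.leaf (nat_lit 2628))) (.leaf (nat_lit 11))) (.node (.node (.leaf (nat_lit 978)) (.leaf (nat_lit 1018812))) (.leaf (nat_lit 244123)))) (.node (.node (.node (.leaf (nat_lit 563)) (.leaf (nat_lit 1154379))) (.leaf (nat_lit 1965))) (.node (.node (.leaf (nat_lit 1351)) (.leaf (nat_lit 1039673))) (.leaf (nat_lit 647040))))) (.node (.node (.node (.node (.leaf (nat_lit 345)) (.leaf (nat_lit 640537))) (.leaf (nat_lit 1817))) (.node (.node (.leaf (nat_lit 1172)) (.leaf (nat_lit 843673))) (.leaf (nat_lit 1010158)))) (.node (.node (.node (.leaf (nat_lit 795061)) (.leaf (nat_lit 215761))) (.leaf (nat_lit 853422))) (.node (.leaf (nat_lit 1489)) (.leaf (nat_lit 632641)))))) (.node (.node (.node (.node (.node (.leaf (nat_lit 231)) (.leaf (nat_lit 777311))) (.leaf (nat_lit 1744))) (.node (.node (.leaf (nat_lit 1080)) (.leaf (nat_lit 2859))) (.leaf (nat_lit 2297)))) (.node (.node (.node (.leaf (nat_lit 671)) (.leaf (nat_lit 306108))) (.leaf (nat_lit 2042))) (.node (.leaf (nat_lit 1432)) (.leaf (nat_lit 2493))))) (.node (.node (.node (.node (.leaf (nat_lit 458)) (.leaf (nat_lit 1273286))) (.leaf (nat_lit 260883))) (.node (.node (.leaf (nat_lit 1262)) (.leaf (nat_lit 840790))) (.leaf (nat_lit 2396)))) (.node (.node (.node (.leaf (nat_lit 880)) (.leaf (nat_lit 689470))) (.leaf (nat_lit 772748))) (.node (.leaf (nat_lit 39)) (.leaf (nat_lit 877238))))))))) (.node (.node (.node (.node (.node (.node (.node (.node (.leaf (nat_lit 32)) (.leaf (nat_lit 530571))) (.leaf (nat_lit 458917))) (.node (.node (.leaf (nat_lit 917)) (.leaf (nat_lit 192885))) (.leaf (nat_lit 2190)))) (.node (.node (.node (.leaf (nat_lit 1)) (.leaf (nat_lit 2746))) (.leaf (nat_lit 1919))) (.node (.node (.leaf (nat_lit 131)) (.leaf (nat_lit 135195))) (.leaf (nat_lit 992659))))) (.node (.node (.node (.node (.leaf (nat_lit 25)) (.leaf (nat_lit 1200370))) (.leaf (nat_lit 167114))) (.node (.node (.leaf (nat_lit 1119)) (.leaf (nat_lit 552050))) (.leaf (nat_lit 571016)))) (.node (.node (.node (.leaf (nat_lit 713)) (.leaf (nat_lit 2794))) (.leaf (nat_lit 215022))) (.node (.leaf (nat_lit 1464)) (.leaf (nat_lit 876257)))))) (.node (.node (.node (.node (.node (.leaf (nat_lit 156)) (.leaf (nat_lit 82899))) (.leaf (nat_lit 1704))) (.node (.node (.leaf (nat_lit 1018)) (.leaf (nat_lit 717077))) (.leaf (nat_lit 2254)))) (.node (.node (.node (.leaf (nat_lit 603)) (.leaf (nat_lit 2772))) (.leaf (nat_lit 1993))) (.node (.leaf (nat_lit 1380)) (.leaf (nat_lit 431))))) (.node (.node (.node (.node (.leaf (nat_lit 387)) (.leaf (nat_lit 321984))) (.leaf (nat_lit 898685))) (.node (.node (.leaf (nat_lit 1198333)) (.leaf (nat_lit 598733))) (.leaf (nat_lit 442976)))) (.node (.node (.node (.leaf (nat_lit 818)) (.leaf (nat_lit 2822))) (.leaf (nat_lit 727767))) (.node (.leaf (nat_lit 1542)) (.leaf (nat_lit 2562))))))) (.node (.node (.node (.node (.node (.node (.leaf (nat_lit 95)) (.leaf (nat_lit 2621))) (.leaf (nat_lit 1661))) (.node (.node (.leaf (nat_lit 965)) (.leaf (nat_lit 945898))) (.leaf (nat_lit 2222)))) (.node (.node (.node (.leaf (nat_lit 550)) (.leaf (nat_lit 1009756))) (.leaf (nat_lit 1956))) (.node (.node (.leaf (nat_lit 1338)) (.leaf (nat_lit 279039))) (.leaf (nat_lit 36019))))) (.node (.node (.node (.node (.leaf (nat_lit 331)) (.leaf (nat_lit 1250507))) (.leaf (nat_lit 6119))) (.node (.node (.leaf (nat_lit 830254)) (.leaf (nat_lit 507792))) (.leaf (nat_lit 1179934)))) (.node (.node (.node (.leaf (nat_lit 763)) (.leaf (nat_lit 95739))) (.leaf (nat_lit 821819))) (.node (.leaf (nat_lit 331876)) (.leaf (nat_lit 2537)))))) (.node (.node (.node (.node (.node (.leaf (nat_lit 216)) (.leaf (nat_lit 601406))) (.leaf (nat_lit 1739))) (.node (.node (.leaf (nat_lit 1069)) (.leaf (nat_lit 1198428))) (.leaf (nat_lit 864952)))) (.node (.node (.node (.leaf (nat_lit 658)) (.leaf (nat_lit 104234))) (.leaf (nat_lit 367607))) (.node (.leaf (nat_lit 1420)) (.leaf (nat_lit 2485))))) (.node (.node (.node (.node (.leaf (nat_lit 444)) (.leaf (nat_lit 325261))) (.leaf (nat_lit 55))) (.node (.node (.leaf (nat_lit 1251)) (.leaf (nat_lit 717636))) (.leaf (nat_lit 1196140)))) (.node (.node (.node (.leaf (nat_lit 868)) (.leaf (nat_lit 158773))) (.leaf (nat_lit 818978))) (.node (.leaf (nat_lit 802056)) (.leaf (nat_lit 2581)))))))) (.node (.node (.node (.node (.node (.node (.node (.leaf (nat_lit 63)) (.leaf (nat_lit 598438))) (.leaf (nat_lit 1638))) (.node (.node (.leaf (nat_lit 938)) (.leaf (nat_lit 1171593))) (.leaf (nat_lit 242240)))) (.node (.node (.node (.leaf (nat_lit 524)) (.leaf (nat_lit 2755))) (.leaf (nat_lit 837126))) (.node (.node (.leaf (nat_lit 1319)) (.leaf (nat_lit 1180497))) (.leaf (nat_lit 2430))))) (.node (.node (.node (.node (.leaf (nat_lit 302)) (.leaf (nat_lit 2689))) (.leaf (nat_lit 898595))) (.node (.node (.leaf (nat_lit 1141)) (.leaf (nat_lit 759579))) (.leaf (nat_lit 2330)))) (.node (.node (.node (.leaf (nat_lit 738)) (.leaf (nat_lit 2803))) (.leaf (nat_lit 557704))) (.node (.leaf (nat_lit 1485)) (.leaf (nat_lit 2523)))))) (.node (.node (.node (.node (.node (.leaf (nat_lit 185)) (.leaf (nat_lit 1240369))) (.leaf (nat_lit 360049))) (.node (.node (.leaf (nat_lit 1042)) (.leaf (nat_lit 812840))) (.leaf (nat_lit 21383)))) (.node (.node (.node (.leaf (nat_lit 629)) (.leaf (nat_lit 2778))) (.leaf (nat_lit 2012))) (.node (.leaf (nat_lit 1399)) (.leaf (nat_lit 306244))))) (.node (.node (.node (.node (.leaf (nat_lit 415)) (.leaf (nat_lit 1266896))) (.leaf (nat_lit 1862))) (.node (.node (.leaf (nat_lit 351667)) (.leaf (nat_lit 122162))) (.leaf (nat_lit 805566)))) (.node (.node (.node (.leaf (nat_lit 841)) (.leaf (nat_lit 265537))) (.leaf (nat_lit 2142))) (.node (.leaf (nat_lit 1558)) (.leaf (nat_lit 1198730))))))) (.node (.node (.node (.node (.node (.node (.leaf (nat_lit 124)) (.leaf (nat_lit 605564))) (.leaf (nat_lit 1682))) (.node (.node (.leaf (nat_lit 1239104)) (.leaf (nat_lit 73604))) (.leaf (nat_lit 1130227)))) (.node (.node (.node (.leaf (nat_lit 576)) (.leaf (nat_lit 1140286))) (.leaf (nat_lit 1973))) (.node (.node (.leaf (nat_lit 487902)) (.leaf (nat_lit 480563))) (.leaf (nat_lit 1284984))))) (.node (.node (.node (.node (.leaf (nat_lit 360)) (.leaf (nat_lit 1250536))) (.leaf (nat_lit 35998))) (.node (.node (.leaf (nat_lit 1184)) (.leaf (nat_lit 1208130))) (.leaf (nat_lit 699076)))) (.node (.node (.node (.leaf (nat_lit 792)) (.leaf (nat_lit 1484))) (.leaf (nat_lit 1224211))) (.node (.leaf (nat_lit 1521)) (.leaf (nat_lit 121427)))))) (.node (.node (.node (.node (.node (.leaf (nat_lit 245)) (.leaf (nat_lit 255034))) (.leaf (nat_lit 1135669))) (.node (.node (.leaf (nat_lit 1092)) (.leaf (nat_lit 1005086))) (.leaf (nat_lit 349833)))) (.node (.node (.node (.leaf (nat_lit 1212855)) (.leaf (nat_lit 1146134))) (.leaf (nat_lit 2051))) (.node (.leaf (nat_lit 1446)) (.leaf (nat_lit 999741))))) (.node (.node (.node (.node (.leaf (nat_lit 470)) (.leaf (nat_lit 1269655))) (.leaf (nat_lit 1899))) (.node (.node (.leaf (nat_lit 781105)) (.leaf (nat_lit 1163416))) (.leaf (nat_lit 2404)))) (.node (.node (.node (.leaf (nat_lit 894)) (.leaf (nat_lit 266963))) (.leaf (nat_lit 95195))) (.node (.leaf (nat_lit 228732)) (.leaf (nat_lit 707153))))))))))))))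

noncomputable def c_s1 : NT := (.node (.leaf (nat_lit 22300756001109387311276010310003390243147777)) (.leaf (nat_lit 22300755853128857515708246582071079916044800)))

noncomputable def c_t1 : NT := (.node (.node (.node (.node (.leaf (nat_lit 22300746527758698154618827807557359968976897)) (.leaf (nat_lit 22300745365013711944795524137342444440388104))) (.node (.leaf (nat_lit 22300756019282427399075667117725222139072512)) (.leaf (nat_lit 22300757348871069954149334583455463271305801)))) (.node (.node (.leaf (nat_lit 22300755853128857515708246582071079916044800)) (.leaf (nat_lit 22300757327741244415433020869794945476887113))) (.leaf (nat_lit 22300745198860213535837329810247967477596672)))) (.node (.node (.node (.leaf (nat_lit 22300756001109387311276010310003390243147777)) (.leaf (nat_lit 22300745201126782712264150909340193801896001))) (.node (.leaf (nat_lit 22300745388420247516903733630211410433966081)) (.leaf (nat_lit 22300755835281051220460046176553422794522632)))) (.node (.node (.leaf (nat_lit 22300745219630033714194913047406134887186441)) (.leaf (nat_lit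 22300757161582675752207434953410958145650696))) (.leaf (nat_lit 22300746530359839215747586071456024564334656)))))

noncomputable def c_P1 : NT := (.node (.node (.node (.node (.leaf (nat_lit 0)) (.leaf (nat_lit 9))) (.node (.leaf (nat_lit 5)) (.leaf (nat_lit 15)))) (.node (.node (.leaf (nat_lit 1)) (.leaf (nat_lit 11))) (.leaf (nat_lit 7)))) (.node (.node (.node (.leaf (nat_lit 0)) (.leaf (nat_lit 10))) (.node (.leaf (nat_lit 6)) (.leaf (nat_lit 19)))) (.node (.node (.leaf (nat_lit 2)) (.leaf (nat_lit 13))) (.leaf (nat_lit 8)))))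

noncomputable def c_H1 : NT := (.node (.node (.node (.node (.node (.leaf (nat_lit 1)) (.leaf (nat_lit 130))) (.node (.leaf (nat_lit 7)) (.leaf (nat_lit 212)))) (.node (.node (.leaf (nat_lit 196)) (.leaf (nat_lit 167))) (.leaf (nat_lit 192)))) (.node (.node (.node (.leaf (nat_lit 3)) (.leaf (nat_lit 194))) (.node (.leaf (nat_lit 9)) (.leaf (nat_lit 176)))) (.node (.node (.leaf (nat_lit 5)) (.leaf (nat_lit 160))) (.leaf (nat_lit 263))))) (.node (.node (.node (.node (.leaf (nat_lit 2)) (.leaf (nat_lit 131))) (.node (.leaf (nat_lit 8)) (.leaf (nat_lit 149)))) (.node (.node (.leaf (nat_lit 4)) (.leaf (nat_lit 239))) (.leaf (nat_lit 11)))) (.node (.node (.node (.leaf (nat_lit 14)) (.leaf (nat_lit 13))) (.node (.leaf (nat_lit 10)) (.leaf (nat_lit 101)))) (.node (.node (.leaf (nat_lit 6)) (.leaf (nat_lit 91))) (.leaf (nat_lit 12))))))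

noncomputable def c_s2 : NT := (.node (.leaf (nat_lit 22300746551494199309178477937398418631856649)) (.leaf (nat_lit 22300745221895968930228144149991604078252544)))

noncomputable def c_t2 : NT := (.node (.node (.node (.node (.node (.leaf (nat_lit 22300746527758698154618827807557359968976897)) (.leaf (nat_lit 22300757161582664436363662677243100561408001))) (.node (.leaf (nat_lit 22300755855725005809538188658824265028604416)) (.leaf (nat_lit 22300757185318165588505460014932846511952393)))) (.node (.node (.leaf (nat_lit 22300755832724744791575072614105961011118088)) (.leaf (nat_lit 22300746551494199311596328423705622618345993))) (.node (.leaf (nat_lit 22300755855725005811956041450975577740939776)) (.leaf (nat_lit 22300746527763768759437593517314109738057729))))) (.node (.node (.node (.leaf (nat_lit 22300745221895968930228144149991604078252544)) (.leaf (nat_lit 22300755832719674189174159696499424442220552))) (.node (.leaf (nat_lit 22300757185313094986104547097327409454682633)) (.leaf (nat_lit 22300755832724744789157222127797657512476680)))) (.node (.node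 (.leaf (nat_lit 22300757161587735036346725108541333631664129)) (.leaf (nat_lit 22300745221895968927810293663683300580135424))) (.node (.leaf (nat_lit 22300755832719674186756309210192220455731208)) (.leaf (nat_lit 22300746551489128709195415506100185561600521)))))) (.node (.node (.node (.node (.leaf (nat_lit 22300746551494199309178477937398418631856649)) (.leaf (nat_lit 22300745198895707909847177618964996562124808))) (.node (.leaf (nat_lit 22300745221901039530211206581289837148508672)) (.leaf (nat_lit 22300746527763768757019740725163896537874433)))) (.node (.node (.leaf (nat_lit 22300745198900778512248090536570433619394568)) (.leaf (nat_lit 22300757185318165590923312807084159223763465))) (.node (.leaf (nat_lit 22300745198895707907429324826813683850313736)) (.leaf (nat_lit 22300745221901039532629057067597041135522304))))) (.node (.node (.node (.leaf (nat_lit 22300757161587735038764575594849637129781249)) (.leaf (nat_lit 22300755855719935209555128533369041172042240))) (.node (.leaf (nat_lit 22300746551489128706777565019791882062959113)) (.leaf (nat_lit 22300745198900778509830237744420220418686984))))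 (.node (.node (.leaf (nat_lit 22300757185313094988522399889477622655390217)) (.leaf (nat_lit 22300755855719935207137275741218827971858944))) (.node (.leaf (nat_lit 22300746527758698157036680599708672681312257)) (.leaf (nat_lit 22300757161582664433945812190935896574394369)))))))

noncomputable def c_P2 : NT := (.node (.node (.node (.node (.node (.leaf (nat_lit 0)) (.leaf (nat_lit 19))) (.node (.leaf (nat_lit 7)) (.leaf (nat_lit 37)))) (.node (.node (.leaf (nat_lit 3)) (.leaf (nat_lit 27))) (.node (.leaf (nat_lit 13)) (.leaf (nat_lit 47))))) (.node (.node (.node (.leaf (nat_lit 1)) (.leaf (nat_lit 23))) (.node (.leaf (nat_lit 9)) (.leaf (nat_lit 41)))) (.node (.node (.leaf (nat_lit 5)) (.leaf (nat_lit 31))) (.node (.leaf (nat_lit 16)) (.leaf (nat_lit 55)))))) (.node (.node (.node (.node (.leaf (nat_lit 0)) (.leaf (nat_lit 21))) (.node (.leaf (nat_lit 8)) (.leaf (nat_lit 39)))) (.node (.node (.leaf (nat_lit 4)) (.leaf (nat_lit 29))) (.node (.leaf (nat_lit 15)) (.leaf (nat_lit 51))))) (.node (.node (.node (.leaf (nat_lit 2)) (.leaf (nat_lit 26))) (.node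 (.leaf (nat_lit 11)) (.leaf (nat_lit 43)))) (.node (.node (.leaf (nat_lit 6)) (.leaf (nat_lit 33))) (.node (.leaf (nat_lit 17)) (.leaf (nat_lit 59)))))))

noncomputable def c_H2 : NT := (.node (.node (.node (.node (.node (.node (.leaf (nat_lit 1)) (.leaf (nat_lit 21))) (.node (.leaf (nat_lit 14)) (.leaf (nat_lit 28)))) (.node (.node (.leaf (nat_lit 9)) (.leaf (nat_lit 6))) (.node (.leaf (nat_lit 18)) (.leaf (nat_lit 30))))) (.node (.node (.node (.leaf (nat_lit 5)) (.leaf (nat_lit 22))) (.node (.leaf (nat_lit 15)) (.leaf (nat_lit 29)))) (.node (.node (.leaf (nat_lit 10)) (.leaf (nat_lit 27))) (.node (.leaf (nat_lit 2)) (.leaf (nat_lit 31)))))) (.node (.node (.node (.node (.leaf (nat_lit 3)) (.leaf (nat_lit 23))) (.node (.leaf (nat_lit 13)) (.leaf (nat_lit 11)))) (.node (.node (.leaf (nat_lit 8)) (.leaf (nat_lit 25))) (.node (.leaf (nat_lit 19)) (.leaf (nat_lit 17))))) (.node (.node (.node (.leaf (nat_lit 7)) (.leaf (nat_lit 4))) (.node (.leaf (nat_lit 16)) (.leaf (nat_lit 12)))) (.node (.node (.leaf (nat_lit 0)) (.leaf (nat_lit 26))) (.node (.leaf (nat_lit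 20)) (.leaf (nat_lit 24))))))) (.node (.node (.node (.node (.node (.leaf (nat_lit 2)) (.leaf (nat_lit 23))) (.node (.leaf (nat_lit 15)) (.leaf (nat_lit 5)))) (.node (.node (.leaf (nat_lit 10)) (.leaf (nat_lit 26))) (.node (.leaf (nat_lit 0)) (.leaf (nat_lit 9))))) (.node (.node (.node (.leaf (nat_lit 6)) (.leaf (nat_lit 24))) (.node (.leaf (nat_lit 17)) (.leaf (nat_lit 7)))) (.node (.node (.leaf (nat_lit 12)) (.leaf (nat_lit 3))) (.node (.leaf (nat_lit 21)) (.leaf (nat_lit 14)))))) (.node (.node (.node (.node (.leaf (nat_lit 4)) (.leaf (nat_lit 1))) (.node (.leaf (nat_lit 16)) (.leaf (nat_lit 29)))) (.node (.node (.leaf (nat_lit 11)) (.leaf (nat_lit 27))) (.node (.leaf (nat_lit 20)) (.leaf (nat_lit 31))))) (.node (.node (.node (.leaf (nat_lit 8)) (.leaf (nat_lit 25))) (.node (.leaf (nat_lit 18)) (.leaf (nat_lit 30)))) (.node (.node (.leaf (nat_lit 13)) (.leaf (nat_lit 28))) (.node (.leaf (nat_lit 22)) (.leaf (nat_lit 19))))))))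

noncomputable def c_lv3 : List (ℕ × NT) := []

noncomputable def c_lv2 : List (ℕ × NT) := (nat_lit 32, c_t2) :: c_lv3

noncomputable def c_lv1 : List (ℕ × NT) := (nat_lit 14, c_t1) :: c_lv2

noncomputable def c_lv0 : List (ℕ × NT) := (nat_lit 2880, c_t0) :: c_lv1

theorem c_valid0 : MM.Valid 2 c_s0 := by
  intro a ha
  interval_cases a
  · obtain ⟨x, hx⟩ := exists_GL_of_check MM_ok (mask := 7) (a := 22300746551489762377334656559817676638425673) (b := 22300757351431643545420502034788892750643209) (by decide +kernel)
    exact ⟨x, (enc_eq x).trans (hx.trans (by decide +kernel)), isOfFinOrder_of_finite _⟩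
  · obtain ⟨x, hx⟩ := exists_GL_of_check MM_ok (mask := 7) (a := 22300756022239232347278103793845535317987912) (b := 22300746530354768748746364952905128276394049) (by decide +kernel)
    exact ⟨x, (enc_eq x).trans (hx.trans (by decide +kernel)), isOfFinOrder_of_finite _⟩

noncomputable def c_W0 : NT := (.node (.leaf (nat_lit 9254806550)) (.leaf (nat_lit 9235178185)))

theorem c_sub0 : MM.subCheck 2 c_s0 2 c_s1 c_W0 22 = true := by decide +kernel

theorem c_mem0 : ∀ a, a < 2 → MM.Mem (MM.gen 2 c_s0) (c_s1.get a) :=
  Model.mem_of_subCheck (by norm_num) (fun _ ha => c_valid0.mem_gen ha) c_sub0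

theorem c_le0 : MM.gen 2 c_s1 ≤ MM.gen 2 c_s0 := Model.gen_le c_mem0

theorem c_valid1 : MM.Valid 2 c_s1 := Model.valid_of_mem c_mem0

noncomputable def c_W1 : NT := (.node (.leaf (nat_lit 5)) (.leaf (nat_lit 68)))

theorem c_sub1 : MM.subCheck 2 c_s1 2 c_s2 c_W1 5 = true := by decide +kernel

theorem c_mem1 : ∀ a, a < 2 → MM.Mem (MM.gen 2 c_s1) (c_s2.get a) :=
  Model.mem_of_subCheck (by norm_num) (fun _ ha => c_valid1.mem_gen ha) c_sub1

theorem c_le1 : MM.gen 2 c_s2 ≤ MM.gen 2 c_s1 := Model.gen_le c_mem1

theorem c_valid2 : MM.Valid 2 c_s2 := Model.valid_of_mem c_mem1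

theorem c_le2 : ⊥ ≤ MM.gen 2 c_s2 := bot_le

theorem c_chain3 : MM.Chain ⊥ c_lv3 := MM.chain_bot

theorem c_tree2 : allLt 32 (MM.treeF 2 c_s2 c_t2 c_P2) = true := by decide +kernel

theorem c_sch2 : allLt (32 * 2) (MM.schF 2 c_s2 32 c_t2 c_lv3 c_H2) = true := by decide +kernel

theorem c_chain2 : MM.Chain (MM.gen 2 c_s2) c_lv2 :=
  Model.chain_cons (by norm_num) c_valid2 c_chain3 c_le2 (by norm_num) c_tree2 c_sch2

theorem c_tmem2 : ∀ j, j < 32 → MM.Mem (MM.gen 2 c_s2) (c_t2.get j) :=
  Model.mem_of_treeF (by norm_num) (fun _ ha => c_valid2.mem_gen ha) c_tree2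

theorem c_tree1 : allLt 14 (MM.treeF 2 c_s1 c_t1 c_P1) = true := by decide +kernel

theorem c_sch1 : allLt (14 * 2) (MM.schF 2 c_s1 14 c_t1 c_lv2 c_H1) = true := by decide +kernel

theorem c_chain1 : MM.Chain (MM.gen 2 c_s1) c_lv1 :=
  Model.chain_cons (by norm_num) c_valid1 c_chain2 c_le1 (by norm_num) c_tree1 c_sch1

theorem c_tmem1 : ∀ j, j < 14 → MM.Mem (MM.gen 2 c_s1) (c_t1.get j) :=
  Model.mem_of_treeF (by norm_num) (fun _ ha => c_valid1.mem_gen ha) c_tree1

theorem c_tree0_0 : allR 0 1000 (MM.treeF 2 c_s0 c_t0 c_P0) = true := by decide +kernel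

theorem c_tree0_1 : allR 1000 1000 (MM.treeF 2 c_s0 c_t0 c_P0) = true := by decide +kernel

theorem c_tree0_2 : allR 2000 880 (MM.treeF 2 c_s0 c_t0 c_P0) = true := by decide +kernel

theorem c_tree0 : allLt 2880 (MM.treeF 2 c_s0 c_t0 c_P0) = true := by
  have h0 := c_tree0_0
  have h1 : allR 0 2000 (MM.treeF 2 c_s0 c_t0 c_P0) = true := allR_append (lo := 0) (a := 1000) (b := 1000) h0 c_tree0_1
  have h2 : allR 0 2880 (MM.treeF 2 c_s0 c_t0 c_P0) = true := allR_append (lo := 0) (a := 2000) (b := 880) h1 c_tree0_2
  exact allLt_of_allR_zero h2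

theorem c_sch0_0 : allR 0 1000 (MM.schF 2 c_s0 2880 c_t0 c_lv1 c_H0) = true := by decide +kernel

theorem c_sch0_1 : allR 1000 1000 (MM.schF 2 c_s0 2880 c_t0 c_lv1 c_H0) = true := by decide +kernel

theorem c_sch0_2 : allR 2000 1000 (MM.schF 2 c_s0 2880 c_t0 c_lv1 c_H0) = true := by decide +kernel

theorem c_sch0_3 : allR 3000 1000 (MM.schF 2 c_s0 2880 c_t0 c_lv1 c_H0) = true := by decide +kernel

theorem c_sch0_4 : allR 4000 1000 (MM.schF 2 c_s0 2880 c_t0 c_lv1 c_H0) = true := by decide +kernel

theorem c_sch0_5 : allR 5000 760 (MM.schF 2 c_s0 2880 c_t0 c_lv1 c_H0) = true := by decide +kernel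

theorem c_sch0 : allLt (2880 * 2) (MM.schF 2 c_s0 2880 c_t0 c_lv1 c_H0) = true := by
  have h0 := c_sch0_0
  have h1 : allR 0 2000 (MM.schF 2 c_s0 2880 c_t0 c_lv1 c_H0) = true := allR_append (lo := 0) (a := 1000) (b := 1000) h0 c_sch0_1
  have h2 : allR 0 3000 (MM.schF 2 c_s0 2880 c_t0 c_lv1 c_H0) = true := allR_append (lo := 0) (a := 2000) (b := 1000) h1 c_sch0_2
  have h3 : allR 0 4000 (MM.schF 2 c_s0 2880 c_t0 c_lv1 c_H0) = true := allR_append (lo := 0) (a := 3000) (b := 1000) h2 c_sch0_3
  have h4 : allR 0 5000 (MM.schF 2 c_s0 2880 c_t0 c_lv1 c_H0) = true := allR_append (lo := 0) (a := 4000) (b := 1000) h3 c_sch0_4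
  have h5 : allR 0 5760 (MM.schF 2 c_s0 2880 c_t0 c_lv1 c_H0) = true := allR_append (lo := 0) (a := 5000) (b := 760) h4 c_sch0_5
  exact allLt_of_allR_zero h5

theorem c_chain0 : MM.Chain (MM.gen 2 c_s0) c_lv0 :=
  Model.chain_cons (by norm_num) c_valid0 c_chain1 c_le0 (by norm_num) c_tree0 c_sch0

theorem c_tmem0 : ∀ j, j < 2880 → MM.Mem (MM.gen 2 c_s0) (c_t0.get j) :=
  Model.mem_of_treeF (by norm_num) (fun _ ha => c_valid0.mem_gen ha) c_tree0

noncomputable def d_reps : NT := (.node (.node (.node (.node (.node (.leaf (nat_lit 0)) (.leaf (nat_lit 57))) (.leaf (nat_lit 13))) (.node (.node (.leaf (nat_lit 6)) (.leaf (nat_lit 225))) (.leaf (nat_lit 21)))) (.node (.node (.node (.leaf (nat_lit 2)) (.leaf (nat_lit 101))) (.leaf (nat_lit 18))) (.node (.leaf (nat_lit 9)) (.leaf (nat_lit 30))))) (.node (.node (.node (.node (.leaf (nat_lit 1)) (.leaf (nat_lit 82))) (.leaf (nat_lit 15))) (.node (.node (.leaf (nat_lit 7)) (.leaf (nat_lit 349))) (.leaf (nat_lit 28)))) (.node (.node (.node (.leaf (nat_lit 3)) (.leaf (nat_lit 192))) (.leaf (nat_lit 20))) (.node (.leaf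 (nat_lit 11)) (.leaf (nat_lit 33))))))

noncomputable def d_ord : NT := (.node (.node (.node (.node (.node (.node (.node (.node (.node (.node (.node (.node (.leaf (nat_lit 0)) (.leaf (nat_lit 9))) (.leaf (nat_lit 7))) (.node (.node (.leaf (nat_lit 7)) (.leaf (nat_lit 7))) (.leaf (nat_lit 8)))) (.node (.node (.node (.leaf (nat_lit 3)) (.leaf (nat_lit 9))) (.leaf (nat_lit 6))) (.node (.node (.leaf (nat_lit 6)) (.leaf (nat_lit 8))) (.leaf (nat_lit 6))))) (.node (.node (.node (.node (.leaf (nat_lit 9)) (.leaf (nat_lit 8))) (.leaf (nat_lit 6))) (.node (.node (.leaf (nat_lit 3)) (.leaf (nat_lit 7))) (.leaf (nat_lit 8)))) (.node (.node (.node (.leaf (nat_lit 5)) (.leaf (nat_lit 4))) (.leaf (nat_lit 7))) (.node (.leaf (nat_lit 9)) (.leaf (nat_lit 8)))))) (.node (.node (.node (.node (.node (.leaf (nat_lit 8)) (.leaf (nat_lit 4))) (.leaf (nat_lit 4))) (.node (.node (.leaf (nat_lit 6)) (.leaf (nat_lit 8))) (.leaf (nat_lit 6)))) (.node (.node (.node (.leaf (nat_lit 6)) (.leaf (nat_lit 6))) (.leaf (nat_lit 1))) (.node (.leaf (nat_lit 3)) (.leaf (nat_lit 5))))) (.node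 (.node (.node (.node (.leaf (nat_lit 0)) (.leaf (nat_lit 5))) (.leaf (nat_lit 7))) (.node (.node (.leaf (nat_lit 7)) (.leaf (nat_lit 5))) (.leaf (nat_lit 7)))) (.node (.node (.node (.leaf (nat_lit 6)) (.leaf (nat_lit 5))) (.leaf (nat_lit 8))) (.node (.leaf (nat_lit 4)) (.leaf (nat_lit 8))))))) (.node (.node (.node (.node (.node (.node (.leaf (nat_lit 5)) (.leaf (nat_lit 5))) (.leaf (nat_lit 5))) (.node (.node (.leaf (nat_lit 8)) (.leaf (nat_lit 6))) (.leaf (nat_lit 5)))) (.node (.node (.node (.leaf (nat_lit 8)) (.leaf (nat_lit 8))) (.leaf (nat_lit 6))) (.node (.node (.leaf (nat_lit 8)) (.leaf (nat_lit 7))) (.leaf (nat_lit 6))))) (.node (.node (.node (.node (.leaf (nat_lit 7)) (.leaf (nat_lit 9))) (.leaf (nat_lit 7))) (.node (.node (.leaf (nat_lit 5)) (.leaf (nat_lit 8))) (.leaf (nat_lit 8)))) (.node (.node (.node (.leaf (nat_lit 8)) (.leaf (nat_lit 7))) (.leaf (nat_lit 4))) (.node (.leaf (nat_lit 7)) (.leaf (nat_lit 8)))))) (.node (.node (.node (.node (.node (.leaf (nat_lit 7)) (.leaf (nat_lit 5))) (.leaf (nat_lit 4))) (.node (.node (.leaf (nat_lit 7))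 (.leaf (nat_lit 5))) (.leaf (nat_lit 8)))) (.node (.node (.node (.leaf (nat_lit 8)) (.leaf (nat_lit 4))) (.leaf (nat_lit 9))) (.node (.leaf (nat_lit 6)) (.leaf (nat_lit 7))))) (.node (.node (.node (.node (.leaf (nat_lit 8)) (.leaf (nat_lit 6))) (.leaf (nat_lit 8))) (.node (.node (.leaf (nat_lit 5)) (.leaf (nat_lit 9))) (.leaf (nat_lit 6)))) (.node (.node (.node (.leaf (nat_lit 5)) (.leaf (nat_lit 7))) (.leaf (nat_lit 5))) (.node (.leaf (nat_lit 4)) (.leaf (nat_lit 8)))))))) (.node (.node (.node (.node (.node (.node (.node (.leaf (nat_lit 5)) (.leaf (nat_lit 7))) (.leaf (nat_lit 8))) (.node (.node (.leaf (nat_lit 7)) (.leaf (nat_lit 8))) (.leaf (nat_lit 6)))) (.node (.node (.node (.leaf (nat_lit 4)) (.leaf (nat_lit 7))) (.leaf (nat_lit 8))) (.node (.node (.leaf (nat_lit 3)) (.leaf (nat_lit 8))) (.leaf (nat_lit 5))))) (.node (.node (.node (.node (.leaf (nat_lit 4)) (.leaf (nat_lit 9))) (.leaf (nat_lit 6))) (.node (.node (.leaf (nat_lit 3)) (.leaf (nat_lit 7))) (.leaf (nat_lit 3)))) (.node (.node (.node (.leaf (nat_lit 7)) (.leaf (nat_lit 7))) (.leaf (nat_lit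 8))) (.node (.leaf (nat_lit 8)) (.leaf (nat_lit 8)))))) (.node (.node (.node (.node (.node (.leaf (nat_lit 9)) (.leaf (nat_lit 2))) (.leaf (nat_lit 5))) (.node (.node (.leaf (nat_lit 7)) (.leaf (nat_lit 9))) (.leaf (nat_lit 8)))) (.node (.node (.node (.leaf (nat_lit 8)) (.leaf (nat_lit 8))) (.leaf (nat_lit 6))) (.node (.leaf (nat_lit 5)) (.leaf (nat_lit 9))))) (.node (.node (.node (.node (.leaf (nat_lit 7)) (.leaf (nat_lit 5))) (.leaf (nat_lit 8))) (.node (.node (.leaf (nat_lit 5)) (.leaf (nat_lit 8))) (.leaf (nat_lit 7)))) (.node (.node (.node (.leaf (nat_lit 6)) (.leaf (nat_lit 7))) (.leaf (nat_lit 8))) (.node (.leaf (nat_lit 6)) (.leaf (nat_lit 7))))))) (.node (.node (.node (.node (.node (.node (.leaf (nat_lit 8)) (.leaf (nat_lit 8))) (.leaf (nat_lit 8))) (.node (.node (.leaf (nat_lit 5)) (.leaf (nat_lit 7))) (.leaf (nat_lit 6)))) (.node (.node (.node (.leaf (nat_lit 3)) (.leaf (nat_lit 8))) (.leaf (nat_lit 6))) (.node (.node (.leaf (nat_lit 4)) (.leaf (nat_lit 8))) (.leaf (nat_lit 7))))) (.node (.node (.node (.node (.leaf (nat_lit 6)) (.leaf (nat_lit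 8))) (.leaf (nat_lit 6))) (.node (.node (.leaf (nat_lit 1)) (.leaf (nat_lit 7))) (.leaf (nat_lit 7)))) (.node (.node (.node (.leaf (nat_lit 8)) (.leaf (nat_lit 4))) (.leaf (nat_lit 6))) (.node (.leaf (nat_lit 7)) (.leaf (nat_lit 5)))))) (.node (.node (.node (.node (.node (.leaf (nat_lit 7)) (.leaf (nat_lit 6))) (.leaf (nat_lit 7))) (.node (.node (.leaf (nat_lit 6)) (.leaf (nat_lit 9))) (.leaf (nat_lit 6)))) (.node (.node (.node (.leaf (nat_lit 7)) (.leaf (nat_lit 6))) (.leaf (nat_lit 3))) (.node (.leaf (nat_lit 6)) (.leaf (nat_lit 8))))) (.node (.node (.node (.node (.leaf (nat_lit 9)) (.leaf (nat_lit 6))) (.leaf (nat_lit 4))) (.node (.node (.leaf (nat_lit 5)) (.leaf (nat_lit 3))) (.leaf (nat_lit 4)))) (.node (.node (.node (.leaf (nat_lit 8)) (.leaf (nat_lit 5))) (.leaf (nat_lit 8))) (.node (.leaf (nat_lit 8)) (.leaf (nat_lit 8))))))))) (.node (.node (.node (.node (.node (.node (.node (.node (.leaf (nat_lit 6)) (.leaf (nat_lit 8))) (.leaf (nat_lit 8))) (.node (.node (.leaf (nat_lit 3)) (.leaf (nat_lit 1))) (.leaf (nat_lit 6)))) (.node (.node (.node (.leaf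 (nat_lit 6)) (.leaf (nat_lit 8))) (.leaf (nat_lit 7))) (.node (.node (.leaf (nat_lit 7)) (.leaf (nat_lit 5))) (.leaf (nat_lit 5))))) (.node (.node (.node (.node (.leaf (nat_lit 2)) (.leaf (nat_lit 7))) (.leaf (nat_lit 7))) (.node (.node (.leaf (nat_lit 7)) (.leaf (nat_lit 7))) (.leaf (nat_lit 8)))) (.node (.node (.node (.leaf (nat_lit 8)) (.leaf (nat_lit 7))) (.leaf (nat_lit 7))) (.node (.leaf (nat_lit 7)) (.leaf (nat_lit 7)))))) (.node (.node (.node (.node (.node (.leaf (nat_lit 8)) (.leaf (nat_lit 9))) (.leaf (nat_lit 6))) (.node (.node (.leaf (nat_lit 8)) (.leaf (nat_lit 8))) (.leaf (nat_lit 7)))) (.node (.node (.node (.leaf (nat_lit 5)) (.leaf (nat_lit 4))) (.leaf (nat_lit 7))) (.node (.leaf (nat_lit 2)) (.leaf (nat_lit 7))))) (.node (.node (.node (.node (.leaf (nat_lit 6)) (.leaf (nat_lit 3))) (.leaf (nat_lit 6))) (.node (.node (.leaf (nat_lit 7)) (.leaf (nat_lit 6))) (.leaf (nat_lit 8)))) (.node (.node (.node (.leaf (nat_lit 8)) (.leaf (nat_lit 6))) (.leaf (nat_lit 3))) (.node (.leaf (nat_lit 8)) (.leaf (nat_lit 6))))))) (.node (.node (.node (.node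 (.node (.node (.leaf (nat_lit 3)) (.leaf (nat_lit 9))) (.leaf (nat_lit 8))) (.node (.node (.leaf (nat_lit 7)) (.leaf (nat_lit 6))) (.leaf (nat_lit 6)))) (.node (.node (.node (.leaf (nat_lit 4)) (.leaf (nat_lit 5))) (.leaf (nat_lit 6))) (.node (.node (.leaf (nat_lit 3)) (.leaf (nat_lit 6))) (.leaf (nat_lit 8))))) (.node (.node (.node (.node (.leaf (nat_lit 8)) (.leaf (nat_lit 4))) (.leaf (nat_lit 4))) (.node (.node (.leaf (nat_lit 7)) (.leaf (nat_lit 9))) (.leaf (nat_lit 7)))) (.node (.node (.node (.leaf (nat_lit 6)) (.leaf (nat_lit 4))) (.leaf (nat_lit 7))) (.node (.leaf (nat_lit 8)) (.leaf (nat_lit 8)))))) (.node (.node (.node (.node (.node (.leaf (nat_lit 8)) (.leaf (nat_lit 7))) (.leaf (nat_lit 8))) (.node (.node (.leaf (nat_lit 9)) (.leaf (nat_lit 7))) (.leaf (nat_lit 7)))) (.node (.node (.node (.leaf (nat_lit 4)) (.leaf (nat_lit 5))) (.leaf (nat_lit 8))) (.node (.leaf (nat_lit 7)) (.leaf (nat_lit 7))))) (.node (.node (.node (.node (.leaf (nat_lit 4)) (.leaf (nat_lit 2))) (.leaf (nat_lit 4))) (.node (.node (.leaf (nat_lit 8)) (.leaf (nat_lit 4)))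 (.leaf (nat_lit 8)))) (.node (.node (.node (.leaf (nat_lit 9)) (.leaf (nat_lit 9))) (.leaf (nat_lit 2))) (.node (.leaf (nat_lit 9)) (.leaf (nat_lit 3)))))))) (.node (.node (.node (.node (.node (.node (.node (.leaf (nat_lit 7)) (.leaf (nat_lit 5))) (.leaf (nat_lit 8))) (.node (.node (.leaf (nat_lit 4)) (.leaf (nat_lit 7))) (.leaf (nat_lit 6)))) (.node (.node (.node (.leaf (nat_lit 4)) (.leaf (nat_lit 8))) (.leaf (nat_lit 8))) (.node (.node (.leaf (nat_lit 6)) (.leaf (nat_lit 7))) (.leaf (nat_lit 7))))) (.node (.node (.node (.node (.leaf (nat_lit 5)) (.leaf (nat_lit 6))) (.leaf (nat_lit 7))) (.node (.node (.leaf (nat_lit 8)) (.leaf (nat_lit 4))) (.leaf (nat_lit 3)))) (.node (.node (.node (.leaf (nat_lit 8)) (.leaf (nat_lit 6))) (.leaf (nat_lit 7))) (.node (.leaf (nat_lit 5)) (.leaf (nat_lit 5)))))) (.node (.node (.node (.node (.node (.leaf (nat_lit 4)) (.leaf (nat_lit 7))) (.leaf (nat_lit 6))) (.node (.node (.leaf (nat_lit 7)) (.leaf (nat_lit 5))) (.leaf (nat_lit 4)))) (.node (.node (.node (.leaf (nat_lit 5)) (.leaf (nat_lit 3))) (.leaf (nat_lit 8))) (.node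 (.leaf (nat_lit 5)) (.leaf (nat_lit 8))))) (.node (.node (.node (.node (.leaf (nat_lit 8)) (.leaf (nat_lit 8))) (.leaf (nat_lit 7))) (.node (.node (.leaf (nat_lit 1)) (.leaf (nat_lit 8))) (.leaf (nat_lit 8)))) (.node (.node (.node (.leaf (nat_lit 7)) (.leaf (nat_lit 9))) (.leaf (nat_lit 8))) (.node (.leaf (nat_lit 8)) (.leaf (nat_lit 7))))))) (.node (.node (.node (.node (.node (.node (.leaf (nat_lit 8)) (.leaf (nat_lit 6))) (.leaf (nat_lit 4))) (.node (.node (.leaf (nat_lit 6)) (.leaf (nat_lit 6))) (.leaf (nat_lit 4)))) (.node (.node (.node (.leaf (nat_lit 5)) (.leaf (nat_lit 8))) (.leaf (nat_lit 4))) (.node (.node (.leaf (nat_lit 6)) (.leaf (nat_lit 8))) (.leaf (nat_lit 7))))) (.node (.node (.node (.node (.leaf (nat_lit 7)) (.leaf (nat_lit 6))) (.leaf (nat_lit 7))) (.node (.node (.leaf (nat_lit 3)) (.leaf (nat_lit 4))) (.leaf (nat_lit 6)))) (.node (.node (.node (.leaf (nat_lit 6)) (.leaf (nat_lit 6))) (.leaf (nat_lit 5))) (.node (.leaf (nat_lit 5)) (.leaf (nat_lit 8)))))) (.node (.node (.node (.node (.node (.leaf (nat_lit 7)) (.leaf (nat_lit 8))) (.leaf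 (nat_lit 7))) (.node (.node (.leaf (nat_lit 8)) (.leaf (nat_lit 7))) (.leaf (nat_lit 8)))) (.node (.node (.node (.leaf (nat_lit 9)) (.leaf (nat_lit 6))) (.leaf (nat_lit 8))) (.node (.leaf (nat_lit 7)) (.leaf (nat_lit 6))))) (.node (.node (.node (.node (.leaf (nat_lit 9)) (.leaf (nat_lit 5))) (.leaf (nat_lit 5))) (.node (.node (.leaf (nat_lit 5)) (.leaf (nat_lit 8))) (.leaf (nat_lit 6)))) (.node (.node (.node (.leaf (nat_lit 7)) (.leaf (nat_lit 7))) (.leaf (nat_lit 2))) (.node (.leaf (nat_lit 6)) (.leaf (nat_lit 6)))))))))) (.node (.node (.node (.node (.node (.node (.node (.node (.node (.leaf (nat_lit 7)) (.leaf (nat_lit 7))) (.leaf (nat_lit 9))) (.node (.node (.leaf (nat_lit 8)) (.leaf (nat_lit 5))) (.leaf (nat_lit 5)))) (.node (.node (.node (.leaf (nat_lit 8)) (.leaf (nat_lit 7))) (.leaf (nat_lit 7))) (.node (.node (.leaf (nat_lit 7)) (.leaf (nat_lit 6))) (.leaf (nat_lit 6))))) (.node (.node (.node (.node (.leaf (nat_lit 7)) (.leaf (nat_lit 7))) (.leaf (nat_lit 6))) (.node (.node (.leaf (nat_lit 7)) (.leaf (nat_lit 8))) (.leaf (nat_lit 4)))) (.node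 (.node (.node (.leaf (nat_lit 5)) (.leaf (nat_lit 7))) (.leaf (nat_lit 8))) (.node (.leaf (nat_lit 8)) (.leaf (nat_lit 7)))))) (.node (.node (.node (.node (.node (.leaf (nat_lit 4)) (.leaf (nat_lit 2))) (.leaf (nat_lit 5))) (.node (.node (.leaf (nat_lit 9)) (.leaf (nat_lit 5))) (.leaf (nat_lit 5)))) (.node (.node (.node (.leaf (nat_lit 2)) (.leaf (nat_lit 6))) (.leaf (nat_lit 8))) (.node (.leaf (nat_lit 7)) (.leaf (nat_lit 6))))) (.node (.node (.node (.node (.leaf (nat_lit 6)) (.leaf (nat_lit 6))) (.leaf (nat_lit 4))) (.node (.node (.leaf (nat_lit 7)) (.leaf (nat_lit 2))) (.leaf (nat_lit 8)))) (.node (.node (.node (.leaf (nat_lit 2)) (.leaf (nat_lit 5))) (.leaf (nat_lit 7))) (.node (.leaf (nat_lit 6)) (.leaf (nat_lit 1))))))) (.node (.node (.node (.node (.node (.node (.leaf (nat_lit 6)) (.leaf (nat_lit 8))) (.leaf (nat_lit 8))) (.node (.node (.leaf (nat_lit 6)) (.leaf (nat_lit 5))) (.leaf (nat_lit 6)))) (.node (.node (.node (.leaf (nat_lit 6)) (.leaf (nat_lit 3))) (.leaf (nat_lit 7))) (.node (.node (.leaf (nat_lit 5)) (.leaf (nat_lit 8))) (.leaf (nat_lit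 7))))) (.node (.node (.node (.node (.leaf (nat_lit 9)) (.leaf (nat_lit 6))) (.leaf (nat_lit 7))) (.node (.node (.leaf (nat_lit 7)) (.leaf (nat_lit 8))) (.leaf (nat_lit 5)))) (.node (.node (.node (.leaf (nat_lit 8)) (.leaf (nat_lit 9))) (.leaf (nat_lit 7))) (.node (.leaf (nat_lit 9)) (.leaf (nat_lit 3)))))) (.node (.node (.node (.node (.node (.leaf (nat_lit 6)) (.leaf (nat_lit 6))) (.leaf (nat_lit 5))) (.node (.node (.leaf (nat_lit 8)) (.leaf (nat_lit 4))) (.leaf (nat_lit 8)))) (.node (.node (.node (.leaf (nat_lit 6)) (.leaf (nat_lit 8))) (.leaf (nat_lit 4))) (.node (.leaf (nat_lit 5)) (.leaf (nat_lit 6))))) (.node (.node (.node (.node (.leaf (nat_lit 1)) (.leaf (nat_lit 5))) (.leaf (nat_lit 9))) (.node (.node (.leaf (nat_lit 5)) (.leaf (nat_lit 6))) (.leaf (nat_lit 7)))) (.node (.node (.node (.leaf (nat_lit 6)) (.leaf (nat_lit 6))) (.leaf (nat_lit 3))) (.node (.leaf (nat_lit 6)) (.leaf (nat_lit 7)))))))) (.node (.node (.node (.node (.node (.node (.node (.leaf (nat_lit 0)) (.leaf (nat_lit 6))) (.leaf (nat_lit 8))) (.node (.node (.leaf (nat_lit 7)) (.leaf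 (nat_lit 8))) (.leaf (nat_lit 6)))) (.node (.node (.node (.leaf (nat_lit 7)) (.leaf (nat_lit 6))) (.leaf (nat_lit 7))) (.node (.node (.leaf (nat_lit 8)) (.leaf (nat_lit 7))) (.leaf (nat_lit 7))))) (.node (.node (.node (.node (.leaf (nat_lit 8)) (.leaf (nat_lit 8))) (.leaf (nat_lit 6))) (.node (.node (.leaf (nat_lit 6)) (.leaf (nat_lit 6))) (.leaf (nat_lit 7)))) (.node (.node (.node (.leaf (nat_lit 6)) (.leaf (nat_lit 7))) (.leaf (nat_lit 4))) (.node (.leaf (nat_lit 6)) (.leaf (nat_lit 7)))))) (.node (.node (.node (.node (.node (.leaf (nat_lit 4)) (.leaf (nat_lit 4))) (.leaf (nat_lit 6))) (.node (.node (.leaf (nat_lit 5)) (.leaf (nat_lit 4))) (.leaf (nat_lit 7)))) (.node (.node (.node (.leaf (nat_lit 7)) (.leaf (nat_lit 3))) (.leaf (nat_lit 8))) (.node (.leaf (nat_lit 4)) (.leaf (nat_lit 8))))) (.node (.node (.node (.node (.leaf (nat_lit 6)) (.leaf (nat_lit 7))) (.leaf (nat_lit 4))) (.node (.node (.leaf (nat_lit 5)) (.leaf (nat_lit 7))) (.leaf (nat_lit 4)))) (.node (.node (.node (.leaf (nat_lit 1)) (.leaf (nat_lit 5))) (.leaf (nat_lit 5))) (.node (.leaf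 (nat_lit 6)) (.leaf (nat_lit 8))))))) (.node (.node (.node (.node (.node (.node (.leaf (nat_lit 2)) (.leaf (nat_lit 4))) (.leaf (nat_lit 7))) (.node (.node (.leaf (nat_lit 7)) (.leaf (nat_lit 4))) (.leaf (nat_lit 6)))) (.node (.node (.node (.leaf (nat_lit 6)) (.leaf (nat_lit 1))) (.leaf (nat_lit 5))) (.node (.node (.leaf (nat_lit 4)) (.leaf (nat_lit 4))) (.leaf (nat_lit 7))))) (.node (.node (.node (.node (.leaf (nat_lit 9)) (.leaf (nat_lit 8))) (.leaf (nat_lit 5))) (.node (.node (.leaf (nat_lit 8)) (.leaf (nat_lit 4))) (.leaf (nat_lit 7)))) (.node (.node (.node (.leaf (nat_lit 9)) (.leaf (nat_lit 8))) (.leaf (nat_lit 4))) (.node (.leaf (nat_lit 8)) (.leaf (nat_lit 8)))))) (.node (.node (.node (.node (.node (.leaf (nat_lit 7)) (.leaf (nat_lit 4))) (.leaf (nat_lit 7))) (.node (.node (.leaf (nat_lit 6)) (.leaf (nat_lit 8))) (.leaf (nat_lit 4)))) (.node (.node (.node (.leaf (nat_lit 5)) (.leaf (nat_lit 3))) (.leaf (nat_lit 6))) (.node (.leaf (nat_lit 5)) (.leaf (nat_lit 6))))) (.node (.node (.node (.node (.leaf (nat_lit 4)) (.leaf (nat_lit 9))) (.leaf (nat_lit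 7))) (.node (.node (.leaf (nat_lit 7)) (.leaf (nat_lit 6))) (.leaf (nat_lit 7)))) (.node (.node (.node (.leaf (nat_lit 5)) (.leaf (nat_lit 6))) (.leaf (nat_lit 8))) (.node (.leaf (nat_lit 5)) (.leaf (nat_lit 7))))))))) (.node (.node (.node (.node (.node (.node (.node (.node (.leaf (nat_lit 6)) (.leaf (nat_lit 4))) (.leaf (nat_lit 9))) (.node (.node (.leaf (nat_lit 8)) (.leaf (nat_lit 4))) (.leaf (nat_lit 5)))) (.node (.node (.node (.leaf (nat_lit 5)) (.leaf (nat_lit 6))) (.leaf (nat_lit 6))) (.node (.node (.leaf (nat_lit 8)) (.leaf (nat_lit 6))) (.leaf (nat_lit 6))))) (.node (.node (.node (.node (.leaf (nat_lit 4)) (.leaf (nat_lit 7))) (.leaf (nat_lit 9))) (.node (.node (.leaf (nat_lit 5)) (.leaf (nat_lit 5))) (.leaf (nat_lit 6)))) (.node (.node (.node (.leaf (nat_lit 7)) (.leaf (nat_lit 7))) (.leaf (nat_lit 1))) (.node (.leaf (nat_lit 4)) (.leaf (nat_lit 7)))))) (.node (.node (.node (.node (.node (.leaf (nat_lit 6)) (.leaf (nat_lit 5))) (.leaf (nat_lit 7))) (.node (.node (.leaf (nat_lit 7)) (.leaf (nat_lit 6))) (.leaf (nat_lit 7)))) (.node (.node (.node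 (.leaf (nat_lit 6)) (.leaf (nat_lit 6))) (.leaf (nat_lit 7))) (.node (.leaf (nat_lit 6)) (.leaf (nat_lit 6))))) (.node (.node (.node (.node (.leaf (nat_lit 7)) (.leaf (nat_lit 3))) (.leaf (nat_lit 3))) (.node (.node (.leaf (nat_lit 5)) (.leaf (nat_lit 8))) (.leaf (nat_lit 6)))) (.node (.node (.node (.leaf (nat_lit 4)) (.leaf (nat_lit 6))) (.leaf (nat_lit 7))) (.node (.leaf (nat_lit 4)) (.leaf (nat_lit 5))))))) (.node (.node (.node (.node (.node (.node (.leaf (nat_lit 7)) (.leaf (nat_lit 9))) (.leaf (nat_lit 5))) (.node (.node (.leaf (nat_lit 7)) (.leaf (nat_lit 6))) (.leaf (nat_lit 4)))) (.node (.node (.node (.leaf (nat_lit 6)) (.leaf (nat_lit 5))) (.leaf (nat_lit 6))) (.node (.node (.leaf (nat_lit 9)) (.leaf (nat_lit 6))) (.leaf (nat_lit 7))))) (.node (.node (.node (.node (.leaf (nat_lit 8)) (.leaf (nat_lit 5))) (.leaf (nat_lit 4))) (.node (.node (.leaf (nat_lit 6)) (.leaf (nat_lit 4))) (.leaf (nat_lit 7)))) (.node (.node (.node (.leaf (nat_lit 5)) (.leaf (nat_lit 3))) (.leaf (nat_lit 7))) (.node (.leaf (nat_lit 8)) (.leaf (nat_lit 5)))))) (.node (.node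 (.node (.node (.node (.leaf (nat_lit 3)) (.leaf (nat_lit 7))) (.leaf (nat_lit 7))) (.node (.node (.leaf (nat_lit 7)) (.leaf (nat_lit 1))) (.leaf (nat_lit 7)))) (.node (.node (.node (.leaf (nat_lit 5)) (.leaf (nat_lit 8))) (.leaf (nat_lit 4))) (.node (.leaf (nat_lit 4)) (.leaf (nat_lit 4))))) (.node (.node (.node (.node (.leaf (nat_lit 6)) (.leaf (nat_lit 1))) (.leaf (nat_lit 8))) (.node (.node (.leaf (nat_lit 8)) (.leaf (nat_lit 7))) (.leaf (nat_lit 8)))) (.node (.node (.node (.leaf (nat_lit 3)) (.leaf (nat_lit 9))) (.leaf (nat_lit 1))) (.node (.leaf (nat_lit 5)) (.leaf (nat_lit 7)))))))) (.node (.node (.node (.node (.node (.node (.node (.leaf (nat_lit 0)) (.leaf (nat_lit 6))) (.leaf (nat_lit 8))) (.node (.node (.leaf (nat_lit 6)) (.leaf (nat_lit 4))) (.leaf (nat_lit 5)))) (.node (.node (.node (.leaf (nat_lit 5)) (.leaf (nat_lit 9))) (.leaf (nat_lit 7))) (.node (.node (.leaf (nat_lit 8)) (.leaf (nat_lit 8))) (.leaf (nat_lit 7))))) (.node (.node (.node (.node (.leaf (nat_lit 5)) (.leaf (nat_lit 4))) (.leaf (nat_lit 4))) (.node (.node (.leaf (nat_lit 9))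 (.leaf (nat_lit 7))) (.leaf (nat_lit 5)))) (.node (.node (.node (.leaf (nat_lit 5)) (.leaf (nat_lit 8))) (.leaf (nat_lit 7))) (.node (.leaf (nat_lit 2)) (.leaf (nat_lit 8)))))) (.node (.node (.node (.node (.node (.leaf (nat_lit 5)) (.leaf (nat_lit 2))) (.leaf (nat_lit 5))) (.node (.node (.leaf (nat_lit 7)) (.leaf (nat_lit 6))) (.leaf (nat_lit 7)))) (.node (.node (.node (.leaf (nat_lit 2)) (.leaf (nat_lit 1))) (.leaf (nat_lit 3))) (.node (.leaf (nat_lit 5)) (.leaf (nat_lit 6))))) (.node (.node (.node (.node (.leaf (nat_lit 9)) (.leaf (nat_lit 7))) (.leaf (nat_lit 8))) (.node (.node (.leaf (nat_lit 7)) (.leaf (nat_lit 7))) (.leaf (nat_lit 4)))) (.node (.node (.node (.leaf (nat_lit 5)) (.leaf (nat_lit 4))) (.leaf (nat_lit 6))) (.node (.leaf (nat_lit 7)) (.leaf (nat_lit 4))))))) (.node (.node (.node (.node (.node (.node (.leaf (nat_lit 7)) (.leaf (nat_lit 6))) (.leaf (nat_lit 7))) (.node (.node (.leaf (nat_lit 4)) (.leaf (nat_lit 7))) (.leaf (nat_lit 5)))) (.node (.node (.node (.leaf (nat_lit 1)) (.leaf (nat_lit 5))) (.leaf (nat_lit 8))) (.node (.node (.leaf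 (nat_lit 4)) (.leaf (nat_lit 8))) (.leaf (nat_lit 7))))) (.node (.node (.node (.node (.leaf (nat_lit 6)) (.leaf (nat_lit 5))) (.leaf (nat_lit 7))) (.node (.node (.leaf (nat_lit 4)) (.leaf (nat_lit 6))) (.leaf (nat_lit 8)))) (.node (.node (.node (.leaf (nat_lit 5)) (.leaf (nat_lit 7))) (.leaf (nat_lit 5))) (.node (.leaf (nat_lit 4)) (.leaf (nat_lit 9)))))) (.node (.node (.node (.node (.node (.leaf (nat_lit 5)) (.leaf (nat_lit 7))) (.leaf (nat_lit 3))) (.node (.node (.leaf (nat_lit 5)) (.leaf (nat_lit 7))) (.leaf (nat_lit 5)))) (.node (.node (.node (.leaf (nat_lit 6)) (.leaf (nat_lit 4))) (.leaf (nat_lit 6))) (.node (.leaf (nat_lit 8)) (.leaf (nat_lit 8))))) (.node (.node (.node (.node (.leaf (nat_lit 9)) (.leaf (nat_lit 8))) (.leaf (nat_lit 6))) (.node (.node (.leaf (nat_lit 5)) (.leaf (nat_lit 8))) (.leaf (nat_lit 6)))) (.node (.node (.node (.leaf (nat_lit 7)) (.leaf (nat_lit 8))) (.leaf (nat_lit 4))) (.node (.leaf (nat_lit 5)) (.leaf (nat_lit 5))))))))))) (.node (.node (.node (.node (.node (.node (.node (.node (.node (.node (.leaf (nat_lit 0)) (.leaf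 (nat_lit 4))) (.leaf (nat_lit 6))) (.node (.node (.leaf (nat_lit 8)) (.leaf (nat_lit 7))) (.leaf (nat_lit 8)))) (.node (.node (.node (.leaf (nat_lit 6)) (.leaf (nat_lit 6))) (.leaf (nat_lit 2))) (.node (.node (.leaf (nat_lit 6)) (.leaf (nat_lit 6))) (.leaf (nat_lit 9))))) (.node (.node (.node (.node (.leaf (nat_lit 5)) (.leaf (nat_lit 1))) (.leaf (nat_lit 4))) (.node (.node (.leaf (nat_lit 3)) (.leaf (nat_lit 7))) (.leaf (nat_lit 6)))) (.node (.node (.node (.leaf (nat_lit 7)) (.leaf (nat_lit 8))) (.leaf (nat_lit 6))) (.node (.leaf (nat_lit 5)) (.leaf (nat_lit 6)))))) (.node (.node (.node (.node (.node (.leaf (nat_lit 7)) (.leaf (nat_lit 8))) (.leaf (nat_lit 6))) (.node (.node (.leaf (nat_lit 9)) (.leaf (nat_lit 6))) (.leaf (nat_lit 7)))) (.node (.node (.node (.leaf (nat_lit 7)) (.leaf (nat_lit 7))) (.leaf (nat_lit 7))) (.node (.leaf (nat_lit 8)) (.leaf (nat_lit 9))))) (.node (.node (.node (.node (.leaf (nat_lit 7)) (.leaf (nat_lit 7))) (.leaf (nat_lit 9))) (.node (.node (.leaf (nat_lit 3)) (.leaf (nat_lit 8))) (.leaf (nat_lit 3)))) (.node (.node (.node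 (.leaf (nat_lit 8)) (.leaf (nat_lit 7))) (.leaf (nat_lit 6))) (.node (.leaf (nat_lit 5)) (.leaf (nat_lit 7))))))) (.node (.node (.node (.node (.node (.node (.leaf (nat_lit 7)) (.leaf (nat_lit 4))) (.leaf (nat_lit 7))) (.node (.node (.leaf (nat_lit 7)) (.leaf (nat_lit 7))) (.leaf (nat_lit 4)))) (.node (.node (.node (.leaf (nat_lit 9)) (.leaf (nat_lit 7))) (.leaf (nat_lit 7))) (.node (.node (.leaf (nat_lit 8)) (.leaf (nat_lit 7))) (.leaf (nat_lit 5))))) (.node (.node (.node (.node (.leaf (nat_lit 3)) (.leaf (nat_lit 7))) (.leaf (nat_lit 2))) (.node (.node (.leaf (nat_lit 7)) (.leaf (nat_lit 8))) (.leaf (nat_lit 7)))) (.node (.node (.node (.leaf (nat_lit 8)) (.leaf (nat_lit 7))) (.leaf (nat_lit 5))) (.node (.leaf (nat_lit 8)) (.leaf (nat_lit 6)))))) (.node (.node (.node (.node (.node (.leaf (nat_lit 7)) (.leaf (nat_lit 7))) (.leaf (nat_lit 4))) (.node (.node (.leaf (nat_lit 5)) (.leaf (nat_lit 3))) (.leaf (nat_lit 4)))) (.node (.node (.node (.leaf (nat_lit 5)) (.leaf (nat_lit 6))) (.leaf (nat_lit 8))) (.node (.leaf (nat_lit 7)) (.leaf (nat_lit 7))))) (.node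 (.node (.node (.node (.leaf (nat_lit 7)) (.leaf (nat_lit 7))) (.leaf (nat_lit 4))) (.node (.node (.leaf (nat_lit 6)) (.leaf (nat_lit 8))) (.leaf (nat_lit 8)))) (.node (.node (.node (.leaf (nat_lit 2)) (.leaf (nat_lit 1))) (.leaf (nat_lit 5))) (.node (.leaf (nat_lit 5)) (.leaf (nat_lit 8)))))))) (.node (.node (.node (.node (.node (.node (.node (.leaf (nat_lit 0)) (.leaf (nat_lit 7))) (.leaf (nat_lit 3))) (.node (.node (.leaf (nat_lit 7)) (.leaf (nat_lit 7))) (.leaf (nat_lit 5)))) (.node (.node (.node (.leaf (nat_lit 8)) (.leaf (nat_lit 6))) (.leaf (nat_lit 7))) (.node (.node (.leaf (nat_lit 3)) (.leaf (nat_lit 6))) (.leaf (nat_lit 7))))) (.node (.node (.node (.node (.leaf (nat_lit 7)) (.leaf (nat_lit 6))) (.leaf (nat_lit 8))) (.node (.node (.leaf (nat_lit 5)) (.leaf (nat_lit 8))) (.leaf (nat_lit 5)))) (.node (.node (.node (.leaf (nat_lit 7)) (.leaf (nat_lit 7))) (.leaf (nat_lit 5))) (.node (.leaf (nat_lit 4)) (.leaf (nat_lit 8)))))) (.node (.node (.node (.node (.node (.leaf (nat_lit 0)) (.leaf (nat_lit 5))) (.leaf (nat_lit 6))) (.node (.node (.leaf (nat_lit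 8)) (.leaf (nat_lit 7))) (.leaf (nat_lit 2)))) (.node (.node (.node (.leaf (nat_lit 6)) (.leaf (nat_lit 8))) (.leaf (nat_lit 6))) (.node (.leaf (nat_lit 7)) (.leaf (nat_lit 6))))) (.node (.node (.node (.node (.leaf (nat_lit 7)) (.leaf (nat_lit 10))) (.leaf (nat_lit 7))) (.node (.node (.leaf (nat_lit 2)) (.leaf (nat_lit 8))) (.leaf (nat_lit 4)))) (.node (.node (.node (.leaf (nat_lit 7)) (.leaf (nat_lit 7))) (.leaf (nat_lit 6))) (.node (.leaf (nat_lit 6)) (.leaf (nat_lit 8))))))) (.node (.node (.node (.node (.node (.node (.leaf (nat_lit 7)) (.leaf (nat_lit 7))) (.leaf (nat_lit 6))) (.node (.node (.leaf (nat_lit 8)) (.leaf (nat_lit 3))) (.leaf (nat_lit 5)))) (.node (.node (.node (.leaf (nat_lit 7)) (.leaf (nat_lit 7))) (.leaf (nat_lit 7))) (.node (.node (.leaf (nat_lit 6)) (.leaf (nat_lit 6))) (.leaf (nat_lit 6))))) (.node (.node (.node (.node (.leaf (nat_lit 8)) (.leaf (nat_lit 4))) (.leaf (nat_lit 5))) (.node (.node (.leaf (nat_lit 6)) (.leaf (nat_lit 7))) (.leaf (nat_lit 2)))) (.node (.node (.node (.leaf (nat_lit 7)) (.leaf (nat_lit 5))) (.leaf (nat_lit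 4))) (.node (.leaf (nat_lit 8)) (.leaf (nat_lit 6)))))) (.node (.node (.node (.node (.node (.leaf (nat_lit 6)) (.leaf (nat_lit 5))) (.leaf (nat_lit 7))) (.node (.node (.leaf (nat_lit 7)) (.leaf (nat_lit 8))) (.leaf (nat_lit 6)))) (.node (.node (.node (.leaf (nat_lit 7)) (.leaf (nat_lit 8))) (.leaf (nat_lit 2))) (.node (.leaf (nat_lit 3)) (.leaf (nat_lit 5))))) (.node (.node (.node (.node (.leaf (nat_lit 7)) (.leaf (nat_lit 8))) (.leaf (nat_lit 7))) (.node (.node (.leaf (nat_lit 7)) (.leaf (nat_lit 5))) (.leaf (nat_lit 7)))) (.node (.node (.node (.leaf (nat_lit 7)) (.leaf (nat_lit 6))) (.leaf (nat_lit 5))) (.node (.leaf (nat_lit 5)) (.leaf (nat_lit 8))))))))) (.node (.node (.node (.node (.node (.node (.node (.node (.leaf (nat_lit 7)) (.leaf (nat_lit 4))) (.leaf (nat_lit 6))) (.node (.node (.leaf (nat_lit 5)) (.leaf (nat_lit 7))) (.leaf (nat_lit 8)))) (.node (.node (.node (.leaf (nat_lit 5)) (.leaf (nat_lit 8))) (.leaf (nat_lit 8))) (.node (.node (.leaf (nat_lit 7)) (.leaf (nat_lit 7))) (.leaf (nat_lit 8))))) (.node (.node (.node (.node (.leaf (nat_lit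 2)) (.leaf (nat_lit 7))) (.leaf (nat_lit 8))) (.node (.node (.leaf (nat_lit 8)) (.leaf (nat_lit 8))) (.leaf (nat_lit 8)))) (.node (.node (.node (.leaf (nat_lit 3)) (.leaf (nat_lit 4))) (.leaf (nat_lit 9))) (.node (.leaf (nat_lit 7)) (.leaf (nat_lit 6)))))) (.node (.node (.node (.node (.node (.leaf (nat_lit 8)) (.leaf (nat_lit 4))) (.leaf (nat_lit 5))) (.node (.node (.leaf (nat_lit 6)) (.leaf (nat_lit 7))) (.leaf (nat_lit 5)))) (.node (.node (.node (.leaf (nat_lit 5)) (.leaf (nat_lit 7))) (.leaf (nat_lit 5))) (.node (.leaf (nat_lit 3)) (.leaf (nat_lit 8))))) (.node (.node (.node (.node (.leaf (nat_lit 3)) (.leaf (nat_lit 7))) (.leaf (nat_lit 4))) (.node (.node (.leaf (nat_lit 7)) (.leaf (nat_lit 5))) (.leaf (nat_lit 8)))) (.node (.node (.node (.leaf (nat_lit 7)) (.leaf (nat_lit 7))) (.leaf (nat_lit 8))) (.node (.leaf (nat_lit 6)) (.leaf (nat_lit 5))))))) (.node (.node (.node (.node (.node (.node (.leaf (nat_lit 6)) (.leaf (nat_lit 5))) (.leaf (nat_lit 7))) (.node (.node (.leaf (nat_lit 7)) (.leaf (nat_lit 6))) (.leaf (nat_lit 7)))) (.node (.node (.node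 (.leaf (nat_lit 6)) (.leaf (nat_lit 8))) (.leaf (nat_lit 9))) (.node (.node (.leaf (nat_lit 7)) (.leaf (nat_lit 6))) (.leaf (nat_lit 5))))) (.node (.node (.node (.node (.leaf (nat_lit 7)) (.leaf (nat_lit 6))) (.leaf (nat_lit 6))) (.node (.node (.leaf (nat_lit 6)) (.leaf (nat_lit 3))) (.leaf (nat_lit 6)))) (.node (.node (.node (.leaf (nat_lit 6)) (.leaf (nat_lit 7))) (.leaf (nat_lit 8))) (.node (.leaf (nat_lit 7)) (.leaf (nat_lit 7)))))) (.node (.node (.node (.node (.node (.leaf (nat_lit 5)) (.leaf (nat_lit 5))) (.leaf (nat_lit 6))) (.node (.node (.leaf (nat_lit 6)) (.leaf (nat_lit 7))) (.leaf (nat_lit 9)))) (.node (.node (.node (.leaf (nat_lit 8)) (.leaf (nat_lit 5))) (.leaf (nat_lit 8))) (.node (.leaf (nat_lit 8)) (.leaf (nat_lit 7))))) (.node (.node (.node (.node (.leaf (nat_lit 4)) (.leaf (nat_lit 9))) (.leaf (nat_lit 6))) (.node (.node (.leaf (nat_lit 4)) (.leaf (nat_lit 6))) (.leaf (nat_lit 8)))) (.node (.node (.node (.leaf (nat_lit 7)) (.leaf (nat_lit 4))) (.leaf (nat_lit 8))) (.node (.leaf (nat_lit 8)) (.leaf (nat_lit 8)))))))) (.node (.node (.node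 (.node (.node (.node (.node (.leaf (nat_lit 6)) (.leaf (nat_lit 7))) (.leaf (nat_lit 6))) (.node (.node (.leaf (nat_lit 8)) (.leaf (nat_lit 4))) (.leaf (nat_lit 8)))) (.node (.node (.node (.leaf (nat_lit 5)) (.leaf (nat_lit 9))) (.leaf (nat_lit 8))) (.node (.node (.leaf (nat_lit 7)) (.leaf (nat_lit 8))) (.leaf (nat_lit 7))))) (.node (.node (.node (.node (.leaf (nat_lit 8)) (.leaf (nat_lit 8))) (.leaf (nat_lit 7))) (.node (.node (.leaf (nat_lit 8)) (.leaf (nat_lit 8))) (.leaf (nat_lit 7)))) (.node (.node (.node (.leaf (nat_lit 6)) (.leaf (nat_lit 5))) (.leaf (nat_lit 1))) (.node (.leaf (nat_lit 4)) (.leaf (nat_lit 6)))))) (.node (.node (.node (.node (.node (.leaf (nat_lit 9)) (.leaf (nat_lit 6))) (.leaf (nat_lit 8))) (.node (.node (.leaf (nat_lit 9)) (.leaf (nat_lit 9))) (.leaf (nat_lit 5)))) (.node (.node (.node (.leaf (nat_lit 5)) (.leaf (nat_lit 7))) (.leaf (nat_lit 6))) (.node (.leaf (nat_lit 3)) (.leaf (nat_lit 7))))) (.node (.node (.node (.node (.leaf (nat_lit 3)) (.leaf (nat_lit 7))) (.leaf (nat_lit 6))) (.node (.node (.leaf (nat_lit 6)) (.leaf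 (nat_lit 2))) (.leaf (nat_lit 9)))) (.node (.node (.node (.leaf (nat_lit 7)) (.leaf (nat_lit 8))) (.leaf (nat_lit 6))) (.node (.leaf (nat_lit 7)) (.leaf (nat_lit 9))))))) (.node (.node (.node (.node (.node (.node (.leaf (nat_lit 7)) (.leaf (nat_lit 7))) (.leaf (nat_lit 6))) (.node (.node (.leaf (nat_lit 6)) (.leaf (nat_lit 9))) (.leaf (nat_lit 6)))) (.node (.node (.node (.leaf (nat_lit 1)) (.leaf (nat_lit 7))) (.leaf (nat_lit 8))) (.node (.node (.leaf (nat_lit 5)) (.leaf (nat_lit 7))) (.leaf (nat_lit 8))))) (.node (.node (.node (.node (.leaf (nat_lit 4)) (.leaf (nat_lit 8))) (.leaf (nat_lit 6))) (.node (.node (.leaf (nat_lit 6)) (.leaf (nat_lit 9))) (.leaf (nat_lit 9)))) (.node (.node (.node (.leaf (nat_lit 7)) (.leaf (nat_lit 3))) (.leaf (nat_lit 6))) (.node (.leaf (nat_lit 4)) (.leaf (nat_lit 8)))))) (.node (.node (.node (.node (.node (.leaf (nat_lit 4)) (.leaf (nat_lit 8))) (.leaf (nat_lit 6))) (.node (.node (.leaf (nat_lit 5)) (.leaf (nat_lit 8))) (.leaf (nat_lit 7)))) (.node (.node (.node (.leaf (nat_lit 5)) (.leaf (nat_lit 3))) (.leaf (nat_lit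 4))) (.node (.leaf (nat_lit 7)) (.leaf (nat_lit 4))))) (.node (.node (.node (.node (.leaf (nat_lit 6)) (.leaf (nat_lit 8))) (.leaf (nat_lit 7))) (.node (.node (.leaf (nat_lit 6)) (.leaf (nat_lit 9))) (.leaf (nat_lit 7)))) (.node (.node (.node (.leaf (nat_lit 7)) (.leaf (nat_lit 6))) (.leaf (nat_lit 6))) (.node (.leaf (nat_lit 6)) (.leaf (nat_lit 6)))))))))) (.node (.node (.node (.node (.node (.node (.node (.node (.node (.leaf (nat_lit 0)) (.leaf (nat_lit 7))) (.leaf (nat_lit 3))) (.node (.node (.leaf (nat_lit 6)) (.leaf (nat_lit 8))) (.leaf (nat_lit 7)))) (.node (.node (.node (.leaf (nat_lit 6)) (.leaf (nat_lit 5))) (.leaf (nat_lit 9))) (.node (.node (.leaf (nat_lit 9)) (.leaf (nat_lit 8))) (.leaf (nat_lit 6))))) (.node (.node (.node (.node (.leaf (nat_lit 1)) (.leaf (nat_lit 7))) (.leaf (nat_lit 7))) (.node (.node (.leaf (nat_lit 7)) (.leaf (nat_lit 7))) (.leaf (nat_lit 9)))) (.node (.node (.node (.leaf (nat_lit 7)) (.leaf (nat_lit 9))) (.leaf (nat_lit 8))) (.node (.leaf (nat_lit 3)) (.leaf (nat_lit 7)))))) (.node (.node (.node (.node (.node (.leaf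 (nat_lit 7)) (.leaf (nat_lit 7))) (.leaf (nat_lit 8))) (.node (.node (.leaf (nat_lit 6)) (.leaf (nat_lit 6))) (.leaf (nat_lit 3)))) (.node (.node (.node (.leaf (nat_lit 6)) (.leaf (nat_lit 3))) (.leaf (nat_lit 6))) (.node (.leaf (nat_lit 8)) (.leaf (nat_lit 8))))) (.node (.node (.node (.node (.leaf (nat_lit 6)) (.leaf (nat_lit 7))) (.leaf (nat_lit 3))) (.node (.node (.leaf (nat_lit 5)) (.leaf (nat_lit 8))) (.leaf (nat_lit 5)))) (.node (.node (.node (.leaf (nat_lit 7)) (.leaf (nat_lit 7))) (.leaf (nat_lit 6))) (.node (.leaf (nat_lit 7)) (.leaf (nat_lit 7))))))) (.node (.node (.node (.node (.node (.node (.leaf (nat_lit 7)) (.leaf (nat_lit 4))) (.leaf (nat_lit 7))) (.node (.node (.leaf (nat_lit 8)) (.leaf (nat_lit 5))) (.leaf (nat_lit 8)))) (.node (.node (.node (.leaf (nat_lit 8)) (.leaf (nat_lit 8))) (.leaf (nat_lit 6))) (.node (.node (.leaf (nat_lit 5)) (.leaf (nat_lit 5))) (.leaf (nat_lit 7))))) (.node (.node (.node (.node (.leaf (nat_lit 9)) (.leaf (nat_lit 5))) (.leaf (nat_lit 2))) (.node (.node (.leaf (nat_lit 4)) (.leaf (nat_lit 7))) (.leaf (nat_lit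 9)))) (.node (.node (.node (.leaf (nat_lit 6)) (.leaf (nat_lit 8))) (.leaf (nat_lit 6))) (.node (.leaf (nat_lit 2)) (.leaf (nat_lit 8)))))) (.node (.node (.node (.node (.node (.leaf (nat_lit 7)) (.leaf (nat_lit 2))) (.leaf (nat_lit 7))) (.node (.node (.leaf (nat_lit 7)) (.leaf (nat_lit 6))) (.leaf (nat_lit 5)))) (.node (.node (.node (.leaf (nat_lit 8)) (.leaf (nat_lit 8))) (.leaf (nat_lit 6))) (.node (.leaf (nat_lit 6)) (.leaf (nat_lit 4))))) (.node (.node (.node (.node (.leaf (nat_lit 5)) (.leaf (nat_lit 7))) (.leaf (nat_lit 6))) (.node (.node (.leaf (nat_lit 6)) (.leaf (nat_lit 6))) (.leaf (nat_lit 7)))) (.node (.node (.node (.leaf (nat_lit 7)) (.leaf (nat_lit 6))) (.leaf (nat_lit 8))) (.node (.leaf (nat_lit 6)) (.leaf (nat_lit 4)))))))) (.node (.node (.node (.node (.node (.node (.node (.leaf (nat_lit 3)) (.leaf (nat_lit 7))) (.leaf (nat_lit 5))) (.node (.node (.leaf (nat_lit 7)) (.leaf (nat_lit 7))) (.leaf (nat_lit 8)))) (.node (.node (.node (.leaf (nat_lit 7)) (.leaf (nat_lit 8))) (.leaf (nat_lit 8))) (.node (.node (.leaf (nat_lit 2)) (.leaf (nat_lit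 3))) (.leaf (nat_lit 6))))) (.node (.node (.node (.node (.leaf (nat_lit 7)) (.leaf (nat_lit 8))) (.leaf (nat_lit 6))) (.node (.node (.leaf (nat_lit 1)) (.leaf (nat_lit 8))) (.leaf (nat_lit 8)))) (.node (.node (.node (.leaf (nat_lit 7)) (.leaf (nat_lit 3))) (.leaf (nat_lit 8))) (.node (.leaf (nat_lit 4)) (.leaf (nat_lit 8)))))) (.node (.node (.node (.node (.node (.leaf (nat_lit 9)) (.leaf (nat_lit 8))) (.leaf (nat_lit 7))) (.node (.node (.leaf (nat_lit 3)) (.leaf (nat_lit 7))) (.leaf (nat_lit 4)))) (.node (.node (.node (.leaf (nat_lit 7)) (.leaf (nat_lit 5))) (.leaf (nat_lit 7))) (.node (.leaf (nat_lit 7)) (.leaf (nat_lit 7))))) (.node (.node (.node (.node (.leaf (nat_lit 7)) (.leaf (nat_lit 8))) (.leaf (nat_lit 8))) (.node (.node (.leaf (nat_lit 6)) (.leaf (nat_lit 4))) (.leaf (nat_lit 7)))) (.node (.node (.node (.leaf (nat_lit 6)) (.leaf (nat_lit 7))) (.leaf (nat_lit 8))) (.node (.leaf (nat_lit 7)) (.leaf (nat_lit 8))))))) (.node (.node (.node (.node (.node (.node (.leaf (nat_lit 3)) (.leaf (nat_lit 8))) (.leaf (nat_lit 6))) (.node (.node (.leaf (nat_lit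 7)) (.leaf (nat_lit 7))) (.leaf (nat_lit 9)))) (.node (.node (.node (.leaf (nat_lit 7)) (.leaf (nat_lit 5))) (.leaf (nat_lit 2))) (.node (.node (.leaf (nat_lit 7)) (.leaf (nat_lit 7))) (.leaf (nat_lit 6))))) (.node (.node (.node (.node (.leaf (nat_lit 7)) (.leaf (nat_lit 6))) (.leaf (nat_lit 7))) (.node (.node (.leaf (nat_lit 6)) (.leaf (nat_lit 6))) (.leaf (nat_lit 8)))) (.node (.node (.node (.leaf (nat_lit 7)) (.leaf (nat_lit 4))) (.leaf (nat_lit 9))) (.node (.leaf (nat_lit 5)) (.leaf (nat_lit 7)))))) (.node (.node (.node (.node (.node (.leaf (nat_lit 7)) (.leaf (nat_lit 3))) (.leaf (nat_lit 2))) (.node (.node (.leaf (nat_lit 8)) (.leaf (nat_lit 6))) (.leaf (nat_lit 7)))) (.node (.node (.node (.leaf (nat_lit 6)) (.leaf (nat_lit 8))) (.leaf (nat_lit 8))) (.node (.leaf (nat_lit 6)) (.leaf (nat_lit 7))))) (.node (.node (.node (.node (.leaf (nat_lit 2)) (.leaf (nat_lit 8))) (.leaf (nat_lit 2))) (.node (.node (.leaf (nat_lit 6)) (.leaf (nat_lit 8))) (.leaf (nat_lit 1)))) (.node (.node (.node (.leaf (nat_lit 7)) (.leaf (nat_lit 9))) (.leaf (nat_lit 7)))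 (.node (.leaf (nat_lit 5)) (.leaf (nat_lit 2))))))))) (.node (.node (.node (.node (.node (.node (.node (.node (.leaf (nat_lit 8)) (.leaf (nat_lit 7))) (.leaf (nat_lit 7))) (.node (.node (.leaf (nat_lit 5)) (.leaf (nat_lit 7))) (.leaf (nat_lit 3)))) (.node (.node (.node (.leaf (nat_lit 7)) (.leaf (nat_lit 5))) (.leaf (nat_lit 8))) (.node (.node (.leaf (nat_lit 6)) (.leaf (nat_lit 6))) (.leaf (nat_lit 7))))) (.node (.node (.node (.node (.leaf (nat_lit 5)) (.leaf (nat_lit 9))) (.leaf (nat_lit 6))) (.node (.node (.leaf (nat_lit 4)) (.leaf (nat_lit 5))) (.leaf (nat_lit 8)))) (.node (.node (.node (.leaf (nat_lit 8)) (.leaf (nat_lit 5))) (.leaf (nat_lit 2))) (.node (.leaf (nat_lit 7)) (.leaf (nat_lit 6)))))) (.node (.node (.node (.node (.node (.leaf (nat_lit 6)) (.leaf (nat_lit 7))) (.leaf (nat_lit 7))) (.node (.node (.leaf (nat_lit 5)) (.leaf (nat_lit 4))) (.leaf (nat_lit 4)))) (.node (.node (.node (.leaf (nat_lit 7)) (.leaf (nat_lit 8))) (.leaf (nat_lit 7))) (.node (.leaf (nat_lit 8)) (.leaf (nat_lit 5))))) (.node (.node (.node (.node (.leaf (nat_lit 5))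 (.leaf (nat_lit 7))) (.leaf (nat_lit 5))) (.node (.node (.leaf (nat_lit 7)) (.leaf (nat_lit 6))) (.leaf (nat_lit 7)))) (.node (.node (.node (.leaf (nat_lit 5)) (.leaf (nat_lit 6))) (.leaf (nat_lit 9))) (.node (.leaf (nat_lit 7)) (.leaf (nat_lit 4))))))) (.node (.node (.node (.node (.node (.node (.leaf (nat_lit 5)) (.leaf (nat_lit 5))) (.leaf (nat_lit 8))) (.node (.node (.leaf (nat_lit 7)) (.leaf (nat_lit 5))) (.leaf (nat_lit 4)))) (.node (.node (.node (.leaf (nat_lit 3)) (.leaf (nat_lit 6))) (.leaf (nat_lit 7))) (.node (.node (.leaf (nat_lit 7)) (.leaf (nat_lit 3))) (.leaf (nat_lit 5))))) (.node (.node (.node (.node (.leaf (nat_lit 7)) (.leaf (nat_lit 6))) (.leaf (nat_lit 6))) (.node (.node (.leaf (nat_lit 8)) (.leaf (nat_lit 8))) (.leaf (nat_lit 8)))) (.node (.node (.node (.leaf (nat_lit 3)) (.leaf (nat_lit 6))) (.leaf (nat_lit 5))) (.node (.leaf (nat_lit 6)) (.leaf (nat_lit 8)))))) (.node (.node (.node (.node (.node (.leaf (nat_lit 9)) (.leaf (nat_lit 7))) (.leaf (nat_lit 4))) (.node (.node (.leaf (nat_lit 7)) (.leaf (nat_lit 6))) (.leaf (nat_lit 6))))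 (.node (.node (.node (.leaf (nat_lit 8)) (.leaf (nat_lit 6))) (.leaf (nat_lit 6))) (.node (.leaf (nat_lit 7)) (.leaf (nat_lit 7))))) (.node (.node (.node (.node (.leaf (nat_lit 5)) (.leaf (nat_lit 7))) (.leaf (nat_lit 6))) (.node (.node (.leaf (nat_lit 8)) (.leaf (nat_lit 6))) (.leaf (nat_lit 7)))) (.node (.node (.node (.leaf (nat_lit 8)) (.leaf (nat_lit 8))) (.leaf (nat_lit 8))) (.node (.leaf (nat_lit 6)) (.leaf (nat_lit 8)))))))) (.node (.node (.node (.node (.node (.node (.node (.leaf (nat_lit 0)) (.leaf (nat_lit 7))) (.leaf (nat_lit 3))) (.node (.node (.leaf (nat_lit 9)) (.leaf (nat_lit 4))) (.leaf (nat_lit 7)))) (.node (.node (.node (.leaf (nat_lit 8)) (.leaf (nat_lit 6))) (.leaf (nat_lit 8))) (.node (.node (.leaf (nat_lit 8)) (.leaf (nat_lit 7))) (.leaf (nat_lit 7))))) (.node (.node (.node (.node (.leaf (nat_lit 7)) (.leaf (nat_lit 7))) (.leaf (nat_lit 6))) (.node (.node (.leaf (nat_lit 5)) (.leaf (nat_lit 4))) (.leaf (nat_lit 6)))) (.node (.node (.node (.leaf (nat_lit 8)) (.leaf (nat_lit 6))) (.leaf (nat_lit 8))) (.node (.leaf (nat_lit 7)) (.leaf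 (nat_lit 8)))))) (.node (.node (.node (.node (.node (.leaf (nat_lit 8)) (.leaf (nat_lit 5))) (.leaf (nat_lit 6))) (.node (.node (.leaf (nat_lit 9)) (.leaf (nat_lit 6))) (.leaf (nat_lit 8)))) (.node (.node (.node (.leaf (nat_lit 7)) (.leaf (nat_lit 5))) (.leaf (nat_lit 6))) (.node (.leaf (nat_lit 6)) (.leaf (nat_lit 5))))) (.node (.node (.node (.node (.leaf (nat_lit 8)) (.leaf (nat_lit 8))) (.leaf (nat_lit 5))) (.node (.node (.leaf (nat_lit 5)) (.leaf (nat_lit 7))) (.leaf (nat_lit 6)))) (.node (.node (.node (.leaf (nat_lit 5)) (.leaf (nat_lit 9))) (.leaf (nat_lit 4))) (.node (.leaf (nat_lit 6)) (.leaf (nat_lit 6))))))) (.node (.node (.node (.node (.node (.node (.leaf (nat_lit 6)) (.leaf (nat_lit 8))) (.leaf (nat_lit 7))) (.node (.node (.leaf (nat_lit 7)) (.leaf (nat_lit 7))) (.leaf (nat_lit 6)))) (.node (.node (.node (.leaf (nat_lit 8)) (.leaf (nat_lit 6))) (.leaf (nat_lit 3))) (.node (.node (.leaf (nat_lit 9)) (.leaf (nat_lit 8))) (.leaf (nat_lit 6))))) (.node (.node (.node (.node (.leaf (nat_lit 4)) (.leaf (nat_lit 7))) (.leaf (nat_lit 7))) (.node (.node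 (.leaf (nat_lit 6)) (.leaf (nat_lit 7))) (.leaf (nat_lit 9)))) (.node (.node (.node (.leaf (nat_lit 5)) (.leaf (nat_lit 8))) (.leaf (nat_lit 6))) (.node (.leaf (nat_lit 8)) (.leaf (nat_lit 8)))))) (.node (.node (.node (.node (.node (.leaf (nat_lit 7)) (.leaf (nat_lit 7))) (.leaf (nat_lit 4))) (.node (.node (.leaf (nat_lit 2)) (.leaf (nat_lit 6))) (.leaf (nat_lit 4)))) (.node (.node (.node (.leaf (nat_lit 7)) (.leaf (nat_lit 3))) (.leaf (nat_lit 8))) (.node (.leaf (nat_lit 4)) (.leaf (nat_lit 6))))) (.node (.node (.node (.node (.leaf (nat_lit 4)) (.leaf (nat_lit 5))) (.leaf (nat_lit 9))) (.node (.node (.leaf (nat_lit 5)) (.leaf (nat_lit 4))) (.leaf (nat_lit 3)))) (.node (.node (.node (.leaf (nat_lit 7)) (.leaf (nat_lit 9))) (.leaf (nat_lit 6))) (.node (.leaf (nat_lit 5)) (.leaf (nat_lit 6)))))))))))) (.node (.node (.node (.node (.node (.node (.node (.node (.node (.node (.node (.leaf (nat_lit 0)) (.leaf (nat_lit 8))) (.leaf (nat_lit 7))) (.node (.node (.leaf (nat_lit 2)) (.leaf (nat_lit 5))) (.leaf (nat_lit 6)))) (.node (.node (.node (.leaf (nat_lit 7))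 (.leaf (nat_lit 4))) (.leaf (nat_lit 7))) (.node (.node (.leaf (nat_lit 8)) (.leaf (nat_lit 6))) (.leaf (nat_lit 5))))) (.node (.node (.node (.node (.leaf (nat_lit 6)) (.leaf (nat_lit 2))) (.leaf (nat_lit 7))) (.node (.node (.leaf (nat_lit 5)) (.leaf (nat_lit 7))) (.leaf (nat_lit 9)))) (.node (.node (.node (.leaf (nat_lit 3)) (.leaf (nat_lit 5))) (.leaf (nat_lit 6))) (.node (.leaf (nat_lit 7)) (.leaf (nat_lit 4)))))) (.node (.node (.node (.node (.node (.leaf (nat_lit 7)) (.leaf (nat_lit 6))) (.leaf (nat_lit 6))) (.node (.node (.leaf (nat_lit 7)) (.leaf (nat_lit 8))) (.leaf (nat_lit 6)))) (.node (.node (.node (.leaf (nat_lit 7)) (.leaf (nat_lit 8))) (.leaf (nat_lit 7))) (.node (.leaf (nat_lit 5)) (.leaf (nat_lit 5))))) (.node (.node (.node (.node (.leaf (nat_lit 7)) (.leaf (nat_lit 8))) (.leaf (nat_lit 7))) (.node (.node (.leaf (nat_lit 6)) (.leaf (nat_lit 8))) (.leaf (nat_lit 8)))) (.node (.node (.node (.leaf (nat_lit 8)) (.leaf (nat_lit 2))) (.leaf (nat_lit 6))) (.node (.leaf (nat_lit 1)) (.leaf (nat_lit 5))))))) (.node (.node (.node (.node (.node (.node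 (.leaf (nat_lit 0)) (.leaf (nat_lit 5))) (.leaf (nat_lit 4))) (.node (.node (.leaf (nat_lit 5)) (.leaf (nat_lit 7))) (.leaf (nat_lit 7)))) (.node (.node (.node (.leaf (nat_lit 6)) (.leaf (nat_lit 7))) (.leaf (nat_lit 5))) (.node (.node (.leaf (nat_lit 5)) (.leaf (nat_lit 8))) (.leaf (nat_lit 7))))) (.node (.node (.node (.node (.leaf (nat_lit 6)) (.leaf (nat_lit 8))) (.leaf (nat_lit 6))) (.node (.node (.leaf (nat_lit 5)) (.leaf (nat_lit 5))) (.leaf (nat_lit 6)))) (.node (.node (.node (.leaf (nat_lit 7)) (.leaf (nat_lit 9))) (.leaf (nat_lit 4))) (.node (.leaf (nat_lit 5)) (.leaf (nat_lit 5)))))) (.node (.node (.node (.node (.node (.leaf (nat_lit 6)) (.leaf (nat_lit 8))) (.leaf (nat_lit 6))) (.node (.node (.leaf (nat_lit 1)) (.leaf (nat_lit 3))) (.leaf (nat_lit 7)))) (.node (.node (.node (.leaf (nat_lit 7)) (.leaf (nat_lit 5))) (.leaf (nat_lit 9))) (.node (.leaf (nat_lit 8)) (.leaf (nat_lit 6))))) (.node (.node (.node (.node (.leaf (nat_lit 0)) (.leaf (nat_lit 7))) (.leaf (nat_lit 10))) (.node (.node (.leaf (nat_lit 5)) (.leaf (nat_lit 5))) (.leaf (nat_lit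 1)))) (.node (.node (.node (.leaf (nat_lit 5)) (.leaf (nat_lit 6))) (.leaf (nat_lit 7))) (.node (.leaf (nat_lit 8)) (.leaf (nat_lit 7)))))))) (.node (.node (.node (.node (.node (.node (.node (.leaf (nat_lit 4)) (.leaf (nat_lit 7))) (.leaf (nat_lit 6))) (.node (.node (.leaf (nat_lit 4)) (.leaf (nat_lit 6))) (.leaf (nat_lit 7)))) (.node (.node (.node (.leaf (nat_lit 5)) (.leaf (nat_lit 6))) (.leaf (nat_lit 3))) (.node (.node (.leaf (nat_lit 3)) (.leaf (nat_lit 5))) (.leaf (nat_lit 5))))) (.node (.node (.node (.node (.leaf (nat_lit 7)) (.leaf (nat_lit 7))) (.leaf (nat_lit 5))) (.node (.node (.leaf (nat_lit 5)) (.leaf (nat_lit 7))) (.leaf (nat_lit 8)))) (.node (.node (.node (.leaf (nat_lit 3)) (.leaf (nat_lit 7))) (.leaf (nat_lit 6))) (.node (.leaf (nat_lit 6)) (.leaf (nat_lit 6)))))) (.node (.node (.node (.node (.node (.leaf (nat_lit 3)) (.leaf (nat_lit 7))) (.leaf (nat_lit 6))) (.node (.node (.leaf (nat_lit 9)) (.leaf (nat_lit 7))) (.leaf (nat_lit 5)))) (.node (.node (.node (.leaf (nat_lit 8)) (.leaf (nat_lit 7))) (.leaf (nat_lit 7))) (.node (.leaf (nat_lit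 7)) (.leaf (nat_lit 6))))) (.node (.node (.node (.node (.leaf (nat_lit 7)) (.leaf (nat_lit 5))) (.leaf (nat_lit 5))) (.node (.node (.leaf (nat_lit 3)) (.leaf (nat_lit 8))) (.leaf (nat_lit 8)))) (.node (.node (.node (.leaf (nat_lit 4)) (.leaf (nat_lit 8))) (.leaf (nat_lit 7))) (.node (.leaf (nat_lit 7)) (.leaf (nat_lit 4))))))) (.node (.node (.node (.node (.node (.node (.leaf (nat_lit 7)) (.leaf (nat_lit 7))) (.leaf (nat_lit 8))) (.node (.node (.leaf (nat_lit 9)) (.leaf (nat_lit 8))) (.leaf (nat_lit 6)))) (.node (.node (.node (.leaf (nat_lit 8)) (.leaf (nat_lit 8))) (.leaf (nat_lit 6))) (.node (.node (.leaf (nat_lit 6)) (.leaf (nat_lit 8))) (.leaf (nat_lit 5))))) (.node (.node (.node (.node (.leaf (nat_lit 6)) (.leaf (nat_lit 6))) (.leaf (nat_lit 7))) (.node (.node (.leaf (nat_lit 6)) (.leaf (nat_lit 4))) (.leaf (nat_lit 8)))) (.node (.node (.node (.leaf (nat_lit 6)) (.leaf (nat_lit 4))) (.leaf (nat_lit 4))) (.node (.leaf (nat_lit 6)) (.leaf (nat_lit 5)))))) (.node (.node (.node (.node (.node (.leaf (nat_lit 6)) (.leaf (nat_lit 5))) (.leaf (nat_lit 9)))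 (.node (.node (.leaf (nat_lit 5)) (.leaf (nat_lit 2))) (.leaf (nat_lit 5)))) (.node (.node (.node (.leaf (nat_lit 7)) (.leaf (nat_lit 5))) (.leaf (nat_lit 8))) (.node (.leaf (nat_lit 3)) (.leaf (nat_lit 7))))) (.node (.node (.node (.node (.leaf (nat_lit 7)) (.leaf (nat_lit 8))) (.leaf (nat_lit 6))) (.node (.node (.leaf (nat_lit 4)) (.leaf (nat_lit 3))) (.leaf (nat_lit 6)))) (.node (.node (.node (.leaf (nat_lit 8)) (.leaf (nat_lit 7))) (.leaf (nat_lit 8))) (.node (.leaf (nat_lit 4)) (.leaf (nat_lit 7))))))))) (.node (.node (.node (.node (.node (.node (.node (.node (.leaf (nat_lit 0)) (.leaf (nat_lit 6))) (.leaf (nat_lit 6))) (.node (.node (.leaf (nat_lit 7)) (.leaf (nat_lit 7))) (.leaf (nat_lit 6)))) (.node (.node (.node (.leaf (nat_lit 8)) (.leaf (nat_lit 6))) (.leaf (nat_lit 8))) (.node (.node (.leaf (nat_lit 7)) (.leaf (nat_lit 7))) (.leaf (nat_lit 7))))) (.node (.node (.node (.node (.leaf (nat_lit 7)) (.leaf (nat_lit 8))) (.leaf (nat_lit 6))) (.node (.node (.leaf (nat_lit 8)) (.leaf (nat_lit 6))) (.leaf (nat_lit 5)))) (.node (.node (.node (.leaf (nat_lit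 9)) (.leaf (nat_lit 8))) (.leaf (nat_lit 8))) (.node (.leaf (nat_lit 7)) (.leaf (nat_lit 6)))))) (.node (.node (.node (.node (.node (.leaf (nat_lit 6)) (.leaf (nat_lit 7))) (.leaf (nat_lit 5))) (.node (.node (.leaf (nat_lit 5)) (.leaf (nat_lit 7))) (.leaf (nat_lit 5)))) (.node (.node (.node (.leaf (nat_lit 4)) (.leaf (nat_lit 4))) (.leaf (nat_lit 2))) (.node (.leaf (nat_lit 6)) (.leaf (nat_lit 5))))) (.node (.node (.node (.node (.leaf (nat_lit 7)) (.leaf (nat_lit 8))) (.leaf (nat_lit 4))) (.node (.node (.leaf (nat_lit 8)) (.leaf (nat_lit 7))) (.leaf (nat_lit 6)))) (.node (.node (.node (.leaf (nat_lit 6)) (.leaf (nat_lit 5))) (.leaf (nat_lit 2))) (.node (.leaf (nat_lit 6)) (.leaf (nat_lit 7))))))) (.node (.node (.node (.node (.node (.node (.leaf (nat_lit 7)) (.leaf (nat_lit 7))) (.leaf (nat_lit 7))) (.node (.node (.leaf (nat_lit 5)) (.leaf (nat_lit 5))) (.leaf (nat_lit 2)))) (.node (.node (.node (.leaf (nat_lit 3)) (.leaf (nat_lit 6))) (.leaf (nat_lit 5))) (.node (.node (.leaf (nat_lit 7)) (.leaf (nat_lit 6))) (.leaf (nat_lit 8))))) (.node (.node (.node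 (.node (.leaf (nat_lit 7)) (.leaf (nat_lit 1))) (.leaf (nat_lit 7))) (.node (.node (.leaf (nat_lit 6)) (.leaf (nat_lit 7))) (.leaf (nat_lit 6)))) (.node (.node (.node (.leaf (nat_lit 7)) (.leaf (nat_lit 2))) (.leaf (nat_lit 6))) (.node (.leaf (nat_lit 5)) (.leaf (nat_lit 8)))))) (.node (.node (.node (.node (.node (.leaf (nat_lit 6)) (.leaf (nat_lit 4))) (.leaf (nat_lit 8))) (.node (.node (.leaf (nat_lit 8)) (.leaf (nat_lit 4))) (.leaf (nat_lit 7)))) (.node (.node (.node (.leaf (nat_lit 6)) (.leaf (nat_lit 8))) (.leaf (nat_lit 4))) (.node (.leaf (nat_lit 3)) (.leaf (nat_lit 3))))) (.node (.node (.node (.node (.leaf (nat_lit 5)) (.leaf (nat_lit 7))) (.leaf (nat_lit 8))) (.node (.node (.leaf (nat_lit 5)) (.leaf (nat_lit 8))) (.leaf (nat_lit 4)))) (.node (.node (.node (.leaf (nat_lit 3)) (.leaf (nat_lit 8))) (.leaf (nat_lit 6))) (.node (.leaf (nat_lit 8)) (.leaf (nat_lit 5)))))))) (.node (.node (.node (.node (.node (.node (.node (.leaf (nat_lit 10)) (.leaf (nat_lit 6))) (.leaf (nat_lit 6))) (.node (.node (.leaf (nat_lit 7)) (.leaf (nat_lit 5))) (.leaf (nat_lit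 4)))) (.node (.node (.node (.leaf (nat_lit 5)) (.leaf (nat_lit 4))) (.leaf (nat_lit 8))) (.node (.node (.leaf (nat_lit 5)) (.leaf (nat_lit 8))) (.leaf (nat_lit 5))))) (.node (.node (.node (.node (.leaf (nat_lit 5)) (.leaf (nat_lit 5))) (.leaf (nat_lit 6))) (.node (.node (.leaf (nat_lit 8)) (.leaf (nat_lit 7))) (.leaf (nat_lit 8)))) (.node (.node (.node (.leaf (nat_lit 8)) (.leaf (nat_lit 3))) (.leaf (nat_lit 6))) (.node (.leaf (nat_lit 6)) (.leaf (nat_lit 8)))))) (.node (.node (.node (.node (.node (.leaf (nat_lit 8)) (.leaf (nat_lit 6))) (.leaf (nat_lit 7))) (.node (.node (.leaf (nat_lit 4)) (.leaf (nat_lit 7))) (.leaf (nat_lit 6)))) (.node (.node (.node (.leaf (nat_lit 7)) (.leaf (nat_lit 7))) (.leaf (nat_lit 7))) (.node (.leaf (nat_lit 6)) (.leaf (nat_lit 9))))) (.node (.node (.node (.node (.leaf (nat_lit 7)) (.leaf (nat_lit 6))) (.leaf (nat_lit 7))) (.node (.node (.leaf (nat_lit 9)) (.leaf (nat_lit 9))) (.leaf (nat_lit 9)))) (.node (.node (.node (.leaf (nat_lit 5)) (.leaf (nat_lit 7))) (.leaf (nat_lit 3))) (.node (.leaf (nat_lit 8)) (.leaf (nat_lit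 6))))))) (.node (.node (.node (.node (.node (.node (.leaf (nat_lit 0)) (.leaf (nat_lit 7))) (.leaf (nat_lit 9))) (.node (.node (.leaf (nat_lit 4)) (.leaf (nat_lit 3))) (.leaf (nat_lit 8)))) (.node (.node (.node (.leaf (nat_lit 6)) (.leaf (nat_lit 7))) (.leaf (nat_lit 9))) (.node (.node (.leaf (nat_lit 6)) (.leaf (nat_lit 8))) (.leaf (nat_lit 5))))) (.node (.node (.node (.node (.leaf (nat_lit 7)) (.leaf (nat_lit 7))) (.leaf (nat_lit 6))) (.node (.node (.leaf (nat_lit 4)) (.leaf (nat_lit 6))) (.leaf (nat_lit 8)))) (.node (.node (.node (.leaf (nat_lit 8)) (.leaf (nat_lit 6))) (.leaf (nat_lit 6))) (.node (.leaf (nat_lit 4)) (.leaf (nat_lit 8)))))) (.node (.node (.node (.node (.node (.leaf (nat_lit 5)) (.leaf (nat_lit 6))) (.leaf (nat_lit 5))) (.node (.node (.leaf (nat_lit 4)) (.leaf (nat_lit 2))) (.leaf (nat_lit 5)))) (.node (.node (.node (.leaf (nat_lit 7)) (.leaf (nat_lit 3))) (.leaf (nat_lit 6))) (.node (.leaf (nat_lit 6)) (.leaf (nat_lit 8))))) (.node (.node (.node (.node (.leaf (nat_lit 2)) (.leaf (nat_lit 8))) (.leaf (nat_lit 7))) (.node (.node (.leaf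 (nat_lit 1)) (.leaf (nat_lit 4))) (.leaf (nat_lit 8)))) (.node (.node (.node (.leaf (nat_lit 8)) (.leaf (nat_lit 1))) (.leaf (nat_lit 8))) (.node (.leaf (nat_lit 7)) (.leaf (nat_lit 8)))))))))) (.node (.node (.node (.node (.node (.node (.node (.node (.node (.leaf (nat_lit 7)) (.leaf (nat_lit 4))) (.leaf (nat_lit 8))) (.node (.node (.leaf (nat_lit 5)) (.leaf (nat_lit 7))) (.leaf (nat_lit 7)))) (.node (.node (.node (.leaf (nat_lit 8)) (.leaf (nat_lit 7))) (.leaf (nat_lit 6))) (.node (.node (.leaf (nat_lit 7)) (.leaf (nat_lit 8))) (.leaf (nat_lit 4))))) (.node (.node (.node (.node (.leaf (nat_lit 3)) (.leaf (nat_lit 7))) (.leaf (nat_lit 7))) (.node (.node (.leaf (nat_lit 7)) (.leaf (nat_lit 6))) (.leaf (nat_lit 6)))) (.node (.node (.node (.leaf (nat_lit 9)) (.leaf (nat_lit 6))) (.leaf (nat_lit 8))) (.node (.leaf (nat_lit 6)) (.leaf (nat_lit 6)))))) (.node (.node (.node (.node (.node (.leaf (nat_lit 6)) (.leaf (nat_lit 5))) (.leaf (nat_lit 7))) (.node (.node (.leaf (nat_lit 9)) (.leaf (nat_lit 7))) (.leaf (nat_lit 8)))) (.node (.node (.node (.leaf (nat_lit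 5)) (.leaf (nat_lit 8))) (.leaf (nat_lit 4))) (.node (.leaf (nat_lit 7)) (.leaf (nat_lit 5))))) (.node (.node (.node (.node (.leaf (nat_lit 7)) (.leaf (nat_lit 4))) (.leaf (nat_lit 3))) (.node (.node (.leaf (nat_lit 6)) (.leaf (nat_lit 9))) (.leaf (nat_lit 6)))) (.node (.node (.node (.leaf (nat_lit 6)) (.leaf (nat_lit 7))) (.leaf (nat_lit 3))) (.node (.leaf (nat_lit 6)) (.leaf (nat_lit 5))))))) (.node (.node (.node (.node (.node (.node (.leaf (nat_lit 4)) (.leaf (nat_lit 7))) (.leaf (nat_lit 8))) (.node (.node (.leaf (nat_lit 8)) (.leaf (nat_lit 6))) (.leaf (nat_lit 6)))) (.node (.node (.node (.leaf (nat_lit 8)) (.leaf (nat_lit 8))) (.leaf (nat_lit 6))) (.node (.node (.leaf (nat_lit 6)) (.leaf (nat_lit 7))) (.leaf (nat_lit 5))))) (.node (.node (.node (.node (.leaf (nat_lit 8)) (.leaf (nat_lit 5))) (.leaf (nat_lit 5))) (.node (.node (.leaf (nat_lit 6)) (.leaf (nat_lit 7))) (.leaf (nat_lit 6)))) (.node (.node (.node (.leaf (nat_lit 8)) (.leaf (nat_lit 5))) (.leaf (nat_lit 3))) (.node (.leaf (nat_lit 8)) (.leaf (nat_lit 3)))))) (.node (.node (.node (.node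 (.node (.leaf (nat_lit 0)) (.leaf (nat_lit 9))) (.leaf (nat_lit 4))) (.node (.node (.leaf (nat_lit 7)) (.leaf (nat_lit 8))) (.leaf (nat_lit 7)))) (.node (.node (.node (.leaf (nat_lit 1)) (.leaf (nat_lit 4))) (.leaf (nat_lit 7))) (.node (.leaf (nat_lit 6)) (.leaf (nat_lit 8))))) (.node (.node (.node (.node (.leaf (nat_lit 7)) (.leaf (nat_lit 10))) (.leaf (nat_lit 6))) (.node (.node (.leaf (nat_lit 7)) (.leaf (nat_lit 3))) (.leaf (nat_lit 7)))) (.node (.node (.node (.leaf (nat_lit 7)) (.leaf (nat_lit 6))) (.leaf (nat_lit 7))) (.node (.leaf (nat_lit 8)) (.leaf (nat_lit 4)))))))) (.node (.node (.node (.node (.node (.node (.node (.leaf (nat_lit 0)) (.leaf (nat_lit 6))) (.leaf (nat_lit 8))) (.node (.node (.leaf (nat_lit 3)) (.leaf (nat_lit 5))) (.leaf (nat_lit 6)))) (.node (.node (.node (.leaf (nat_lit 8)) (.leaf (nat_lit 3))) (.leaf (nat_lit 2))) (.node (.node (.leaf (nat_lit 8)) (.leaf (nat_lit 6))) (.leaf (nat_lit 5))))) (.node (.node (.node (.node (.leaf (nat_lit 7)) (.leaf (nat_lit 6))) (.leaf (nat_lit 9))) (.node (.node (.leaf (nat_lit 6)) (.leaf (nat_lit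 8))) (.leaf (nat_lit 8)))) (.node (.node (.node (.leaf (nat_lit 9)) (.leaf (nat_lit 9))) (.leaf (nat_lit 4))) (.node (.leaf (nat_lit 6)) (.leaf (nat_lit 8)))))) (.node (.node (.node (.node (.node (.leaf (nat_lit 6)) (.leaf (nat_lit 8))) (.leaf (nat_lit 5))) (.node (.node (.leaf (nat_lit 5)) (.leaf (nat_lit 7))) (.leaf (nat_lit 5)))) (.node (.node (.node (.leaf (nat_lit 1)) (.leaf (nat_lit 5))) (.leaf (nat_lit 9))) (.node (.leaf (nat_lit 6)) (.leaf (nat_lit 4))))) (.node (.node (.node (.node (.leaf (nat_lit 5)) (.leaf (nat_lit 5))) (.leaf (nat_lit 3))) (.node (.node (.leaf (nat_lit 8)) (.leaf (nat_lit 8))) (.leaf (nat_lit 6)))) (.node (.node (.node (.leaf (nat_lit 6)) (.leaf (nat_lit 4))) (.leaf (nat_lit 6))) (.node (.leaf (nat_lit 9)) (.leaf (nat_lit 7))))))) (.node (.node (.node (.node (.node (.node (.leaf (nat_lit 7)) (.leaf (nat_lit 7))) (.leaf (nat_lit 6))) (.node (.node (.leaf (nat_lit 3)) (.leaf (nat_lit 9))) (.leaf (nat_lit 8)))) (.node (.node (.node (.leaf (nat_lit 7)) (.leaf (nat_lit 1))) (.leaf (nat_lit 6))) (.node (.node (.leaf (nat_lit 4))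 (.leaf (nat_lit 5))) (.leaf (nat_lit 8))))) (.node (.node (.node (.node (.leaf (nat_lit 7)) (.leaf (nat_lit 5))) (.leaf (nat_lit 8))) (.node (.node (.leaf (nat_lit 7)) (.leaf (nat_lit 6))) (.leaf (nat_lit 2)))) (.node (.node (.node (.leaf (nat_lit 8)) (.leaf (nat_lit 8))) (.leaf (nat_lit 6))) (.node (.leaf (nat_lit 8)) (.leaf (nat_lit 6)))))) (.node (.node (.node (.node (.node (.leaf (nat_lit 3)) (.leaf (nat_lit 6))) (.leaf (nat_lit 7))) (.node (.node (.leaf (nat_lit 7)) (.leaf (nat_lit 8))) (.leaf (nat_lit 7)))) (.node (.node (.node (.leaf (nat_lit 6)) (.leaf (nat_lit 8))) (.leaf (nat_lit 6))) (.node (.leaf (nat_lit 9)) (.leaf (nat_lit 8))))) (.node (.node (.node (.node (.leaf (nat_lit 6)) (.leaf (nat_lit 5))) (.leaf (nat_lit 7))) (.node (.node (.leaf (nat_lit 4)) (.leaf (nat_lit 5))) (.leaf (nat_lit 7)))) (.node (.node (.node (.leaf (nat_lit 7)) (.leaf (nat_lit 7))) (.leaf (nat_lit 7))) (.node (.leaf (nat_lit 6)) (.leaf (nat_lit 4))))))))) (.node (.node (.node (.node (.node (.node (.node (.node (.leaf (nat_lit 0)) (.leaf (nat_lit 8))) (.leaf (nat_lit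 7))) (.node (.node (.leaf (nat_lit 6)) (.leaf (nat_lit 4))) (.leaf (nat_lit 1)))) (.node (.node (.node (.leaf (nat_lit 3)) (.leaf (nat_lit 7))) (.leaf (nat_lit 6))) (.node (.node (.leaf (nat_lit 7)) (.leaf (nat_lit 7))) (.leaf (nat_lit 7))))) (.node (.node (.node (.node (.leaf (nat_lit 4)) (.leaf (nat_lit 6))) (.leaf (nat_lit 8))) (.node (.node (.leaf (nat_lit 8)) (.leaf (nat_lit 7))) (.leaf (nat_lit 8)))) (.node (.node (.node (.leaf (nat_lit 6)) (.leaf (nat_lit 7))) (.leaf (nat_lit 8))) (.node (.leaf (nat_lit 5)) (.leaf (nat_lit 6)))))) (.node (.node (.node (.node (.node (.leaf (nat_lit 4)) (.leaf (nat_lit 8))) (.leaf (nat_lit 7))) (.node (.node (.leaf (nat_lit 5)) (.leaf (nat_lit 2))) (.leaf (nat_lit 5)))) (.node (.node (.node (.leaf (nat_lit 6)) (.leaf (nat_lit 7))) (.leaf (nat_lit 5))) (.node (.leaf (nat_lit 6)) (.leaf (nat_lit 7))))) (.node (.node (.node (.node (.leaf (nat_lit 8)) (.leaf (nat_lit 8))) (.leaf (nat_lit 6))) (.node (.node (.leaf (nat_lit 8)) (.leaf (nat_lit 7))) (.leaf (nat_lit 3)))) (.node (.node (.node (.leaf (nat_lit 6)) (.leaf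 (nat_lit 7))) (.leaf (nat_lit 8))) (.node (.leaf (nat_lit 3)) (.leaf (nat_lit 7))))))) (.node (.node (.node (.node (.node (.node (.leaf (nat_lit 6)) (.leaf (nat_lit 4))) (.leaf (nat_lit 6))) (.node (.node (.leaf (nat_lit 7)) (.leaf (nat_lit 5))) (.leaf (nat_lit 4)))) (.node (.node (.node (.leaf (nat_lit 1)) (.leaf (nat_lit 6))) (.leaf (nat_lit 2))) (.node (.node (.leaf (nat_lit 7)) (.leaf (nat_lit 7))) (.leaf (nat_lit 9))))) (.node (.node (.node (.node (.leaf (nat_lit 9)) (.leaf (nat_lit 6))) (.leaf (nat_lit 8))) (.node (.node (.leaf (nat_lit 5)) (.leaf (nat_lit 7))) (.leaf (nat_lit 7)))) (.node (.node (.node (.leaf (nat_lit 6)) (.leaf (nat_lit 4))) (.leaf (nat_lit 8))) (.node (.leaf (nat_lit 6)) (.leaf (nat_lit 7)))))) (.node (.node (.node (.node (.node (.leaf (nat_lit 6)) (.leaf (nat_lit 6))) (.leaf (nat_lit 8))) (.node (.node (.leaf (nat_lit 7)) (.leaf (nat_lit 8))) (.leaf (nat_lit 7)))) (.node (.node (.node (.leaf (nat_lit 8)) (.leaf (nat_lit 6))) (.leaf (nat_lit 8))) (.node (.leaf (nat_lit 7)) (.leaf (nat_lit 6))))) (.node (.node (.node (.node (.leaf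 (nat_lit 7)) (.leaf (nat_lit 4))) (.leaf (nat_lit 8))) (.node (.node (.leaf (nat_lit 5)) (.leaf (nat_lit 8))) (.leaf (nat_lit 9)))) (.node (.node (.node (.leaf (nat_lit 6)) (.leaf (nat_lit 4))) (.leaf (nat_lit 7))) (.node (.leaf (nat_lit 8)) (.leaf (nat_lit 8)))))))) (.node (.node (.node (.node (.node (.node (.node (.leaf (nat_lit 6)) (.leaf (nat_lit 6))) (.leaf (nat_lit 9))) (.node (.node (.leaf (nat_lit 7)) (.leaf (nat_lit 9))) (.leaf (nat_lit 6)))) (.node (.node (.node (.leaf (nat_lit 5)) (.leaf (nat_lit 8))) (.leaf (nat_lit 2))) (.node (.node (.leaf (nat_lit 6)) (.leaf (nat_lit 8))) (.leaf (nat_lit 3))))) (.node (.node (.node (.node (.leaf (nat_lit 6)) (.leaf (nat_lit 4))) (.leaf (nat_lit 7))) (.node (.node (.leaf (nat_lit 5)) (.leaf (nat_lit 7))) (.leaf (nat_lit 7)))) (.node (.node (.node (.leaf (nat_lit 8)) (.leaf (nat_lit 7))) (.leaf (nat_lit 3))) (.node (.leaf (nat_lit 8)) (.leaf (nat_lit 5)))))) (.node (.node (.node (.node (.node (.leaf (nat_lit 7)) (.leaf (nat_lit 6))) (.leaf (nat_lit 6))) (.node (.node (.leaf (nat_lit 7)) (.leaf (nat_lit 7)))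 (.leaf (nat_lit 5)))) (.node (.node (.node (.leaf (nat_lit 0)) (.leaf (nat_lit 7))) (.leaf (nat_lit 2))) (.node (.leaf (nat_lit 8)) (.leaf (nat_lit 7))))) (.node (.node (.node (.node (.leaf (nat_lit 4)) (.leaf (nat_lit 7))) (.leaf (nat_lit 8))) (.node (.node (.leaf (nat_lit 8)) (.leaf (nat_lit 6))) (.leaf (nat_lit 7)))) (.node (.node (.node (.leaf (nat_lit 5)) (.leaf (nat_lit 7))) (.leaf (nat_lit 8))) (.node (.leaf (nat_lit 9)) (.leaf (nat_lit 6))))))) (.node (.node (.node (.node (.node (.node (.leaf (nat_lit 8)) (.leaf (nat_lit 8))) (.leaf (nat_lit 6))) (.node (.node (.leaf (nat_lit 8)) (.leaf (nat_lit 8))) (.leaf (nat_lit 9)))) (.node (.node (.node (.leaf (nat_lit 8)) (.leaf (nat_lit 8))) (.leaf (nat_lit 7))) (.node (.node (.leaf (nat_lit 9)) (.leaf (nat_lit 7))) (.leaf (nat_lit 6))))) (.node (.node (.node (.node (.leaf (nat_lit 6)) (.leaf (nat_lit 7))) (.leaf (nat_lit 8))) (.node (.node (.leaf (nat_lit 7)) (.leaf (nat_lit 6))) (.leaf (nat_lit 6)))) (.node (.node (.node (.leaf (nat_lit 8)) (.leaf (nat_lit 8))) (.leaf (nat_lit 6))) (.node (.leaf (nat_lit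 6)) (.leaf (nat_lit 6)))))) (.node (.node (.node (.node (.node (.leaf (nat_lit 6)) (.leaf (nat_lit 3))) (.leaf (nat_lit 4))) (.node (.node (.leaf (nat_lit 4)) (.leaf (nat_lit 1))) (.leaf (nat_lit 4)))) (.node (.node (.node (.leaf (nat_lit 7)) (.leaf (nat_lit 4))) (.leaf (nat_lit 4))) (.node (.leaf (nat_lit 5)) (.leaf (nat_lit 4))))) (.node (.node (.node (.node (.leaf (nat_lit 8)) (.leaf (nat_lit 9))) (.leaf (nat_lit 4))) (.node (.node (.leaf (nat_lit 6)) (.leaf (nat_lit 7))) (.leaf (nat_lit 6)))) (.node (.node (.node (.leaf (nat_lit 8)) (.leaf (nat_lit 5))) (.leaf (nat_lit 7))) (.node (.leaf (nat_lit 6)) (.leaf (nat_lit 8))))))))))) (.node (.node (.node (.node (.node (.node (.node (.node (.node (.node (.leaf (nat_lit 0)) (.leaf (nat_lit 9))) (.leaf (nat_lit 7))) (.node (.node (.leaf (nat_lit 7)) (.leaf (nat_lit 9))) (.leaf (nat_lit 5)))) (.node (.node (.node (.leaf (nat_lit 6)) (.leaf (nat_lit 7))) (.leaf (nat_lit 3))) (.node (.node (.leaf (nat_lit 5)) (.leaf (nat_lit 6))) (.leaf (nat_lit 7))))) (.node (.node (.node (.node (.leaf (nat_lit 5)) (.leaf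 (nat_lit 4))) (.leaf (nat_lit 9))) (.node (.node (.leaf (nat_lit 9)) (.leaf (nat_lit 9))) (.leaf (nat_lit 7)))) (.node (.node (.node (.leaf (nat_lit 7)) (.leaf (nat_lit 2))) (.leaf (nat_lit 5))) (.node (.leaf (nat_lit 7)) (.leaf (nat_lit 7)))))) (.node (.node (.node (.node (.node (.leaf (nat_lit 2)) (.leaf (nat_lit 5))) (.leaf (nat_lit 10))) (.node (.node (.leaf (nat_lit 7)) (.leaf (nat_lit 3))) (.leaf (nat_lit 7)))) (.node (.node (.node (.leaf (nat_lit 5)) (.leaf (nat_lit 2))) (.leaf (nat_lit 7))) (.node (.leaf (nat_lit 4)) (.leaf (nat_lit 8))))) (.node (.node (.node (.node (.leaf (nat_lit 5)) (.leaf (nat_lit 8))) (.leaf (nat_lit 7))) (.node (.node (.leaf (nat_lit 7)) (.leaf (nat_lit 6))) (.leaf (nat_lit 8)))) (.node (.node (.node (.leaf (nat_lit 5)) (.leaf (nat_lit 7))) (.leaf (nat_lit 5))) (.node (.leaf (nat_lit 6)) (.leaf (nat_lit 7))))))) (.node (.node (.node (.node (.node (.node (.leaf (nat_lit 8)) (.leaf (nat_lit 5))) (.leaf (nat_lit 8))) (.node (.node (.leaf (nat_lit 6)) (.leaf (nat_lit 3))) (.leaf (nat_lit 4)))) (.node (.node (.node (.leaf (nat_lit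 3)) (.leaf (nat_lit 5))) (.leaf (nat_lit 6))) (.node (.node (.leaf (nat_lit 6)) (.leaf (nat_lit 6))) (.leaf (nat_lit 3))))) (.node (.node (.node (.node (.leaf (nat_lit 9)) (.leaf (nat_lit 2))) (.leaf (nat_lit 9))) (.node (.node (.leaf (nat_lit 8)) (.leaf (nat_lit 4))) (.leaf (nat_lit 5)))) (.node (.node (.node (.leaf (nat_lit 7)) (.leaf (nat_lit 7))) (.leaf (nat_lit 6))) (.node (.leaf (nat_lit 8)) (.leaf (nat_lit 8)))))) (.node (.node (.node (.node (.node (.leaf (nat_lit 6)) (.leaf (nat_lit 4))) (.leaf (nat_lit 8))) (.node (.node (.leaf (nat_lit 9)) (.leaf (nat_lit 2))) (.leaf (nat_lit 6)))) (.node (.node (.node (.leaf (nat_lit 5)) (.leaf (nat_lit 6))) (.leaf (nat_lit 5))) (.node (.leaf (nat_lit 6)) (.leaf (nat_lit 9))))) (.node (.node (.node (.node (.leaf (nat_lit 6)) (.leaf (nat_lit 8))) (.leaf (nat_lit 6))) (.node (.node (.leaf (nat_lit 7)) (.leaf (nat_lit 2))) (.leaf (nat_lit 6)))) (.node (.node (.node (.leaf (nat_lit 6)) (.leaf (nat_lit 7))) (.leaf (nat_lit 7))) (.node (.leaf (nat_lit 5)) (.leaf (nat_lit 7)))))))) (.node (.node (.node (.node (.node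 (.node (.node (.leaf (nat_lit 5)) (.leaf (nat_lit 8))) (.leaf (nat_lit 1))) (.node (.node (.leaf (nat_lit 9)) (.leaf (nat_lit 8))) (.leaf (nat_lit 3)))) (.node (.node (.node (.leaf (nat_lit 7)) (.leaf (nat_lit 6))) (.leaf (nat_lit 7))) (.node (.node (.leaf (nat_lit 7)) (.leaf (nat_lit 6))) (.leaf (nat_lit 5))))) (.node (.node (.node (.node (.leaf (nat_lit 7)) (.leaf (nat_lit 2))) (.leaf (nat_lit 4))) (.node (.node (.leaf (nat_lit 3)) (.leaf (nat_lit 7))) (.leaf (nat_lit 8)))) (.node (.node (.node (.leaf (nat_lit 8)) (.leaf (nat_lit 6))) (.leaf (nat_lit 3))) (.node (.leaf (nat_lit 7)) (.leaf (nat_lit 8)))))) (.node (.node (.node (.node (.node (.leaf (nat_lit 6)) (.leaf (nat_lit 7))) (.leaf (nat_lit 3))) (.node (.node (.leaf (nat_lit 7)) (.leaf (nat_lit 6))) (.leaf (nat_lit 8)))) (.node (.node (.node (.leaf (nat_lit 2)) (.leaf (nat_lit 2))) (.leaf (nat_lit 8))) (.node (.leaf (nat_lit 7)) (.leaf (nat_lit 8))))) (.node (.node (.node (.node (.leaf (nat_lit 2)) (.leaf (nat_lit 7))) (.leaf (nat_lit 7))) (.node (.node (.leaf (nat_lit 6)) (.leaf (nat_lit 6)))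 (.leaf (nat_lit 6)))) (.node (.node (.node (.leaf (nat_lit 6)) (.leaf (nat_lit 8))) (.leaf (nat_lit 9))) (.node (.leaf (nat_lit 7)) (.leaf (nat_lit 3))))))) (.node (.node (.node (.node (.node (.node (.leaf (nat_lit 7)) (.leaf (nat_lit 4))) (.leaf (nat_lit 1))) (.node (.node (.leaf (nat_lit 5)) (.leaf (nat_lit 5))) (.leaf (nat_lit 6)))) (.node (.node (.node (.leaf (nat_lit 5)) (.leaf (nat_lit 6))) (.leaf (nat_lit 8))) (.node (.node (.leaf (nat_lit 2)) (.leaf (nat_lit 6))) (.leaf (nat_lit 6))))) (.node (.node (.node (.node (.leaf (nat_lit 8)) (.leaf (nat_lit 5))) (.leaf (nat_lit 8))) (.node (.node (.leaf (nat_lit 7)) (.leaf (nat_lit 7))) (.leaf (nat_lit 6)))) (.node (.node (.node (.leaf (nat_lit 7)) (.leaf (nat_lit 4))) (.leaf (nat_lit 7))) (.node (.leaf (nat_lit 6)) (.leaf (nat_lit 4)))))) (.node (.node (.node (.node (.node (.leaf (nat_lit 8)) (.leaf (nat_lit 6))) (.leaf (nat_lit 9))) (.node (.node (.leaf (nat_lit 6)) (.leaf (nat_lit 7))) (.leaf (nat_lit 7)))) (.node (.node (.node (.leaf (nat_lit 6)) (.leaf (nat_lit 5))) (.leaf (nat_lit 1))) (.node (.leaf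 (nat_lit 6)) (.leaf (nat_lit 5))))) (.node (.node (.node (.node (.leaf (nat_lit 7)) (.leaf (nat_lit 3))) (.leaf (nat_lit 5))) (.node (.node (.leaf (nat_lit 6)) (.leaf (nat_lit 9))) (.leaf (nat_lit 6)))) (.node (.node (.node (.leaf (nat_lit 6)) (.leaf (nat_lit 8))) (.leaf (nat_lit 5))) (.node (.leaf (nat_lit 4)) (.leaf (nat_lit 8))))))))) (.node (.node (.node (.node (.node (.node (.node (.node (.leaf (nat_lit 0)) (.leaf (nat_lit 6))) (.leaf (nat_lit 5))) (.node (.node (.leaf (nat_lit 6)) (.leaf (nat_lit 7))) (.leaf (nat_lit 7)))) (.node (.node (.node (.leaf (nat_lit 3)) (.leaf (nat_lit 5))) (.leaf (nat_lit 5))) (.node (.node (.leaf (nat_lit 3)) (.leaf (nat_lit 2))) (.leaf (nat_lit 6))))) (.node (.node (.node (.node (.leaf (nat_lit 8)) (.leaf (nat_lit 7))) (.leaf (nat_lit 5))) (.node (.node (.leaf (nat_lit 6)) (.leaf (nat_lit 7))) (.leaf (nat_lit 6)))) (.node (.node (.node (.leaf (nat_lit 7)) (.leaf (nat_lit 7))) (.leaf (nat_lit 8))) (.node (.leaf (nat_lit 8)) (.leaf (nat_lit 7)))))) (.node (.node (.node (.node (.node (.leaf (nat_lit 5)) (.leaf (nat_lit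 8))) (.leaf (nat_lit 6))) (.node (.node (.leaf (nat_lit 7)) (.leaf (nat_lit 4))) (.leaf (nat_lit 8)))) (.node (.node (.node (.leaf (nat_lit 7)) (.leaf (nat_lit 6))) (.leaf (nat_lit 8))) (.node (.leaf (nat_lit 4)) (.leaf (nat_lit 4))))) (.node (.node (.node (.node (.leaf (nat_lit 7)) (.leaf (nat_lit 8))) (.leaf (nat_lit 7))) (.node (.node (.leaf (nat_lit 6)) (.leaf (nat_lit 1))) (.leaf (nat_lit 5)))) (.node (.node (.node (.leaf (nat_lit 4)) (.leaf (nat_lit 7))) (.leaf (nat_lit 6))) (.node (.leaf (nat_lit 7)) (.leaf (nat_lit 5))))))) (.node (.node (.node (.node (.node (.node (.leaf (nat_lit 5)) (.leaf (nat_lit 5))) (.leaf (nat_lit 7))) (.node (.node (.leaf (nat_lit 7)) (.leaf (nat_lit 7))) (.leaf (nat_lit 7)))) (.node (.node (.node (.leaf (nat_lit 7)) (.leaf (nat_lit 2))) (.leaf (nat_lit 8))) (.node (.node (.leaf (nat_lit 7)) (.leaf (nat_lit 5))) (.leaf (nat_lit 7))))) (.node (.node (.node (.node (.leaf (nat_lit 4)) (.leaf (nat_lit 6))) (.leaf (nat_lit 7))) (.node (.node (.leaf (nat_lit 7)) (.leaf (nat_lit 6))) (.leaf (nat_lit 7)))) (.node (.node (.node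 (.leaf (nat_lit 8)) (.leaf (nat_lit 4))) (.leaf (nat_lit 3))) (.node (.leaf (nat_lit 6)) (.leaf (nat_lit 9)))))) (.node (.node (.node (.node (.node (.leaf (nat_lit 10)) (.leaf (nat_lit 5))) (.leaf (nat_lit 8))) (.node (.node (.leaf (nat_lit 7)) (.leaf (nat_lit 9))) (.leaf (nat_lit 4)))) (.node (.node (.node (.leaf (nat_lit 8)) (.leaf (nat_lit 6))) (.leaf (nat_lit 6))) (.node (.leaf (nat_lit 8)) (.leaf (nat_lit 8))))) (.node (.node (.node (.node (.leaf (nat_lit 5)) (.leaf (nat_lit 7))) (.leaf (nat_lit 5))) (.node (.node (.leaf (nat_lit 7)) (.leaf (nat_lit 7))) (.leaf (nat_lit 6)))) (.node (.node (.node (.leaf (nat_lit 7)) (.leaf (nat_lit 4))) (.leaf (nat_lit 2))) (.node (.leaf (nat_lit 4)) (.leaf (nat_lit 4)))))))) (.node (.node (.node (.node (.node (.node (.node (.leaf (nat_lit 7)) (.leaf (nat_lit 7))) (.leaf (nat_lit 8))) (.node (.node (.leaf (nat_lit 8)) (.leaf (nat_lit 7))) (.leaf (nat_lit 5)))) (.node (.node (.node (.leaf (nat_lit 6)) (.leaf (nat_lit 7))) (.leaf (nat_lit 3))) (.node (.node (.leaf (nat_lit 7)) (.leaf (nat_lit 7))) (.leaf (nat_lit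 8))))) (.node (.node (.node (.node (.leaf (nat_lit 9)) (.leaf (nat_lit 6))) (.leaf (nat_lit 6))) (.node (.node (.leaf (nat_lit 9)) (.leaf (nat_lit 6))) (.leaf (nat_lit 6)))) (.node (.node (.node (.leaf (nat_lit 8)) (.leaf (nat_lit 7))) (.leaf (nat_lit 9))) (.node (.leaf (nat_lit 1)) (.leaf (nat_lit 7)))))) (.node (.node (.node (.node (.node (.leaf (nat_lit 7)) (.leaf (nat_lit 3))) (.leaf (nat_lit 8))) (.node (.node (.leaf (nat_lit 9)) (.leaf (nat_lit 6))) (.leaf (nat_lit 6)))) (.node (.node (.node (.leaf (nat_lit 7)) (.leaf (nat_lit 5))) (.leaf (nat_lit 7))) (.node (.leaf (nat_lit 7)) (.leaf (nat_lit 1))))) (.node (.node (.node (.node (.leaf (nat_lit 5)) (.leaf (nat_lit 5))) (.leaf (nat_lit 7))) (.node (.node (.leaf (nat_lit 3)) (.leaf (nat_lit 6))) (.leaf (nat_lit 6)))) (.node (.node (.node (.leaf (nat_lit 8)) (.leaf (nat_lit 8))) (.leaf (nat_lit 3))) (.node (.leaf (nat_lit 5)) (.leaf (nat_lit 7))))))) (.node (.node (.node (.node (.node (.node (.leaf (nat_lit 5)) (.leaf (nat_lit 5))) (.leaf (nat_lit 7))) (.node (.node (.leaf (nat_lit 6)) (.leaf (nat_lit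 3))) (.leaf (nat_lit 8)))) (.node (.node (.node (.leaf (nat_lit 7)) (.leaf (nat_lit 6))) (.leaf (nat_lit 5))) (.node (.node (.leaf (nat_lit 3)) (.leaf (nat_lit 6))) (.leaf (nat_lit 7))))) (.node (.node (.node (.node (.leaf (nat_lit 6)) (.leaf (nat_lit 7))) (.leaf (nat_lit 7))) (.node (.node (.leaf (nat_lit 8)) (.leaf (nat_lit 3))) (.leaf (nat_lit 8)))) (.node (.node (.node (.leaf (nat_lit 4)) (.leaf (nat_lit 4))) (.leaf (nat_lit 8))) (.node (.leaf (nat_lit 8)) (.leaf (nat_lit 8)))))) (.node (.node (.node (.node (.node (.leaf (nat_lit 7)) (.leaf (nat_lit 8))) (.leaf (nat_lit 5))) (.node (.node (.leaf (nat_lit 6)) (.leaf (nat_lit 7))) (.leaf (nat_lit 5)))) (.node (.node (.node (.leaf (nat_lit 5)) (.leaf (nat_lit 6))) (.leaf (nat_lit 7))) (.node (.leaf (nat_lit 8)) (.leaf (nat_lit 7))))) (.node (.node (.node (.node (.leaf (nat_lit 7)) (.leaf (nat_lit 8))) (.leaf (nat_lit 7))) (.node (.node (.leaf (nat_lit 7)) (.leaf (nat_lit 5))) (.leaf (nat_lit 5)))) (.node (.node (.node (.leaf (nat_lit 5)) (.leaf (nat_lit 5))) (.leaf (nat_lit 2))) (.node (.leaf (nat_lit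 5)) (.leaf (nat_lit 9)))))))))) (.node (.node (.node (.node (.node (.node (.node (.node (.node (.leaf (nat_lit 0)) (.leaf (nat_lit 8))) (.leaf (nat_lit 6))) (.node (.node (.leaf (nat_lit 6)) (.leaf (nat_lit 5))) (.leaf (nat_lit 6)))) (.node (.node (.node (.leaf (nat_lit 6)) (.leaf (nat_lit 7))) (.leaf (nat_lit 2))) (.node (.node (.leaf (nat_lit 6)) (.leaf (nat_lit 8))) (.leaf (nat_lit 7))))) (.node (.node (.node (.node (.leaf (nat_lit 6)) (.leaf (nat_lit 5))) (.leaf (nat_lit 7))) (.node (.node (.leaf (nat_lit 7)) (.leaf (nat_lit 6))) (.leaf (nat_lit 5)))) (.node (.node (.node (.leaf (nat_lit 8)) (.leaf (nat_lit 8))) (.leaf (nat_lit 7))) (.node (.leaf (nat_lit 5)) (.leaf (nat_lit 8)))))) (.node (.node (.node (.node (.node (.leaf (nat_lit 7)) (.leaf (nat_lit 6))) (.leaf (nat_lit 6))) (.node (.node (.leaf (nat_lit 7)) (.leaf (nat_lit 7))) (.leaf (nat_lit 3)))) (.node (.node (.node (.leaf (nat_lit 7)) (.leaf (nat_lit 6))) (.leaf (nat_lit 7))) (.node (.leaf (nat_lit 4)) (.leaf (nat_lit 6))))) (.node (.node (.node (.node (.leaf (nat_lit 5)) (.leaf (nat_lit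 9))) (.leaf (nat_lit 8))) (.node (.node (.leaf (nat_lit 7)) (.leaf (nat_lit 6))) (.leaf (nat_lit 3)))) (.node (.node (.node (.leaf (nat_lit 7)) (.leaf (nat_lit 8))) (.leaf (nat_lit 8))) (.node (.leaf (nat_lit 7)) (.leaf (nat_lit 7))))))) (.node (.node (.node (.node (.node (.node (.leaf (nat_lit 8)) (.leaf (nat_lit 7))) (.leaf (nat_lit 7))) (.node (.node (.leaf (nat_lit 7)) (.leaf (nat_lit 5))) (.leaf (nat_lit 8)))) (.node (.node (.node (.leaf (nat_lit 8)) (.leaf (nat_lit 7))) (.leaf (nat_lit 5))) (.node (.node (.leaf (nat_lit 6)) (.leaf (nat_lit 7))) (.leaf (nat_lit 6))))) (.node (.node (.node (.node (.leaf (nat_lit 8)) (.leaf (nat_lit 4))) (.leaf (nat_lit 4))) (.node (.node (.leaf (nat_lit 7)) (.leaf (nat_lit 5))) (.leaf (nat_lit 8)))) (.node (.node (.node (.leaf (nat_lit 7)) (.leaf (nat_lit 4))) (.leaf (nat_lit 1))) (.node (.leaf (nat_lit 7)) (.leaf (nat_lit 6)))))) (.node (.node (.node (.node (.node (.leaf (nat_lit 7)) (.leaf (nat_lit 7))) (.leaf (nat_lit 5))) (.node (.node (.leaf (nat_lit 7)) (.leaf (nat_lit 9))) (.leaf (nat_lit 8)))) (.node (.node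 (.node (.leaf (nat_lit 9)) (.leaf (nat_lit 7))) (.leaf (nat_lit 6))) (.node (.leaf (nat_lit 8)) (.leaf (nat_lit 6))))) (.node (.node (.node (.node (.leaf (nat_lit 7)) (.leaf (nat_lit 6))) (.leaf (nat_lit 8))) (.node (.node (.leaf (nat_lit 6)) (.leaf (nat_lit 9))) (.leaf (nat_lit 5)))) (.node (.node (.node (.leaf (nat_lit 7)) (.leaf (nat_lit 4))) (.leaf (nat_lit 4))) (.node (.leaf (nat_lit 9)) (.leaf (nat_lit 4)))))))) (.node (.node (.node (.node (.node (.node (.node (.leaf (nat_lit 7)) (.leaf (nat_lit 3))) (.leaf (nat_lit 8))) (.node (.node (.leaf (nat_lit 6)) (.leaf (nat_lit 5))) (.leaf (nat_lit 2)))) (.node (.node (.node (.leaf (nat_lit 4)) (.leaf (nat_lit 4))) (.leaf (nat_lit 6))) (.node (.node (.leaf (nat_lit 4)) (.leaf (nat_lit 5))) (.leaf (nat_lit 7))))) (.node (.node (.node (.node (.leaf (nat_lit 8)) (.leaf (nat_lit 7))) (.leaf (nat_lit 6))) (.node (.node (.leaf (nat_lit 7)) (.leaf (nat_lit 6))) (.leaf (nat_lit 5)))) (.node (.node (.node (.leaf (nat_lit 7)) (.leaf (nat_lit 7))) (.leaf (nat_lit 8))) (.node (.leaf (nat_lit 6)) (.leaf (nat_lit 6))))))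 (.node (.node (.node (.node (.node (.leaf (nat_lit 6)) (.leaf (nat_lit 2))) (.leaf (nat_lit 7))) (.node (.node (.leaf (nat_lit 8)) (.leaf (nat_lit 7))) (.leaf (nat_lit 8)))) (.node (.node (.node (.leaf (nat_lit 8)) (.leaf (nat_lit 6))) (.leaf (nat_lit 3))) (.node (.leaf (nat_lit 7)) (.leaf (nat_lit 7))))) (.node (.node (.node (.node (.leaf (nat_lit 6)) (.leaf (nat_lit 6))) (.leaf (nat_lit 7))) (.node (.node (.leaf (nat_lit 6)) (.leaf (nat_lit 8))) (.leaf (nat_lit 6)))) (.node (.node (.node (.leaf (nat_lit 7)) (.leaf (nat_lit 7))) (.leaf (nat_lit 7))) (.node (.leaf (nat_lit 8)) (.leaf (nat_lit 3))))))) (.node (.node (.node (.node (.node (.node (.leaf (nat_lit 8)) (.leaf (nat_lit 8))) (.leaf (nat_lit 3))) (.node (.node (.leaf (nat_lit 4)) (.leaf (nat_lit 6))) (.leaf (nat_lit 5)))) (.node (.node (.node (.leaf (nat_lit 6)) (.leaf (nat_lit 3))) (.leaf (nat_lit 5))) (.node (.node (.leaf (nat_lit 8)) (.leaf (nat_lit 3))) (.leaf (nat_lit 4))))) (.node (.node (.node (.node (.leaf (nat_lit 5)) (.leaf (nat_lit 6))) (.leaf (nat_lit 5))) (.node (.node (.leaf (nat_lit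 3)) (.leaf (nat_lit 9))) (.leaf (nat_lit 7)))) (.node (.node (.node (.leaf (nat_lit 7)) (.leaf (nat_lit 4))) (.leaf (nat_lit 4))) (.node (.leaf (nat_lit 7)) (.leaf (nat_lit 6)))))) (.node (.node (.node (.node (.node (.leaf (nat_lit 8)) (.leaf (nat_lit 6))) (.leaf (nat_lit 5))) (.node (.node (.leaf (nat_lit 5)) (.leaf (nat_lit 5))) (.leaf (nat_lit 5)))) (.node (.node (.node (.leaf (nat_lit 6)) (.leaf (nat_lit 8))) (.leaf (nat_lit 7))) (.node (.leaf (nat_lit 7)) (.leaf (nat_lit 8))))) (.node (.node (.node (.node (.leaf (nat_lit 7)) (.leaf (nat_lit 4))) (.leaf (nat_lit 6))) (.node (.node (.leaf (nat_lit 7)) (.leaf (nat_lit 9))) (.leaf (nat_lit 3)))) (.node (.node (.node (.leaf (nat_lit 4)) (.leaf (nat_lit 5))) (.leaf (nat_lit 8))) (.node (.leaf (nat_lit 8)) (.leaf (nat_lit 7))))))))) (.node (.node (.node (.node (.node (.node (.node (.node (.leaf (nat_lit 0)) (.leaf (nat_lit 5))) (.leaf (nat_lit 7))) (.node (.node (.leaf (nat_lit 2)) (.leaf (nat_lit 3))) (.leaf (nat_lit 7)))) (.node (.node (.node (.leaf (nat_lit 7)) (.leaf (nat_lit 7))) (.leaf (nat_lit 7)))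 (.node (.node (.leaf (nat_lit 8)) (.leaf (nat_lit 8))) (.leaf (nat_lit 6))))) (.node (.node (.node (.node (.leaf (nat_lit 4)) (.leaf (nat_lit 4))) (.leaf (nat_lit 6))) (.node (.node (.leaf (nat_lit 5)) (.leaf (nat_lit 9))) (.leaf (nat_lit 4)))) (.node (.node (.node (.leaf (nat_lit 7)) (.leaf (nat_lit 7))) (.leaf (nat_lit 6))) (.node (.leaf (nat_lit 3)) (.leaf (nat_lit 5)))))) (.node (.node (.node (.node (.node (.leaf (nat_lit 8)) (.leaf (nat_lit 8))) (.leaf (nat_lit 7))) (.node (.node (.leaf (nat_lit 8)) (.leaf (nat_lit 5))) (.leaf (nat_lit 9)))) (.node (.node (.node (.leaf (nat_lit 6)) (.leaf (nat_lit 7))) (.leaf (nat_lit 9))) (.node (.leaf (nat_lit 8)) (.leaf (nat_lit 3))))) (.node (.node (.node (.node (.leaf (nat_lit 5)) (.leaf (nat_lit 7))) (.leaf (nat_lit 5))) (.node (.node (.leaf (nat_lit 5)) (.leaf (nat_lit 5))) (.leaf (nat_lit 7)))) (.node (.node (.node (.leaf (nat_lit 8)) (.leaf (nat_lit 9))) (.leaf (nat_lit 8))) (.node (.leaf (nat_lit 6)) (.leaf (nat_lit 7))))))) (.node (.node (.node (.node (.node (.node (.leaf (nat_lit 7)) (.leaf (nat_lit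 6))) (.leaf (nat_lit 3))) (.node (.node (.leaf (nat_lit 6)) (.leaf (nat_lit 7))) (.leaf (nat_lit 7)))) (.node (.node (.node (.leaf (nat_lit 5)) (.leaf (nat_lit 8))) (.leaf (nat_lit 7))) (.node (.node (.leaf (nat_lit 5)) (.leaf (nat_lit 6))) (.leaf (nat_lit 5))))) (.node (.node (.node (.node (.leaf (nat_lit 7)) (.leaf (nat_lit 3))) (.leaf (nat_lit 7))) (.node (.node (.leaf (nat_lit 7)) (.leaf (nat_lit 4))) (.leaf (nat_lit 6)))) (.node (.node (.node (.leaf (nat_lit 7)) (.leaf (nat_lit 6))) (.leaf (nat_lit 5))) (.node (.leaf (nat_lit 5)) (.leaf (nat_lit 5)))))) (.node (.node (.node (.node (.node (.leaf (nat_lit 8)) (.leaf (nat_lit 5))) (.leaf (nat_lit 7))) (.node (.node (.leaf (nat_lit 5)) (.leaf (nat_lit 6))) (.leaf (nat_lit 7)))) (.node (.node (.node (.leaf (nat_lit 5)) (.leaf (nat_lit 8))) (.leaf (nat_lit 5))) (.node (.leaf (nat_lit 7)) (.leaf (nat_lit 2))))) (.node (.node (.node (.node (.leaf (nat_lit 6)) (.leaf (nat_lit 8))) (.leaf (nat_lit 6))) (.node (.node (.leaf (nat_lit 5)) (.leaf (nat_lit 4))) (.leaf (nat_lit 7)))) (.node (.node (.node (.leaf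 (nat_lit 3)) (.leaf (nat_lit 2))) (.leaf (nat_lit 5))) (.node (.leaf (nat_lit 7)) (.leaf (nat_lit 9)))))))) (.node (.node (.node (.node (.node (.node (.node (.leaf (nat_lit 5)) (.leaf (nat_lit 7))) (.leaf (nat_lit 5))) (.node (.node (.leaf (nat_lit 2)) (.leaf (nat_lit 5))) (.leaf (nat_lit 8)))) (.node (.node (.node (.leaf (nat_lit 8)) (.leaf (nat_lit 8))) (.leaf (nat_lit 4))) (.node (.node (.leaf (nat_lit 8)) (.leaf (nat_lit 2))) (.leaf (nat_lit 3))))) (.node (.node (.node (.node (.leaf (nat_lit 8)) (.leaf (nat_lit 5))) (.leaf (nat_lit 7))) (.node (.node (.leaf (nat_lit 8)) (.leaf (nat_lit 6))) (.leaf (nat_lit 5)))) (.node (.node (.node (.leaf (nat_lit 6)) (.leaf (nat_lit 7))) (.leaf (nat_lit 6))) (.node (.leaf (nat_lit 8)) (.leaf (nat_lit 1)))))) (.node (.node (.node (.node (.node (.leaf (nat_lit 8)) (.leaf (nat_lit 8))) (.leaf (nat_lit 5))) (.node (.node (.leaf (nat_lit 6)) (.leaf (nat_lit 5))) (.leaf (nat_lit 5)))) (.node (.node (.node (.leaf (nat_lit 9)) (.leaf (nat_lit 5))) (.leaf (nat_lit 5))) (.node (.leaf (nat_lit 6)) (.leaf (nat_lit 6))))) (.node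 (.node (.node (.node (.leaf (nat_lit 4)) (.leaf (nat_lit 8))) (.leaf (nat_lit 7))) (.node (.node (.leaf (nat_lit 8)) (.leaf (nat_lit 6))) (.leaf (nat_lit 5)))) (.node (.node (.node (.leaf (nat_lit 7)) (.leaf (nat_lit 8))) (.leaf (nat_lit 7))) (.node (.leaf (nat_lit 8)) (.leaf (nat_lit 7))))))) (.node (.node (.node (.node (.node (.node (.leaf (nat_lit 8)) (.leaf (nat_lit 5))) (.leaf (nat_lit 3))) (.node (.node (.leaf (nat_lit 4)) (.leaf (nat_lit 7))) (.leaf (nat_lit 9)))) (.node (.node (.node (.leaf (nat_lit 8)) (.leaf (nat_lit 5))) (.leaf (nat_lit 8))) (.node (.node (.leaf (nat_lit 8)) (.leaf (nat_lit 8))) (.leaf (nat_lit 3))))) (.node (.node (.node (.node (.leaf (nat_lit 8)) (.leaf (nat_lit 7))) (.leaf (nat_lit 8))) (.node (.node (.leaf (nat_lit 8)) (.leaf (nat_lit 7))) (.leaf (nat_lit 7)))) (.node (.node (.node (.leaf (nat_lit 6)) (.leaf (nat_lit 4))) (.leaf (nat_lit 7))) (.node (.leaf (nat_lit 7)) (.leaf (nat_lit 2)))))) (.node (.node (.node (.node (.node (.leaf (nat_lit 6)) (.leaf (nat_lit 6))) (.leaf (nat_lit 4))) (.node (.node (.leaf (nat_lit 6))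 (.leaf (nat_lit 6))) (.leaf (nat_lit 8)))) (.node (.node (.node (.leaf (nat_lit 6)) (.leaf (nat_lit 7))) (.leaf (nat_lit 7))) (.node (.leaf (nat_lit 6)) (.leaf (nat_lit 2))))) (.node (.node (.node (.node (.leaf (nat_lit 8)) (.leaf (nat_lit 6))) (.leaf (nat_lit 7))) (.node (.node (.leaf (nat_lit 6)) (.leaf (nat_lit 4))) (.leaf (nat_lit 4)))) (.node (.node (.node (.leaf (nat_lit 5)) (.leaf (nat_lit 6))) (.leaf (nat_lit 5))) (.node (.leaf (nat_lit 5)) (.leaf (nat_lit 6)))))))))))))

noncomputable def d_D : NT := (.node (.node (.node (.node (.node (.node (.node (.node (.node (.node (.node (.node (.leaf (nat_lit 0)) (.leaf (nat_lit 47270723))) (.leaf (nat_lit 39114463))) (.node (.node (.leaf (nat_lit 42035339)) (.leaf (nat_lit 31354493))) (.leaf (nat_lit 20289395)))) (.node (.node (.node (.leaf (nat_lit 47588620)) (.leaf (nat_lit 43521750))) (.leaf (nat_lit 3173355))) (.node (.node (.leaf (nat_lit 49960798)) (.leaf (nat_lit 40670814))) (.leaf (nat_lit 40114369))))) (.node (.node (.node (.node (.leaf (nat_lit 30684326)) (.leaf (nat_lit 6327403))) (.leaf (nat_lit 48734035))) (.node (.node (.leaf (nat_lit 31055697)) (.leaf (nat_lit 13697191))) (.leaf (nat_lit 1657977)))) (.node (.node (.node (.leaf (nat_lit 34910907)) (.leaf (nat_lit 42813619))) (.leaf (nat_lit 47951058))) (.node (.leaf (nat_lit 19869503)) (.leaf (nat_lit 7273802)))))) (.node (.node (.node (.node (.node (.leaf (nat_lit 28129431)) (.leaf (nat_lit 29535383))) (.leaf (nat_lit 3104085))) (.node (.node (.leaf (nat_lit 31700333)) (.leaf (nat_lit 27899994))) (.leaf (nat_lit 56471427)))) (.node (.node (.node (.leaf (nat_lit 36497389)) (.leaf (nat_lit 27178611))) (.leaf (nat_lit 26105211))) (.node (.leaf (nat_lit 5499229)) (.leaf (nat_lit 25962428))))) (.node (.node (.node (.node (.leaf (nat_lit 19)) (.leaf (nat_lit 54492991))) (.leaf (nat_lit 41709784))) (.node (.node (.leaf (nat_lit 7236595)) (.leaf (nat_lit 1571199))) (.leaf (nat_lit 45163890)))) (.node (.node (.node (.leaf (nat_lit 15982319)) (.leaf (nat_lit 7655671))) (.leaf (nat_lit 16079387))) (.node (.leaf (nat_lit 2799681)) (.leaf (nat_lit 19546194))))))) (.node (.node (.node (.node (.node (.node (.leaf (nat_lit 19477360)) (.leaf (nat_lit 52865853))) (.leaf (nat_lit 42656066))) (.node (.node (.leaf (nat_lit 55166080)) (.leaf (nat_lit 53992390))) (.leaf (nat_lit 35725582)))) (.node (.node (.node (.leaf (nat_lit 1224331)) (.leaf (nat_lit 11586111))) (.leaf (nat_lit 32330311))) (.node (.node (.leaf (nat_lit 20317077)) (.leaf (nat_lit 27923931))) (.leaf (nat_lit 52005527))))) (.node (.node (.node (.node (.leaf (nat_lit 37128221)) (.leaf (nat_lit 4860051))) (.leaf (nat_lit 45428814))) (.node (.node (.leaf (nat_lit 33273329)) (.leaf (nat_lit 4277330))) (.leaf (nat_lit 10007186)))) (.node (.node (.node (.leaf (nat_lit 13471503)) (.leaf (nat_lit 37860181))) (.leaf (nat_lit 27276552))) (.node (.leaf (nat_lit 30454413)) (.leaf (nat_lit 9201485)))))) (.node (.node (.node (.node (.node (.leaf (nat_lit 14368719)) (.leaf (nat_lit 39388834))) (.leaf (nat_lit 30469259))) (.node (.node (.leaf (nat_lit 37442883)) (.leaf (nat_lit 21233634))) (.leaf (nat_lit 9781251)))) (.node (.node (.node (.leaf (nat_lit 55435645)) (.leaf (nat_lit 43782278))) (.leaf (nat_lit 19779575))) (.node (.leaf (nat_lit 30330650)) (.leaf (nat_lit 20675668))))) (.node (.node (.node (.node (.leaf (nat_lit 4487034)) (.leaf (nat_lit 44907709))) (.leaf (nat_lit 51886388))) (.node (.node (.leaf (nat_lit 8160749)) (.leaf (nat_lit 30405861))) (.leaf (nat_lit 33271821)))) (.node (.node (.node (.leaf (nat_lit 6445781)) (.leaf (nat_lit 9211029))) (.leaf (nat_lit 18841308))) (.node (.leaf (nat_lit 26689657)) (.leaf (nat_lit 18337970)))))))) (.node (.node (.node (.node (.node (.node (.node (.leaf (nat_lit 30502435)) (.leaf (nat_lit 24465586))) (.leaf (nat_lit 40494985))) (.node (.node (.leaf (nat_lit 1478075)) (.leaf (nat_lit 50325423))) (.leaf (nat_lit 40925374)))) (.node (.node (.node (.leaf (nat_lit 7119204)) (.leaf (nat_lit 35298606))) (.leaf (nat_lit 1905935))) (.node (.node (.leaf (nat_lit 46765687)) (.leaf (nat_lit 14542123))) (.leaf (nat_lit 14723111))))) (.node (.node (.node (.node (.leaf (nat_lit 49400786)) (.leaf (nat_lit 23929962))) (.leaf (nat_lit 50291373))) (.node (.node (.leaf (nat_lit 32581329)) (.leaf (nat_lit 35509725))) (.leaf (nat_lit 14032840)))) (.node (.node (.node (.leaf (nat_lit 49051453)) (.leaf (nat_lit 22201792))) (.leaf (nat_lit 53924098))) (.node (.leaf (nat_lit 50050728)) (.leaf (nat_lit 41572157)))))) (.node (.node (.node (.node (.node (.leaf (nat_lit 18079671)) (.leaf (nat_lit 26209752))) (.leaf (nat_lit 46501618))) (.node (.node (.leaf (nat_lit 12755036)) (.leaf (nat_lit 10982430))) (.leaf (nat_lit 18762702)))) (.node (.node (.node (.leaf (nat_lit 12391864)) (.leaf (nat_lit 44588401))) (.leaf (nat_lit 51085087))) (.node (.leaf (nat_lit 41821485)) (.leaf (nat_lit 3063903))))) (.node (.node (.node (.node (.leaf (nat_lit 23587983)) (.leaf (nat_lit 26177433))) (.leaf (nat_lit 10539707))) (.node (.node (.leaf (nat_lit 5162171)) (.leaf (nat_lit 13193843))) (.leaf (nat_lit 11569522)))) (.node (.node (.node (.leaf (nat_lit 28664645)) (.leaf (nat_lit 45848136))) (.leaf (nat_lit 14876235))) (.node (.leaf (nat_lit 38963729)) (.leaf (nat_lit 32375092))))))) (.node (.node (.node (.node (.node (.node (.leaf (nat_lit 13545777)) (.leaf (nat_lit 43001587))) (.leaf (nat_lit 26027835))) (.node (.node (.leaf (nat_lit 7040621)) (.leaf (nat_lit 36092613))) (.leaf (nat_lit 29964047)))) (.node (.node (.node (.leaf (nat_lit 6816485)) (.leaf (nat_lit 49910924))) (.leaf (nat_lit 10082980))) (.node (.node (.leaf (nat_lit 23930110)) (.leaf (nat_lit 2288979))) (.leaf (nat_lit 19092879))))) (.node (.node (.node (.node (.leaf (nat_lit 15152513)) (.leaf (nat_lit 55149256))) (.leaf (nat_lit 53402251))) (.node (.node (.leaf (nat_lit 48788467)) (.leaf (nat_lit 18442366))) (.leaf (nat_lit 36120792)))) (.node (.node (.node (.leaf (nat_lit 21033925)) (.leaf (nat_lit 14482731))) (.leaf (nat_lit 18338860))) (.node (.leaf (nat_lit 30142161)) (.leaf (nat_lit 35657629)))))) (.node (.node (.node (.node (.node (.leaf (nat_lit 6899445)) (.leaf (nat_lit 10283867))) (.leaf (nat_lit 4866763))) (.node (.node (.leaf (nat_lit 56158136)) (.leaf (nat_lit 42326972))) (.leaf (nat_lit 3755763)))) (.node (.node (.node (.leaf (nat_lit 5993047)) (.leaf (nat_lit 5067019))) (.leaf (nat_lit 7888412))) (.node (.leaf (nat_lit 20501438)) (.leaf (nat_lit 42979708))))) (.node (.node (.node (.node (.leaf (nat_lit 12462629)) (.leaf (nat_lit 29248913))) (.leaf (nat_lit 28643893))) (.node (.node (.leaf (nat_lit 4474544)) (.leaf (nat_lit 2815925))) (.leaf (nat_lit 5506470)))) (.node (.node (.node (.leaf (nat_lit 55214128)) (.leaf (nat_lit 47627480))) (.leaf (nat_lit 31079037))) (.node (.leaf (nat_lit 56075758)) (.leaf (nat_lit 51881765))))))))) (.node (.node (.node (.node (.node (.node (.node (.node (.leaf (nat_lit 24004335)) (.leaf (nat_lit 9654162))) (.leaf (nat_lit 24642872))) (.node (.node (.leaf (nat_lit 14944208)) (.leaf (nat_lit 34595805))) (.leaf (nat_lit 37658992)))) (.node (.node (.node (.leaf (nat_lit 19526698)) (.leaf (nat_lit 1170919))) (.leaf (nat_lit 28445564))) (.node (.node (.leaf (nat_lit 47032506)) (.leaf (nat_lit 24518649))) (.leaf (nat_lit 50343932))))) (.node (.node (.node (.node (.leaf (nat_lit 50629437)) (.leaf (nat_lit 28293435))) (.leaf (nat_lit 56433379))) (.node (.node (.leaf (nat_lit 17624630)) (.leaf (nat_lit 29578583))) (.leaf (nat_lit 15523051)))) (.node (.node (.node (.leaf (nat_lit 51102156)) (.leaf (nat_lit 26631138))) (.leaf (nat_lit 5419177))) (.node (.leaf (nat_lit 37492848)) (.leaf (nat_lit 60821)))))) (.node (.node (.node (.node (.node (.leaf (nat_lit 32603852)) (.leaf (nat_lit 50695293))) (.leaf (nat_lit 12061574))) (.node (.node (.leaf (nat_lit 42840296)) (.leaf (nat_lit 17866147))) (.leaf (nat_lit 8930861)))) (.node (.node (.node (.leaf (nat_lit 38875108)) (.leaf (nat_lit 22694743))) (.leaf (nat_lit 6664730))) (.node (.leaf (nat_lit 31132245)) (.leaf (nat_lit 24629075))))) (.node (.node (.node (.node (.leaf (nat_lit 53232771)) (.leaf (nat_lit 46504813))) (.leaf (nat_lit 19541135))) (.node (.node (.leaf (nat_lit 32247758)) (.leaf (nat_lit 35672304))) (.leaf (nat_lit 40299051)))) (.node (.node (.node (.leaf (nat_lit 30189039)) (.leaf (nat_lit 27860327))) (.leaf (nat_lit 19044961))) (.node (.leaf (nat_lit 45298817)) (.leaf (nat_lit 27630293))))))) (.node (.node (.node (.node (.node (.node (.leaf (nat_lit 39088491)) (.leaf (nat_lit 45639026))) (.leaf (nat_lit 20892023))) (.node (.node (.leaf (nat_lit 51538084)) (.leaf (nat_lit 6026445))) (.leaf (nat_lit 53675580)))) (.node (.node (.node (.leaf (nat_lit 30266088)) (.leaf (nat_lit 46688601))) (.leaf (nat_lit 18082011))) (.node (.node (.leaf (nat_lit 38833957)) (.leaf (nat_lit 5432241))) (.leaf (nat_lit 18867300))))) (.node (.node (.node (.node (.leaf (nat_lit 39920915)) (.leaf (nat_lit 18226067))) (.leaf (nat_lit 47554519))) (.node (.node (.leaf (nat_lit 47827539)) (.leaf (nat_lit 23870001))) (.leaf (nat_lit 38008457)))) (.node (.node (.node (.leaf (nat_lit 179829)) (.leaf (nat_lit 42153395))) (.leaf (nat_lit 30677818))) (.node (.leaf (nat_lit 12080951)) (.leaf (nat_lit 19245648)))))) (.node (.node (.node (.node (.node (.leaf (nat_lit 693510)) (.leaf (nat_lit 33974537))) (.leaf (nat_lit 16903777))) (.node (.node (.leaf (nat_lit 55290998)) (.leaf (nat_lit 26422470))) (.leaf (nat_lit 30900221)))) (.node (.node (.node (.leaf (nat_lit 29587034)) (.leaf (nat_lit 21764348))) (.leaf (nat_lit 31936590))) (.node (.leaf (nat_lit 739695)) (.leaf (nat_lit 35652619))))) (.node (.node (.node (.node (.leaf (nat_lit 33386436)) (.leaf (nat_lit 43425717))) (.leaf (nat_lit 33611418))) (.node (.node (.leaf (nat_lit 53985078)) (.leaf (nat_lit 49739361))) (.leaf (nat_lit 22707350)))) (.node (.node (.node (.leaf (nat_lit 22866655)) (.leaf (nat_lit 55986592))) (.leaf (nat_lit 24370883))) (.node (.leaf (nat_lit 46147013)) (.leaf (nat_lit 129670)))))))) (.node (.node (.node (.node (.node (.node (.node (.leaf (nat_lit 6680818)) (.leaf (nat_lit 44207472))) (.leaf (nat_lit 15591076))) (.node (.node (.leaf (nat_lit 18032021)) (.leaf (nat_lit 41594281))) (.leaf (nat_lit 33972667)))) (.node (.node (.node (.leaf (nat_lit 284070)) (.leaf (nat_lit 39150789))) (.leaf (nat_lit 37430082))) (.node (.node (.leaf (nat_lit 42995925)) (.leaf (nat_lit 40510363))) (.leaf (nat_lit 21992281))))) (.node (.node (.node (.node (.leaf (nat_lit 53223177)) (.leaf (nat_lit 4580051))) (.leaf (nat_lit 19664415))) (.node (.node (.leaf (nat_lit 640205)) (.leaf (nat_lit 44236546))) (.leaf (nat_lit 16590637)))) (.node (.node (.node (.leaf (nat_lit 54145092)) (.leaf (nat_lit 5504365))) (.leaf (nat_lit 46717359))) (.node (.leaf (nat_lit 39834599)) (.leaf (nat_lit 45589487)))))) (.node (.node (.node (.node (.node (.leaf (nat_lit 28145141)) (.leaf (nat_lit 39341293))) (.leaf (nat_lit 44792871))) (.node (.node (.leaf (nat_lit 28073064)) (.leaf (nat_lit 34302479))) (.leaf (nat_lit 16089440)))) (.node (.node (.node (.leaf (nat_lit 9608596)) (.leaf (nat_lit 26426358))) (.leaf (nat_lit 43421778))) (.node (.leaf (nat_lit 132092)) (.leaf (nat_lit 39584457))))) (.node (.node (.node (.node (.leaf (nat_lit 16265241)) (.leaf (nat_lit 34159917))) (.leaf (nat_lit 6380955))) (.node (.node (.leaf (nat_lit 9127487)) (.leaf (nat_lit 49499168))) (.leaf (nat_lit 1139165)))) (.node (.node (.node (.leaf (nat_lit 12314859)) (.leaf (nat_lit 9165489))) (.leaf (nat_lit 39497356))) (.node (.leaf (nat_lit 41033419)) (.leaf (nat_lit 38136656))))))) (.node (.node (.node (.node (.node (.node (.leaf (nat_lit 1770346)) (.leaf (nat_lit 8451309))) (.leaf (nat_lit 56524277))) (.node (.node (.leaf (nat_lit 30587836)) (.leaf (nat_lit 36263927))) (.leaf (nat_lit 52009665)))) (.node (.node (.node (.leaf (nat_lit 52758296)) (.leaf (nat_lit 40085741))) (.leaf (nat_lit 6117057))) (.node (.node (.leaf (nat_lit 41931913)) (.leaf (nat_lit 56716179))) (.leaf (nat_lit 22238704))))) (.node (.node (.node (.node (.leaf (nat_lit 144500)) (.leaf (nat_lit 27899598))) (.leaf (nat_lit 48638152))) (.node (.node (.leaf (nat_lit 11660534)) (.leaf (nat_lit 36065122))) (.leaf (nat_lit 9372341)))) (.node (.node (.node (.leaf (nat_lit 52880436)) (.leaf (nat_lit 24784040))) (.leaf (nat_lit 42968405))) (.node (.leaf (nat_lit 2458304)) (.leaf (nat_lit 32317859)))))) (.node (.node (.node (.node (.node (.leaf (nat_lit 36389919)) (.leaf (nat_lit 3103219))) (.leaf (nat_lit 54669066))) (.node (.node (.leaf (nat_lit 17256214)) (.leaf (nat_lit 35457577))) (.leaf (nat_lit 14969157)))) (.node (.node (.node (.leaf (nat_lit 17625595)) (.leaf (nat_lit 37362037))) (.leaf (nat_lit 1343197))) (.node (.leaf (nat_lit 52876672)) (.leaf (nat_lit 38686257))))) (.node (.node (.node (.node (.leaf (nat_lit 54057368)) (.leaf (nat_lit 3265976))) (.leaf (nat_lit 44131874))) (.node (.node (.leaf (nat_lit 56009720)) (.leaf (nat_lit 34621170))) (.leaf (nat_lit 39315667)))) (.node (.node (.node (.leaf (nat_lit 23376351)) (.leaf (nat_lit 17865569))) (.leaf (nat_lit 34020129))) (.node (.leaf (nat_lit 12567309)) (.leaf (nat_lit 14053890)))))))))) (.node (.node (.node (.node (.node (.node (.node (.node (.node (.leaf (nat_lit 36133879)) (.leaf (nat_lit 31077884))) (.leaf (nat_lit 54042058))) (.node (.node (.leaf (nat_lit 53126547)) (.leaf (nat_lit 39439755))) (.leaf (nat_lit 54216306)))) (.node (.node (.node (.leaf (nat_lit 55193979)) (.leaf (nat_lit 19423699))) (.leaf (nat_lit 16021922))) (.node (.node (.leaf (nat_lit 33402672)) (.leaf (nat_lit 16876757))) (.leaf (nat_lit 34762797))))) (.node (.node (.node (.node (.leaf (nat_lit 6116970)) (.leaf (nat_lit 49113953))) (.leaf (nat_lit 46447292))) (.node (.node (.leaf (nat_lit 29165313)) (.leaf (nat_lit 53583048))) (.leaf (nat_lit 45717017)))) (.node (.node (.node (.leaf (nat_lit 22802716)) (.leaf (nat_lit 56001376))) (.leaf (nat_lit 27258287))) (.node (.leaf (nat_lit 56274992)) (.leaf (nat_lit 56097919)))))) (.node (.node (.node (.node (.node (.leaf (nat_lit 6776334)) (.leaf (nat_lit 3231139))) (.leaf (nat_lit 50932004))) (.node (.node (.leaf (nat_lit 23613225)) (.leaf (nat_lit 19629840))) (.leaf (nat_lit 12951913)))) (.node (.node (.node (.leaf (nat_lit 8519379)) (.leaf (nat_lit 596818))) (.leaf (nat_lit 42384368))) (.node (.leaf (nat_lit 31433672)) (.leaf (nat_lit 14391060))))) (.node (.node (.node (.node (.leaf (nat_lit 36736306)) (.leaf (nat_lit 33483528))) (.leaf (nat_lit 6295408))) (.node (.node (.leaf (nat_lit 33994782)) (.leaf (nat_lit 34024656))) (.leaf (nat_lit 5735690)))) (.node (.node (.node (.leaf (nat_lit 31023396)) (.leaf (nat_lit 28106123))) (.leaf (nat_lit 23982731))) (.node (.leaf (nat_lit 55531575)) (.leaf (nat_lit 18501455))))))) (.node (.node (.node (.node (.node (.node (.leaf (nat_lit 44344175)) (.leaf (nat_lit 54413791))) (.leaf (nat_lit 46304875))) (.node (.node (.leaf (nat_lit 25804132)) (.leaf (nat_lit 15733500))) (.leaf (nat_lit 15634632)))) (.node (.node (.node (.leaf (nat_lit 39489605)) (.leaf (nat_lit 26951895))) (.leaf (nat_lit 10534286))) (.node (.node (.leaf (nat_lit 43896649)) (.leaf (nat_lit 3442215))) (.leaf (nat_lit 45387083))))) (.node (.node (.node (.node (.leaf (nat_lit 481301)) (.leaf (nat_lit 34073472))) (.leaf (nat_lit 56712315))) (.node (.node (.leaf (nat_lit 45765880)) (.leaf (nat_lit 28009456))) (.leaf (nat_lit 42415060)))) (.node (.node (.node (.leaf (nat_lit 35342278)) (.leaf (nat_lit 27537499))) (.leaf (nat_lit 56086681))) (.node (.leaf (nat_lit 9760243)) (.leaf (nat_lit 10361616)))))) (.node (.node (.node (.node (.node (.leaf (nat_lit 20123753)) (.leaf (nat_lit 34302228))) (.leaf (nat_lit 56753039))) (.node (.node (.leaf (nat_lit 36947555)) (.leaf (nat_lit 5933582))) (.leaf (nat_lit 2132405)))) (.node (.node (.node (.leaf (nat_lit 26068401)) (.leaf (nat_lit 36490985))) (.leaf (nat_lit 14146346))) (.node (.leaf (nat_lit 26872828)) (.leaf (nat_lit 27453214))))) (.node (.node (.node (.node (.leaf (nat_lit 30286571)) (.leaf (nat_lit 42587766))) (.leaf (nat_lit 31918819))) (.node (.node (.leaf (nat_lit 36686222)) (.leaf (nat_lit 7167318))) (.leaf (nat_lit 1206047)))) (.node (.node (.node (.leaf (nat_lit 35770443)) (.leaf (nat_lit 50395690))) (.leaf (nat_lit 20715803))) (.node (.leaf (nat_lit 44584240)) (.leaf (nat_lit 25849825)))))))) (.node (.node (.node (.node (.node (.node (.node (.leaf (nat_lit 11)) (.leaf (nat_lit 36943241))) (.leaf (nat_lit 18735400))) (.node (.node (.leaf (nat_lit 18637862)) (.leaf (nat_lit 18398669))) (.leaf (nat_lit 15145361)))) (.node (.node (.node (.leaf (nat_lit 30407550)) (.leaf (nat_lit 13314382))) (.leaf (nat_lit 28426708))) (.node (.node (.leaf (nat_lit 39195189)) (.leaf (nat_lit 18579999))) (.leaf (nat_lit 6135124))))) (.node (.node (.node (.node (.leaf (nat_lit 38241947)) (.leaf (nat_lit 46763994))) (.leaf (nat_lit 38219238))) (.node (.node (.leaf (nat_lit 593327)) (.leaf (nat_lit 26225411))) (.leaf (nat_lit 12214874)))) (.node (.node (.node (.leaf (nat_lit 18719408)) (.leaf (nat_lit 20527661))) (.leaf (nat_lit 43299856))) (.node (.leaf (nat_lit 20195477)) (.leaf (nat_lit 1252600)))))) (.node (.node (.node (.node (.node (.leaf (nat_lit 11217743)) (.leaf (nat_lit 48379419))) (.leaf (nat_lit 34140657))) (.node (.node (.leaf (nat_lit 32824207)) (.leaf (nat_lit 25452149))) (.leaf (nat_lit 30001381)))) (.node (.node (.node (.leaf (nat_lit 51769413)) (.leaf (nat_lit 24339559))) (.leaf (nat_lit 27876187))) (.node (.leaf (nat_lit 45471010)) (.leaf (nat_lit 44995707))))) (.node (.node (.node (.node (.leaf (nat_lit 45590887)) (.leaf (nat_lit 19352044))) (.leaf (nat_lit 11813133))) (.node (.node (.leaf (nat_lit 10775107)) (.leaf (nat_lit 34187348))) (.leaf (nat_lit 44152359)))) (.node (.node (.node (.leaf (nat_lit 55757602)) (.leaf (nat_lit 13088909))) (.leaf (nat_lit 38762779))) (.node (.leaf (nat_lit 49456275)) (.leaf (nat_lit 48249192))))))) (.node (.node (.node (.node (.node (.node (.leaf (nat_lit 24307190)) (.leaf (nat_lit 23560181))) (.leaf (nat_lit 6663151))) (.node (.node (.leaf (nat_lit 55487110)) (.leaf (nat_lit 53947134))) (.leaf (nat_lit 20603222)))) (.node (.node (.node (.leaf (nat_lit 6345375)) (.leaf (nat_lit 17614504))) (.leaf (nat_lit 44454484))) (.node (.node (.leaf (nat_lit 3358334)) (.leaf (nat_lit 29621402))) (.leaf (nat_lit 35125013))))) (.node (.node (.node (.node (.leaf (nat_lit 20424323)) (.leaf (nat_lit 41873682))) (.leaf (nat_lit 1826529))) (.node (.node (.leaf (nat_lit 34366520)) (.leaf (nat_lit 6685060))) (.leaf (nat_lit 45002460)))) (.node (.node (.node (.leaf (nat_lit 28035906)) (.leaf (nat_lit 17031220))) (.leaf (nat_lit 45664531))) (.node (.leaf (nat_lit 30737202)) (.leaf (nat_lit 18675961)))))) (.node (.node (.node (.node (.node (.leaf (nat_lit 44764311)) (.leaf (nat_lit 24738682))) (.leaf (nat_lit 19514341))) (.node (.node (.leaf (nat_lit 18022028)) (.leaf (nat_lit 19164631))) (.leaf (nat_lit 1883663)))) (.node (.node (.node (.leaf (nat_lit 39192628)) (.leaf (nat_lit 31140359))) (.leaf (nat_lit 52302383))) (.node (.leaf (nat_lit 42008696)) (.leaf (nat_lit 31883045))))) (.node (.node (.node (.node (.leaf (nat_lit 16900152)) (.leaf (nat_lit 47071718))) (.leaf (nat_lit 21449365))) (.node (.node (.leaf (nat_lit 11198972)) (.leaf (nat_lit 50157539))) (.leaf (nat_lit 39990533)))) (.node (.node (.node (.leaf (nat_lit 56654143)) (.leaf (nat_lit 51764512))) (.leaf (nat_lit 49783899))) (.node (.leaf (nat_lit 47348728)) (.leaf (nat_lit 564643))))))))) (.node (.node (.node (.node (.node (.node (.node (.node (.leaf (nat_lit 28685186)) (.leaf (nat_lit 52500524))) (.leaf (nat_lit 2072962))) (.node (.node (.leaf (nat_lit 10120950)) (.leaf (nat_lit 4464097))) (.leaf (nat_lit 35882221)))) (.node (.node (.node (.leaf (nat_lit 52343570)) (.leaf (nat_lit 53577154))) (.leaf (nat_lit 14263616))) (.node (.node (.leaf (nat_lit 1846295)) (.leaf (nat_lit 4416660))) (.leaf (nat_lit 42819536))))) (.node (.node (.node (.node (.leaf (nat_lit 49374304)) (.leaf (nat_lit 31552695))) (.leaf (nat_lit 38091247))) (.node (.node (.leaf (nat_lit 35550317)) (.leaf (nat_lit 19793276))) (.leaf (nat_lit 53030199)))) (.node (.node (.node (.leaf (nat_lit 9331788)) (.leaf (nat_lit 51188942))) (.leaf (nat_lit 27118749))) (.node (.leaf (nat_lit 21405919)) (.leaf (nat_lit 44194880)))))) (.node (.node (.node (.node (.node (.leaf (nat_lit 8698632)) (.leaf (nat_lit 35618534))) (.leaf (nat_lit 13693571))) (.node (.node (.leaf (nat_lit 10589269)) (.leaf (nat_lit 3122999))) (.leaf (nat_lit 26075820)))) (.node (.node (.node (.leaf (nat_lit 11812868)) (.leaf (nat_lit 14743961))) (.leaf (nat_lit 20965700))) (.node (.leaf (nat_lit 27386068)) (.leaf (nat_lit 31496790))))) (.node (.node (.node (.node (.leaf (nat_lit 31826401)) (.leaf (nat_lit 20089025))) (.leaf (nat_lit 36204883))) (.node (.node (.leaf (nat_lit 12499854)) (.leaf (nat_lit 27009821))) (.leaf (nat_lit 23501001)))) (.node (.node (.node (.leaf (nat_lit 50342155)) (.leaf (nat_lit 7201734))) (.leaf (nat_lit 44303583))) (.node (.leaf (nat_lit 29087308)) (.leaf (nat_lit 42083034))))))) (.node (.node (.node (.node (.node (.node (.leaf (nat_lit 14903115)) (.leaf (nat_lit 26088579))) (.leaf (nat_lit 37933439))) (.node (.node (.leaf (nat_lit 18947220)) (.leaf (nat_lit 23027910))) (.leaf (nat_lit 26168176)))) (.node (.node (.node (.leaf (nat_lit 13027330)) (.leaf (nat_lit 43967969))) (.leaf (nat_lit 28586017))) (.node (.node (.leaf (nat_lit 31107300)) (.leaf (nat_lit 20882236))) (.leaf (nat_lit 41081068))))) (.node (.node (.node (.node (.leaf (nat_lit 15318590)) (.leaf (nat_lit 29978631))) (.leaf (nat_lit 7015459))) (.node (.node (.leaf (nat_lit 16515095)) (.leaf (nat_lit 28071099))) (.leaf (nat_lit 1028440)))) (.node (.node (.node (.leaf (nat_lit 476599)) (.leaf (nat_lit 45804629))) (.leaf (nat_lit 3287467))) (.node (.leaf (nat_lit 4972925)) (.leaf (nat_lit 35378165)))))) (.node (.node (.node (.node (.node (.leaf (nat_lit 28696001)) (.leaf (nat_lit 36571051))) (.leaf (nat_lit 4743779))) (.node (.node (.leaf (nat_lit 42452350)) (.leaf (nat_lit 55757624))) (.leaf (nat_lit 11322677)))) (.node (.node (.node (.leaf (nat_lit 14988892)) (.leaf (nat_lit 56470156))) (.leaf (nat_lit 34746149))) (.node (.leaf (nat_lit 21489608)) (.leaf (nat_lit 24155602))))) (.node (.node (.node (.node (.leaf (nat_lit 40163256)) (.leaf (nat_lit 43845255))) (.leaf (nat_lit 23579349))) (.node (.node (.leaf (nat_lit 24574206)) (.leaf (nat_lit 20959226))) (.leaf (nat_lit 14013308)))) (.node (.node (.node (.leaf (nat_lit 38575096)) (.leaf (nat_lit 24519431))) (.leaf (nat_lit 14573736))) (.node (.leaf (nat_lit 56054653)) (.leaf (nat_lit 4025279)))))))) (.node (.node (.node (.node (.node (.node (.node (.leaf (nat_lit 13)) (.leaf (nat_lit 2125630))) (.leaf (nat_lit 52735002))) (.node (.node (.leaf (nat_lit 44840318)) (.leaf (nat_lit 41184995))) (.leaf (nat_lit 18669775)))) (.node (.node (.node (.leaf (nat_lit 42418299)) (.leaf (nat_lit 12917945))) (.leaf (nat_lit 31962511))) (.node (.node (.leaf (nat_lit 44455583)) (.leaf (nat_lit 26895771))) (.leaf (nat_lit 39161307))))) (.node (.node (.node (.node (.leaf (nat_lit 51741126)) (.leaf (nat_lit 16924455))) (.leaf (nat_lit 28529346))) (.node (.node (.leaf (nat_lit 13398431)) (.leaf (nat_lit 55810019))) (.leaf (nat_lit 33903331)))) (.node (.node (.node (.leaf (nat_lit 54725575)) (.leaf (nat_lit 56263417))) (.leaf (nat_lit 13650037))) (.node (.leaf (nat_lit 13257312)) (.leaf (nat_lit 6366075)))))) (.node (.node (.node (.node (.node (.leaf (nat_lit 51234839)) (.leaf (nat_lit 56310987))) (.leaf (nat_lit 1233873))) (.node (.node (.leaf (nat_lit 30411954)) (.leaf (nat_lit 48735249))) (.leaf (nat_lit 15762221)))) (.node (.node (.node (.leaf (nat_lit 7554890)) (.leaf (nat_lit 43212100))) (.leaf (nat_lit 17128423))) (.node (.leaf (nat_lit 16625383)) (.leaf (nat_lit 52553282))))) (.node (.node (.node (.node (.leaf (nat_lit 5302950)) (.leaf (nat_lit 45698588))) (.leaf (nat_lit 31856891))) (.node (.node (.leaf (nat_lit 47499018)) (.leaf (nat_lit 37244045))) (.leaf (nat_lit 9658915)))) (.node (.node (.node (.leaf (nat_lit 41800497)) (.leaf (nat_lit 49400852))) (.leaf (nat_lit 1765249))) (.node (.leaf (nat_lit 45446359)) (.leaf (nat_lit 1796986))))))) (.node (.node (.node (.node (.node (.node (.leaf (nat_lit 43581747)) (.leaf (nat_lit 21500850))) (.leaf (nat_lit 41429246))) (.node (.node (.leaf (nat_lit 11021193)) (.leaf (nat_lit 44488049))) (.leaf (nat_lit 9853322)))) (.node (.node (.node (.leaf (nat_lit 126988)) (.leaf (nat_lit 1551467))) (.leaf (nat_lit 49289048))) (.node (.node (.leaf (nat_lit 34015025)) (.leaf (nat_lit 361032))) (.leaf (nat_lit 25139782))))) (.node (.node (.node (.node (.leaf (nat_lit 39162252)) (.leaf (nat_lit 17166007))) (.leaf (nat_lit 19109467))) (.node (.node (.leaf (nat_lit 11711969)) (.leaf (nat_lit 41592090))) (.leaf (nat_lit 46054232)))) (.node (.node (.node (.leaf (nat_lit 26822279)) (.leaf (nat_lit 22350669))) (.leaf (nat_lit 50847865))) (.node (.leaf (nat_lit 49881206)) (.leaf (nat_lit 39709298)))))) (.node (.node (.node (.node (.node (.leaf (nat_lit 29134964)) (.leaf (nat_lit 49170420))) (.leaf (nat_lit 29156559))) (.node (.node (.leaf (nat_lit 52039753)) (.leaf (nat_lit 39339349))) (.leaf (nat_lit 23395564)))) (.node (.node (.node (.leaf (nat_lit 31670170)) (.leaf (nat_lit 613812))) (.leaf (nat_lit 24717117))) (.node (.leaf (nat_lit 5187171)) (.leaf (nat_lit 380054))))) (.node (.node (.node (.node (.leaf (nat_lit 7533968)) (.leaf (nat_lit 27020533))) (.leaf (nat_lit 13332467))) (.node (.node (.leaf (nat_lit 9680623)) (.leaf (nat_lit 23843359))) (.leaf (nat_lit 11105340)))) (.node (.node (.node (.leaf (nat_lit 52585481)) (.leaf (nat_lit 52310594))) (.leaf (nat_lit 53134467))) (.node (.leaf (nat_lit 45967374)) (.leaf (nat_lit 53215494))))))))))) (.node (.node (.node (.node (.node (.node (.node (.node (.node (.node (.leaf (nat_lit 2)) (.leaf (nat_lit 21745282))) (.leaf (nat_lit 33890236))) (.node (.node (.leaf (nat_lit 54922611)) (.leaf (nat_lit 17882140))) (.leaf (nat_lit 21637297)))) (.node (.node (.node (.leaf (nat_lit 3180507)) (.leaf (nat_lit 27277187))) (.leaf (nat_lit 3482838))) (.node (.node (.leaf (nat_lit 22690937)) (.leaf (nat_lit 4376223))) (.leaf (nat_lit 56166518))))) (.node (.node (.node (.node (.leaf (nat_lit 55445335)) (.leaf (nat_lit 37383756))) (.leaf (nat_lit 51681561))) (.node (.node (.leaf (nat_lit 17584678)) (.leaf (nat_lit 51783325))) (.leaf (nat_lit 8975525)))) (.node (.node (.node (.leaf (nat_lit 13953842)) (.leaf (nat_lit 18110492))) (.leaf (nat_lit 47072059))) (.node (.leaf (nat_lit 25157051)) (.leaf (nat_lit 24433998)))))) (.node (.node (.node (.node (.node (.leaf (nat_lit 45703333)) (.leaf (nat_lit 12282855))) (.leaf (nat_lit 13323753))) (.node (.node (.leaf (nat_lit 44093706)) (.leaf (nat_lit 50929388))) (.leaf (nat_lit 20646189)))) (.node (.node (.node (.leaf (nat_lit 37224247)) (.leaf (nat_lit 2014190))) (.leaf (nat_lit 47402015))) (.node (.leaf (nat_lit 19203632)) (.leaf (nat_lit 11375966))))) (.node (.node (.node (.node (.leaf (nat_lit 489660)) (.leaf (nat_lit 54857447))) (.leaf (nat_lit 47115559))) (.node (.node (.leaf (nat_lit 47262084)) (.leaf (nat_lit 7005223))) (.leaf (nat_lit 47264248)))) (.node (.node (.node (.leaf (nat_lit 43511538)) (.leaf (nat_lit 47908991))) (.leaf (nat_lit 37369362))) (.node (.leaf (nat_lit 11268428)) (.leaf (nat_lit 35694305))))))) (.node (.node (.node (.node (.node (.node (.leaf (nat_lit 3116345)) (.leaf (nat_lit 13852575))) (.leaf (nat_lit 4410740))) (.node (.node (.leaf (nat_lit 26311331)) (.leaf (nat_lit 8105753))) (.leaf (nat_lit 18982095)))) (.node (.node (.node (.leaf (nat_lit 24827509)) (.leaf (nat_lit 51073664))) (.leaf (nat_lit 55529174))) (.node (.node (.leaf (nat_lit 42941481)) (.leaf (nat_lit 26548109))) (.leaf (nat_lit 17956569))))) (.node (.node (.node (.node (.leaf (nat_lit 26453577)) (.leaf (nat_lit 40306445))) (.leaf (nat_lit 13199504))) (.node (.node (.leaf (nat_lit 27477825)) (.leaf (nat_lit 22891849))) (.leaf (nat_lit 22928296)))) (.node (.node (.node (.leaf (nat_lit 17910928)) (.leaf (nat_lit 914653))) (.leaf (nat_lit 44489494))) (.node (.leaf (nat_lit 27543463)) (.leaf (nat_lit 17048051)))))) (.node (.node (.node (.node (.node (.leaf (nat_lit 18411934)) (.leaf (nat_lit 12844174))) (.leaf (nat_lit 18445073))) (.node (.node (.leaf (nat_lit 6194281)) (.leaf (nat_lit 41785047))) (.leaf (nat_lit 36255301)))) (.node (.node (.node (.leaf (nat_lit 53332203)) (.leaf (nat_lit 14863908))) (.leaf (nat_lit 8762059))) (.node (.leaf (nat_lit 56535161)) (.leaf (nat_lit 450561))))) (.node (.node (.node (.node (.leaf (nat_lit 28786104)) (.leaf (nat_lit 11506994))) (.leaf (nat_lit 42996845))) (.node (.node (.leaf (nat_lit 4591433)) (.leaf (nat_lit 12590960))) (.leaf (nat_lit 55867444)))) (.node (.node (.node (.leaf (nat_lit 22063133)) (.leaf (nat_lit 4462))) (.leaf (nat_lit 21077618))) (.node (.leaf (nat_lit 34508084)) (.leaf (nat_lit 11662734)))))))) (.node (.node (.node (.node (.node (.node (.node (.leaf (nat_lit 10)) (.leaf (nat_lit 23610380))) (.leaf (nat_lit 42898735))) (.node (.node (.leaf (nat_lit 28971209)) (.leaf (nat_lit 5766863))) (.leaf (nat_lit 51736566)))) (.node (.node (.node (.leaf (nat_lit 6353693)) (.leaf (nat_lit 17938320))) (.leaf (nat_lit 22285478))) (.node (.node (.leaf (nat_lit 2004100)) (.leaf (nat_lit 10075785))) (.leaf (nat_lit 12303225))))) (.node (.node (.node (.node (.leaf (nat_lit 30329211)) (.leaf (nat_lit 14126429))) (.leaf (nat_lit 26487363))) (.node (.node (.leaf (nat_lit 42476375)) (.leaf (nat_lit 1625936))) (.leaf (nat_lit 23957613)))) (.node (.node (.node (.leaf (nat_lit 22425507)) (.leaf (nat_lit 21799603))) (.leaf (nat_lit 47124690))) (.node (.leaf (nat_lit 13998254)) (.leaf (nat_lit 40876826)))))) (.node (.node (.node (.node (.node (.leaf (nat_lit 17)) (.leaf (nat_lit 40493289))) (.leaf (nat_lit 42297053))) (.node (.node (.leaf (nat_lit 7399861)) (.leaf (nat_lit 41534772))) (.leaf (nat_lit 29897345)))) (.node (.node (.node (.leaf (nat_lit 42617676)) (.leaf (nat_lit 26501252))) (.leaf (nat_lit 28250648))) (.node (.leaf (nat_lit 35642205)) (.leaf (nat_lit 32982126))))) (.node (.node (.node (.node (.leaf (nat_lit 21319684)) (.leaf (nat_lit 25036090))) (.leaf (nat_lit 29039023))) (.node (.node (.leaf (nat_lit 16487508)) (.leaf (nat_lit 35329768))) (.leaf (nat_lit 13314527)))) (.node (.node (.node (.leaf (nat_lit 29194771)) (.leaf (nat_lit 45028660))) (.leaf (nat_lit 43915703))) (.node (.leaf (nat_lit 44853716)) (.leaf (nat_lit 11545670))))))) (.node (.node (.node (.node (.node (.node (.leaf (nat_lit 40444937)) (.leaf (nat_lit 17486092))) (.leaf (nat_lit 2101138))) (.node (.node (.leaf (nat_lit 23328431)) (.leaf (nat_lit 49187256))) (.leaf (nat_lit 17929348)))) (.node (.node (.node (.leaf (nat_lit 48069275)) (.leaf (nat_lit 24471311))) (.leaf (nat_lit 38952377))) (.node (.node (.leaf (nat_lit 26452603)) (.leaf (nat_lit 2756279))) (.leaf (nat_lit 29719451))))) (.node (.node (.node (.node (.leaf (nat_lit 42181572)) (.leaf (nat_lit 11173040))) (.leaf (nat_lit 56482829))) (.node (.node (.leaf (nat_lit 27910047)) (.leaf (nat_lit 44546070))) (.leaf (nat_lit 35691191)))) (.node (.node (.node (.leaf (nat_lit 21567771)) (.leaf (nat_lit 4537706))) (.leaf (nat_lit 11443612))) (.node (.leaf (nat_lit 50170299)) (.leaf (nat_lit 46769077)))))) (.node (.node (.node (.node (.node (.leaf (nat_lit 40642087)) (.leaf (nat_lit 54653091))) (.leaf (nat_lit 56727821))) (.node (.node (.leaf (nat_lit 40499585)) (.leaf (nat_lit 1138553))) (.leaf (nat_lit 35405359)))) (.node (.node (.node (.leaf (nat_lit 20290893)) (.leaf (nat_lit 30230643))) (.leaf (nat_lit 29720659))) (.node (.leaf (nat_lit 41048550)) (.leaf (nat_lit 1906994))))) (.node (.node (.node (.node (.leaf (nat_lit 24147268)) (.leaf (nat_lit 53113291))) (.leaf (nat_lit 7323713))) (.node (.node (.leaf (nat_lit 43803483)) (.leaf (nat_lit 19440090))) (.leaf (nat_lit 8047892)))) (.node (.node (.node (.leaf (nat_lit 15818519)) (.leaf (nat_lit 13339245))) (.leaf (nat_lit 108727))) (.node (.leaf (nat_lit 2079947)) (.leaf (nat_lit 33332908))))))))) (.node (.node (.node (.node (.node (.node (.node (.node (.leaf (nat_lit 12582444)) (.leaf (nat_lit 12016164))) (.leaf (nat_lit 47331165))) (.node (.node (.leaf (nat_lit 18677765)) (.leaf (nat_lit 6055819))) (.leaf (nat_lit 41212495)))) (.node (.node (.node (.leaf (nat_lit 38263173)) (.leaf (nat_lit 48782456))) (.leaf (nat_lit 11013802))) (.node (.node (.leaf (nat_lit 54158589)) (.leaf (nat_lit 8681995))) (.leaf (nat_lit 55458158))))) (.node (.node (.node (.node (.leaf (nat_lit 29130218)) (.leaf (nat_lit 18753692))) (.leaf (nat_lit 38234003))) (.node (.node (.leaf (nat_lit 16300688)) (.leaf (nat_lit 8608865))) (.leaf (nat_lit 40343934)))) (.node (.node (.node (.leaf (nat_lit 50993634)) (.leaf (nat_lit 41581132))) (.leaf (nat_lit 55743625))) (.node (.leaf (nat_lit 48859653)) (.leaf (nat_lit 7831788)))))) (.node (.node (.node (.node (.node (.leaf (nat_lit 44991633)) (.leaf (nat_lit 19945555))) (.leaf (nat_lit 48663498))) (.node (.node (.leaf (nat_lit 39296936)) (.leaf (nat_lit 43204461))) (.leaf (nat_lit 34517239)))) (.node (.node (.node (.leaf (nat_lit 41570524)) (.leaf (nat_lit 12714909))) (.leaf (nat_lit 19578295))) (.node (.leaf (nat_lit 55354280)) (.leaf (nat_lit 35177474))))) (.node (.node (.node (.node (.leaf (nat_lit 38227195)) (.leaf (nat_lit 42775063))) (.leaf (nat_lit 44800365))) (.node (.node (.leaf (nat_lit 54223500)) (.leaf (nat_lit 4742546))) (.leaf (nat_lit 43925670)))) (.node (.node (.node (.leaf (nat_lit 22871251)) (.leaf (nat_lit 25115719))) (.leaf (nat_lit 37091001))) (.node (.leaf (nat_lit 44100456)) (.leaf (nat_lit 3645677))))))) (.node (.node (.node (.node (.node (.node (.leaf (nat_lit 23719391)) (.leaf (nat_lit 41901846))) (.leaf (nat_lit 20737558))) (.node (.node (.leaf (nat_lit 38910819)) (.leaf (nat_lit 15694195))) (.leaf (nat_lit 46022153)))) (.node (.node (.node (.leaf (nat_lit 47516724)) (.leaf (nat_lit 6785227))) (.leaf (nat_lit 6635580))) (.node (.node (.leaf (nat_lit 26257760)) (.leaf (nat_lit 31079870))) (.leaf (nat_lit 42837590))))) (.node (.node (.node (.node (.leaf (nat_lit 23910181)) (.leaf (nat_lit 53048541))) (.leaf (nat_lit 29054746))) (.node (.node (.leaf (nat_lit 46277577)) (.leaf (nat_lit 34779592))) (.leaf (nat_lit 13858923)))) (.node (.node (.node (.leaf (nat_lit 4321009)) (.leaf (nat_lit 41435245))) (.leaf (nat_lit 54380595))) (.node (.leaf (nat_lit 8714690)) (.leaf (nat_lit 12103457)))))) (.node (.node (.node (.node (.node (.leaf (nat_lit 50181875)) (.leaf (nat_lit 30038982))) (.leaf (nat_lit 33098264))) (.node (.node (.leaf (nat_lit 7871806)) (.leaf (nat_lit 31706742))) (.leaf (nat_lit 1912462)))) (.node (.node (.node (.leaf (nat_lit 6164607)) (.leaf (nat_lit 27696420))) (.leaf (nat_lit 34069513))) (.node (.leaf (nat_lit 227085)) (.leaf (nat_lit 43639314))))) (.node (.node (.node (.node (.leaf (nat_lit 38878649)) (.leaf (nat_lit 36552781))) (.leaf (nat_lit 13676951))) (.node (.node (.leaf (nat_lit 14070687)) (.leaf (nat_lit 36044237))) (.leaf (nat_lit 48540351)))) (.node (.node (.node (.leaf (nat_lit 49238960)) (.leaf (nat_lit 13157432))) (.leaf (nat_lit 33671562))) (.node (.leaf (nat_lit 18123029)) (.leaf (nat_lit 43141809)))))))) (.node (.node (.node (.node (.node (.node (.node (.leaf (nat_lit 33275446)) (.leaf (nat_lit 2278787))) (.leaf (nat_lit 19480891))) (.node (.node (.leaf (nat_lit 37478640)) (.leaf (nat_lit 26006611))) (.leaf (nat_lit 20047266)))) (.node (.node (.node (.leaf (nat_lit 26692472)) (.leaf (nat_lit 50772308))) (.leaf (nat_lit 2961334))) (.node (.node (.leaf (nat_lit 27433583)) (.leaf (nat_lit 29452463))) (.leaf (nat_lit 39651161))))) (.node (.node (.node (.node (.leaf (nat_lit 41439717)) (.leaf (nat_lit 36187561))) (.leaf (nat_lit 41435550))) (.node (.node (.leaf (nat_lit 28835104)) (.leaf (nat_lit 5712350))) (.leaf (nat_lit 52732244)))) (.node (.node (.node (.leaf (nat_lit 14064117)) (.leaf (nat_lit 37372726))) (.leaf (nat_lit 3310097))) (.node (.leaf (nat_lit 6400993)) (.leaf (nat_lit 43371688)))))) (.node (.node (.node (.node (.node (.leaf (nat_lit 23447123)) (.leaf (nat_lit 20577747))) (.leaf (nat_lit 9563292))) (.node (.node (.leaf (nat_lit 52523381)) (.leaf (nat_lit 52674084))) (.leaf (nat_lit 50634371)))) (.node (.node (.node (.leaf (nat_lit 37364957)) (.leaf (nat_lit 7600918))) (.leaf (nat_lit 27543212))) (.node (.leaf (nat_lit 55217389)) (.leaf (nat_lit 28940528))))) (.node (.node (.node (.node (.leaf (nat_lit 36506193)) (.leaf (nat_lit 37380532))) (.leaf (nat_lit 21055875))) (.node (.node (.leaf (nat_lit 18841227)) (.leaf (nat_lit 36902328))) (.leaf (nat_lit 6929897)))) (.node (.node (.node (.leaf (nat_lit 26662862)) (.leaf (nat_lit 12301069))) (.leaf (nat_lit 47620920))) (.node (.leaf (nat_lit 8911806)) (.leaf (nat_lit 41874565))))))) (.node (.node (.node (.node (.node (.node (.leaf (nat_lit 28117524)) (.leaf (nat_lit 15378053))) (.leaf (nat_lit 27604284))) (.node (.node (.leaf (nat_lit 6488953)) (.leaf (nat_lit 55510962))) (.leaf (nat_lit 47016443)))) (.node (.node (.node (.leaf (nat_lit 50562747)) (.leaf (nat_lit 23124713))) (.leaf (nat_lit 28883493))) (.node (.node (.leaf (nat_lit 4318716)) (.leaf (nat_lit 29605599))) (.leaf (nat_lit 45597343))))) (.node (.node (.node (.node (.leaf (nat_lit 7982990)) (.leaf (nat_lit 49548610))) (.leaf (nat_lit 48945811))) (.node (.node (.leaf (nat_lit 39341248)) (.leaf (nat_lit 32163415))) (.leaf (nat_lit 17717624)))) (.node (.node (.node (.leaf (nat_lit 914992)) (.leaf (nat_lit 48666465))) (.leaf (nat_lit 43688794))) (.node (.leaf (nat_lit 11023871)) (.leaf (nat_lit 553774)))))) (.node (.node (.node (.node (.node (.leaf (nat_lit 7916792)) (.leaf (nat_lit 40415945))) (.leaf (nat_lit 12078134))) (.node (.node (.leaf (nat_lit 34278520)) (.leaf (nat_lit 55540744))) (.leaf (nat_lit 36624072)))) (.node (.node (.node (.leaf (nat_lit 20972188)) (.leaf (nat_lit 27373836))) (.leaf (nat_lit 43023223))) (.node (.leaf (nat_lit 37852651)) (.leaf (nat_lit 53337248))))) (.node (.node (.node (.node (.leaf (nat_lit 50190768)) (.leaf (nat_lit 40347039))) (.leaf (nat_lit 38199594))) (.node (.node (.leaf (nat_lit 21141506)) (.leaf (nat_lit 39620753))) (.leaf (nat_lit 39428697)))) (.node (.node (.node (.leaf (nat_lit 40968540)) (.leaf (nat_lit 40840212))) (.leaf (nat_lit 49554414))) (.node (.leaf (nat_lit 53017767)) (.leaf (nat_lit 7238665)))))))))) (.node (.node (.node (.node (.node (.node (.node (.node (.node (.leaf (nat_lit 4)) (.leaf (nat_lit 3866110))) (.leaf (nat_lit 45202025))) (.node (.node (.leaf (nat_lit 1795223)) (.leaf (nat_lit 27468281))) (.leaf (nat_lit 47505662)))) (.node (.node (.node (.leaf (nat_lit 2106437)) (.leaf (nat_lit 56121007))) (.leaf (nat_lit 6508483))) (.node (.node (.leaf (nat_lit 46287918)) (.leaf (nat_lit 24369276))) (.leaf (nat_lit 49896046))))) (.node (.node (.node (.node (.leaf (nat_lit 9000745)) (.leaf (nat_lit 55781937))) (.leaf (nat_lit 1865296))) (.node (.node (.leaf (nat_lit 41413927)) (.leaf (nat_lit 35808797))) (.leaf (nat_lit 40380986)))) (.node (.node (.node (.leaf (nat_lit 39551514)) (.leaf (nat_lit 33052013))) (.leaf (nat_lit 29617194))) (.node (.leaf (nat_lit 6017177)) (.leaf (nat_lit 14921443)))))) (.node (.node (.node (.node (.node (.leaf (nat_lit 11160711)) (.leaf (nat_lit 9401394))) (.leaf (nat_lit 30857190))) (.node (.node (.leaf (nat_lit 22369569)) (.leaf (nat_lit 9938327))) (.leaf (nat_lit 1815185)))) (.node (.node (.node (.leaf (nat_lit 409119)) (.leaf (nat_lit 45615136))) (.leaf (nat_lit 13161398))) (.node (.leaf (nat_lit 28007347)) (.leaf (nat_lit 47400727))))) (.node (.node (.node (.node (.leaf (nat_lit 21163627)) (.leaf (nat_lit 46721369))) (.leaf (nat_lit 801447))) (.node (.node (.leaf (nat_lit 23329532)) (.leaf (nat_lit 36125172))) (.leaf (nat_lit 3595687)))) (.node (.node (.node (.leaf (nat_lit 45781275)) (.leaf (nat_lit 5607657))) (.leaf (nat_lit 4100077))) (.node (.leaf (nat_lit 6291500)) (.leaf (nat_lit 34304186))))))) (.node (.node (.node (.node (.node (.node (.leaf (nat_lit 11861217)) (.leaf (nat_lit 17379585))) (.leaf (nat_lit 3240545))) (.node (.node (.leaf (nat_lit 54152195)) (.leaf (nat_lit 5262929))) (.leaf (nat_lit 23518841)))) (.node (.node (.node (.leaf (nat_lit 24639813)) (.leaf (nat_lit 35624558))) (.leaf (nat_lit 2575306))) (.node (.node (.leaf (nat_lit 44289553)) (.leaf (nat_lit 23425939))) (.leaf (nat_lit 17605618))))) (.node (.node (.node (.node (.leaf (nat_lit 32553691)) (.leaf (nat_lit 15644255))) (.leaf (nat_lit 18901882))) (.node (.node (.leaf (nat_lit 40426059)) (.leaf (nat_lit 49485635))) (.leaf (nat_lit 54679603)))) (.node (.node (.node (.leaf (nat_lit 41479352)) (.leaf (nat_lit 53577470))) (.leaf (nat_lit 44630085))) (.node (.leaf (nat_lit 35902381)) (.leaf (nat_lit 2462031)))))) (.node (.node (.node (.node (.node (.leaf (nat_lit 18664982)) (.leaf (nat_lit 31387339))) (.leaf (nat_lit 44408852))) (.node (.node (.leaf (nat_lit 38468591)) (.leaf (nat_lit 27906637))) (.leaf (nat_lit 24139638)))) (.node (.node (.node (.leaf (nat_lit 3909623)) (.leaf (nat_lit 52346410))) (.leaf (nat_lit 17573327))) (.node (.leaf (nat_lit 38501702)) (.leaf (nat_lit 23415601))))) (.node (.node (.node (.node (.leaf (nat_lit 8067002)) (.leaf (nat_lit 48166319))) (.leaf (nat_lit 27537140))) (.node (.node (.leaf (nat_lit 12087529)) (.leaf (nat_lit 35712341))) (.leaf (nat_lit 24432388)))) (.node (.node (.node (.leaf (nat_lit 43189477)) (.leaf (nat_lit 28038859))) (.leaf (nat_lit 27881309))) (.node (.leaf (nat_lit 53741714)) (.leaf (nat_lit 5790714)))))))) (.node (.node (.node (.node (.node (.node (.node (.leaf (nat_lit 14517299)) (.leaf (nat_lit 28821003))) (.leaf (nat_lit 15785203))) (.node (.node (.leaf (nat_lit 12448558)) (.leaf (nat_lit 26904046))) (.leaf (nat_lit 25751426)))) (.node (.node (.node (.leaf (nat_lit 37505540)) (.leaf (nat_lit 10966965))) (.leaf (nat_lit 24210502))) (.node (.node (.leaf (nat_lit 10817106)) (.leaf (nat_lit 45796211))) (.leaf (nat_lit 25135023))))) (.node (.node (.node (.node (.leaf (nat_lit 47470263)) (.leaf (nat_lit 30441188))) (.leaf (nat_lit 16081170))) (.node (.node (.leaf (nat_lit 29780113)) (.leaf (nat_lit 13000180))) (.leaf (nat_lit 47947820)))) (.node (.node (.node (.leaf (nat_lit 3722313)) (.leaf (nat_lit 51260074))) (.leaf (nat_lit 52301856))) (.node (.leaf (nat_lit 10270207)) (.leaf (nat_lit 37490168)))))) (.node (.node (.node (.node (.node (.leaf (nat_lit 34470689)) (.leaf (nat_lit 23473440))) (.leaf (nat_lit 25275740))) (.node (.node (.leaf (nat_lit 20126808)) (.leaf (nat_lit 38647627))) (.leaf (nat_lit 45422832)))) (.node (.node (.node (.leaf (nat_lit 31554452)) (.leaf (nat_lit 44801692))) (.leaf (nat_lit 17389689))) (.node (.leaf (nat_lit 8192075)) (.leaf (nat_lit 6622690))))) (.node (.node (.node (.node (.leaf (nat_lit 9119057)) (.leaf (nat_lit 39324065))) (.leaf (nat_lit 43745736))) (.node (.node (.leaf (nat_lit 28794139)) (.leaf (nat_lit 38169074))) (.leaf (nat_lit 23373816)))) (.node (.node (.node (.leaf (nat_lit 49900456)) (.leaf (nat_lit 36271955))) (.leaf (nat_lit 26884100))) (.node (.leaf (nat_lit 35651473)) (.leaf (nat_lit 50358915))))))) (.node (.node (.node (.node (.node (.node (.leaf (nat_lit 10769751)) (.leaf (nat_lit 5217705))) (.leaf (nat_lit 33893157))) (.node (.node (.leaf (nat_lit 35279888)) (.leaf (nat_lit 30748082))) (.leaf (nat_lit 48893199)))) (.node (.node (.node (.leaf (nat_lit 56403249)) (.leaf (nat_lit 4419564))) (.leaf (nat_lit 46492525))) (.node (.node (.leaf (nat_lit 22730807)) (.leaf (nat_lit 47669761))) (.leaf (nat_lit 22441456))))) (.node (.node (.node (.node (.leaf (nat_lit 45346279)) (.leaf (nat_lit 36709829))) (.leaf (nat_lit 12736886))) (.node (.node (.leaf (nat_lit 42636687)) (.leaf (nat_lit 47906900))) (.leaf (nat_lit 24706688)))) (.node (.node (.node (.leaf (nat_lit 207818)) (.leaf (nat_lit 52516523))) (.leaf (nat_lit 573793))) (.node (.leaf (nat_lit 36699001)) (.leaf (nat_lit 51916137)))))) (.node (.node (.node (.node (.node (.leaf (nat_lit 14695287)) (.leaf (nat_lit 23119466))) (.leaf (nat_lit 30095757))) (.node (.node (.leaf (nat_lit 47646309)) (.leaf (nat_lit 34436228))) (.leaf (nat_lit 5545652)))) (.node (.node (.node (.leaf (nat_lit 21881407)) (.leaf (nat_lit 37534542))) (.leaf (nat_lit 55905445))) (.node (.leaf (nat_lit 42545982)) (.leaf (nat_lit 45745203))))) (.node (.node (.node (.node (.leaf (nat_lit 15015471)) (.leaf (nat_lit 19846937))) (.leaf (nat_lit 12677935))) (.node (.node (.leaf (nat_lit 15496519)) (.leaf (nat_lit 17101487))) (.leaf (nat_lit 36875610)))) (.node (.node (.node (.leaf (nat_lit 40822595)) (.leaf (nat_lit 28648578))) (.leaf (nat_lit 10272968))) (.node (.leaf (nat_lit 3540792)) (.leaf (nat_lit 7408907))))))))) (.node (.node (.node (.node (.node (.node (.node (.node (.leaf (nat_lit 33441917)) (.leaf (nat_lit 36655642))) (.leaf (nat_lit 31846372))) (.node (.node (.leaf (nat_lit 55264426)) (.leaf (nat_lit 10905709))) (.leaf (nat_lit 53385183)))) (.node (.node (.node (.leaf (nat_lit 35666824)) (.leaf (nat_lit 33642511))) (.leaf (nat_lit 31150005))) (.node (.node (.leaf (nat_lit 273308)) (.leaf (nat_lit 8570039))) (.leaf (nat_lit 47750101))))) (.node (.node (.node (.node (.leaf (nat_lit 37099290)) (.leaf (nat_lit 32816687))) (.leaf (nat_lit 35654741))) (.node (.node (.leaf (nat_lit 52732470)) (.leaf (nat_lit 29592273))) (.leaf (nat_lit 38424611)))) (.node (.node (.node (.leaf (nat_lit 55382450)) (.leaf (nat_lit 4746357))) (.leaf (nat_lit 15774700))) (.node (.leaf (nat_lit 15954499)) (.leaf (nat_lit 38395681)))))) (.node (.node (.node (.node (.node (.leaf (nat_lit 32371379)) (.leaf (nat_lit 34368711))) (.leaf (nat_lit 31340278))) (.node (.node (.leaf (nat_lit 28730853)) (.leaf (nat_lit 28955752))) (.leaf (nat_lit 49814363)))) (.node (.node (.node (.leaf (nat_lit 12499680)) (.leaf (nat_lit 40820675))) (.leaf (nat_lit 55282593))) (.node (.leaf (nat_lit 9595456)) (.leaf (nat_lit 47882217))))) (.node (.node (.node (.node (.leaf (nat_lit 55794290)) (.leaf (nat_lit 42205992))) (.leaf (nat_lit 29240356))) (.node (.node (.leaf (nat_lit 36706039)) (.leaf (nat_lit 7620105))) (.leaf (nat_lit 21073680)))) (.node (.node (.node (.leaf (nat_lit 31229335)) (.leaf (nat_lit 16733318))) (.leaf (nat_lit 1367148))) (.node (.leaf (nat_lit 45116172)) (.leaf (nat_lit 18007081))))))) (.node (.node (.node (.node (.node (.node (.leaf (nat_lit 38680405)) (.leaf (nat_lit 16160871))) (.leaf (nat_lit 1190448))) (.node (.node (.leaf (nat_lit 2957048)) (.leaf (nat_lit 15846208))) (.leaf (nat_lit 9543711)))) (.node (.node (.node (.leaf (nat_lit 4083147)) (.leaf (nat_lit 24957137))) (.leaf (nat_lit 13427008))) (.node (.node (.leaf (nat_lit 22623663)) (.leaf (nat_lit 4238411))) (.leaf (nat_lit 4780259))))) (.node (.node (.node (.node (.leaf (nat_lit 8191131)) (.leaf (nat_lit 53977759))) (.leaf (nat_lit 54457228))) (.node (.node (.leaf (nat_lit 54039944)) (.leaf (nat_lit 18338420))) (.leaf (nat_lit 45970987)))) (.node (.node (.node (.leaf (nat_lit 30427719)) (.leaf (nat_lit 29128096))) (.leaf (nat_lit 12907738))) (.node (.leaf (nat_lit 18948273)) (.leaf (nat_lit 54445821)))))) (.node (.node (.node (.node (.node (.leaf (nat_lit 53275421)) (.leaf (nat_lit 15508593))) (.leaf (nat_lit 9905683))) (.node (.node (.leaf (nat_lit 53129480)) (.leaf (nat_lit 40910219))) (.leaf (nat_lit 51984841)))) (.node (.node (.node (.leaf (nat_lit 30121899)) (.leaf (nat_lit 6234079))) (.leaf (nat_lit 46359879))) (.node (.leaf (nat_lit 56641165)) (.leaf (nat_lit 299609))))) (.node (.node (.node (.node (.leaf (nat_lit 48846595)) (.leaf (nat_lit 16334462))) (.leaf (nat_lit 41434439))) (.node (.node (.leaf (nat_lit 19047497)) (.leaf (nat_lit 35652084))) (.leaf (nat_lit 50400818)))) (.node (.node (.node (.leaf (nat_lit 38067053)) (.leaf (nat_lit 9771830))) (.leaf (nat_lit 56443845))) (.node (.leaf (nat_lit 42754945)) (.leaf (nat_lit 8119038)))))))) (.node (.node (.node (.node (.node (.node (.node (.leaf (nat_lit 14)) (.leaf (nat_lit 29046514))) (.leaf (nat_lit 6538284))) (.node (.node (.leaf (nat_lit 36447209)) (.leaf (nat_lit 22849289))) (.leaf (nat_lit 46944356)))) (.node (.node (.node (.leaf (nat_lit 23151904)) (.leaf (nat_lit 728421))) (.leaf (nat_lit 27554300))) (.node (.node (.leaf (nat_lit 50175472)) (.leaf (nat_lit 43018936))) (.leaf (nat_lit 47351285))))) (.node (.node (.node (.node (.leaf (nat_lit 37040506)) (.leaf (nat_lit 9013624))) (.leaf (nat_lit 2373848))) (.node (.node (.leaf (nat_lit 55340263)) (.leaf (nat_lit 50255433))) (.leaf (nat_lit 6391427)))) (.node (.node (.node (.leaf (nat_lit 8018319)) (.leaf (nat_lit 47802264))) (.leaf (nat_lit 6667793))) (.node (.leaf (nat_lit 11205437)) (.leaf (nat_lit 23996876)))))) (.node (.node (.node (.node (.node (.leaf (nat_lit 30424729)) (.leaf (nat_lit 18715897))) (.leaf (nat_lit 19994356))) (.node (.node (.leaf (nat_lit 20848125)) (.leaf (nat_lit 36252205))) (.leaf (nat_lit 13521103)))) (.node (.node (.node (.leaf (nat_lit 51671865)) (.leaf (nat_lit 35100942))) (.leaf (nat_lit 17360183))) (.node (.leaf (nat_lit 45079321)) (.leaf (nat_lit 3537817))))) (.node (.node (.node (.node (.leaf (nat_lit 40871647)) (.leaf (nat_lit 21134197))) (.leaf (nat_lit 55673733))) (.node (.node (.leaf (nat_lit 16167353)) (.leaf (nat_lit 42105146))) (.leaf (nat_lit 45344432)))) (.node (.node (.node (.leaf (nat_lit 44315838)) (.leaf (nat_lit 56461649))) (.leaf (nat_lit 16300564))) (.node (.leaf (nat_lit 23824223)) (.leaf (nat_lit 28271921))))))) (.node (.node (.node (.node (.node (.node (.leaf (nat_lit 35111789)) (.leaf (nat_lit 10385986))) (.leaf (nat_lit 12556643))) (.node (.node (.leaf (nat_lit 20875080)) (.leaf (nat_lit 7913183))) (.leaf (nat_lit 50066948)))) (.node (.node (.node (.leaf (nat_lit 4249836)) (.leaf (nat_lit 16469427))) (.leaf (nat_lit 48655030))) (.node (.node (.leaf (nat_lit 4515882)) (.leaf (nat_lit 49791464))) (.leaf (nat_lit 20116130))))) (.node (.node (.node (.node (.leaf (nat_lit 42672067)) (.leaf (nat_lit 21690421))) (.leaf (nat_lit 32745929))) (.node (.node (.leaf (nat_lit 49942120)) (.leaf (nat_lit 49297541))) (.leaf (nat_lit 46337130)))) (.node (.node (.node (.leaf (nat_lit 56241509)) (.leaf (nat_lit 17309583))) (.leaf (nat_lit 51362484))) (.node (.leaf (nat_lit 11045720)) (.leaf (nat_lit 6882471)))))) (.node (.node (.node (.node (.node (.leaf (nat_lit 31434814)) (.leaf (nat_lit 5066035))) (.leaf (nat_lit 20491000))) (.node (.node (.leaf (nat_lit 7506787)) (.leaf (nat_lit 15761618))) (.leaf (nat_lit 26151468)))) (.node (.node (.node (.leaf (nat_lit 19295347)) (.leaf (nat_lit 8169646))) (.leaf (nat_lit 22198355))) (.node (.leaf (nat_lit 19927212)) (.leaf (nat_lit 21576023))))) (.node (.node (.node (.node (.leaf (nat_lit 18033074)) (.leaf (nat_lit 36227030))) (.leaf (nat_lit 165935))) (.node (.node (.leaf (nat_lit 7958073)) (.leaf (nat_lit 11528035))) (.leaf (nat_lit 43443310)))) (.node (.node (.node (.leaf (nat_lit 50986949)) (.leaf (nat_lit 16176015))) (.leaf (nat_lit 939957))) (.node (.leaf (nat_lit 3306692)) (.leaf (nat_lit 38763637)))))))))))) (.node (.node (.node (.node (.node (.node (.node (.node (.node (.node (.node (.leaf (nat_lit 1)) (.leaf (nat_lit 5934614))) (.leaf (nat_lit 19209807))) (.node (.node (.leaf (nat_lit 38001638)) (.leaf (nat_lit 23186869))) (.leaf (nat_lit 42192153)))) (.node (.node (.node (.leaf (nat_lit 56372012)) (.leaf (nat_lit 45118185))) (.leaf (nat_lit 18361762))) (.node (.node (.leaf (nat_lit 19281417)) (.leaf (nat_lit 48646209))) (.leaf (nat_lit 1039085))))) (.node (.node (.node (.node (.leaf (nat_lit 800813)) (.leaf (nat_lit 27128119))) (.leaf (nat_lit 31891670))) (.node (.node (.leaf (nat_lit 4139421)) (.leaf (nat_lit 29149039))) (.leaf (nat_lit 44535753)))) (.node (.node (.node (.leaf (nat_lit 52565358)) (.leaf (nat_lit 14137821))) (.leaf (nat_lit 16788257))) (.node (.leaf (nat_lit 20308977)) (.leaf (nat_lit 25492265)))))) (.node (.node (.node (.node (.node (.leaf (nat_lit 29187973)) (.leaf (nat_lit 39480172))) (.leaf (nat_lit 21132947))) (.node (.node (.leaf (nat_lit 21767890)) (.leaf (nat_lit 22762614))) (.leaf (nat_lit 25170510)))) (.node (.node (.node (.leaf (nat_lit 29687904)) (.leaf (nat_lit 1443866))) (.leaf (nat_lit 47041094))) (.node (.leaf (nat_lit 32861053)) (.leaf (nat_lit 12344497))))) (.node (.node (.node (.node (.leaf (nat_lit 24434775)) (.leaf (nat_lit 14587502))) (.leaf (nat_lit 50504434))) (.node (.node (.leaf (nat_lit 24965205)) (.leaf (nat_lit 56760249))) (.leaf (nat_lit 19625742)))) (.node (.node (.node (.leaf (nat_lit 14176351)) (.leaf (nat_lit 26879681))) (.leaf (nat_lit 43594981))) (.node (.leaf (nat_lit 13695702)) (.leaf (nat_lit 27180940))))))) (.node (.node (.node (.node (.node (.node (.leaf (nat_lit 15)) (.leaf (nat_lit 20363754))) (.leaf (nat_lit 27707293))) (.node (.node (.leaf (nat_lit 21329387)) (.leaf (nat_lit 297378))) (.leaf (nat_lit 7892949)))) (.node (.node (.node (.leaf (nat_lit 12568053)) (.leaf (nat_lit 31594627))) (.leaf (nat_lit 4529697))) (.node (.node (.leaf (nat_lit 47952795)) (.leaf (nat_lit 8022835))) (.leaf (nat_lit 23495212))))) (.node (.node (.node (.node (.leaf (nat_lit 11885858)) (.leaf (nat_lit 32035544))) (.leaf (nat_lit 39021957))) (.node (.node (.leaf (nat_lit 56415597)) (.leaf (nat_lit 27984012))) (.leaf (nat_lit 35936364)))) (.node (.node (.node (.leaf (nat_lit 6428607)) (.leaf (nat_lit 16791835))) (.leaf (nat_lit 40342841))) (.node (.leaf (nat_lit 49181844)) (.leaf (nat_lit 17588815)))))) (.node (.node (.node (.node (.node (.leaf (nat_lit 26503347)) (.leaf (nat_lit 42272146))) (.leaf (nat_lit 26883485))) (.node (.node (.leaf (nat_lit 49928638)) (.leaf (nat_lit 40041230))) (.leaf (nat_lit 15269126)))) (.node (.node (.node (.leaf (nat_lit 29850822)) (.leaf (nat_lit 21652039))) (.leaf (nat_lit 15874353))) (.node (.leaf (nat_lit 27397185)) (.leaf (nat_lit 5864375))))) (.node (.node (.node (.node (.leaf (nat_lit 20)) (.leaf (nat_lit 38210712))) (.leaf (nat_lit 24534165))) (.node (.node (.leaf (nat_lit 48382725)) (.leaf (nat_lit 39205767))) (.leaf (nat_lit 52715632)))) (.node (.node (.node (.leaf (nat_lit 36438194)) (.leaf (nat_lit 15221649))) (.leaf (nat_lit 40267594))) (.node (.leaf (nat_lit 4939693)) (.leaf (nat_lit 56438615)))))))) (.node (.node (.node (.node (.node (.node (.node (.leaf (nat_lit 4790947)) (.leaf (nat_lit 33328665))) (.leaf (nat_lit 46551255))) (.node (.node (.leaf (nat_lit 5460739)) (.leaf (nat_lit 50862770))) (.leaf (nat_lit 679407)))) (.node (.node (.node (.leaf (nat_lit 28956338)) (.leaf (nat_lit 41133820))) (.leaf (nat_lit 49654664))) (.node (.node (.leaf (nat_lit 41206576)) (.leaf (nat_lit 35112620))) (.leaf (nat_lit 13769984))))) (.node (.node (.node (.node (.leaf (nat_lit 7655021)) (.leaf (nat_lit 8441801))) (.leaf (nat_lit 2942613))) (.node (.node (.leaf (nat_lit 36800351)) (.leaf (nat_lit 22743931))) (.leaf (nat_lit 25075097)))) (.node (.node (.node (.leaf (nat_lit 16810810)) (.leaf (nat_lit 38748348))) (.leaf (nat_lit 16739078))) (.node (.leaf (nat_lit 28229214)) (.leaf (nat_lit 20220558)))))) (.node (.node (.node (.node (.node (.leaf (nat_lit 49181627)) (.leaf (nat_lit 46508977))) (.leaf (nat_lit 19909254))) (.node (.node (.leaf (nat_lit 822769)) (.leaf (nat_lit 45465761))) (.leaf (nat_lit 35531133)))) (.node (.node (.node (.leaf (nat_lit 55804530)) (.leaf (nat_lit 11421682))) (.leaf (nat_lit 42849162))) (.node (.leaf (nat_lit 46901058)) (.leaf (nat_lit 6492211))))) (.node (.node (.node (.node (.leaf (nat_lit 6920133)) (.leaf (nat_lit 13470894))) (.leaf (nat_lit 54961569))) (.node (.node (.leaf (nat_lit 56639754)) (.leaf (nat_lit 3446924))) (.leaf (nat_lit 28612618)))) (.node (.node (.node (.leaf (nat_lit 32312809)) (.leaf (nat_lit 53268030))) (.leaf (nat_lit 6265228))) (.node (.leaf (nat_lit 29713950)) (.leaf (nat_lit 1897293))))))) (.node (.node (.node (.node (.node (.node (.leaf (nat_lit 34520382)) (.leaf (nat_lit 13600731))) (.leaf (nat_lit 54507487))) (.node (.node (.leaf (nat_lit 15789687)) (.leaf (nat_lit 15318695))) (.leaf (nat_lit 10524455)))) (.node (.node (.node (.leaf (nat_lit 50140753)) (.leaf (nat_lit 12354134))) (.leaf (nat_lit 9220976))) (.node (.node (.leaf (nat_lit 37166307)) (.leaf (nat_lit 34621958))) (.leaf (nat_lit 747561))))) (.node (.node (.node (.node (.leaf (nat_lit 26075281)) (.leaf (nat_lit 29542398))) (.leaf (nat_lit 178867))) (.node (.node (.leaf (nat_lit 52627018)) (.leaf (nat_lit 24063383))) (.leaf (nat_lit 23295699)))) (.node (.node (.node (.leaf (nat_lit 16658936)) (.leaf (nat_lit 31040583))) (.leaf (nat_lit 35601732))) (.node (.leaf (nat_lit 55929093)) (.leaf (nat_lit 5431677)))))) (.node (.node (.node (.node (.node (.leaf (nat_lit 35531189)) (.leaf (nat_lit 14945570))) (.leaf (nat_lit 39620836))) (.node (.node (.leaf (nat_lit 54291779)) (.leaf (nat_lit 7872386))) (.leaf (nat_lit 26852858)))) (.node (.node (.node (.leaf (nat_lit 33574884)) (.leaf (nat_lit 40343499))) (.leaf (nat_lit 26214241))) (.node (.leaf (nat_lit 40485039)) (.leaf (nat_lit 14702279))))) (.node (.node (.node (.node (.leaf (nat_lit 3094555)) (.leaf (nat_lit 11772336))) (.leaf (nat_lit 20604943))) (.node (.node (.leaf (nat_lit 33432445)) (.leaf (nat_lit 53951795))) (.leaf (nat_lit 26263612)))) (.node (.node (.node (.leaf (nat_lit 5657176)) (.leaf (nat_lit 34294217))) (.leaf (nat_lit 8483465))) (.node (.leaf (nat_lit 48683971)) (.leaf (nat_lit 4431447))))))))) (.node (.node (.node (.node (.node (.node (.node (.node (.leaf (nat_lit 6)) (.leaf (nat_lit 27772637))) (.leaf (nat_lit 8558618))) (.node (.node (.leaf (nat_lit 8798841)) (.leaf (nat_lit 19407863))) (.leaf (nat_lit 43227702)))) (.node (.node (.node (.leaf (nat_lit 31237868)) (.leaf (nat_lit 42272015))) (.leaf (nat_lit 38506146))) (.node (.node (.leaf (nat_lit 44308949)) (.leaf (nat_lit 52779309))) (.leaf (nat_lit 29608818))))) (.node (.node (.node (.node (.leaf (nat_lit 25231387)) (.leaf (nat_lit 17849307))) (.leaf (nat_lit 35002145))) (.node (.node (.leaf (nat_lit 6074233)) (.leaf (nat_lit 4709700))) (.leaf (nat_lit 9684648)))) (.node (.node (.node (.leaf (nat_lit 40257461)) (.leaf (nat_lit 6562802))) (.leaf (nat_lit 46523668))) (.node (.leaf (nat_lit 46097288)) (.leaf (nat_lit 54504827)))))) (.node (.node (.node (.node (.node (.leaf (nat_lit 39015737)) (.leaf (nat_lit 17100656))) (.leaf (nat_lit 30768667))) (.node (.node (.leaf (nat_lit 11527968)) (.leaf (nat_lit 50426076))) (.leaf (nat_lit 46063516)))) (.node (.node (.node (.leaf (nat_lit 7936794)) (.leaf (nat_lit 15666692))) (.leaf (nat_lit 21989276))) (.node (.leaf (nat_lit 56117297)) (.leaf (nat_lit 30678566))))) (.node (.node (.node (.node (.leaf (nat_lit 10901145)) (.leaf (nat_lit 22346106))) (.leaf (nat_lit 29557490))) (.node (.node (.leaf (nat_lit 55349724)) (.leaf (nat_lit 40796407))) (.leaf (nat_lit 45710865)))) (.node (.node (.node (.leaf (nat_lit 17369233)) (.leaf (nat_lit 727441))) (.leaf (nat_lit 13791214))) (.node (.leaf (nat_lit 26359678)) (.leaf (nat_lit 2480203))))))) (.node (.node (.node (.node (.node (.node (.leaf (nat_lit 30067737)) (.leaf (nat_lit 32578593))) (.leaf (nat_lit 19253224))) (.node (.node (.leaf (nat_lit 1129866)) (.leaf (nat_lit 12430908))) (.leaf (nat_lit 38246458)))) (.node (.node (.node (.leaf (nat_lit 25079875)) (.leaf (nat_lit 42057911))) (.leaf (nat_lit 53663525))) (.node (.node (.leaf (nat_lit 5355597)) (.leaf (nat_lit 6037581))) (.leaf (nat_lit 7402854))))) (.node (.node (.node (.node (.leaf (nat_lit 54479535)) (.leaf (nat_lit 27379987))) (.leaf (nat_lit 35244578))) (.node (.node (.leaf (nat_lit 31051890)) (.leaf (nat_lit 33159552))) (.leaf (nat_lit 1030449)))) (.node (.node (.node (.leaf (nat_lit 21259992)) (.leaf (nat_lit 8753741))) (.leaf (nat_lit 892793))) (.node (.leaf (nat_lit 31883561)) (.leaf (nat_lit 49933735)))))) (.node (.node (.node (.node (.node (.leaf (nat_lit 25130079)) (.leaf (nat_lit 18964750))) (.leaf (nat_lit 13912208))) (.node (.node (.leaf (nat_lit 30466153)) (.leaf (nat_lit 14493206))) (.leaf (nat_lit 1216193)))) (.node (.node (.node (.leaf (nat_lit 50323487)) (.leaf (nat_lit 81447))) (.leaf (nat_lit 19517281))) (.node (.leaf (nat_lit 44531112)) (.leaf (nat_lit 42593256))))) (.node (.node (.node (.node (.leaf (nat_lit 8844253)) (.leaf (nat_lit 37512795))) (.leaf (nat_lit 37175892))) (.node (.node (.leaf (nat_lit 4236179)) (.leaf (nat_lit 33264189))) (.leaf (nat_lit 36206356)))) (.node (.node (.node (.leaf (nat_lit 35717161)) (.leaf (nat_lit 54116400))) (.leaf (nat_lit 44274749))) (.node (.leaf (nat_lit 1428133)) (.leaf (nat_lit 8683064)))))))) (.node (.node (.node (.node (.node (.node (.node (.leaf (nat_lit 52906579)) (.leaf (nat_lit 22315132))) (.leaf (nat_lit 21285937))) (.node (.node (.leaf (nat_lit 2812951)) (.leaf (nat_lit 27222698))) (.leaf (nat_lit 19681717)))) (.node (.node (.node (.leaf (nat_lit 22254817)) (.leaf (nat_lit 22858338))) (.leaf (nat_lit 622183))) (.node (.node (.leaf (nat_lit 49543990)) (.leaf (nat_lit 1801147))) (.leaf (nat_lit 17345616))))) (.node (.node (.node (.node (.leaf (nat_lit 35451908)) (.leaf (nat_lit 2409315))) (.leaf (nat_lit 45121461))) (.node (.node (.leaf (nat_lit 33455779)) (.leaf (nat_lit 38451827))) (.leaf (nat_lit 55867422)))) (.node (.node (.node (.leaf (nat_lit 13346774)) (.leaf (nat_lit 44047297))) (.leaf (nat_lit 31119398))) (.node (.leaf (nat_lit 11844547)) (.leaf (nat_lit 28044689)))))) (.node (.node (.node (.node (.node (.leaf (nat_lit 18018073)) (.leaf (nat_lit 6730463))) (.leaf (nat_lit 44495207))) (.node (.node (.leaf (nat_lit 9643817)) (.leaf (nat_lit 31795111))) (.leaf (nat_lit 7951777)))) (.node (.node (.node (.leaf (nat_lit 47685474)) (.leaf (nat_lit 48690822))) (.leaf (nat_lit 27068321))) (.node (.leaf (nat_lit 38031577)) (.leaf (nat_lit 19683227))))) (.node (.node (.node (.node (.leaf (nat_lit 25438516)) (.leaf (nat_lit 28350528))) (.leaf (nat_lit 6584150))) (.node (.node (.leaf (nat_lit 39662157)) (.leaf (nat_lit 23213482))) (.leaf (nat_lit 17427836)))) (.node (.node (.node (.leaf (nat_lit 52124165)) (.leaf (nat_lit 10692224))) (.leaf (nat_lit 52827451))) (.node (.leaf (nat_lit 37833500)) (.leaf (nat_lit 12569273))))))) (.node (.node (.node (.node (.node (.node (.leaf (nat_lit 16)) (.leaf (nat_lit 31799155))) (.leaf (nat_lit 15610244))) (.node (.node (.leaf (nat_lit 22761359)) (.leaf (nat_lit 20309974))) (.leaf (nat_lit 35593917)))) (.node (.node (.node (.leaf (nat_lit 12084429)) (.leaf (nat_lit 233385))) (.leaf (nat_lit 35417566))) (.node (.node (.leaf (nat_lit 28891047)) (.leaf (nat_lit 54145159))) (.leaf (nat_lit 24499227))))) (.node (.node (.node (.node (.leaf (nat_lit 5518130)) (.leaf (nat_lit 49185930))) (.leaf (nat_lit 55854503))) (.node (.node (.leaf (nat_lit 39866422)) (.leaf (nat_lit 45687600))) (.leaf (nat_lit 48180623)))) (.node (.node (.node (.leaf (nat_lit 17383593)) (.leaf (nat_lit 34152607))) (.leaf (nat_lit 9262289))) (.node (.leaf (nat_lit 25898711)) (.leaf (nat_lit 41943887)))))) (.node (.node (.node (.node (.node (.leaf (nat_lit 32233397)) (.leaf (nat_lit 48548085))) (.leaf (nat_lit 44449462))) (.node (.node (.leaf (nat_lit 23151191)) (.leaf (nat_lit 34355050))) (.leaf (nat_lit 36954626)))) (.node (.node (.node (.leaf (nat_lit 55509071)) (.leaf (nat_lit 30986346))) (.leaf (nat_lit 783295))) (.node (.leaf (nat_lit 22177442)) (.leaf (nat_lit 11495112))))) (.node (.node (.node (.node (.leaf (nat_lit 19129575)) (.leaf (nat_lit 28663652))) (.leaf (nat_lit 49959142))) (.node (.node (.leaf (nat_lit 36251840)) (.leaf (nat_lit 31996710))) (.leaf (nat_lit 12387503)))) (.node (.node (.node (.leaf (nat_lit 40484469)) (.leaf (nat_lit 45746210))) (.leaf (nat_lit 49846679))) (.node (.leaf (nat_lit 710653)) (.leaf (nat_lit 22517049)))))))))) (.node (.node (.node (.node (.node (.node (.node (.node (.node (.leaf (nat_lit 18823928)) (.leaf (nat_lit 10774775))) (.leaf (nat_lit 4306863))) (.node (.node (.leaf (nat_lit 9253973)) (.leaf (nat_lit 42770675))) (.leaf (nat_lit 9320259)))) (.node (.node (.node (.leaf (nat_lit 1861495)) (.leaf (nat_lit 35012902))) (.leaf (nat_lit 3707289))) (.node (.node (.leaf (nat_lit 7631845)) (.leaf (nat_lit 42670615))) (.leaf (nat_lit 46368426))))) (.node (.node (.node (.node (.leaf (nat_lit 6106465)) (.leaf (nat_lit 29092659))) (.leaf (nat_lit 13449791))) (.node (.node (.leaf (nat_lit 56693040)) (.leaf (nat_lit 30691992))) (.leaf (nat_lit 53452900)))) (.node (.node (.node (.leaf (nat_lit 53965763)) (.leaf (nat_lit 16841055))) (.leaf (nat_lit 7690593))) (.node (.leaf (nat_lit 43782406)) (.leaf (nat_lit 13237029)))))) (.node (.node (.node (.node (.node (.leaf (nat_lit 21967398)) (.leaf (nat_lit 20625625))) (.leaf (nat_lit 12133777))) (.node (.node (.leaf (nat_lit 14863117)) (.leaf (nat_lit 54471942))) (.leaf (nat_lit 20664934)))) (.node (.node (.node (.leaf (nat_lit 14598103)) (.leaf (nat_lit 42685841))) (.leaf (nat_lit 10203507))) (.node (.leaf (nat_lit 15072449)) (.leaf (nat_lit 11746189))))) (.node (.node (.node (.node (.leaf (nat_lit 42689397)) (.leaf (nat_lit 4036326))) (.leaf (nat_lit 4759837))) (.node (.node (.leaf (nat_lit 34688022)) (.leaf (nat_lit 14590076))) (.leaf (nat_lit 24077641)))) (.node (.node (.node (.leaf (nat_lit 40276682)) (.leaf (nat_lit 18506734))) (.leaf (nat_lit 47809481))) (.node (.leaf (nat_lit 27739432)) (.leaf (nat_lit 34718176))))))) (.node (.node (.node (.node (.node (.node (.leaf (nat_lit 3175135)) (.leaf (nat_lit 46016106))) (.leaf (nat_lit 25781346))) (.node (.node (.leaf (nat_lit 45964931)) (.leaf (nat_lit 54177234))) (.leaf (nat_lit 18417835)))) (.node (.node (.node (.leaf (nat_lit 11726116)) (.leaf (nat_lit 33426383))) (.leaf (nat_lit 22274018))) (.node (.node (.leaf (nat_lit 27610774)) (.leaf (nat_lit 7453119))) (.leaf (nat_lit 16720751))))) (.node (.node (.node (.node (.leaf (nat_lit 54070445)) (.leaf (nat_lit 32224392))) (.leaf (nat_lit 13233903))) (.node (.node (.leaf (nat_lit 8252822)) (.leaf (nat_lit 45027051))) (.leaf (nat_lit 4948336)))) (.node (.node (.node (.leaf (nat_lit 7883998)) (.leaf (nat_lit 16333361))) (.leaf (nat_lit 25910424))) (.node (.leaf (nat_lit 13796600)) (.leaf (nat_lit 52051800)))))) (.node (.node (.node (.node (.node (.leaf (nat_lit 18)) (.leaf (nat_lit 36073697))) (.leaf (nat_lit 15007003))) (.node (.node (.leaf (nat_lit 27495517)) (.leaf (nat_lit 28940629))) (.leaf (nat_lit 27053143)))) (.node (.node (.node (.leaf (nat_lit 22812146)) (.leaf (nat_lit 11549202))) (.leaf (nat_lit 681585))) (.node (.leaf (nat_lit 29920382)) (.leaf (nat_lit 20898354))))) (.node (.node (.node (.node (.leaf (nat_lit 35273533)) (.leaf (nat_lit 37266792))) (.leaf (nat_lit 21318579))) (.node (.node (.leaf (nat_lit 33531531)) (.leaf (nat_lit 37160754))) (.leaf (nat_lit 20227837)))) (.node (.node (.node (.leaf (nat_lit 27843036)) (.leaf (nat_lit 19664109))) (.leaf (nat_lit 31153221))) (.node (.leaf (nat_lit 6390021)) (.leaf (nat_lit 13665539)))))))) (.node (.node (.node (.node (.node (.node (.node (.leaf (nat_lit 12)) (.leaf (nat_lit 1915326))) (.leaf (nat_lit 18971662))) (.node (.node (.leaf (nat_lit 47351013)) (.leaf (nat_lit 40720795))) (.leaf (nat_lit 35800699)))) (.node (.node (.node (.leaf (nat_lit 53910723)) (.leaf (nat_lit 36097299))) (.leaf (nat_lit 25737991))) (.node (.node (.leaf (nat_lit 51174077)) (.leaf (nat_lit 50361984))) (.leaf (nat_lit 687549))))) (.node (.node (.node (.node (.leaf (nat_lit 8292341)) (.leaf (nat_lit 24652696))) (.leaf (nat_lit 12438956))) (.node (.node (.leaf (nat_lit 31748135)) (.leaf (nat_lit 20624325))) (.leaf (nat_lit 24144264)))) (.node (.node (.node (.leaf (nat_lit 35779291)) (.leaf (nat_lit 55470064))) (.leaf (nat_lit 25691565))) (.node (.leaf (nat_lit 32659068)) (.leaf (nat_lit 51914967)))))) (.node (.node (.node (.node (.node (.leaf (nat_lit 429771)) (.leaf (nat_lit 22133901))) (.leaf (nat_lit 35672571))) (.node (.node (.leaf (nat_lit 26545423)) (.leaf (nat_lit 29269687))) (.leaf (nat_lit 31239246)))) (.node (.node (.node (.leaf (nat_lit 26866129)) (.leaf (nat_lit 11085721))) (.leaf (nat_lit 27780945))) (.node (.leaf (nat_lit 45005446)) (.leaf (nat_lit 30157533))))) (.node (.node (.node (.node (.leaf (nat_lit 15383767)) (.leaf (nat_lit 41019782))) (.leaf (nat_lit 25580625))) (.node (.node (.leaf (nat_lit 50743795)) (.leaf (nat_lit 28311345))) (.leaf (nat_lit 37148611)))) (.node (.node (.node (.leaf (nat_lit 56533164)) (.leaf (nat_lit 27914807))) (.leaf (nat_lit 51926568))) (.node (.leaf (nat_lit 18059461)) (.leaf (nat_lit 1552662))))))) (.node (.node (.node (.node (.node (.node (.leaf (nat_lit 13091544)) (.leaf (nat_lit 53979118))) (.leaf (nat_lit 47021880))) (.node (.node (.leaf (nat_lit 36379495)) (.leaf (nat_lit 1177728))) (.leaf (nat_lit 56632401)))) (.node (.node (.node (.leaf (nat_lit 31021962)) (.leaf (nat_lit 54870362))) (.leaf (nat_lit 51147786))) (.node (.node (.leaf (nat_lit 28582710)) (.leaf (nat_lit 5727441))) (.leaf (nat_lit 11133169))))) (.node (.node (.node (.node (.leaf (nat_lit 51926259)) (.leaf (nat_lit 13438492))) (.leaf (nat_lit 19374719))) (.node (.node (.leaf (nat_lit 35039205)) (.leaf (nat_lit 53436678))) (.leaf (nat_lit 35750764)))) (.node (.node (.node (.leaf (nat_lit 52118710)) (.leaf (nat_lit 56028885))) (.leaf (nat_lit 34373714))) (.node (.leaf (nat_lit 8097525)) (.leaf (nat_lit 8351187)))))) (.node (.node (.node (.node (.node (.leaf (nat_lit 12682981)) (.leaf (nat_lit 27591305))) (.leaf (nat_lit 44437061))) (.node (.node (.leaf (nat_lit 42459502)) (.leaf (nat_lit 35093027))) (.leaf (nat_lit 54218983)))) (.node (.node (.node (.leaf (nat_lit 39365266)) (.leaf (nat_lit 43493433))) (.leaf (nat_lit 34991112))) (.node (.leaf (nat_lit 23959102)) (.leaf (nat_lit 42477278))))) (.node (.node (.node (.node (.leaf (nat_lit 44650991)) (.leaf (nat_lit 25103590))) (.leaf (nat_lit 44800454))) (.node (.node (.leaf (nat_lit 38763808)) (.leaf (nat_lit 32967398))) (.leaf (nat_lit 5424412)))) (.node (.node (.node (.leaf (nat_lit 20745429)) (.leaf (nat_lit 10393054))) (.leaf (nat_lit 1962809))) (.node (.leaf (nat_lit 38808003)) (.leaf (nat_lit 26268799))))))))) (.node (.node (.node (.node (.node (.node (.node (.node (.leaf (nat_lit 8)) (.leaf (nat_lit 5758922))) (.leaf (nat_lit 35989032))) (.node (.node (.leaf (nat_lit 19643651)) (.leaf (nat_lit 24318771))) (.leaf (nat_lit 29525805)))) (.node (.node (.node (.leaf (nat_lit 46854307)) (.leaf (nat_lit 20499826))) (.leaf (nat_lit 30658350))) (.node (.node (.leaf (nat_lit 37162500)) (.leaf (nat_lit 30125907))) (.leaf (nat_lit 54918723))))) (.node (.node (.node (.node (.leaf (nat_lit 40296568)) (.leaf (nat_lit 51733268))) (.leaf (nat_lit 34710420))) (.node (.node (.leaf (nat_lit 22703039)) (.leaf (nat_lit 6294181))) (.leaf (nat_lit 37793914)))) (.node (.node (.node (.leaf (nat_lit 21691607)) (.leaf (nat_lit 7779652))) (.leaf (nat_lit 10809024))) (.node (.leaf (nat_lit 12919101)) (.leaf (nat_lit 43297307)))))) (.node (.node (.node (.node (.node (.leaf (nat_lit 131871)) (.leaf (nat_lit 39617452))) (.leaf (nat_lit 32537981))) (.node (.node (.leaf (nat_lit 17369009)) (.leaf (nat_lit 34135009))) (.leaf (nat_lit 54505444)))) (.node (.node (.node (.leaf (nat_lit 27402788)) (.leaf (nat_lit 1851444))) (.leaf (nat_lit 54579820))) (.node (.leaf (nat_lit 38797159)) (.leaf (nat_lit 15845051))))) (.node (.node (.node (.node (.leaf (nat_lit 32154586)) (.leaf (nat_lit 43772399))) (.leaf (nat_lit 10230309))) (.node (.node (.leaf (nat_lit 46273662)) (.leaf (nat_lit 19911480))) (.leaf (nat_lit 22800508)))) (.node (.node (.node (.leaf (nat_lit 6813556)) (.leaf (nat_lit 30448783))) (.leaf (nat_lit 6627545))) (.node (.leaf (nat_lit 31102319)) (.leaf (nat_lit 46954414))))))) (.node (.node (.node (.node (.node (.node (.leaf (nat_lit 10914080)) (.leaf (nat_lit 5611273))) (.leaf (nat_lit 9361273))) (.node (.node (.leaf (nat_lit 36855127)) (.leaf (nat_lit 50304758))) (.leaf (nat_lit 53406652)))) (.node (.node (.node (.leaf (nat_lit 26867164)) (.leaf (nat_lit 54443381))) (.leaf (nat_lit 700338))) (.node (.node (.leaf (nat_lit 27242540)) (.leaf (nat_lit 48941142))) (.leaf (nat_lit 52789694))))) (.node (.node (.node (.node (.leaf (nat_lit 35457233)) (.leaf (nat_lit 22345076))) (.leaf (nat_lit 41525800))) (.node (.node (.leaf (nat_lit 36799595)) (.leaf (nat_lit 14409395))) (.leaf (nat_lit 46443013)))) (.node (.node (.node (.leaf (nat_lit 8764718)) (.leaf (nat_lit 24784350))) (.leaf (nat_lit 39439973))) (.node (.leaf (nat_lit 32721526)) (.leaf (nat_lit 12482211)))))) (.node (.node (.node (.node (.node (.leaf (nat_lit 3995869)) (.leaf (nat_lit 30413511))) (.leaf (nat_lit 13528271))) (.node (.node (.leaf (nat_lit 48527238)) (.leaf (nat_lit 12607611))) (.leaf (nat_lit 6314972)))) (.node (.node (.node (.leaf (nat_lit 24978825)) (.leaf (nat_lit 23067095))) (.leaf (nat_lit 18790257))) (.node (.leaf (nat_lit 38942714)) (.leaf (nat_lit 22716807))))) (.node (.node (.node (.node (.leaf (nat_lit 2551893)) (.leaf (nat_lit 28642317))) (.leaf (nat_lit 50208364))) (.node (.node (.leaf (nat_lit 26836730)) (.leaf (nat_lit 50173779))) (.leaf (nat_lit 49965588)))) (.node (.node (.node (.leaf (nat_lit 46066398)) (.leaf (nat_lit 16976502))) (.leaf (nat_lit 12261790))) (.node (.leaf (nat_lit 30895797)) (.leaf (nat_lit 38856185)))))))) (.node (.node (.node (.node (.node (.node (.node (.leaf (nat_lit 56419381)) (.leaf (nat_lit 18621115))) (.leaf (nat_lit 167427))) (.node (.node (.leaf (nat_lit 35609933)) (.leaf (nat_lit 6382271))) (.leaf (nat_lit 27192313)))) (.node (.node (.node (.leaf (nat_lit 31868570)) (.leaf (nat_lit 44800435))) (.leaf (nat_lit 43815989))) (.node (.node (.leaf (nat_lit 5960533)) (.leaf (nat_lit 56264695))) (.leaf (nat_lit 40517342))))) (.node (.node (.node (.node (.leaf (nat_lit 49723731)) (.leaf (nat_lit 48902070))) (.leaf (nat_lit 23321285))) (.node (.node (.leaf (nat_lit 16257088)) (.leaf (nat_lit 8055323))) (.leaf (nat_lit 13986267)))) (.node (.node (.node (.leaf (nat_lit 8641540)) (.leaf (nat_lit 47548147))) (.leaf (nat_lit 19991662))) (.node (.leaf (nat_lit 21442769)) (.leaf (nat_lit 24137903)))))) (.node (.node (.node (.node (.node (.leaf (nat_lit 29782941)) (.leaf (nat_lit 3077168))) (.leaf (nat_lit 12267135))) (.node (.node (.leaf (nat_lit 27817269)) (.leaf (nat_lit 697918))) (.leaf (nat_lit 23648088)))) (.node (.node (.node (.leaf (nat_lit 21)) (.leaf (nat_lit 40412530))) (.leaf (nat_lit 18690329))) (.node (.leaf (nat_lit 48323310)) (.leaf (nat_lit 25221681))))) (.node (.node (.node (.node (.leaf (nat_lit 25332553)) (.leaf (nat_lit 21195903))) (.leaf (nat_lit 36903949))) (.node (.node (.leaf (nat_lit 19569211)) (.leaf (nat_lit 55499209))) (.leaf (nat_lit 38220920)))) (.node (.node (.node (.leaf (nat_lit 9721370)) (.leaf (nat_lit 43811645))) (.leaf (nat_lit 37150345))) (.node (.leaf (nat_lit 39173719)) (.leaf (nat_lit 24326942))))))) (.node (.node (.node (.node (.node (.node (.leaf (nat_lit 4880683)) (.leaf (nat_lit 32318805))) (.leaf (nat_lit 1637508))) (.node (.node (.leaf (nat_lit 9493201)) (.leaf (nat_lit 52572877))) (.leaf (nat_lit 16300227)))) (.node (.node (.node (.leaf (nat_lit 55865223)) (.leaf (nat_lit 31178690))) (.leaf (nat_lit 31606477))) (.node (.node (.leaf (nat_lit 53537163)) (.leaf (nat_lit 36542774))) (.leaf (nat_lit 35452329))))) (.node (.node (.node (.node (.leaf (nat_lit 586657)) (.leaf (nat_lit 28223078))) (.leaf (nat_lit 12471433))) (.node (.node (.leaf (nat_lit 25765829)) (.leaf (nat_lit 71678))) (.leaf (nat_lit 52802073)))) (.node (.node (.node (.leaf (nat_lit 32617253)) (.leaf (nat_lit 22832945))) (.leaf (nat_lit 5110631))) (.node (.leaf (nat_lit 40971827)) (.leaf (nat_lit 44464819)))))) (.node (.node (.node (.node (.node (.leaf (nat_lit 56275476)) (.leaf (nat_lit 3364116))) (.leaf (nat_lit 36134123))) (.node (.node (.leaf (nat_lit 51496173)) (.leaf (nat_lit 56644153))) (.leaf (nat_lit 20541715)))) (.node (.node (.node (.leaf (nat_lit 16031408)) (.leaf (nat_lit 24429155))) (.leaf (nat_lit 36417356))) (.node (.leaf (nat_lit 33039607)) (.leaf (nat_lit 54083557))))) (.node (.node (.node (.node (.leaf (nat_lit 3553387)) (.leaf (nat_lit 15419305))) (.leaf (nat_lit 30413773))) (.node (.node (.leaf (nat_lit 38094895)) (.leaf (nat_lit 13957486))) (.leaf (nat_lit 14278585)))) (.node (.node (.node (.leaf (nat_lit 56548741)) (.leaf (nat_lit 3690746))) (.leaf (nat_lit 6830440))) (.node (.leaf (nat_lit 55447511)) (.leaf (nat_lit 39379462))))))))))) (.node (.node (.node (.node (.node (.node (.node (.node (.node (.node (.leaf (nat_lit 3)) (.leaf (nat_lit 31197058))) (.leaf (nat_lit 10724749))) (.node (.node (.leaf (nat_lit 18681093)) (.leaf (nat_lit 24491435))) (.leaf (nat_lit 16022913)))) (.node (.node (.node (.leaf (nat_lit 9291075)) (.leaf (nat_lit 19395250))) (.leaf (nat_lit 24699737))) (.node (.node (.leaf (nat_lit 24106657)) (.leaf (nat_lit 33282951))) (.leaf (nat_lit 236929))))) (.node (.node (.node (.node (.leaf (nat_lit 51093138)) (.leaf (nat_lit 27485706))) (.leaf (nat_lit 52508772))) (.node (.node (.leaf (nat_lit 1310527)) (.leaf (nat_lit 17529106))) (.leaf (nat_lit 45439095)))) (.node (.node (.node (.leaf (nat_lit 45013256)) (.leaf (nat_lit 24569296))) (.leaf (nat_lit 30763779))) (.node (.leaf (nat_lit 22505903)) (.leaf (nat_lit 17139329)))))) (.node (.node (.node (.node (.node (.leaf (nat_lit 42655406)) (.leaf (nat_lit 16654291))) (.leaf (nat_lit 32951167))) (.node (.node (.leaf (nat_lit 25021818)) (.leaf (nat_lit 4510786))) (.leaf (nat_lit 15779887)))) (.node (.node (.node (.leaf (nat_lit 54576326)) (.leaf (nat_lit 56106108))) (.leaf (nat_lit 9682312))) (.node (.leaf (nat_lit 32703361)) (.leaf (nat_lit 16022537))))) (.node (.node (.node (.node (.leaf (nat_lit 26402257)) (.leaf (nat_lit 28980392))) (.leaf (nat_lit 5978967))) (.node (.node (.leaf (nat_lit 27787695)) (.leaf (nat_lit 34694738))) (.leaf (nat_lit 42751196)))) (.node (.node (.node (.leaf (nat_lit 29088446)) (.leaf (nat_lit 26415782))) (.leaf (nat_lit 49491843))) (.node (.leaf (nat_lit 19387237)) (.leaf (nat_lit 27107682))))))) (.node (.node (.node (.node (.node (.node (.leaf (nat_lit 55310055)) (.leaf (nat_lit 45082017))) (.leaf (nat_lit 9223089))) (.node (.node (.leaf (nat_lit 39997705)) (.leaf (nat_lit 32887168))) (.leaf (nat_lit 21312429)))) (.node (.node (.node (.leaf (nat_lit 44626685)) (.leaf (nat_lit 54627522))) (.leaf (nat_lit 13526581))) (.node (.node (.leaf (nat_lit 54361979)) (.leaf (nat_lit 43498056))) (.leaf (nat_lit 55206948))))) (.node (.node (.node (.node (.leaf (nat_lit 27599314)) (.leaf (nat_lit 45646030))) (.leaf (nat_lit 35850883))) (.node (.node (.leaf (nat_lit 40211540)) (.leaf (nat_lit 13503052))) (.leaf (nat_lit 34710535)))) (.node (.node (.node (.leaf (nat_lit 9770181)) (.leaf (nat_lit 55913533))) (.leaf (nat_lit 12148423))) (.node (.leaf (nat_lit 27356803)) (.leaf (nat_lit 11237825)))))) (.node (.node (.node (.node (.node (.leaf (nat_lit 21622004)) (.leaf (nat_lit 43521441))) (.leaf (nat_lit 17418570))) (.node (.node (.leaf (nat_lit 47679727)) (.leaf (nat_lit 19344333))) (.leaf (nat_lit 42929745)))) (.node (.node (.node (.leaf (nat_lit 36666217)) (.leaf (nat_lit 40115290))) (.leaf (nat_lit 12779043))) (.node (.leaf (nat_lit 5653110)) (.leaf (nat_lit 29730278))))) (.node (.node (.node (.node (.leaf (nat_lit 31921638)) (.leaf (nat_lit 23232292))) (.leaf (nat_lit 26324197))) (.node (.node (.leaf (nat_lit 52513505)) (.leaf (nat_lit 1497612))) (.leaf (nat_lit 11667359)))) (.node (.node (.node (.leaf (nat_lit 27418539)) (.leaf (nat_lit 42235491))) (.leaf (nat_lit 41855910))) (.node (.leaf (nat_lit 13503692)) (.leaf (nat_lit 40082532)))))))) (.node (.node (.node (.node (.node (.node (.node (.leaf (nat_lit 39394943)) (.leaf (nat_lit 30055093))) (.leaf (nat_lit 128054))) (.node (.node (.leaf (nat_lit 34626485)) (.leaf (nat_lit 53624166))) (.leaf (nat_lit 35677738)))) (.node (.node (.node (.leaf (nat_lit 21653855)) (.leaf (nat_lit 23536110))) (.leaf (nat_lit 14314088))) (.node (.node (.leaf (nat_lit 1165498)) (.leaf (nat_lit 45531779))) (.leaf (nat_lit 52582289))))) (.node (.node (.node (.node (.leaf (nat_lit 4098627)) (.leaf (nat_lit 34628086))) (.leaf (nat_lit 27693187))) (.node (.node (.leaf (nat_lit 20171683)) (.leaf (nat_lit 17950798))) (.leaf (nat_lit 22035651)))) (.node (.node (.node (.leaf (nat_lit 15010543)) (.leaf (nat_lit 19930421))) (.leaf (nat_lit 43774297))) (.node (.leaf (nat_lit 22112597)) (.leaf (nat_lit 20596469)))))) (.node (.node (.node (.node (.node (.leaf (nat_lit 54189147)) (.leaf (nat_lit 35666802))) (.leaf (nat_lit 780238))) (.node (.node (.leaf (nat_lit 22032946)) (.leaf (nat_lit 19908798))) (.leaf (nat_lit 20933189)))) (.node (.node (.node (.leaf (nat_lit 6964477)) (.leaf (nat_lit 21584726))) (.leaf (nat_lit 46537532))) (.node (.leaf (nat_lit 44950275)) (.leaf (nat_lit 53326357))))) (.node (.node (.node (.node (.leaf (nat_lit 47633027)) (.leaf (nat_lit 28152482))) (.leaf (nat_lit 10562585))) (.node (.node (.leaf (nat_lit 22734065)) (.leaf (nat_lit 47172655))) (.leaf (nat_lit 41983861)))) (.node (.node (.node (.leaf (nat_lit 53764557)) (.leaf (nat_lit 36451736))) (.leaf (nat_lit 27632342))) (.node (.leaf (nat_lit 48108130)) (.leaf (nat_lit 52302621))))))) (.node (.node (.node (.node (.node (.node (.leaf (nat_lit 14360951)) (.leaf (nat_lit 46709580))) (.leaf (nat_lit 15840513))) (.node (.node (.leaf (nat_lit 3155157)) (.leaf (nat_lit 25227104))) (.leaf (nat_lit 41926269)))) (.node (.node (.node (.leaf (nat_lit 2136269)) (.leaf (nat_lit 23934095))) (.leaf (nat_lit 43368502))) (.node (.node (.leaf (nat_lit 44850327)) (.leaf (nat_lit 23981749))) (.leaf (nat_lit 1323174))))) (.node (.node (.node (.node (.leaf (nat_lit 54220259)) (.leaf (nat_lit 27100356))) (.leaf (nat_lit 5346487))) (.node (.node (.leaf (nat_lit 44905071)) (.leaf (nat_lit 20944761))) (.leaf (nat_lit 38501817)))) (.node (.node (.node (.leaf (nat_lit 47438013)) (.leaf (nat_lit 16586925))) (.leaf (nat_lit 47640924))) (.node (.leaf (nat_lit 18150529)) (.leaf (nat_lit 22125644)))))) (.node (.node (.node (.node (.node (.leaf (nat_lit 3859446)) (.leaf (nat_lit 13633079))) (.leaf (nat_lit 11828685))) (.node (.node (.leaf (nat_lit 36635591)) (.leaf (nat_lit 53153795))) (.leaf (nat_lit 48292778)))) (.node (.node (.node (.leaf (nat_lit 19393628)) (.leaf (nat_lit 50854942))) (.leaf (nat_lit 43596164))) (.node (.leaf (nat_lit 51047904)) (.leaf (nat_lit 1345046))))) (.node (.node (.node (.node (.leaf (nat_lit 527001)) (.leaf (nat_lit 50501957))) (.leaf (nat_lit 23353581))) (.node (.node (.leaf (nat_lit 23556948)) (.leaf (nat_lit 24669991))) (.leaf (nat_lit 30471545)))) (.node (.node (.node (.leaf (nat_lit 23176700)) (.leaf (nat_lit 36077941))) (.leaf (nat_lit 28517394))) (.node (.leaf (nat_lit 37764333)) (.leaf (nat_lit 21601894))))))))) (.node (.node (.node (.node (.node (.node (.node (.node (.leaf (nat_lit 7)) (.leaf (nat_lit 14326232))) (.leaf (nat_lit 36332285))) (.node (.node (.leaf (nat_lit 26295463)) (.leaf (nat_lit 35013578))) (.leaf (nat_lit 46120038)))) (.node (.node (.node (.leaf (nat_lit 22363141)) (.leaf (nat_lit 1559192))) (.leaf (nat_lit 23970359))) (.node (.node (.leaf (nat_lit 15318309)) (.leaf (nat_lit 34501344))) (.leaf (nat_lit 40711069))))) (.node (.node (.node (.node (.leaf (nat_lit 28921355)) (.leaf (nat_lit 40180636))) (.leaf (nat_lit 7935479))) (.node (.node (.leaf (nat_lit 27866015)) (.leaf (nat_lit 10629172))) (.leaf (nat_lit 11093445)))) (.node (.node (.node (.leaf (nat_lit 343497)) (.leaf (nat_lit 54234914))) (.leaf (nat_lit 36458259))) (.node (.leaf (nat_lit 24611386)) (.leaf (nat_lit 43620347)))))) (.node (.node (.node (.node (.node (.leaf (nat_lit 55370151)) (.leaf (nat_lit 10546306))) (.leaf (nat_lit 39918220))) (.node (.node (.leaf (nat_lit 6563415)) (.leaf (nat_lit 35463837))) (.leaf (nat_lit 37642911)))) (.node (.node (.node (.leaf (nat_lit 5053514)) (.leaf (nat_lit 34900339))) (.leaf (nat_lit 43164074))) (.node (.leaf (nat_lit 30732601)) (.leaf (nat_lit 25841110))))) (.node (.node (.node (.node (.leaf (nat_lit 35123158)) (.leaf (nat_lit 41864955))) (.leaf (nat_lit 866437))) (.node (.node (.leaf (nat_lit 2961048)) (.leaf (nat_lit 44859037))) (.leaf (nat_lit 46790372)))) (.node (.node (.node (.leaf (nat_lit 33162978)) (.leaf (nat_lit 23437426))) (.leaf (nat_lit 17564768))) (.node (.leaf (nat_lit 11497385)) (.leaf (nat_lit 21381919))))))) (.node (.node (.node (.node (.node (.node (.leaf (nat_lit 32782292)) (.leaf (nat_lit 50972110))) (.leaf (nat_lit 50042260))) (.node (.node (.leaf (nat_lit 17624608)) (.leaf (nat_lit 48798731))) (.leaf (nat_lit 41897135)))) (.node (.node (.node (.leaf (nat_lit 56007539)) (.leaf (nat_lit 52326064))) (.leaf (nat_lit 35805553))) (.node (.node (.leaf (nat_lit 24562177)) (.leaf (nat_lit 56191961))) (.leaf (nat_lit 16771615))))) (.node (.node (.node (.node (.leaf (nat_lit 2179131)) (.leaf (nat_lit 39225299))) (.leaf (nat_lit 13898487))) (.node (.node (.leaf (nat_lit 49376053)) (.leaf (nat_lit 18078116))) (.leaf (nat_lit 31054680)))) (.node (.node (.node (.leaf (nat_lit 32228032)) (.leaf (nat_lit 27149156))) (.leaf (nat_lit 55372186))) (.node (.leaf (nat_lit 873299)) (.leaf (nat_lit 22468721)))))) (.node (.node (.node (.node (.node (.leaf (nat_lit 23564033)) (.leaf (nat_lit 28739701))) (.leaf (nat_lit 18955410))) (.node (.node (.leaf (nat_lit 22414862)) (.leaf (nat_lit 11078461))) (.leaf (nat_lit 466236)))) (.node (.node (.node (.leaf (nat_lit 20224014)) (.leaf (nat_lit 27938009))) (.leaf (nat_lit 14640913))) (.node (.leaf (nat_lit 39135078)) (.leaf (nat_lit 14977371))))) (.node (.node (.node (.node (.leaf (nat_lit 49931385)) (.leaf (nat_lit 42372673))) (.leaf (nat_lit 17156577))) (.node (.node (.leaf (nat_lit 28512377)) (.leaf (nat_lit 44766288))) (.leaf (nat_lit 4644209)))) (.node (.node (.node (.leaf (nat_lit 23893256)) (.leaf (nat_lit 21976311))) (.leaf (nat_lit 54299834))) (.node (.leaf (nat_lit 20753199)) (.leaf (nat_lit 17320018)))))))) (.node (.node (.node (.node (.node (.node (.node (.leaf (nat_lit 13156903)) (.leaf (nat_lit 53734969))) (.leaf (nat_lit 9489925))) (.node (.node (.leaf (nat_lit 44035558)) (.leaf (nat_lit 11311459))) (.leaf (nat_lit 6765671)))) (.node (.node (.node (.leaf (nat_lit 47183582)) (.leaf (nat_lit 33260489))) (.leaf (nat_lit 50196434))) (.node (.node (.leaf (nat_lit 46929965)) (.leaf (nat_lit 45009151))) (.leaf (nat_lit 56733587))))) (.node (.node (.node (.node (.leaf (nat_lit 32222020)) (.leaf (nat_lit 52356177))) (.leaf (nat_lit 14465709))) (.node (.node (.leaf (nat_lit 11353940)) (.leaf (nat_lit 17044925))) (.leaf (nat_lit 54982601)))) (.node (.node (.node (.leaf (nat_lit 29133920)) (.leaf (nat_lit 5588910))) (.leaf (nat_lit 44683260))) (.node (.leaf (nat_lit 5449651)) (.leaf (nat_lit 43173374)))))) (.node (.node (.node (.node (.node (.leaf (nat_lit 394928)) (.leaf (nat_lit 24396799))) (.leaf (nat_lit 4620298))) (.node (.node (.leaf (nat_lit 40634178)) (.leaf (nat_lit 39357659))) (.leaf (nat_lit 16973518)))) (.node (.node (.node (.leaf (nat_lit 19471287)) (.leaf (nat_lit 18319984))) (.leaf (nat_lit 45434076))) (.node (.leaf (nat_lit 5491426)) (.leaf (nat_lit 9765929))))) (.node (.node (.node (.node (.leaf (nat_lit 45275990)) (.leaf (nat_lit 1907108))) (.leaf (nat_lit 6356447))) (.node (.node (.leaf (nat_lit 11976852)) (.leaf (nat_lit 12119783))) (.leaf (nat_lit 44922933)))) (.node (.node (.node (.leaf (nat_lit 35280465)) (.leaf (nat_lit 28430037))) (.leaf (nat_lit 40840823))) (.node (.leaf (nat_lit 56728371)) (.leaf (nat_lit 41715969))))))) (.node (.node (.node (.node (.node (.node (.leaf (nat_lit 32420444)) (.leaf (nat_lit 54658319))) (.leaf (nat_lit 45676122))) (.node (.node (.leaf (nat_lit 51095607)) (.leaf (nat_lit 51252139))) (.leaf (nat_lit 15729589)))) (.node (.node (.node (.leaf (nat_lit 11491643)) (.leaf (nat_lit 15118602))) (.leaf (nat_lit 49352865))) (.node (.node (.leaf (nat_lit 47088555)) (.leaf (nat_lit 55102444))) (.leaf (nat_lit 35049127))))) (.node (.node (.node (.node (.leaf (nat_lit 10365612)) (.leaf (nat_lit 24852791))) (.leaf (nat_lit 20210521))) (.node (.node (.leaf (nat_lit 42970254)) (.leaf (nat_lit 41714807))) (.leaf (nat_lit 6419701)))) (.node (.node (.node (.leaf (nat_lit 12453126)) (.leaf (nat_lit 15454001))) (.leaf (nat_lit 5694818))) (.node (.leaf (nat_lit 31562532)) (.leaf (nat_lit 32339503)))))) (.node (.node (.node (.node (.node (.leaf (nat_lit 26855447)) (.leaf (nat_lit 44723541))) (.leaf (nat_lit 10871751))) (.node (.node (.leaf (nat_lit 52161154)) (.leaf (nat_lit 35402335))) (.leaf (nat_lit 45565610)))) (.node (.node (.node (.leaf (nat_lit 41806833)) (.leaf (nat_lit 9912881))) (.leaf (nat_lit 20531678))) (.node (.leaf (nat_lit 31332455)) (.leaf (nat_lit 27916644))))) (.node (.node (.node (.node (.leaf (nat_lit 37086836)) (.leaf (nat_lit 22125999))) (.leaf (nat_lit 3908399))) (.node (.node (.leaf (nat_lit 15495286)) (.leaf (nat_lit 23140339))) (.leaf (nat_lit 36593314)))) (.node (.node (.node (.leaf (nat_lit 1530379)) (.leaf (nat_lit 22138937))) (.leaf (nat_lit 18910441))) (.node (.leaf (nat_lit 33758122)) (.leaf (nat_lit 56601294)))))))))) (.node (.node (.node (.node (.node (.node (.node (.node (.node (.leaf (nat_lit 5)) (.leaf (nat_lit 8685894))) (.leaf (nat_lit 40129945))) (.node (.node (.leaf (nat_lit 47498959)) (.leaf (nat_lit 48499977))) (.leaf (nat_lit 393693)))) (.node (.node (.node (.leaf (nat_lit 49008724)) (.leaf (nat_lit 2078639))) (.leaf (nat_lit 30371947))) (.node (.node (.leaf (nat_lit 19804670)) (.leaf (nat_lit 53462841))) (.leaf (nat_lit 19514319))))) (.node (.node (.node (.node (.leaf (nat_lit 30400328)) (.leaf (nat_lit 28981134))) (.leaf (nat_lit 1947845))) (.node (.node (.leaf (nat_lit 51681283)) (.leaf (nat_lit 38883977))) (.leaf (nat_lit 1597583)))) (.node (.node (.node (.leaf (nat_lit 44977451)) (.leaf (nat_lit 15657051))) (.leaf (nat_lit 20187212))) (.node (.leaf (nat_lit 32386752)) (.leaf (nat_lit 17888317)))))) (.node (.node (.node (.node (.node (.leaf (nat_lit 19810982)) (.leaf (nat_lit 11129787))) (.leaf (nat_lit 38722455))) (.node (.node (.leaf (nat_lit 38185677)) (.leaf (nat_lit 46186923))) (.leaf (nat_lit 28514972)))) (.node (.node (.node (.leaf (nat_lit 10346184)) (.leaf (nat_lit 40011083))) (.leaf (nat_lit 21927209))) (.node (.leaf (nat_lit 53253498)) (.leaf (nat_lit 12091399))))) (.node (.node (.node (.node (.leaf (nat_lit 6273678)) (.leaf (nat_lit 1574019))) (.leaf (nat_lit 52546855))) (.node (.node (.leaf (nat_lit 4961140)) (.leaf (nat_lit 8746288))) (.leaf (nat_lit 1307880)))) (.node (.node (.node (.leaf (nat_lit 45299346)) (.leaf (nat_lit 43479372))) (.leaf (nat_lit 201438))) (.node (.leaf (nat_lit 29526115)) (.leaf (nat_lit 2023565))))))) (.node (.node (.node (.node (.node (.node (.leaf (nat_lit 24769851)) (.leaf (nat_lit 12662089))) (.leaf (nat_lit 46303248))) (.node (.node (.leaf (nat_lit 38602215)) (.leaf (nat_lit 48769279))) (.leaf (nat_lit 43613135)))) (.node (.node (.node (.leaf (nat_lit 37877578)) (.leaf (nat_lit 49182256))) (.leaf (nat_lit 4290694))) (.node (.node (.leaf (nat_lit 25924413)) (.leaf (nat_lit 27352873))) (.leaf (nat_lit 41323097))))) (.node (.node (.node (.node (.leaf (nat_lit 13753246)) (.leaf (nat_lit 20159768))) (.leaf (nat_lit 19624441))) (.node (.node (.leaf (nat_lit 55324975)) (.leaf (nat_lit 36915501))) (.leaf (nat_lit 36266830)))) (.node (.node (.node (.leaf (nat_lit 43795983)) (.leaf (nat_lit 42550137))) (.leaf (nat_lit 9377682))) (.node (.leaf (nat_lit 6814402)) (.leaf (nat_lit 46055139)))))) (.node (.node (.node (.node (.node (.leaf (nat_lit 32057417)) (.leaf (nat_lit 28847863))) (.leaf (nat_lit 21056003))) (.node (.node (.leaf (nat_lit 26561377)) (.leaf (nat_lit 47560729))) (.leaf (nat_lit 34782047)))) (.node (.node (.node (.leaf (nat_lit 27131062)) (.leaf (nat_lit 35859107))) (.leaf (nat_lit 2640466))) (.node (.leaf (nat_lit 46921337)) (.leaf (nat_lit 53937005))))) (.node (.node (.node (.node (.leaf (nat_lit 4486527)) (.leaf (nat_lit 56362951))) (.leaf (nat_lit 23776527))) (.node (.node (.leaf (nat_lit 8593401)) (.leaf (nat_lit 13476023))) (.leaf (nat_lit 35924645)))) (.node (.node (.node (.leaf (nat_lit 2462355)) (.leaf (nat_lit 25705424))) (.leaf (nat_lit 1010291))) (.node (.leaf (nat_lit 18437705)) (.leaf (nat_lit 30552339)))))))) (.node (.node (.node (.node (.node (.node (.node (.leaf (nat_lit 25188199)) (.leaf (nat_lit 46812050))) (.leaf (nat_lit 31654977))) (.node (.node (.leaf (nat_lit 17015977)) (.leaf (nat_lit 26478328))) (.leaf (nat_lit 12496068)))) (.node (.node (.node (.leaf (nat_lit 28459571)) (.leaf (nat_lit 21078371))) (.leaf (nat_lit 26782914))) (.node (.node (.leaf (nat_lit 25807652)) (.leaf (nat_lit 29775351))) (.leaf (nat_lit 35313261))))) (.node (.node (.node (.node (.leaf (nat_lit 52246767)) (.leaf (nat_lit 4195537))) (.leaf (nat_lit 10104364))) (.node (.node (.leaf (nat_lit 12606727)) (.leaf (nat_lit 46858243))) (.leaf (nat_lit 52535477)))) (.node (.node (.node (.leaf (nat_lit 17991629)) (.leaf (nat_lit 23157115))) (.leaf (nat_lit 47401844))) (.node (.leaf (nat_lit 48245606)) (.leaf (nat_lit 11725256)))))) (.node (.node (.node (.node (.node (.leaf (nat_lit 6857116)) (.leaf (nat_lit 48758047))) (.leaf (nat_lit 54252625))) (.node (.node (.leaf (nat_lit 43988100)) (.leaf (nat_lit 29963661))) (.leaf (nat_lit 49054813)))) (.node (.node (.node (.leaf (nat_lit 15694302)) (.leaf (nat_lit 11986471))) (.leaf (nat_lit 2768286))) (.node (.leaf (nat_lit 33866087)) (.leaf (nat_lit 6926136))))) (.node (.node (.node (.node (.leaf (nat_lit 53530029)) (.leaf (nat_lit 44553548))) (.leaf (nat_lit 830067))) (.node (.node (.leaf (nat_lit 14725294)) (.leaf (nat_lit 45618959))) (.leaf (nat_lit 50892477)))) (.node (.node (.node (.leaf (nat_lit 24172065)) (.leaf (nat_lit 18623818))) (.leaf (nat_lit 35075))) (.node (.leaf (nat_lit 9889992)) (.leaf (nat_lit 1261772))))))) (.node (.node (.node (.node (.node (.node (.leaf (nat_lit 36902497)) (.leaf (nat_lit 41504575))) (.leaf (nat_lit 38909130))) (.node (.node (.leaf (nat_lit 6151010)) (.leaf (nat_lit 44559199))) (.leaf (nat_lit 11753490)))) (.node (.node (.node (.leaf (nat_lit 16333729)) (.leaf (nat_lit 8386745))) (.leaf (nat_lit 11391979))) (.node (.node (.leaf (nat_lit 34112964)) (.leaf (nat_lit 2303558))) (.leaf (nat_lit 16254704))))) (.node (.node (.node (.node (.leaf (nat_lit 12016251)) (.leaf (nat_lit 40041456))) (.leaf (nat_lit 15881977))) (.node (.node (.leaf (nat_lit 7594130)) (.leaf (nat_lit 43968195))) (.leaf (nat_lit 12014865)))) (.node (.node (.node (.leaf (nat_lit 56681769)) (.leaf (nat_lit 50192877))) (.leaf (nat_lit 34655812))) (.node (.leaf (nat_lit 15618515)) (.leaf (nat_lit 50611684)))))) (.node (.node (.node (.node (.node (.leaf (nat_lit 25108999)) (.leaf (nat_lit 29478599))) (.leaf (nat_lit 50362237))) (.node (.node (.leaf (nat_lit 55699668)) (.leaf (nat_lit 32057291))) (.leaf (nat_lit 26844941)))) (.node (.node (.node (.leaf (nat_lit 37172744)) (.leaf (nat_lit 8455286))) (.leaf (nat_lit 44177587))) (.node (.leaf (nat_lit 11432000)) (.leaf (nat_lit 46406565))))) (.node (.node (.node (.node (.leaf (nat_lit 15885150)) (.leaf (nat_lit 34676181))) (.leaf (nat_lit 46722920))) (.node (.node (.leaf (nat_lit 1603789)) (.leaf (nat_lit 2574316))) (.leaf (nat_lit 20122107)))) (.node (.node (.node (.leaf (nat_lit 53514262)) (.leaf (nat_lit 8360702))) (.leaf (nat_lit 36222194))) (.node (.leaf (nat_lit 3725907)) (.leaf (nat_lit 45810565))))))))) (.node (.node (.node (.node (.node (.node (.node (.node (.leaf (nat_lit 9)) (.leaf (nat_lit 49042297))) (.leaf (nat_lit 35689393))) (.node (.node (.leaf (nat_lit 775339)) (.leaf (nat_lit 56658781))) (.leaf (nat_lit 1733587)))) (.node (.node (.node (.leaf (nat_lit 48843371)) (.leaf (nat_lit 35344155))) (.leaf (nat_lit 1478341))) (.node (.node (.leaf (nat_lit 55742061)) (.leaf (nat_lit 38080969))) (.leaf (nat_lit 27838255))))) (.node (.node (.node (.node (.leaf (nat_lit 53493500)) (.leaf (nat_lit 38397955))) (.leaf (nat_lit 4164887))) (.node (.node (.leaf (nat_lit 44118078)) (.leaf (nat_lit 213517))) (.leaf (nat_lit 36599193)))) (.node (.node (.node (.leaf (nat_lit 4030119)) (.leaf (nat_lit 39009219))) (.leaf (nat_lit 23354347))) (.node (.leaf (nat_lit 17554603)) (.leaf (nat_lit 24626478)))))) (.node (.node (.node (.node (.node (.leaf (nat_lit 54427606)) (.leaf (nat_lit 16896618))) (.leaf (nat_lit 1908557))) (.node (.node (.leaf (nat_lit 42190943)) (.leaf (nat_lit 29327600))) (.leaf (nat_lit 17658127)))) (.node (.node (.node (.leaf (nat_lit 37413646)) (.leaf (nat_lit 31524361))) (.leaf (nat_lit 47736001))) (.node (.leaf (nat_lit 49328712)) (.leaf (nat_lit 46572777))))) (.node (.node (.node (.node (.leaf (nat_lit 21127161)) (.leaf (nat_lit 30667523))) (.leaf (nat_lit 35763071))) (.node (.node (.leaf (nat_lit 2223353)) (.leaf (nat_lit 8273243))) (.leaf (nat_lit 15662839)))) (.node (.node (.node (.leaf (nat_lit 22229176)) (.leaf (nat_lit 40569441))) (.leaf (nat_lit 23305997))) (.node (.leaf (nat_lit 45787729)) (.leaf (nat_lit 38884674))))))) (.node (.node (.node (.node (.node (.node (.leaf (nat_lit 17444021)) (.leaf (nat_lit 40301037))) (.leaf (nat_lit 17021138))) (.node (.node (.leaf (nat_lit 3738911)) (.leaf (nat_lit 3696576))) (.leaf (nat_lit 14525490)))) (.node (.node (.node (.leaf (nat_lit 49135115)) (.leaf (nat_lit 1326414))) (.leaf (nat_lit 22364751))) (.node (.node (.leaf (nat_lit 11691576)) (.leaf (nat_lit 28473091))) (.leaf (nat_lit 30653319))))) (.node (.node (.node (.node (.leaf (nat_lit 3807126)) (.leaf (nat_lit 45967245))) (.leaf (nat_lit 41105973))) (.node (.node (.leaf (nat_lit 29035238)) (.leaf (nat_lit 4090611))) (.leaf (nat_lit 7952698)))) (.node (.node (.node (.leaf (nat_lit 45582333)) (.leaf (nat_lit 35196438))) (.leaf (nat_lit 23653267))) (.node (.leaf (nat_lit 6696319)) (.leaf (nat_lit 30833555)))))) (.node (.node (.node (.node (.node (.leaf (nat_lit 51901152)) (.leaf (nat_lit 46669086))) (.leaf (nat_lit 32961946))) (.node (.node (.leaf (nat_lit 11311247)) (.leaf (nat_lit 35888031))) (.leaf (nat_lit 828839)))) (.node (.node (.node (.leaf (nat_lit 42107154)) (.leaf (nat_lit 6164585))) (.leaf (nat_lit 35844217))) (.node (.leaf (nat_lit 8078433)) (.leaf (nat_lit 25737420))))) (.node (.node (.node (.node (.leaf (nat_lit 28075136)) (.leaf (nat_lit 18824246))) (.leaf (nat_lit 50320239))) (.node (.node (.leaf (nat_lit 47969323)) (.leaf (nat_lit 18149220))) (.leaf (nat_lit 35516933)))) (.node (.node (.node (.leaf (nat_lit 34398735)) (.leaf (nat_lit 45017671))) (.leaf (nat_lit 53262805))) (.node (.leaf (nat_lit 5496222)) (.leaf (nat_lit 7029580)))))))) (.node (.node (.node (.node (.node (.node (.node (.leaf (nat_lit 26554111)) (.leaf (nat_lit 16415745))) (.leaf (nat_lit 38068405))) (.node (.node (.leaf (nat_lit 14729805)) (.leaf (nat_lit 13369037))) (.leaf (nat_lit 55514234)))) (.node (.node (.node (.leaf (nat_lit 14437073)) (.leaf (nat_lit 36990956))) (.leaf (nat_lit 52760873))) (.node (.node (.leaf (nat_lit 16776855)) (.leaf (nat_lit 51802259))) (.leaf (nat_lit 21980894))))) (.node (.node (.node (.node (.leaf (nat_lit 20240800)) (.leaf (nat_lit 14661796))) (.leaf (nat_lit 3937033))) (.node (.node (.leaf (nat_lit 18780774)) (.leaf (nat_lit 14345653))) (.leaf (nat_lit 42295244)))) (.node (.node (.node (.leaf (nat_lit 11909638)) (.leaf (nat_lit 11369497))) (.leaf (nat_lit 1264737))) (.node (.leaf (nat_lit 429997)) (.leaf (nat_lit 6969667)))))) (.node (.node (.node (.node (.node (.leaf (nat_lit 43489452)) (.leaf (nat_lit 10397667))) (.leaf (nat_lit 5405609))) (.node (.node (.leaf (nat_lit 44608070)) (.leaf (nat_lit 21146582))) (.leaf (nat_lit 30828870)))) (.node (.node (.node (.leaf (nat_lit 47814496)) (.leaf (nat_lit 30800515))) (.leaf (nat_lit 20917191))) (.node (.leaf (nat_lit 6014478)) (.leaf (nat_lit 27992170))))) (.node (.node (.node (.node (.leaf (nat_lit 24057034)) (.leaf (nat_lit 23359492))) (.leaf (nat_lit 22153256))) (.node (.node (.leaf (nat_lit 24030539)) (.leaf (nat_lit 39776079))) (.leaf (nat_lit 35903836)))) (.node (.node (.node (.leaf (nat_lit 19566914)) (.leaf (nat_lit 52485500))) (.leaf (nat_lit 51216844))) (.node (.leaf (nat_lit 43386807)) (.leaf (nat_lit 7344999))))))) (.node (.node (.node (.node (.node (.node (.leaf (nat_lit 37186521)) (.leaf (nat_lit 56122048))) (.leaf (nat_lit 4269037))) (.node (.node (.leaf (nat_lit 52184905)) (.leaf (nat_lit 29754606))) (.leaf (nat_lit 25337160)))) (.node (.node (.node (.leaf (nat_lit 43291957)) (.leaf (nat_lit 24713396))) (.leaf (nat_lit 763448))) (.node (.node (.leaf (nat_lit 40035447)) (.leaf (nat_lit 23098025))) (.leaf (nat_lit 25273909))))) (.node (.node (.node (.node (.leaf (nat_lit 6154205)) (.leaf (nat_lit 20734496))) (.leaf (nat_lit 3552397))) (.node (.node (.leaf (nat_lit 17444469)) (.leaf (nat_lit 55594424))) (.leaf (nat_lit 55336125)))) (.node (.node (.node (.leaf (nat_lit 7763637)) (.leaf (nat_lit 22891243))) (.leaf (nat_lit 19382420))) (.node (.leaf (nat_lit 2691219)) (.leaf (nat_lit 25571241)))))) (.node (.node (.node (.node (.node (.leaf (nat_lit 22080810)) (.leaf (nat_lit 13408935))) (.leaf (nat_lit 28108083))) (.node (.node (.leaf (nat_lit 1761725)) (.leaf (nat_lit 6602010))) (.leaf (nat_lit 20367469)))) (.node (.node (.node (.leaf (nat_lit 32835624)) (.leaf (nat_lit 18666128))) (.leaf (nat_lit 751111))) (.node (.leaf (nat_lit 56471122)) (.leaf (nat_lit 56142873))))) (.node (.node (.node (.node (.leaf (nat_lit 44273825)) (.leaf (nat_lit 30590727))) (.leaf (nat_lit 23937962))) (.node (.node (.leaf (nat_lit 44268737)) (.leaf (nat_lit 53425260))) (.leaf (nat_lit 29158923)))) (.node (.node (.node (.leaf (nat_lit 50603237)) (.leaf (nat_lit 19303774))) (.leaf (nat_lit 35392003))) (.node (.leaf (nat_lit 38066581)) (.leaf (nat_lit 37618945)))))))))))))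

theorem d_dc_0 : allR 0 1000 (MM.dcF 2 c_s1 2880 c_t0 c_lv1 22 d_reps d_ord d_D) = true := by decide +kernel

theorem d_dc_1 : allR 1000 1000 (MM.dcF 2 c_s1 2880 c_t0 c_lv1 22 d_reps d_ord d_D) = true := by decide +kernel

theorem d_dc_2 : allR 2000 880 (MM.dcF 2 c_s1 2880 c_t0 c_lv1 22 d_reps d_ord d_D) = true := by decide +kernel

theorem d_dc : allLt 2880 (MM.dcF 2 c_s1 2880 c_t0 c_lv1 22 d_reps d_ord d_D) = true := by
  have h0 := d_dc_0
  have h1 : allR 0 2000 (MM.dcF 2 c_s1 2880 c_t0 c_lv1 22 d_reps d_ord d_D) = true := allR_append (lo := 0) (a := 1000) (b := 1000) h0 d_dc_1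
  have h2 : allR 0 2880 (MM.dcF 2 c_s1 2880 c_t0 c_lv1 22 d_reps d_ord d_D) = true := allR_append (lo := 0) (a := 2000) (b := 880) h1 d_dc_2
  exact allLt_of_allR_zero h2

theorem d_all_0 : allR 0 700 (MM.dcAllF c_t0 c_lv1 448 d_reps (MM.chkJ MM.one)) = true := by decide +kernel

theorem d_all_1 : allR 700 700 (MM.dcAllF c_t0 c_lv1 448 d_reps (MM.chkJ MM.one)) = true := by decide +kernel

theorem d_all_2 : allR 1400 700 (MM.dcAllF c_t0 c_lv1 448 d_reps (MM.chkJ MM.one)) = true := by decide +kernel

theorem d_all_3 : allR 2100 700 (MM.dcAllF c_t0 c_lv1 448 d_reps (MM.chkJ MM.one)) = true := by decide +kernel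

theorem d_all_4 : allR 2800 700 (MM.dcAllF c_t0 c_lv1 448 d_reps (MM.chkJ MM.one)) = true := by decide +kernel

theorem d_all_5 : allR 3500 700 (MM.dcAllF c_t0 c_lv1 448 d_reps (MM.chkJ MM.one)) = true := by decide +kernel

theorem d_all_6 : allR 4200 700 (MM.dcAllF c_t0 c_lv1 448 d_reps (MM.chkJ MM.one)) = true := by decide +kernel

theorem d_all_7 : allR 4900 700 (MM.dcAllF c_t0 c_lv1 448 d_reps (MM.chkJ MM.one)) = true := by decide +kernel

theorem d_all_8 : allR 5600 700 (MM.dcAllF c_t0 c_lv1 448 d_reps (MM.chkJ MM.one)) = true := by decide +kernel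

theorem d_all_9 : allR 6300 700 (MM.dcAllF c_t0 c_lv1 448 d_reps (MM.chkJ MM.one)) = true := by decide +kernel

theorem d_all_10 : allR 7000 700 (MM.dcAllF c_t0 c_lv1 448 d_reps (MM.chkJ MM.one)) = true := by decide +kernel

theorem d_all_11 : allR 7700 700 (MM.dcAllF c_t0 c_lv1 448 d_reps (MM.chkJ MM.one)) = true := by decide +kernel

theorem d_all_12 : allR 8400 700 (MM.dcAllF c_t0 c_lv1 448 d_reps (MM.chkJ MM.one)) = true := by decide +kernel

theorem d_all_13 : allR 9100 700 (MM.dcAllF c_t0 c_lv1 448 d_reps (MM.chkJ MM.one)) = true := by decide +kernel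

theorem d_all_14 : allR 9800 56 (MM.dcAllF c_t0 c_lv1 448 d_reps (MM.chkJ MM.one)) = true := by decide +kernel

theorem d_all : allLt (22 * 448) (MM.dcAllF c_t0 c_lv1 448 d_reps (MM.chkJ MM.one)) = true := by
  have h0 := d_all_0
  have h1 : allR 0 1400 (MM.dcAllF c_t0 c_lv1 448 d_reps (MM.chkJ MM.one)) = true := allR_append (lo := 0) (a := 700) (b := 700) h0 d_all_1
  have h2 : allR 0 2100 (MM.dcAllF c_t0 c_lv1 448 d_reps (MM.chkJ MM.one)) = true := allR_append (lo := 0) (a := 1400) (b := 700) h1 d_all_2
  have h3 : allR 0 2800 (MM.dcAllF c_t0 c_lv1 448 d_reps (MM.chkJ MM.one)) = true := allR_append (lo := 0) (a := 2100) (b := 700) h2 d_all_3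
  have h4 : allR 0 3500 (MM.dcAllF c_t0 c_lv1 448 d_reps (MM.chkJ MM.one)) = true := allR_append (lo := 0) (a := 2800) (b := 700) h3 d_all_4
  have h5 : allR 0 4200 (MM.dcAllF c_t0 c_lv1 448 d_reps (MM.chkJ MM.one)) = true := allR_append (lo := 0) (a := 3500) (b := 700) h4 d_all_5
  have h6 : allR 0 4900 (MM.dcAllF c_t0 c_lv1 448 d_reps (MM.chkJ MM.one)) = true := allR_append (lo := 0) (a := 4200) (b := 700) h5 d_all_6
  have h7 : allR 0 5600 (MM.dcAllF c_t0 c_lv1 448 d_reps (MM.chkJ MM.one)) = true := allR_append (lo := 0) (a := 4900) (b := 700) h6 d_all_7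
  have h8 : allR 0 6300 (MM.dcAllF c_t0 c_lv1 448 d_reps (MM.chkJ MM.one)) = true := allR_append (lo := 0) (a := 5600) (b := 700) h7 d_all_8
  have h9 : allR 0 7000 (MM.dcAllF c_t0 c_lv1 448 d_reps (MM.chkJ MM.one)) = true := allR_append (lo := 0) (a := 6300) (b := 700) h8 d_all_9
  have h10 : allR 0 7700 (MM.dcAllF c_t0 c_lv1 448 d_reps (MM.chkJ MM.one)) = true := allR_append (lo := 0) (a := 7000) (b := 700) h9 d_all_10
  have h11 : allR 0 8400 (MM.dcAllF c_t0 c_lv1 448 d_reps (MM.chkJ MM.one)) = true := allR_append (lo := 0) (a := 7700) (b := 700) h10 d_all_11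
  have h12 : allR 0 9100 (MM.dcAllF c_t0 c_lv1 448 d_reps (MM.chkJ MM.one)) = true := allR_append (lo := 0) (a := 8400) (b := 700) h11 d_all_12
  have h13 : allR 0 9800 (MM.dcAllF c_t0 c_lv1 448 d_reps (MM.chkJ MM.one)) = true := allR_append (lo := 0) (a := 9100) (b := 700) h12 d_all_13
  have h14 : allR 0 9856 (MM.dcAllF c_t0 c_lv1 448 d_reps (MM.chkJ MM.one)) = true := allR_append (lo := 0) (a := 9800) (b := 56) h13 d_all_14
  exact allLt_of_allR_zero h14

/-- The group. -/
noncomputable abbrev K : Subgroup (GL (Fin 7) (ZMod 2)) := MM.gen 2 c_s0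

theorem pow_eq_one (g : K) : ∃ k ∈ [10, 12, 15, 7, 8], g ^ k = 1 := by
  obtain ⟨k, -, h⟩ := Model.forall_of_dc c_chain0 c_chain1 (by norm_num) c_tmem0 (by norm_num)
    (fun _ ha => c_valid1.mem_gen ha) (by norm_num) d_dc (by decide +kernel) d_all g g.2
  rw [← MM.enc_one] at h
  obtain ⟨a, ha, h⟩ := Model.pow_eq_of_chkJ h
  exact ⟨a, ha, Subtype.ext (Model.conj_pow_eq_one (h.elim id id))⟩

theorem exists_order_7 : ∃ g : K, orderOf g = 7 := by
  obtain ⟨x, hx, e⟩ := c_chain0.1 250
  refine ⟨⟨x, hx⟩, ?_⟩
  rw [Subgroup.orderOf_mk]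
  refine Model.orderOf_eq_of_ordIs (M := MM) (fuel := 5) (ds := [1]) (by norm_num) (by norm_num) (by decide) ?_
  rw [e]
  decide +kernel

theorem exists_order_8 : ∃ g : K, orderOf g = 8 := by
  obtain ⟨x, hx, e⟩ := c_chain0.1 2
  refine ⟨⟨x, hx⟩, ?_⟩
  rw [Subgroup.orderOf_mk]
  refine Model.orderOf_eq_of_ordIs (M := MM) (fuel := 5) (ds := [4]) (by norm_num) (by norm_num) (by decide) ?_
  rw [e]
  decide +kernel

theorem exists_order_10 : ∃ g : K, orderOf g = 10 := by
  obtain ⟨x, hx, e⟩ := c_chain0.1 22
  refine ⟨⟨x, hx⟩, ?_⟩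
  rw [Subgroup.orderOf_mk]
  refine Model.orderOf_eq_of_ordIs (M := MM) (fuel := 5) (ds := [5, 2]) (by norm_num) (by norm_num) (by decide) ?_
  rw [e]
  decide +kernel

theorem exists_order_12 : ∃ g : K, orderOf g = 12 := by
  obtain ⟨x, hx, e⟩ := c_chain0.1 16
  refine ⟨⟨x, hx⟩, ?_⟩
  rw [Subgroup.orderOf_mk]
  refine Model.orderOf_eq_of_ordIs (M := MM) (fuel := 5) (ds := [6, 4]) (by norm_num) (by norm_num) (by decide) ?_
  rw [e]
  decide +kernel

theorem exists_order_15 : ∃ g : K, orderOf g = 15 := by
  obtain ⟨x, hx, e⟩ := c_chain0.1 144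
  refine ⟨⟨x, hx⟩, ?_⟩
  rw [Subgroup.orderOf_mk]
  refine Model.orderOf_eq_of_ordIs (M := MM) (fuel := 5) (ds := [5, 3]) (by norm_num) (by norm_num) (by decide) ?_
  rw [e]
  decide +kernel

theorem spec_K : Set.range (orderOf : K → ℕ) = {d | ∃ a ∈ ({10, 12, 15, 7, 8} : Set ℕ), d ∣ a} := by
  apply CfsgH7.spec_eq_of_maximal _ (by simp)
  · intro g
    obtain ⟨k, hk, h⟩ := pow_eq_one g
    exact ⟨k, by simpa using hk, h⟩
  · rintro a (rfl | rfl | rfl | rfl | rfl)
    exacts [exists_order_10, exists_order_12, exists_order_15, exists_order_7, exists_order_8]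

noncomputable def n_h : NT := (.node (.node (.node (.leaf (nat_lit 393858)) (.leaf (nat_lit 1171897))) (.leaf (nat_lit 244291))) (.node (.node (.leaf (nat_lit 1129802)) (.leaf (nat_lit 1008030))) (.leaf (nat_lit 121750))))

noncomputable def n_s0 : NT := (.node (.node (.node (.leaf (nat_lit 22300746527758698154618827807557359969239041)) (.leaf (nat_lit 22300746527763768757019740725163346781798401))) (.leaf (nat_lit 22300746527758698154618828960478864575823873))) (.node (.node (.leaf (nat_lit 22300746527758698154618827807557909724790785)) (.leaf (nat_lit 22300757161582664433945811038013842211733505))) (.leaf (nat_lit 22300746527758698157036679446786618318389249))))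

noncomputable def n_t0 : NT := (.node (.node (.node (.node (.node (.node (.leaf (nat_lit 22300746527758698154618827807557359968976897)) (.leaf (nat_lit 22300746527758698157036680599708672681050113))) (.node (.leaf (nat_lit 22300746527758698157036680599708122925236225)) (.leaf (nat_lit 22300746527763768759437593517314109738319873)))) (.node (.node (.leaf (nat_lit 22300746527758698154618828960478864576086017)) (.leaf (nat_lit 22300757161587735036346725108541333631401985))) (.node (.leaf (nat_lit 22300746527763768757019740725163896537874433)) (.leaf (nat_lit 22300757161587735038764576747770591980814337))))) (.node (.node (.node (.leaf (nat_lit 22300746527758698157036679446786618318389249)) (.leaf (nat_lit 22300757161582664436363662677243650316959745))) (.node (.leaf (nat_lit 22300757161582664436363662677243100561145857)) (.leaf (nat_lit 22300746527763768759437593517314659493871617)))) (.node (.node (.leaf (nat_lit 22300746527758698154618828960479414331637761)) (.leaf (nat_lit 22300757161582664433945812190935896574656513))) (.node (.leaf (nat_lit 22300757161582664433945812190935346818842625))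 (.leaf (nat_lit 22300757161587735038764575594849637130043393)))))) (.node (.node (.node (.node (.leaf (nat_lit 22300746527758698154618827807557909724790785)) (.leaf (nat_lit 22300757161582664433945812190935896574394369))) (.node (.leaf (nat_lit 22300757161582664433945812190935346818580481)) (.leaf (nat_lit 22300757161587735036346725108541333631664129)))) (.node (.node (.leaf (nat_lit 22300746527763768757019740725163346782060545)) (.leaf (nat_lit 22300746527758698157036680599708672681312257))) (.node (.leaf (nat_lit 22300746527758698157036680599708122925498369)) (.leaf (nat_lit 22300757161582664436363663830165154924068865))))) (.node (.node (.node (.leaf (nat_lit 22300757161582664433945811038013842211733505)) (.leaf (nat_lit 22300746527763768759437593517314109738057729))) (.node (.leaf (nat_lit 22300746527758698154618828960479414331899905)) (.leaf (nat_lit 22300757161587735036346725108541883387215873)))) (.node (.node (.leaf (nat_lit 22300746527763768757019740725163896537612289)) (.leaf (nat_lit 22300757161582664436363662677243650317221889))) (.node (.leaf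 (nat_lit 22300757161582664436363662677243100561408001)) (.leaf (nat_lit 22300757161587735038764576747771141736628225))))))) (.node (.node (.node (.node (.node (.leaf (nat_lit 22300746527758698154618827807557359969239041)) (.leaf (nat_lit 22300746527763768757019741878085401144459265))) (.node (.leaf (nat_lit 22300746527763768757019741878084851388645377)) (.leaf (nat_lit 22300757161582664436363663830164605168254977)))) (.node (.node (.leaf (nat_lit 22300746527758698157036679446786618318651393)) (.leaf (nat_lit 22300757161587735038764575594849087373967361))) (.node (.leaf (nat_lit 22300757161582664433945811038014391967809537)) (.leaf (nat_lit 22300746527763768759437593517314659494133761))))) (.node (.node (.node (.leaf (nat_lit 22300746527763768757019740725163346781798401)) (.leaf (nat_lit 22300757161587735036346723955620378780368897))) (.node (.leaf (nat_lit 22300757161587735036346723955619829024555009)) (.leaf (nat_lit 22300757161582664436363663830165154923806721)))) (.node (.node (.leaf (nat_lit 22300746527758698157036679446787168074203137)) (.leaf (nat_lit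 22300746527763768759437592364393154887286785))) (.node (.leaf (nat_lit 22300746527763768759437592364392605131472897)) (.leaf (nat_lit 22300757161587735038764576747770591981076481)))))) (.node (.node (.node (.node (.leaf (nat_lit 22300746527758698154618828960478864575823873)) (.leaf (nat_lit 22300746527763768759437592364393154887024641))) (.node (.leaf (nat_lit 22300746527763768759437592364392605131210753)) (.leaf (nat_lit 22300757161587735038764575594849087374229505)))) (.node (.node (.leaf (nat_lit 22300757161582664433945811038013842211995649)) (.leaf (nat_lit 22300746527763768757019741878085401144721409))) (.node (.leaf (nat_lit 22300746527763768757019741878084851388907521)) (.leaf (nat_lit 22300757161587735036346725108541883387478017))))) (.node (.node (.node (.leaf (nat_lit 22300746527758698154618827807557909725052929)) (.leaf (nat_lit 22300757161582664436363663830164605167992833))) (.node (.leaf (nat_lit 22300746527758698157036679446787168074465281)) (.leaf (nat_lit 22300757161587735038764575594849637129781249)))) (.node (.node (.leaf (nat_lit 22300757161582664433945811038014391967547393))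 (.leaf (nat_lit 22300757161587735036346723955620378780631041))) (.node (.leaf (nat_lit 22300757161587735036346723955619829024817153)) (.leaf (nat_lit 22300757161587735038764576747771141736890369))))))))

noncomputable def n_P0 : NT := (.node (.node (.node (.node (.node (.node (.leaf (nat_lit 0)) (.leaf (nat_lit 75))) (.node (.leaf (nat_lit 21)) (.leaf (nat_lit 160)))) (.node (.node (.leaf (nat_lit 8)) (.leaf (nat_lit 107))) (.node (.leaf (nat_lit 46)) (.leaf (nat_lit 233))))) (.node (.node (.node (.leaf (nat_lit 3)) (.leaf (nat_lit 83))) (.node (.leaf (nat_lit 29)) (.leaf (nat_lit 196)))) (.node (.node (.leaf (nat_lit 14)) (.leaf (nat_lit 137))) (.node (.leaf (nat_lit 53)) (.leaf (nat_lit 275)))))) (.node (.node (.node (.node (.leaf (nat_lit 1)) (.leaf (nat_lit 77))) (.node (.leaf (nat_lit 23)) (.leaf (nat_lit 167)))) (.node (.node (.leaf (nat_lit 10)) (.leaf (nat_lit 135))) (.node (.leaf (nat_lit 51)) (.leaf (nat_lit 257))))) (.node (.node (.node (.leaf (nat_lit 5)) (.leaf (nat_lit 100))) (.node (.leaf (nat_lit 44)) (.leaf (nat_lit 203)))) (.node (.node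 (.leaf (nat_lit 16)) (.leaf (nat_lit 143))) (.node (.leaf (nat_lit 59)) (.leaf (nat_lit 317))))))) (.node (.node (.node (.node (.node (.leaf (nat_lit 0)) (.leaf (nat_lit 76))) (.node (.leaf (nat_lit 22)) (.leaf (nat_lit 161)))) (.node (.node (.leaf (nat_lit 9)) (.leaf (nat_lit 119))) (.node (.leaf (nat_lit 47)) (.leaf (nat_lit 256))))) (.node (.node (.node (.leaf (nat_lit 4)) (.leaf (nat_lit 89))) (.node (.leaf (nat_lit 35)) (.leaf (nat_lit 197)))) (.node (.node (.leaf (nat_lit 15)) (.leaf (nat_lit 142))) (.node (.leaf (nat_lit 58)) (.leaf (nat_lit 293)))))) (.node (.node (.node (.node (.leaf (nat_lit 2)) (.leaf (nat_lit 82))) (.node (.leaf (nat_lit 28)) (.leaf (nat_lit 179)))) (.node (.node (.leaf (nat_lit 11)) (.leaf (nat_lit 136))) (.node (.leaf (nat_lit 52)) (.leaf (nat_lit 263))))) (.node (.node (.node (.leaf (nat_lit 7)) (.leaf (nat_lit 101))) (.node (.leaf (nat_lit 45)) (.leaf (nat_lit 215)))) (.node (.node (.leaf (nat_lit 17)) (.leaf (nat_lit 149))) (.node (.leaf (nat_lit 65)) (.leaf (nat_lit 347))))))))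

noncomputable def n_H0 : NT := (.node (.node (.node (.node (.node (.node (.node (.node (.node (.leaf (nat_lit 1)) (.leaf (nat_lit 57))) (.leaf (nat_lit 40))) (.node (.node (.leaf (nat_lit 1)) (.leaf (nat_lit 36))) (.leaf (nat_lit 42)))) (.node (.node (.node (.leaf (nat_lit 17)) (.leaf (nat_lit 38))) (.leaf (nat_lit 48))) (.node (.node (.leaf (nat_lit 26)) (.leaf (nat_lit 63))) (.leaf (nat_lit 54))))) (.node (.node (.node (.node (.leaf (nat_lit 14)) (.leaf (nat_lit 57))) (.leaf (nat_lit 14))) (.node (.node (.leaf (nat_lit 32)) (.leaf (nat_lit 61))) (.leaf (nat_lit 54)))) (.node (.node (.node (.leaf (nat_lit 3)) (.leaf (nat_lit 28))) (.leaf (nat_lit 48))) (.node (.node (.leaf (nat_lit 40)) (.leaf (nat_lit 51))) (.leaf (nat_lit 50)))))) (.node (.node (.node (.node (.node (.leaf (nat_lit 8)) (.leaf (nat_lit 34))) (.leaf (nat_lit 43))) (.node (.node (.leaf (nat_lit 22)) (.leaf (nat_lit 34))) (.leaf (nat_lit 14)))) (.node (.node (.node (.leaf (nat_lit 21)) (.leaf (nat_lit 30))) (.leaf (nat_lit 18))) (.node (.node (.leaf (nat_lit 5)) (.leaf (nat_lit 55)))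 (.leaf (nat_lit 16))))) (.node (.node (.node (.node (.leaf (nat_lit 9)) (.leaf (nat_lit 60))) (.leaf (nat_lit 44))) (.node (.node (.leaf (nat_lit 2)) (.leaf (nat_lit 45))) (.leaf (nat_lit 46)))) (.node (.node (.node (.leaf (nat_lit 26)) (.leaf (nat_lit 57))) (.leaf (nat_lit 51))) (.node (.node (.leaf (nat_lit 30)) (.leaf (nat_lit 53))) (.leaf (nat_lit 56))))))) (.node (.node (.node (.node (.node (.node (.leaf (nat_lit 5)) (.leaf (nat_lit 24))) (.leaf (nat_lit 12))) (.node (.node (.leaf (nat_lit 28)) (.leaf (nat_lit 59))) (.leaf (nat_lit 52)))) (.node (.node (.node (.leaf (nat_lit 11)) (.leaf (nat_lit 26))) (.leaf (nat_lit 10))) (.node (.node (.leaf (nat_lit 38)) (.leaf (nat_lit 47))) (.leaf (nat_lit 48))))) (.node (.node (.node (.node (.leaf (nat_lit 0)) (.leaf (nat_lit 36))) (.leaf (nat_lit 7))) (.node (.node (.leaf (nat_lit 24)) (.leaf (nat_lit 39))) (.leaf (nat_lit 52)))) (.node (.node (.node (.leaf (nat_lit 27)) (.leaf (nat_lit 61))) (.leaf (nat_lit 20))) (.node (.node (.leaf (nat_lit 38)) (.leaf (nat_lit 63))) (.leaf (nat_lit 18)))))) (.node (.node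 (.node (.node (.node (.leaf (nat_lit 7)) (.leaf (nat_lit 59))) (.leaf (nat_lit 42))) (.node (.node (.leaf (nat_lit 33)) (.leaf (nat_lit 62))) (.leaf (nat_lit 44)))) (.node (.node (.node (.leaf (nat_lit 22)) (.leaf (nat_lit 40))) (.leaf (nat_lit 50))) (.node (.node (.leaf (nat_lit 28)) (.leaf (nat_lit 46))) (.leaf (nat_lit 20))))) (.node (.node (.node (.node (.leaf (nat_lit 19)) (.leaf (nat_lit 59))) (.leaf (nat_lit 16))) (.node (.node (.leaf (nat_lit 34)) (.leaf (nat_lit 53))) (.leaf (nat_lit 55)))) (.node (.node (.node (.leaf (nat_lit 5)) (.leaf (nat_lit 32))) (.leaf (nat_lit 50))) (.node (.node (.leaf (nat_lit 41)) (.leaf (nat_lit 60))) (.leaf (nat_lit 32)))))))) (.node (.node (.node (.node (.node (.node (.node (.leaf (nat_lit 3)) (.leaf (nat_lit 33))) (.leaf (nat_lit 6))) (.node (.node (.leaf (nat_lit 6)) (.leaf (nat_lit 62))) (.leaf (nat_lit 13)))) (.node (.node (.node (.leaf (nat_lit 0)) (.leaf (nat_lit 29))) (.leaf (nat_lit 17))) (.node (.node (.leaf (nat_lit 4)) (.leaf (nat_lit 54))) (.leaf (nat_lit 15))))) (.node (.node (.node (.node (.leaf (nat_lit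 8)) (.leaf (nat_lit 23))) (.leaf (nat_lit 43))) (.node (.node (.leaf (nat_lit 35)) (.leaf (nat_lit 41))) (.leaf (nat_lit 45)))) (.node (.node (.node (.leaf (nat_lit 1)) (.leaf (nat_lit 41))) (.leaf (nat_lit 9))) (.node (.node (.leaf (nat_lit 29)) (.leaf (nat_lit 49))) (.leaf (nat_lit 21)))))) (.node (.node (.node (.node (.node (.leaf (nat_lit 10)) (.leaf (nat_lit 25))) (.leaf (nat_lit 13))) (.node (.node (.leaf (nat_lit 2)) (.leaf (nat_lit 60))) (.leaf (nat_lit 12)))) (.node (.node (.node (.leaf (nat_lit 2)) (.leaf (nat_lit 61))) (.leaf (nat_lit 11))) (.node (.node (.leaf (nat_lit 3)) (.leaf (nat_lit 63))) (.leaf (nat_lit 49))))) (.node (.node (.node (.node (.leaf (nat_lit 16)) (.leaf (nat_lit 37))) (.leaf (nat_lit 47))) (.node (.node (.leaf (nat_lit 25)) (.leaf (nat_lit 42))) (.leaf (nat_lit 53)))) (.node (.node (.node (.leaf (nat_lit 29)) (.leaf (nat_lit 35))) (.leaf (nat_lit 21))) (.node (.node (.leaf (nat_lit 39)) (.leaf (nat_lit 62))) (.leaf (nat_lit 20))))))) (.node (.node (.node (.node (.node (.node (.leaf (nat_lit 0)) (.leaf (nat_lit 22))) (.leaf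 (nat_lit 7))) (.node (.node (.leaf (nat_lit 31)) (.leaf (nat_lit 37))) (.leaf (nat_lit 43)))) (.node (.node (.node (.leaf (nat_lit 18)) (.leaf (nat_lit 39))) (.leaf (nat_lit 8))) (.node (.node (.leaf (nat_lit 27)) (.leaf (nat_lit 44))) (.leaf (nat_lit 19))))) (.node (.node (.node (.node (.leaf (nat_lit 17)) (.leaf (nat_lit 58))) (.leaf (nat_lit 15))) (.node (.node (.leaf (nat_lit 33)) (.leaf (nat_lit 52))) (.leaf (nat_lit 13)))) (.node (.node (.node (.leaf (nat_lit 4)) (.leaf (nat_lit 30))) (.leaf (nat_lit 49))) (.node (.node (.leaf (nat_lit 4)) (.leaf (nat_lit 55))) (.leaf (nat_lit 51)))))) (.node (.node (.node (.node (.node (.leaf (nat_lit 12)) (.leaf (nat_lit 35))) (.leaf (nat_lit 45))) (.node (.node (.leaf (nat_lit 23)) (.leaf (nat_lit 36))) (.leaf (nat_lit 15)))) (.node (.node (.node (.leaf (nat_lit 24)) (.leaf (nat_lit 31))) (.leaf (nat_lit 19))) (.node (.node (.leaf (nat_lit 6)) (.leaf (nat_lit 56))) (.leaf (nat_lit 56))))) (.node (.node (.node (.node (.leaf (nat_lit 10)) (.leaf (nat_lit 25))) (.leaf (nat_lit 9))) (.node (.node (.leaf (nat_lit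 37)) (.leaf (nat_lit 46))) (.leaf (nat_lit 47)))) (.node (.node (.node (.leaf (nat_lit 27)) (.leaf (nat_lit 58))) (.leaf (nat_lit 11))) (.node (.node (.leaf (nat_lit 31)) (.leaf (nat_lit 58))) (.leaf (nat_lit 23))))))))) (.node (.node (.node (.node (.node (.node (.node (.node (.leaf (nat_lit 2)) (.leaf (nat_lit 58))) (.leaf (nat_lit 41))) (.node (.node (.leaf (nat_lit 31)) (.leaf (nat_lit 34))) (.leaf (nat_lit 16)))) (.node (.node (.node (.leaf (nat_lit 19)) (.leaf (nat_lit 57))) (.leaf (nat_lit 49))) (.node (.node (.leaf (nat_lit 32)) (.leaf (nat_lit 42))) (.leaf (nat_lit 55))))) (.node (.node (.node (.node (.leaf (nat_lit 15)) (.leaf (nat_lit 24))) (.leaf (nat_lit 10))) (.node (.node (.leaf (nat_lit 2)) (.leaf (nat_lit 62))) (.leaf (nat_lit 12)))) (.node (.node (.node (.leaf (nat_lit 22)) (.leaf (nat_lit 27))) (.leaf (nat_lit 10))) (.node (.node (.leaf (nat_lit 3)) (.leaf (nat_lit 50))) (.leaf (nat_lit 54)))))) (.node (.node (.node (.node (.node (.leaf (nat_lit 9)) (.leaf (nat_lit 28))) (.leaf (nat_lit 44))) (.node (.node (.leaf (nat_lit 3)) (.leaf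 (nat_lit 33))) (.leaf (nat_lit 52)))) (.node (.node (.node (.leaf (nat_lit 0)) (.leaf (nat_lit 28))) (.leaf (nat_lit 44))) (.node (.node (.leaf (nat_lit 38)) (.leaf (nat_lit 51))) (.leaf (nat_lit 56))))) (.node (.node (.node (.node (.leaf (nat_lit 13)) (.leaf (nat_lit 23))) (.leaf (nat_lit 46))) (.node (.node (.leaf (nat_lit 37)) (.leaf (nat_lit 43))) (.leaf (nat_lit 20)))) (.node (.node (.node (.leaf (nat_lit 1)) (.leaf (nat_lit 38))) (.leaf (nat_lit 9))) (.node (.node (.leaf (nat_lit 36)) (.leaf (nat_lit 52))) (.leaf (nat_lit 21))))))) (.node (.node (.node (.node (.node (.node (.leaf (nat_lit 6)) (.leaf (nat_lit 57))) (.leaf (nat_lit 8))) (.node (.node (.leaf (nat_lit 30)) (.leaf (nat_lit 40))) (.leaf (nat_lit 53)))) (.node (.node (.node (.leaf (nat_lit 15)) (.leaf (nat_lit 61))) (.leaf (nat_lit 48))) (.node (.node (.leaf (nat_lit 39)) (.leaf (nat_lit 63))) (.leaf (nat_lit 52))))) (.node (.node (.node (.node (.leaf (nat_lit 16)) (.leaf (nat_lit 30))) (.leaf (nat_lit 47))) (.node (.node (.leaf (nat_lit 5)) (.leaf (nat_lit 38))) (.leaf (nat_lit 14))))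 (.node (.node (.node (.leaf (nat_lit 28)) (.leaf (nat_lit 31))) (.leaf (nat_lit 46))) (.node (.node (.leaf (nat_lit 5)) (.leaf (nat_lit 56))) (.leaf (nat_lit 17)))))) (.node (.node (.node (.node (.node (.leaf (nat_lit 0)) (.leaf (nat_lit 22))) (.leaf (nat_lit 7))) (.node (.node (.leaf (nat_lit 34)) (.leaf (nat_lit 37))) (.leaf (nat_lit 18)))) (.node (.node (.node (.leaf (nat_lit 23)) (.leaf (nat_lit 59))) (.leaf (nat_lit 8))) (.node (.node (.leaf (nat_lit 34)) (.leaf (nat_lit 45))) (.leaf (nat_lit 18))))) (.node (.node (.node (.node (.leaf (nat_lit 20)) (.leaf (nat_lit 60))) (.leaf (nat_lit 42))) (.node (.node (.leaf (nat_lit 36)) (.leaf (nat_lit 49))) (.leaf (nat_lit 13)))) (.node (.node (.node (.leaf (nat_lit 24)) (.leaf (nat_lit 62))) (.leaf (nat_lit 51))) (.node (.node (.leaf (nat_lit 4)) (.leaf (nat_lit 59))) (.leaf (nat_lit 26)))))))) (.node (.node (.node (.node (.node (.node (.node (.leaf (nat_lit 4)) (.leaf (nat_lit 27))) (.leaf (nat_lit 5))) (.node (.node (.leaf (nat_lit 25)) (.leaf (nat_lit 32))) (.leaf (nat_lit 12)))) (.node (.node (.node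 (.leaf (nat_lit 21)) (.leaf (nat_lit 27))) (.leaf (nat_lit 43))) (.node (.node (.leaf (nat_lit 3)) (.leaf (nat_lit 50))) (.leaf (nat_lit 14))))) (.node (.node (.node (.node (.leaf (nat_lit 12)) (.leaf (nat_lit 60))) (.leaf (nat_lit 45))) (.node (.node (.leaf (nat_lit 36)) (.leaf (nat_lit 40))) (.leaf (nat_lit 19)))) (.node (.node (.node (.leaf (nat_lit 26)) (.leaf (nat_lit 60))) (.leaf (nat_lit 51))) (.node (.node (.leaf (nat_lit 35)) (.leaf (nat_lit 48))) (.leaf (nat_lit 56)))))) (.node (.node (.node (.node (.node (.leaf (nat_lit 11)) (.leaf (nat_lit 58))) (.leaf (nat_lit 9))) (.node (.node (.leaf (nat_lit 32)) (.leaf (nat_lit 41))) (.leaf (nat_lit 54)))) (.node (.node (.node (.leaf (nat_lit 1)) (.leaf (nat_lit 26))) (.leaf (nat_lit 49))) (.node (.node (.leaf (nat_lit 40)) (.leaf (nat_lit 47))) (.leaf (nat_lit 53))))) (.node (.node (.node (.node (.leaf (nat_lit 0)) (.leaf (nat_lit 31))) (.leaf (nat_lit 7))) (.node (.node (.leaf (nat_lit 6)) (.leaf (nat_lit 63))) (.leaf (nat_lit 15)))) (.node (.node (.node (.leaf (nat_lit 30)) (.leaf (nat_lit 33))) (.leaf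 (nat_lit 47))) (.node (.node (.leaf (nat_lit 6)) (.leaf (nat_lit 61))) (.leaf (nat_lit 19))))))) (.node (.node (.node (.node (.node (.node (.leaf (nat_lit 7)) (.leaf (nat_lit 59))) (.leaf (nat_lit 42))) (.node (.node (.leaf (nat_lit 1)) (.leaf (nat_lit 62))) (.leaf (nat_lit 17)))) (.node (.node (.node (.leaf (nat_lit 20)) (.leaf (nat_lit 58))) (.leaf (nat_lit 50))) (.node (.node (.leaf (nat_lit 33)) (.leaf (nat_lit 43))) (.leaf (nat_lit 17))))) (.node (.node (.node (.node (.leaf (nat_lit 18)) (.leaf (nat_lit 25))) (.leaf (nat_lit 11))) (.node (.node (.leaf (nat_lit 35)) (.leaf (nat_lit 48))) (.leaf (nat_lit 55)))) (.node (.node (.node (.leaf (nat_lit 23)) (.leaf (nat_lit 29))) (.leaf (nat_lit 11))) (.node (.node (.leaf (nat_lit 41)) (.leaf (nat_lit 54))) (.leaf (nat_lit 55)))))) (.node (.node (.node (.node (.node (.leaf (nat_lit 13)) (.leaf (nat_lit 29))) (.leaf (nat_lit 46))) (.node (.node (.leaf (nat_lit 4)) (.leaf (nat_lit 35))) (.leaf (nat_lit 53)))) (.node (.node (.node (.leaf (nat_lit 25)) (.leaf (nat_lit 61))) (.leaf (nat_lit 45))) (.node (.node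 (.leaf (nat_lit 39)) (.leaf (nat_lit 63))) (.leaf (nat_lit 16))))) (.node (.node (.node (.node (.leaf (nat_lit 14)) (.leaf (nat_lit 24))) (.leaf (nat_lit 8))) (.node (.node (.leaf (nat_lit 2)) (.leaf (nat_lit 44))) (.leaf (nat_lit 21)))) (.node (.node (.node (.leaf (nat_lit 29)) (.leaf (nat_lit 39))) (.leaf (nat_lit 10))) (.node (.node (.leaf (nat_lit 37)) (.leaf (nat_lit 57))) (.leaf (nat_lit 22))))))))))

noncomputable def n_lv1 : List (ℕ × NT) := []

noncomputable def n_lv0 : List (ℕ × NT) := (nat_lit 64, n_t0) :: n_lv1

theorem n_mem : ∀ a, a < 6 → MM.Mem K (n_s0.get a) := by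
  have h : allLt 6 (fun a => Nat.beq (n_s0.get a) (MM.elt c_lv0 (n_h.get a))) = true := by decide +kernel
  intro a ha
  rw [Nat.eq_of_beq_eq_true (allLt_iff.1 h a ha)]
  exact c_chain0.1 _

theorem n_valid0 : MM.Valid 6 n_s0 := Model.valid_of_mem n_mem

theorem n_le0 : ⊥ ≤ MM.gen 6 n_s0 := bot_le

theorem n_chain1 : MM.Chain ⊥ n_lv1 := MM.chain_bot

theorem n_tree0 : allLt 64 (MM.treeF 6 n_s0 n_t0 n_P0) = true := by decide +kernel

theorem n_sch0 : allLt (64 * 6) (MM.schF 6 n_s0 64 n_t0 n_lv1 n_H0) = true := by decide +kernel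

theorem n_chain0 : MM.Chain (MM.gen 6 n_s0) n_lv0 :=
  Model.chain_cons (by norm_num) n_valid0 n_chain1 n_le0 (by norm_num) n_tree0 n_sch0

theorem n_tmem0 : ∀ j, j < 64 → MM.Mem (MM.gen 6 n_s0) (n_t0.get j) :=
  Model.mem_of_treeF (by norm_num) (fun _ ha => n_valid0.mem_gen ha) n_tree0

noncomputable def n_N : NT := (.node (.node (.node (.node (.leaf (nat_lit 61)) (.leaf (nat_lit 59))) (.leaf (nat_lit 57))) (.node (.node (.leaf (nat_lit 59)) (.leaf (nat_lit 61))) (.leaf (nat_lit 62)))) (.node (.node (.node (.leaf (nat_lit 58)) (.leaf (nat_lit 63))) (.leaf (nat_lit 63))) (.node (.node (.leaf (nat_lit 60)) (.leaf (nat_lit 57))) (.leaf (nat_lit 58)))))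

theorem exists_large (N : ℕ) : ∃ (H : Type) (_ : Group H) (_ : Fintype H), N < Fintype.card H ∧
    Set.range (orderOf : H → ℕ) = {d | ∃ a ∈ ({10, 12, 15, 7, 8} : Set ℕ), d ∣ a} := by
  have h1 : K ≤ Subgroup.normalizer (MM.gen 6 n_s0 : Set _) :=
    Model.le_normalizer_of_check (by norm_num) n_chain0 (H := n_N) (by decide +kernel)
  have h2 := Model.comm_of_check (M := MM) (r := 6) (s := n_s0) (by norm_num) (by decide +kernel)
  have := Subgroup.normal_subgroupOf_of_le_normalizer h1
  rw [← spec_K]
  refine CfsgH7.exists_large_isospectral ((MM.gen 6 n_s0).subgroupOf K) ?_ ?_ N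
  · obtain ⟨x, hx, e⟩ := n_valid0.mem_gen (a := 0) (by norm_num)
    intro h
    have h3 : (⟨x, Model.gen_le n_mem hx⟩ : K) ∈ (MM.gen 6 n_s0).subgroupOf K := hx
    rw [h, Subgroup.mem_bot] at h3
    have h4 : x = 1 := congrArg Subtype.val h3
    rw [h4, MM.enc_one] at e
    revert e
    decide +kernel
  · apply Group.isSolvable_of_comm
    intro a b
    exact Subtype.ext (Subtype.ext (h2 _ a.2 _ b.2))

end CfsgH9.A8C
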