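import Cfsg.Agent.H9.P43RA
import Cfsg.Agent.H9.Loc3D

/-! The real case with the full group of signed permutations as automizer. -/

set_option autoImplicit false
set_option maxRecDepth 100000

namespace CfsgH9.P43

open Subgroup CfsgH5 CfsgH6 CfsgFT CfsgH8 CfsgH7 Matrix E7

def mS1 : M3 := !![-1, 0, 0; 0, 1, 0; 0, 0, 1]
def mS2 : M3 := !![1, 0, 0; 0, -1, 0; 0, 0, 1]
def mS3 : M3 := !![1, 0, 0; 0, 1, 0; 0, 0, -1]
def SP48 : List M3 := SP24 ++ SP24.map fun P => -P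
def qf (v : V3) : ZMod 3 := v 0 * v 0 + v 1 * v 1 + v 2 * v 2

universe u
variable {G : Type u} [Group G] [Finite G]

omit [Finite G] in
theorem LD.Act.conj {d : LD G} {g k : G} {A B A' : M3} (h1 : d.Act g A) (h2 : d.Act k B)
    (e : A * A' = 1) : d.Act (g * k * g⁻¹) (A * B * A') := (h1.mul h2).mul (h1.inv e)

omit [Finite G] in
theorem LD.Act.cast {d : LD G} {g : G} {A B : M3} (h : d.Act g A) (e : A = B) : d.Act g B := e ▸ h

omit [Finite G] in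
theorem cj3 {x y : G} (h : x ^ 3 = 1) : x * (x * (x * y * x⁻¹) * x⁻¹) * x⁻¹ = y := by
  rw [show x * (x * (x * y * x⁻¹) * x⁻¹) * x⁻¹ = x ^ 3 * y * (x ^ 3)⁻¹ by rw [pow_three']; group, h]
  simp

omit [Finite G] in
theorem comm_cj {x y : G} (h : x * y = y * x) (g : G) :
    g * x * g⁻¹ * (g * y * g⁻¹) = g * y * g⁻¹ * (g * x * g⁻¹) := by
  rw [conj_mul, conj_mul, h]

omit [Finite G] in
theorem sq_cj {x : G} (h : x * x = 1) (g : G) : g * x * g⁻¹ * (g * x * g⁻¹) = 1 := by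
  rw [conj_mul, h]; simp

omit [Finite G] in
theorem cj_swap {g y z : G} (h : g * y * g⁻¹ = z) : g⁻¹ * z * g⁻¹⁻¹ = y := by rw [← h]; group

omit [Finite G] in
theorem cj_inv {g y z : G} (h : g * y * g⁻¹ = z) : g * y⁻¹ * g⁻¹ = z⁻¹ := by rw [← h]; group

omit [Finite G] in
theorem cj_comp {g k y z v : G} (h1 : k * y * k⁻¹ = z) (h2 : g * z * g⁻¹ = v) :
    g * k * y * (g * k)⁻¹ = v := by rw [← h2, ← h1]; group

/-- the local hypothesis with three commuting reflections -/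
structure RS (d : LD G) (s1 s2 s3 : G) : Prop extends Loc d where
  ss : s1 * s1 = 1
  act1 : d.Act s1 mS1
  st : d.t * s1 = s1 * d.t
  e2 : d.x * s1 * d.x⁻¹ = s2
  e3 : d.x * s2 * d.x⁻¹ = s3
  c12 : s1 * s2 = s2 * s1

theorem Loc.neg_step {d : LD G} (h : Loc d) {p q : G} {A : M3} (hp : d.Act p (-1)) (pp : p * p = 1)
    (hq : d.Act q A) (qq : q * q = 1) : ∃ r, d.Act r (-1) ∧ r * r = 1 ∧ r * q = q * r ∧
      ∀ y, p * y = y * p → q * y = y * q → r * y = y * r := by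
  have hA : A * A = 1 := h.act_uniq (hq.mul hq) (qq ▸ LD.Act.one)
  have h1 := hp.mul hq
  have h2 : (p * q * (p * q)) ^ 3 = 1 := h.exp _ (h.mul_mem_J h1 h1 (by simp [hA]))
  have k1 := inv_eq_of_mul_eq_one_right pp
  have k2 := inv_eq_of_mul_eq_one_right qq
  refine ⟨p * q * p * (p * q)⁻¹, (h1.conj hp (A' := -A) (by simp [hA])).cast (by simp [hA]),
    sq_cj pp _, ?_, fun y e1 e2 => ?_⟩
  · rw [← mul_inv_eq_one, ← h2, pow_three']
    simp only [_root_.mul_inv_rev, k1, k2, mul_assoc]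
  · have c1 : Commute p y := e1
    have c2 : Commute q y := e2
    exact ((c1.mul_left c2).mul_left c1).mul_left (c1.mul_left c2).inv_left

theorem LocU.exists_rs {d : LD G} {u : G} (h : LocU d u) {r : G} (hr : d.Act r (-1)) :
    ∃ s1 s2 s3, RS d s1 s2 s3 := by
  have a2 := h.act_x.conj h.act_u (A' := mX * mX) (by decide)
  have a3 := h.act_x.conj a2 (A' := mX * mX) (by decide)
  have q2 := sq_cj h.uu d.x
  have q3 := sq_cj q2 d.x
  have e1 := cj3 (y := u) h.cx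
  have tu : d.t * u * d.t⁻¹ = u := by rw [← h.ut, mul_inv_cancel_right]
  have t2 : d.t * (d.x * u * d.x⁻¹) * d.t⁻¹ = d.x * (d.x * u * d.x⁻¹) * d.x⁻¹ := by
    rw [← conj_mul, ← conj_mul, h.tx, tu, cj_inv h.tx]
    exact cj_swap e1
  have e3 : u * (d.x * u * d.x⁻¹) * (d.x * (d.x * u * d.x⁻¹) * d.x⁻¹) = 1 := by
    rw [show u * (d.x * u * d.x⁻¹) * (d.x * (d.x * u * d.x⁻¹) * d.x⁻¹) =
      (u * d.x) ^ 3 * (d.x ^ 3)⁻¹ by rw [pow_three', pow_three']; group, h.ux, h.cx, inv_one, mul_one]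
  generalize hu2 : d.x * u * d.x⁻¹ = u2 at a2 a3 q2 q3 e1 t2 e3
  generalize hu3 : d.x * u2 * d.x⁻¹ = u3 at a3 q3 e1 t2 e3
  have e4 : u * u2 = u3 := by
    rw [← inv_eq_of_mul_eq_one_right q3]; exact eq_inv_of_mul_eq_one_left e3
  have c12 : u2 * u = u * u2 := by
    rw [e4, ← inv_eq_of_mul_eq_one_right q3, ← e4, _root_.mul_inv_rev, h.u_inv,
      inv_eq_of_mul_eq_one_right q2]
  obtain ⟨r1, a4, q4, c4, -⟩ := h.neg_step ((hr.pow 3).cast (by decide)) (by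
    rw [← (Commute.refl r).mul_pow]; exact h.exp _ (h.mul_mem_J hr hr (by simp))) h.act_u h.uu
  obtain ⟨p, a5, q5, c5, c6⟩ := h.neg_step a4 q4 a2 q2
  have c7 := c6 u c4 c12
  have c8 : p * u3 = u3 * p := by rw [← e4, ← mul_assoc, c7, mul_assoc, c5, mul_assoc]
  have key : ∀ g A A', d.Act g A → A * A' = 1 → g * p * g⁻¹ * u = u * (g * p * g⁻¹) →
      g * p * g⁻¹ * u2 = u2 * (g * p * g⁻¹) → g * p = p * g := by
    intro g A A' k1 k2 k3 k4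
    have k5 : d.Act (g * p * g⁻¹) (-1) := (k1.conj a5 k2).cast (by simp [k2])
    obtain ⟨v, hv⟩ := h.jv_surj (h.div_mem_J k5 a5)
    have k6 : ∀ {y B}, d.Act y B → p * y = y * p → g * p * g⁻¹ * y = y * (g * p * g⁻¹) → B *ᵥ v = v :=
      fun hy e1 e2 => (h.fix_iff' hy).1 (hv ▸ mul_mem (mem_C1.2 e2) (inv_mem (mem_C1.2 e1)))
    have k7 : ∀ v : V3, mU *ᵥ v = v → (mX * mU * (mX * mX)) *ᵥ v = v → v = 0 := by decide +kernel
    rw [k7 v (k6 h.act_u c7 k3) (k6 a2 c5 k4), d.jv_zero, eq_comm, mul_inv_eq_one,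
      mul_inv_eq_iff_eq_mul] at hv
    exact hv
  have px := key _ _ _ h.act_x (show mX * (mX * mX) = 1 by decide) (e1 ▸ comm_cj c8 _)
    (hu2 ▸ comm_cj c7 _)
  have t3 : d.t * u3 * d.t⁻¹ = u2 := by
    rw [← t2, show d.t * (d.t * u2 * d.t⁻¹) * d.t⁻¹ = d.t * d.t * u2 * (d.t * d.t)⁻¹ by group, h.tt]
    simp
  have pt := key _ _ _ h.act_t (show mT * mT = 1 by decide) (tu ▸ comm_cj c7 _) (t3 ▸ comm_cj c8 _)
  have k1 : Commute p u := c7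
  have k2 : Commute p u2 := c5
  have k3 : Commute u u2 := c12.symm
  refine ⟨p * u, _, _, h.toLoc, ?_, (a5.mul h.act_u).cast (by decide), ?_, rfl, rfl, ?_⟩
  · rw [k1.symm.mul_mul_mul_comm, q5, h.uu, one_mul]
  · rw [← mul_assoc, pt, mul_assoc, ← h.ut, mul_assoc]
  · rw [← conj_mul, hu2, px, mul_inv_cancel_right]
    exact (((Commute.refl p).mul_right k2).mul_left (k1.symm.mul_right k3)).eq

namespace RS

variable {d : LD G} {s1 s2 s3 : G} (h : RS d s1 s2 s3)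
include h

theorem e1 : d.x * s3 * d.x⁻¹ = s1 := by rw [← h.e3, ← h.e2, cj3 h.cx]
theorem ss2 : s2 * s2 = 1 := h.e2 ▸ sq_cj h.ss _
theorem ss3 : s3 * s3 = 1 := h.e3 ▸ sq_cj h.ss2 _
theorem c23 : s2 * s3 = s3 * s2 := by simpa only [h.e2, h.e3] using comm_cj h.c12 d.x
theorem c13 : s1 * s3 = s3 * s1 := by simpa only [h.e1, h.e3] using (comm_cj h.c23 d.x).symm
theorem act2 : d.Act s2 mS2 :=
  h.e2 ▸ (h.act_x.conj h.act1 (A' := mX * mX) (by decide)).cast (by decide)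
theorem act3 : d.Act s3 mS3 :=
  h.e3 ▸ (h.act_x.conj h.act2 (A' := mX * mX) (by decide)).cast (by decide)
theorem ts1 : d.t * s1 * d.t⁻¹ = s1 := by rw [h.st, mul_inv_cancel_right]
theorem ts2 : d.t * s2 * d.t⁻¹ = s3 := by
  rw [← h.e2, ← conj_mul, ← conj_mul, h.tx, h.ts1, ← conj_inv, h.tx, ← h.e1]
  group
theorem ts3 : d.t * s3 * d.t⁻¹ = s2 := by
  rw [← h.ts2, show d.t * (d.t * s2 * d.t⁻¹) * d.t⁻¹ = d.t * d.t * s2 * (d.t * d.t)⁻¹ by group, h.tt]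
  simp
theorem act_u : d.Act (s2 * s3) mU := (h.act2.mul h.act3).cast (by decide)
theorem act_r : d.Act (s1 * (s2 * s3)) (-1) := (h.act1.mul h.act_u).cast (by decide)
theorem uu : s2 * s3 * (s2 * s3) = 1 := by
  rw [(show Commute s2 s3 from h.c23).symm.mul_mul_mul_comm, h.ss2, h.ss3, one_mul]
theorem su : s1 * (s2 * s3) = s2 * s3 * s1 :=
  (show Commute s1 s2 from h.c12).mul_right (show Commute s1 s3 from h.c13)
theorem rr : s1 * (s2 * s3) * (s1 * (s2 * s3)) = 1 := by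
  rw [(show Commute s1 (s2 * s3) from h.su).symm.mul_mul_mul_comm, h.ss, h.uu, one_mul]
theorem tu : d.t * (s2 * s3) * d.t⁻¹ = s2 * s3 := by rw [← conj_mul, h.ts2, h.ts3, h.c23]
theorem locU : LocU d (s2 * s3) :=
  ⟨h.toLoc, h.uu, h.act_u, (mul_inv_eq_iff_eq_mul.1 h.tu).symm⟩
theorem tr : d.t * (s1 * (s2 * s3)) * d.t⁻¹ = s1 * (s2 * s3) := by rw [← conj_mul, h.ts1, h.tu]
theorem xr : d.x * (s1 * (s2 * s3)) * d.x⁻¹ = s1 * (s2 * s3) := by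
  rw [← conj_mul, ← conj_mul, h.e1, h.e2, h.e3, h.su, mul_assoc]

theorem act48 {g : G} (hg : g ∈ N d.J) : ∃ A ∈ SP48, d.Act g A := by
  obtain ⟨P, hP, e | e⟩ := h.locU.signed hg
  · exact ⟨_, List.mem_append_left _ hP, e⟩
  · exact ⟨_, List.mem_append_right _ (List.mem_map_of_mem hP), e⟩

theorem exists48 {A : M3} (hA : A ∈ SP48) : ∃ g, d.Act g A := by
  rcases List.mem_append.1 hA with e | e
  · exact (h.locU.exists_act_SP e).imp fun g hg => hg.2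
  · obtain ⟨P, hP, rfl⟩ := List.mem_map.1 e
    obtain ⟨g, -, hg⟩ := h.locU.exists_act_SP hP
    exact ⟨_, (h.act_r.mul hg).cast (by simp)⟩

theorem N_le {P : Subgroup G} (hB : d.B ≤ P) (h1 : s1 ∈ P) : N d.J ≤ P := fun g hg => by
  have hx := hB d.x_mem
  have h2 : s2 ∈ P := h.e2 ▸ mul_mem (mul_mem hx h1) (inv_mem hx)
  have h3 : s3 ∈ P := h.e3 ▸ mul_mem (mul_mem hx h2) (inv_mem hx)
  obtain ⟨A, hA, e⟩ := h.locU.signed hg
  obtain ⟨k, hk, e1⟩ := h.locU.exists_act_SP hA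
  have h4 : k ∈ P := sup_le hB (zpowers_le.2 (mul_mem h2 h3)) hk
  have h5 := d.J_le_B.trans hB
  rcases e with e | e
  · simpa using mul_mem (h5 (h.div_mem_J e e1)) h4
  · simpa only [inv_mul_cancel_right] using mul_mem (h5 (h.div_mem_J e
      ((h.act_r.mul e1).cast (by simp)))) (mul_mem (mul_mem h1 (mul_mem h2 h3)) h4)

theorem qf_eq {g : G} {v w : V3} (e : g * d.jv v * g⁻¹ = d.jv w) : qf w = qf v := by
  obtain ⟨n, hn, e1⟩ := h.fusJ (d.jv_mem v) (e ▸ d.jv_mem w)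
  obtain ⟨A, hA, e2⟩ := h.act48 hn
  have h1 : ∀ A ∈ SP48, ∀ v, qf (A *ᵥ v) = qf v := ball_of_all (by decide +kernel)
  rw [← h.jv_inj ((e2 v).symm.trans (e1.trans e)), h1 A hA]

theorem cent_c : C1 (d.jv ![0, 1, 1]) ≤ N d.J := by
  refine SSHyp.le_N (b := d.jv ![0, 1, 1]) (x := d.jv ![1, 0, 0]) (y := d.jv ![0, -1, 1]) (ρ := s1)
    (σ := d.t) ⟨h.sig, h.exp, h.ab, le_C1_iff.2 (h.ab (d.jv_mem _)), d.jv_mem _, d.jv_mem _, d.jv_mem _,
    fun j hj => ?_, fun k l e => ?_, le_rfl, (h.fix_iff h.act1).2 (by decide),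
    (h.fix_iff h.act_t).2 (by decide), h.ss, h.tt, h.st.symm, ?_, ?_, ?_, ?_, fun g hg hn => ?_⟩
  · obtain ⟨v, rfl⟩ := h.jv_surj hj
    refine ⟨v 0, v 1 - v 2, ?_⟩
    rw [h.locU.el_eq _ _ (v 0) (v 1 - v 2), ← h.jv_neg, ← h.jv_add, h.jv_mem_zp]
    clear hj
    revert v; decide +kernel
  · rw [h.locU.el_eq _ _ k l, h.jv_mem_zp] at e
    revert k l; decide +kernel
  · rw [h.act1, ← h.jv_neg]; congr 1; decide
  · rw [h.act1]; congr 1; decide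
  · rw [h.act_t]; congr 1; decide
  · rw [h.act_t, ← h.jv_neg]; congr 1; decide
  · obtain ⟨A, hA, e⟩ := h.act48 hn
    have h1 : ∀ A ∈ SP48, A *ᵥ ![0, 1, 1] = ![0, 1, 1] → A * 1 = 1 ∨ A * mS1 = 1 ∨ A * mT = 1 ∨
      A * (mS1 * mT) = 1 := ball_of_all (by decide +kernel)
    exact (h1 A hA ((h.fix_iff e).1 hg)).imp (fun e1 => by simpa using h.mul_mem_J e LD.Act.one e1)
      (Or.imp (h.mul_mem_J e h.act1) (Or.imp (h.mul_mem_J e h.act_t)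
        (h.mul_mem_J e (h.act1.mul h.act_t))))

theorem cent2 {v : V3} (hv : qf v = 2) : C1 (d.jv v) ≤ N d.J := by
  have h1 : ∀ v : V3, qf v = 2 → SP48.any (fun A => decide (A *ᵥ v = ![0, 1, 1])) = true := by
    decide +kernel
  obtain ⟨A, hA, e⟩ := List.any_eq_true.1 (h1 v hv)
  obtain ⟨g, hg⟩ := h.exists48 hA
  exact h.cent_conj hg (h.mem_N_of_act hg) (of_decide_eq_true e ▸ h.cent_c)

theorem mem_N2 {v : V3} (hv : qf v = 2) {g : G} (hg : g * d.jv v * g⁻¹ ∈ d.J) : g ∈ N d.J :=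
  h.mem_N_of (d.jv_mem v) (h.cent2 hv) hg

theorem se {P : Subgroup G} (hH : d.H ≤ P) (h1 : s1 ∈ P) (hb : C1 d.j1 ≤ P) : SE 3 P := by
  have hN := h.N_le (d.B_le_H.trans hH) h1
  refine h.toLoc.se hH hN fun y hy y1 => ?_
  obtain ⟨v, rfl⟩ := h.jv_surj hy
  have h2 : ∀ v : V3, v = 0 ∨ qf v = 2 ∨ SP48.any (fun A => decide (A *ᵥ v = ![1, 0, 0] ∨
    A *ᵥ v = ![1, 1, 1])) = true := by decide +kernel
  rcases h2 v with rfl | e | e
  · exact absurd d.jv_zero y1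
  · exact (h.cent2 e).trans hN
  obtain ⟨A, hA, e⟩ := List.any_eq_true.1 e
  obtain ⟨g, hg⟩ := h.exists48 hA
  refine h.cent_conj hg (hN (h.mem_N_of_act hg)) ?_
  rcases of_decide_eq_true e with e | e <;> rw [e]
  · rwa [d.jv_e0]
  · rw [d.jv_a]; exact h.cent.trans hH

/-- Sylow 3-subgroups of centralizers of elements of `N(J)` -/
theorem syl_of {τ : G} {A : M3} (hτ : d.Act τ A) {E : Subgroup G} (hE : E ≤ d.J) {v : V3}
    (hv : qf v = 2) (hvE : d.jv v ∈ E) (h1 : E ≤ C1 τ) (h2 : ∀ w, A *ᵥ w = w → d.jv w ∈ E)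
    (h3 : ∀ P ∈ SP48, P * A = A * P → P * P * (P * P) = 1) : SylIn 3 E (C1 τ) := by
  refine sylIn_of_sq (h.isPGroup_J.to_le hE) h1 fun g hg hn => Or.inr ?_
  obtain ⟨P, hP, e⟩ := h.act48 (h.mem_N2 hv (hE (conj_mem_of_mem_N hn hvE)))
  obtain ⟨w, hw⟩ := h.jv_surj (h.mul_mem_J (e.mul e) (e.mul e) (h3 P hP (h.comm_act e hτ hg)))
  rw [show g * g * (g * g) = g ^ 4 by simp only [pow_succ, pow_zero, one_mul, mul_assoc]] at hw
  rw [← hw]
  exact h2 w ((h.fix_iff' hτ).1 (hw ▸ pow_mem hg 4))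

theorem syl_s : SylIn 3 (D9 (d.jv ![0, 1, 0]) (d.jv ![0, 0, 1])) (C1 s1) :=
  h.syl_of h.act1 (Loc0.D9_le_J _ _) (v := ![0, 1, 1]) (by decide) (h.mem_D9 (by decide))
    (D9_le ((h.fix_iff' h.act1).2 (by decide)) ((h.fix_iff' h.act1).2 (by decide)))
    (fun w hw => h.mem_D9 (by revert w; decide +kernel)) (ball_of_all (by decide +kernel))

theorem syl_t {τ : G} (hτ : d.Act τ mT) :
    SylIn 3 (D9 (d.jv ![1, 0, 0]) (d.jv ![0, 1, 1])) (C1 τ) :=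
  h.syl_of hτ (Loc0.D9_le_J _ _) (v := ![0, 1, 1]) (by decide) (h.mem_D9 (by decide))
    (D9_le ((h.fix_iff' hτ).2 (by decide)) ((h.fix_iff' hτ).2 (by decide)))
    (fun w hw => h.mem_D9 (by revert w; decide +kernel)) (ball_of_all (by decide +kernel))

theorem act_rt : d.Act (s1 * (s2 * s3) * d.t) (-mT) := (h.act_r.mul h.act_t).cast (by simp)

theorem syl_rt : SylIn 3 (zpowers (d.jv ![0, -1, 1])) (C1 (s1 * (s2 * s3) * d.t)) :=
  h.syl_of h.act_rt (zpowers_le.2 (d.jv_mem _)) (v := ![0, -1, 1]) (by decide) (mem_zpowers _)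
    (zpowers_le.2 ((h.fix_iff' h.act_rt).2 (by decide)))
    (fun w hw => h.jv_mem_zp.2 (by revert w; decide +kernel)) (ball_of_all (by decide +kernel))

omit h in
theorem syl_b {b m : G} (h3 : b ^ 3 = 1) (hm : b ∈ C1 m)
    (hu : ∀ g ∈ C1 b, g ∈ C1 m → g ^ 4 ∈ zpowers b) : SylIn 3 (zpowers b) (C1 m) := by
  have h1 := isP_zp h3
  refine sylIn_of_sylIn_N Nat.prime_three ⟨le_inf (zpowers_le.2 hm) (le_N _), h1,
    fun T k1 k2 k3 => le_antisymm (fun g hg => ?_) k3⟩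
  obtain ⟨k, hk⟩ := k2 ⟨g, hg⟩
  have h4 : g ^ 3 ^ k ∈ zpowers b := (show g ^ 3 ^ k = 1 from congrArg Subtype.val hk) ▸ one_mem _
  have h5 : NX b g := by
    rcases mem_zpowers_three h3 (conj_mem_of_mem_N (k1 hg).2 (mem_zpowers b)) with e | e | e
    · exact Or.inl (by rw [e, conj_eq_one_iff.1 e])
    exacts [Or.inl e, Or.inr e]
  have h6 := hu _ (nx_sq h5) (pow_mem (k1 hg).1 2)
  rw [← pow_mul] at h6
  exact mem_of_pow_coprime (Nat.Coprime.pow_right k (by norm_num)) h6 h4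

theorem nconj {i i' : G} {E : Subgroup G} (hE : SylIn 3 E (C1 i)) {v : V3} (hv : d.jv v ∈ C1 i')
    (h0 : v ≠ 0) (h1 : ∀ y ∈ E, ∃ w, d.jv w = y ∧ (w = 0 ∨ qf w ≠ qf v)) : ¬ IsConj i' i := by
  haveI : Fact (Nat.Prime 3) := ⟨Nat.prime_three⟩
  intro e
  obtain ⟨g, rfl⟩ := isConj_iff.1 e
  obtain ⟨k, -, hk⟩ := hE.exists_le_cj (X := zpowers (g * d.jv v * g⁻¹))
    (zpowers_le.2 (by rwa [← cj_C1, conj_mem_cj]))
    (isP_zp (by rw [conj_pow, h.exp _ (d.jv_mem v)]; simp))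
  obtain ⟨w, e1, e2⟩ := h1 _ (mem_cj.1 (hk (mem_zpowers _)))
  have e3 : k⁻¹ * g * d.jv v * (k⁻¹ * g)⁻¹ = d.jv w := by rw [e1]; group
  rcases e2 with rfl | e2
  · exact h.jv_ne h0 (conj_eq_one_iff.1 (e3.trans d.jv_zero))
  · exact e2 (h.qf_eq e3)

theorem D9_q {v w : V3} (hb : v ≠ 0 ∧ ¬ (w = 0 ∨ w = v ∨ w = -v)) {p : V3 → Prop}
    (hp : ∀ k l : ZMod 3, p (k • v + l • w)) : ∀ y ∈ D9 (d.jv v) (d.jv w), ∃ z, d.jv z = y ∧ p z := by
  intro y hy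
  obtain ⟨k, l, rfl⟩ := (h.b9 hb).mem hy
  exact ⟨_, (h.locU.el_eq v w k l).symm, hp k l⟩

theorem zp_q {v : V3} {p : V3 → Prop} (hp : p 0 ∧ p v ∧ p (-v)) :
    ∀ y ∈ zpowers (d.jv v), ∃ z, d.jv z = y ∧ p z := by
  intro y hy
  obtain ⟨w, rfl⟩ := h.jv_surj (zpowers_le.2 (d.jv_mem v) hy)
  rcases h.jv_mem_zp.1 hy with rfl | rfl | rfl
  exacts [⟨_, rfl, hp.1⟩, ⟨_, rfl, hp.2.1⟩, ⟨_, rfl, hp.2.2⟩]

theorem rw_eq : s1 * (s2 * s3) * d.w⁻¹ * (s1 * (s2 * s3))⁻¹ = d.w := by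
  have h1 := h.act_r
  have h2 := h.tr
  have h3 := h.xr
  generalize s1 * (s2 * s3) = r at h1 h2 h3
  refine h.finH3 (h.cent (mem_C1_iff_conj.2 ?_)) ?_ ?_
  · have h5 : r * d.a⁻¹ * r⁻¹ = d.a := by rw [cj_inv (h.inv_a h1), inv_inv]
    exact cj_comp (cj_swap h5) (cj_comp (cj_swap (cj_inv h.wa)) h5)
  · rw [conj_mul, ← _root_.mul_inv_rev, h.ww, h.t_inv, ← mul_inv_eq_iff_eq_mul.1 h2,
      mul_inv_cancel_right]
  · have h5 := h1 (-![0, -1, 1])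
    rw [h.jv_neg, neg_mulVec, one_mulVec, neg_neg, h.jv_e] at h5
    have h7 : d.w * d.x * d.w⁻¹ = d.e⁻¹ := by
      rw [← h.t_e, ← h.ww]; exact (cj_comp (y := d.e) h.wd rfl).symm
    exact cj_comp (cj_swap h5) (cj_comp (cj_swap h7) (by
      rw [← mul_inv_eq_iff_eq_mul.1 h3, mul_inv_cancel_right]))

theorem r_rt : IsConj (s1 * (s2 * s3) * d.t) (s1 * (s2 * s3)) := by
  refine isConj_iff.2 ⟨d.w, ?_⟩
  have h1 := mul_inv_eq_iff_eq_mul.1 h.rw_eq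
  generalize s1 * (s2 * s3) = r at h1
  rw [← mul_assoc, ← h1, ← h.ww]; group

section nc

variable (hu : ∀ g ∈ C1 d.j1, g ∈ C1 (s2 * s3) → g ^ 4 ∈ zpowers d.j1)

include hu in
theorem syl_u : SylIn 3 (zpowers (d.jv ![1, 0, 0])) (C1 (s2 * s3)) := by
  have h1 := (h.fix_iff' h.act_u (v := ![1, 0, 0])).2 (by decide)
  rw [d.jv_e0] at h1 ⊢
  exact syl_b h.c1 h1 hu

include hu in
theorem nc_su : ¬ IsConj s1 (s2 * s3) :=
  h.nconj (h.syl_u hu) (v := ![0, 1, 1]) ((h.fix_iff' h.act1).2 (by decide)) (by decide)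
    (h.zp_q (by decide))

include hu in
theorem nc_tu : ¬ IsConj d.t (s2 * s3) :=
  h.nconj (h.syl_u hu) (v := ![0, 1, 1]) ((h.fix_iff' h.act_t).2 (by decide)) (by decide)
    (h.zp_q (by decide))

theorem nc_ts : ¬ IsConj d.t s1 :=
  h.nconj h.syl_s (v := ![1, 1, 1]) ((h.fix_iff' h.act_t).2 (by decide)) (by decide)
    (h.D9_q (by decide) (by decide))

theorem nc_r {i : G} {v : V3} (hv : d.jv v ∈ C1 i) (h1 : qf v = 1) : ¬ IsConj i (s1 * (s2 * s3)) :=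
  fun e => h.nconj h.syl_rt hv (by rintro rfl; revert h1; decide) (h.zp_q (by rw [h1]; decide))
    (e.trans h.r_rt.symm)

theorem nc_sr : ¬ IsConj s1 (s1 * (s2 * s3)) :=
  h.nc_r (v := ![0, 1, 0]) ((h.fix_iff' h.act1).2 (by decide)) (by decide)

theorem nc_tr : ¬ IsConj d.t (s1 * (s2 * s3)) :=
  h.nc_r (v := ![1, 0, 0]) ((h.fix_iff' h.act_t).2 (by decide)) (by decide)

theorem nc_ur : ¬ IsConj (s2 * s3) (s1 * (s2 * s3)) :=
  h.nc_r (v := ![1, 0, 0]) ((h.fix_iff' h.act_u).2 (by decide)) (by decide)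

end nc

/-- involutions with the same action on `J` are conjugate by `J` -/
theorem conj_of_act {i k : G} {A : M3} (hi : d.Act i A) (hk : d.Act k A) (ii : i * i = 1)
    (kk : k * k = 1) : ∃ j ∈ d.J, j * k * j⁻¹ = i := by
  obtain ⟨v, hv⟩ := h.jv_surj (h.div_mem_J hi hk)
  have h1 : i = d.jv v * k := by rw [hv, inv_mul_cancel_right]
  have h2 : k * d.jv v * k⁻¹ = (d.jv v)⁻¹ := by
    rw [h1] at ii
    rw [inv_eq_of_mul_eq_one_right kk]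
    exact eq_inv_of_mul_eq_one_right (by rw [← ii]; group)
  refine ⟨(d.jv v)⁻¹, inv_mem (d.jv_mem v), ?_⟩
  rw [inv_inv, mul_assoc, mul_inv_eq_iff_eq_mul.1 h2, ← mul_assoc, ← _root_.mul_inv_rev, h1,
    inv_eq_of_mul_eq_one_right ((pow_three' _).symm.trans (h.exp _ (d.jv_mem v)))]

theorem isConj_of_act {i k : G} {A B P : M3} (hi : d.Act i A) (hk : d.Act k B) (ii : i * i = 1)
    (kk : k * k = 1) (hP : P ∈ SP48) (e : P * B = A * P) : ∃ n ∈ N d.J, n * k * n⁻¹ = i := by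
  obtain ⟨g, hg⟩ := h.exists48 hP
  obtain ⟨P', -, e1⟩ := h.act_inv hg
  rw [mul_eq_one_comm] at e1
  obtain ⟨j, hj, e2⟩ := h.conj_of_act hi ((hg.conj hk e1).cast (by rw [e, mul_assoc, e1, mul_one])) ii
    (sq_cj kk g)
  exact ⟨j * g, mul_mem (le_N _ hj) (h.mem_N_of_act hg), cj_comp rfl e2⟩

theorem tup : Tup d.j2 d.j3 s2 s3 := by
  have k : ∀ {s j : G}, s * s = 1 → s * j * s⁻¹ = j⁻¹ → s * j * (s * j) = 1 := fun {s j} e1 e2 => by
    rw [← mul_assoc, ← inv_eq_of_mul_eq_one_right e1, inv_eq_of_mul_eq_one_right e1]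
    nth_rewrite 2 [← inv_eq_of_mul_eq_one_right e1]
    rw [e2, inv_mul_cancel]
  have hb := h.b9 (v := ![0, 1, 0]) (w := ![0, 0, 1]) (by decide)
  rw [d.jv_e1, d.jv_e2] at hb
  refine ⟨h.c2, h.c3, h.m23, hb.a1, hb.ind, h.ss2, h.ss3, h.c23, k h.ss2 ?_, ?_, ?_, k h.ss3 ?_⟩
  · rw [← d.jv_e1, h.act2, ← h.jv_neg]; congr 1; decide
  · rw [← d.jv_e2]; exact mem_C1.1 ((h.fix_iff h.act2).2 (by decide))
  · rw [← d.jv_e1]; exact mem_C1.1 ((h.fix_iff h.act3).2 (by decide))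
  · rw [← d.jv_e2, h.act3, ← h.jv_neg]; congr 1; decide

/-- the eight coset representatives -/
theorem reps {g : G} {A : M3} (hg : d.Act g A) (e : A ∈ [1, mS2, mS3, mS2 * mS3, mT, mS2 * mT,
    mS3 * mT, mS2 * mS3 * mT]) : ∃ w ∈ [1, s2, s3, s2 * s3, d.t, s2 * d.t, s3 * d.t, s2 * s3 * d.t],
      g * w⁻¹ ∈ d.J := by
  simp only [List.mem_cons, List.not_mem_nil, or_false] at e
  rcases e with rfl | rfl | rfl | rfl | rfl | rfl | rfl | rfl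
  · exact ⟨_, by simp, h.div_mem_J hg LD.Act.one⟩
  · exact ⟨_, by simp, h.div_mem_J hg h.act2⟩
  · exact ⟨_, by simp, h.div_mem_J hg h.act3⟩
  · exact ⟨_, by simp, h.div_mem_J hg (h.act2.mul h.act3)⟩
  · exact ⟨_, by simp, h.div_mem_J hg h.act_t⟩
  · exact ⟨_, by simp, h.div_mem_J hg (h.act2.mul h.act_t)⟩
  · exact ⟨_, by simp, h.div_mem_J hg (h.act3.mul h.act_t)⟩
  · exact ⟨_, by simp, h.div_mem_J hg ((h.act2.mul h.act3).mul h.act_t)⟩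

theorem D9_sup : D9 d.j2 d.j3 ⊔ zpowers d.j1 = d.J :=
  le_antisymm (sup_le (D9_le d.j2_mem d.j3_mem) (zpowers_le.2 d.j1_mem))
    (d.J_le (mem_sup_right (mem_zpowers _)) (mem_sup_left (left_mem_D9 _ _))
      (mem_sup_left (right_mem_D9 _ _)))

theorem cases_b : C1 d.j1 ≤ N d.J ∨ ∃ z, S6 s2 (s2 * d.j2) z (s3 * d.j3) s3 ∧ z ∈ C1 d.j1 ∧
    ∀ g ∈ C1 d.j1, ∃ ζ ∈ zpowers d.j1, ∃ k ∈ K6 s2 (s2 * d.j2) z (s3 * d.j3) s3, g = ζ * k := by
  rw [← h.D9_sup]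
  refine h.tup.d8_sec (τ := d.t) (zpowers_le.2 (self_mem_C1 _)) (by rw [C_zpowers])
    (mem_C1.2 h.m12.symm) (d.jv_e0 ▸ (h.fix_iff h.act2).2 (by decide)) (mem_C1_iff_conj.2 h.t1) h.tt
    h.t2 h.ts2 (eq_bot_iff.2 fun y hy => ?_) (fun g hg hn => ?_) (fun y hy y1 g hg e => ?_)
    fun g hg ζ hζ e => ?_
  · obtain ⟨h1, h2⟩ := mem_inf.1 hy
    rw [← d.jv_e1, ← d.jv_e2] at h1
    obtain ⟨v, rfl, hv⟩ := h.D9_q (by decide) (p := fun v => v 0 = 0) (by decide) y h1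
    rw [← d.jv_e0, h.jv_mem_zp] at h2
    rw [mem_bot, show v = 0 by clear hy h1; revert v; decide, d.jv_zero]
  · rw [h.D9_sup] at hn ⊢
    obtain ⟨A, hA, e⟩ := h.act48 hn
    have h1 : ∀ A ∈ SP48, A *ᵥ ![1, 0, 0] = ![1, 0, 0] → A ∈ [1, mS2, mS3, mS2 * mS3, mT, mS2 * mT,
      mS3 * mT, mS2 * mS3 * mT] := ball_of_all (by decide +kernel)
    exact h.reps e (h1 A hA ((h.fix_iff e).1 (d.jv_e0 ▸ hg)))
  · rw [h.D9_sup]
    rw [← d.jv_e1, ← d.jv_e2] at hy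
    obtain ⟨v, rfl, hv⟩ := h.D9_q (by decide) (p := fun v => v = 0 ∨ qf v = 2 ∨
      qf (v + ![1, 0, 0]) = 2) (by decide) y hy
    have h1 : g * d.jv v * g⁻¹ ∈ d.J := by
      simpa using mul_mem (zpowers_le.2 d.j1_mem e) (d.jv_mem v)
    rcases hv with rfl | hv | hv
    · exact absurd d.jv_zero y1
    · exact h.mem_N2 hv h1
    · refine h.mem_N2 hv ?_
      rw [h.jv_add, ← conj_mul, d.jv_e0, mem_C1_iff_conj.1 hg]
      exact mul_mem h1 d.j1_mem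
  · have h1 := sq_cj h.ss2 g
    obtain ⟨v, rfl⟩ := h.jv_surj (zpowers_le.2 d.j1_mem hζ)
    rw [e, ← mul_assoc, ← inv_eq_of_mul_eq_one_right h.ss2, inv_eq_of_mul_eq_one_right h.ss2] at h1
    nth_rewrite 2 [← inv_eq_of_mul_eq_one_right h.ss2] at h1
    rw [h.act2, ← h.jv_add, ← d.jv_zero] at h1
    rw [← d.jv_e0, h.jv_mem_zp] at hζ
    have h2 := h.jv_inj h1
    rw [show v = 0 by clear h1 e; revert v; decide, d.jv_zero]

end RS

end CfsgH9.P43
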