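import Cfsg.Agent.H9.E7T
import Cfsg.Agent.H9.Loc3Q
import Cfsg.Agent.H9.P43R

/-! The endgame for a strongly 3-embedded `Sp₆(2)`. -/

set_option autoImplicit false

namespace CfsgH9

open Subgroup CfsgH5 CfsgH6 CfsgFT CfsgH8 CfsgH7 E7

universe u
variable {G : Type u} [Group G] [Finite G]

theorem le_of_N_inf {p : ℕ} [Fact p.Prime] {T P : Subgroup G} (hT : IsPGroup p T)
    (h : ∀ g ∈ T, g ∈ N (T ⊓ P) → g ∈ P) : T ≤ P := by
  by_contra h1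
  obtain ⟨g, hg, h2, h3⟩ := exists_nrm_of_lt hT (lt_of_le_of_ne (inf_le_left (b := P))
    fun e => h1 (e ▸ inf_le_right))
  exact h2 ⟨hg, h g hg h3⟩

theorem zstar_sec {X Z T P : Subgroup G} {i : G} (hT : SylIn 2 T X) (hZ : Z ≤ T) (hc : X ≤ C Z)
    (hP : Z ≤ P) (hO : Opc 2 X ≤ P) (iT : i ∈ T) (iZ : i ∉ Z) (ii : i * i = 1)
    (h : ∀ g ∈ X, g * i * g⁻¹ ∈ T → g ∈ P ∧ g * i * g⁻¹ * i⁻¹ ∈ Z) : X ≤ P := by
  haveI : Fact (Nat.Prime 2) := ⟨Nat.prime_two⟩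
  obtain ⟨Q, _, _, π, hπ⟩ := exists_sec (hZ.trans hT.le) (nrm_of_le_C hc)
  have ht : img π X = ⊤ := eq_top_iff.2 fun y _ => by
    obtain ⟨g, rfl⟩ := hπ.surj y
    exact mem_img_of_mem π g.2 g.2
  have hS : SylIn 2 (img π T) ⊤ := ht ▸ hT.img Nat.prime_two π le_rfl
  let j : X := ⟨i, hT.le iT⟩
  have jj : π j * π j = 1 := by rw [← map_mul, show j * j = 1 from Subtype.ext ii, map_one]
  have key : ∀ g : X, π g * π j * (π g)⁻¹ ∈ img π T → (g : G) ∈ P ∧ π g * π j * (π g)⁻¹ = π j := by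
    intro g hg
    rw [← map_inv, ← map_mul, ← map_mul] at hg ⊢
    exact (h g g.2 ((hπ.mem_img hZ).1 hg)).imp_right hπ.eq_iff.2
  have h1 := CfsgSZ.zstar (mem_top (π j)) (fun e => iZ ((hπ.ker j).1 e)) jj fun g _ e => by
    obtain ⟨k, -, hk⟩ := hS.exists_le_cj le_top (Nrm.isPGroup_sup (nrm_of_le_C (A := zpowers (π j))
      (by rw [C_zpowers, zpowers_le]; exact mem_C1.2 e)) (isP_zp2 jj)
      (isP_zp2 (x := g * π j * g⁻¹) (by rw [conj_mul, jj]; simp)))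
    obtain ⟨g, rfl⟩ := hπ.surj g
    obtain ⟨k, rfl⟩ := hπ.surj k
    have h2 := (key k⁻¹ (by
      simpa using mem_cj.1 (hk (mem_sup_left (mem_zpowers _))))).2
    have h3 := (key (k⁻¹ * g) (by
      simpa [mul_assoc] using mem_cj.1 (hk (mem_sup_right (mem_zpowers _))))).2
    have h4 := h3.trans h2.symm
    rw [map_mul] at h4
    exact conj_injective ((P43.cj_comp rfl rfl).symm.trans h4)
  have hM : NormalIn (pre π (Opc 2 ⊤)) X := ⟨pre_le _ _, nrm_pre_of_img le_rfl ((nrm_Opc 2 ⊤).mono le_top)⟩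
  have hZM : Z ≤ pre π (Opc 2 ⊤) := fun g hg => (mem_pre' (hπ.le hg)).2 (by
    rw [(hπ.ker ⟨g, _⟩).2 hg]; exact one_mem _)
  have h2 : SylIn 2 Z (pre π (Opc 2 ⊤)) := by
    refine sylIn_of_not_dvd hZM (hT.isPGroup.to_le hZ) ?_
    rw [relIndex_eq_of_mul hZM (hπ.card_img hZM hM.le), img_pre_of_le (by
      rw [MonoidHom.range_eq_top.2 hπ.surj]; exact le_top)]
    exact CfsgFT.not_dvd_card_Opc Nat.prime_two _
  have h3 : pre π (Opc 2 ⊤) ≤ P := by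
    rw [← (h2.sdp_of_le_C Nat.prime_two (inf_le_left.trans (hM.le.trans hc))).sup, Opc_of_normalIn hM]
    exact sup_le (inf_le_left.trans hO) hP
  intro g hg
  obtain ⟨s, hs, k, hk, e⟩ := Nrm.exists_mul_of_mem_sup ((nrm_Opc 2 ⊤).mono le_top)
    (show π ⟨g, hg⟩ ∈ (⊤ ⊓ C1 (π j)) ⊔ Opc 2 ⊤ by rw [sup_comm, h1]; trivial)
  obtain ⟨s, rfl⟩ := hπ.surj s
  have h4 := (key s (by
    rw [mem_C1_iff_conj.1 hs.2]; exact mem_img_of_mem π j.2 iT)).1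
  have h5 : ((s⁻¹ * ⟨g, hg⟩ : X) : G) ∈ P := h3 (coe_mem_pre.2 (by
    rwa [map_mul, map_inv, e, inv_mul_cancel_left]))
  simpa using mul_mem h4 h5

/-- an `A₄` acting with a fixed-point-free element of order three -/
theorem cent_of_A4 {M : Subgroup G} {f b : G} (h2 : ¬ 2 ∣ Nat.card M) (h3 : ¬ 3 ∣ Nat.card M)
    (hf : f ∈ N M) (hb : b ∈ N M) (ff : f * f = 1) (b3 : b ^ 3 = 1) (fb : f * b ≠ b * f)
    (e : f * (b * f * b⁻¹) * (b⁻¹ * f * b) = 1) (hC : M ⊓ C1 b = ⊥) : f ∈ C M := by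
  haveI : Fact (Nat.Prime 2) := ⟨Nat.prime_two⟩
  have b1 : b ≠ 1 := fun e => fb (by simp [e])
  have q2 : b * f * b⁻¹ * (b * f * b⁻¹) = 1 := by rw [conj_mul, ff]; simp
  have q3 : b⁻¹ * f * b * (b⁻¹ * f * b) = 1 := by
    rw [show b⁻¹ * f * b * (b⁻¹ * f * b) = b⁻¹ * (f * f) * b by group, ff]; simp
  have e1 : b * (b * f * b⁻¹) * b⁻¹ = b⁻¹ * f * b := by
    rw [show b * (b * f * b⁻¹) * b⁻¹ = b ^ 3 * (b⁻¹ * f * b) * (b ^ 3)⁻¹ by rw [pow_three']; group, b3]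
    simp
  have e2 : b * (b⁻¹ * f * b) * b⁻¹ = f := by group
  have n1 : b * f * b⁻¹ ≠ f := fun e => fb (mul_inv_eq_iff_eq_mul.1 e).symm
  have hf' : b * f * b⁻¹ ∈ N M := mul_mem (mul_mem hb hf) (inv_mem hb)
  generalize hg : b * f * b⁻¹ = g at q2 e e1 n1 hf'
  generalize b⁻¹ * f * b = k at q3 e e1 e2
  have e3 : f * g = k := by
    rw [← inv_eq_of_mul_eq_one_right q3]; exact eq_inv_of_mul_eq_one_left e
  have e4 : f * g = g * f := by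
    rw [e3, ← inv_eq_of_mul_eq_one_right q3, ← e3, _root_.mul_inv_rev, inv_eq_of_mul_eq_one_right ff,
      inv_eq_of_mul_eq_one_right q2]
  have hn : Nrm (zpowers f) (zpowers g) := nrm_of_le_C (by rw [C_zpowers, zpowers_le]; exact mem_C1.2 e4)
  have m1 : f ∈ zpowers f ⊔ zpowers g := mem_sup_left (mem_zpowers f)
  have m2 : g ∈ zpowers f ⊔ zpowers g := mem_sup_right (mem_zpowers g)
  have hK : Nrm (zpowers b) (zpowers f ⊔ zpowers g) := nrm_of_le_N (zpowers_le.2 (mem_N_of_cj_le (by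
    rw [CfsgFT.cj_sup, cj_zpowers, cj_zpowers, hg, e1, ← e3]
    exact sup_le (zpowers_le.2 m2) (zpowers_le.2 (mul_mem m1 m2)))))
  have cb : Nat.card (zpowers b) = 3 := by rw [Nat.card_zpowers, orderOf_three b1 b3]
  have hF := (semiReg_of_prime_card (K := zpowers f ⊔ zpowers g) (E := zpowers b)
    (cb ▸ Nat.prime_three) (eq_bot_iff.2 fun y hy => by
      obtain ⟨h4, h5⟩ := mem_inf.1 hy
      rw [C_zpowers, mem_C1_iff_conj'] at h5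
      obtain ⟨s, hs, t, ht, rfl⟩ := Nrm.exists_mul_of_mem_sup hn h4
      rcases mem_zpowers_order_two' ff hs with rfl | rfl <;>
        rcases mem_zpowers_order_two' q2 ht with rfl | rfl
      · simp
      · rw [one_mul, e1] at h5
        exact absurd (by rw [← e2, h5, e1, h5]) n1
      · rw [mul_one, hg] at h5; exact absurd h5 n1
      · rw [e3, e2] at h5
        exact absurd (by rw [← hg, h5, e2, h5]) n1)).frob hK
    (fun e => fb (by rw [show f = 1 from mem_bot.1 (e ▸ m1)]; simp)) (mt zpowers_eq_bot.1 b1)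
  refine (B23.frob_wielandt hF (nrm_of_le_N (sup_le (sup_le (zpowers_le.2 hf) (zpowers_le.2 hf'))
    (zpowers_le.2 hb))) ?_ (feit_thompson _ (Nat.not_even_iff_odd.1 fun e =>
      h2 (even_iff_two_dvd.1 e)))).2.1 (by rwa [C_zpowers]) m1
  rw [← hF.1.card, cb]
  exact (coprime_of_isPGroup_of_not_dvd Nat.prime_two (Nrm.isPGroup_sup hn (isP_zp2 ff) (isP_zp2 q2))
    h2).symm.mul_right ((Nat.prime_three.coprime_iff_not_dvd.2 h3).symm)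

namespace E7.FF

variable {P T : Subgroup G} {z y y' b c f : G} (h : FF P T z y y' b c f)
include h

omit [Finite G] in
theorem yy : y * y = 1 := by rw [← h.c1, conj_mul, h.zz]; simp
omit [Finite G] in
theorem y'y' : y' * y' = 1 := by rw [← h.c2, conj_mul, h.yy]; simp
omit [Finite G] in
theorem mm : y * y' * (y * y') = 1 := by
  rw [(show Commute y y' from h.yy').symm.mul_mul_mul_comm, h.yy, h.y'y', one_mul]
omit [Finite G] in
theorem zt : z * (z * (y * y')) = y * y' := by rw [← mul_assoc, h.zz, one_mul]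
omit [Finite G] in
theorem zm : z * (y * y') = y * y' * z :=
  (show Commute z y from h.zy).mul_right (show Commute z y' from h.zy')
omit [Finite G] in
theorem ct' : c * (z * (y * y')) * c⁻¹ = z * (y * y') := by
  rw [← conj_mul, ← conj_mul, h.c1, h.c2, h.c3, h.zm, mul_assoc]
omit [Finite G] in
theorem cm : T ≤ C1 (y * y') := fun g hg => by
  rw [← h.zt, mem_C1_comm]
  exact mul_mem (mem_C1_comm.1 (h.cz hg)) (mem_C1_comm.1 (h.ct hg))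
omit [Finite G] in
theorem mT : y * y' ∈ T := mul_mem h.yT h.y'T
omit [Finite G] in
theorem tT : z * (y * y') ∈ T := mul_mem h.zT h.mT

variable (hP : SE 3 P) (hb : B9 b c) (hE : SylIn 3 (D9 b c) (C1 (z * (y * y'))))
  (hm : ∀ g ∈ C1 b, g ∈ C1 (y * y') → g ^ 4 ∈ zpowers b)
include hP hb hE hm

omit [Finite G] hP hE hm in
theorem bU : b ∈ C1 z ∧ b ∈ C1 y ∧ b ∈ C1 y' := by
  have k : ∀ {p q}, c * p * c⁻¹ = q → b ∈ C1 p → b ∈ C1 q := fun e e1 => by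
    rw [← e, ← cj_C1, ← (mul_inv_eq_iff_eq_mul.2 hb.comm.symm : c * b * c⁻¹ = b), conj_mem_cj]
    exact e1
  exact ⟨mem_C1.2 h.bz, k h.c1 (mem_C1.2 h.bz), k h.c2 (k h.c1 (mem_C1.2 h.bz))⟩

omit hP hE in
theorem sylb : SylIn 3 (zpowers b) (C1 (y * y')) :=
  P43.RS.syl_b hb.a3 (mem_C1_comm.1 (mul_mem (mem_C1_comm.1 (h.bU hb).2.1)
    (mem_C1_comm.1 (h.bU hb).2.2))) hm

theorem opc_le {X : Subgroup G} (h1 : X ≤ C1 (y * y')) (h2 : C1 z ⊓ C1 y ⊓ C1 y' ≤ X) :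
    Opc 2 X ≤ P := by
  haveI : Fact (Nat.Prime 3) := ⟨Nat.prime_three⟩
  have hU : ∀ {g}, g ∈ C1 z ⊓ C1 y ⊓ C1 y' → c * g * c⁻¹ ∈ C1 z ⊓ C1 y ⊓ C1 y' := fun {g} hg => by
    refine ⟨⟨?_, ?_⟩, ?_⟩
    · rw [← h.c3, ← cj_C1]; exact conj_mem_cj.2 hg.2
    · rw [← h.c1, ← cj_C1]; exact conj_mem_cj.2 hg.1.1
    · rw [← h.c2, ← cj_C1]; exact conj_mem_cj.2 hg.1.2
  have bX : b ∈ X := h2 ⟨⟨(h.bU hb).1, (h.bU hb).2.1⟩, (h.bU hb).2.2⟩
  have fU : f ∈ C1 z ⊓ C1 y ⊓ C1 y' := ⟨⟨mem_C1.2 h.fz, mem_C1.2 h.fy⟩, mem_C1.2 h.fy'⟩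
  have hn := nrm_Opc 2 X
  have o2 := CfsgFT.not_dvd_card_Opc Nat.prime_two X
  have o3 : ¬ 3 ∣ Nat.card (Opc 2 X) := fun e => by
    have h3 := (((h.sylb hb hm).of_le (zpowers_le.2 bX) h1).inf_nrm (Opc_le 2 X) hn)
    have h4 := P43.pow_dvd_of_sylIn (n := 1) Nat.prime_three h3 (by simpa using e)
    have h5 : zpowers b ⊓ Opc 2 X = zpowers b := eq_of_le_of_card_ge inf_le_left (by
      rw [Nat.card_zpowers, hb.orderOf_a]; exact Nat.le_of_dvd Nat.card_pos h4)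
    have h6 : b ∈ Opc 2 X := (h5.ge (mem_zpowers b)).2
    have h7 : f * (b * f * b⁻¹) = 1 := eq_one_of_pow_of_not_dvd Nat.prime_two (by
      have := mul_mem (hn f (h2 fU) b h6) (inv_mem h6)
      rwa [inv_eq_of_mul_eq_one_right h.ff, mul_assoc, mul_assoc, ← mul_assoc b] at this) (by
      rw [eq_inv_of_mul_eq_one_left h.f3, inv_pow, pow_two,
        show b⁻¹ * f * b * (b⁻¹ * f * b) = b⁻¹ * (f * f) * b by group, h.ff]
      simp) o2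
    rw [← h.ff, mul_right_inj, mul_inv_eq_iff_eq_mul] at h7
    exact h.n1 h7.symm
  have hC : Opc 2 X ⊓ C1 b = ⊥ := eq_bot_iff.2 fun g hg => by
    have h3 := hm g hg.2 (h1 (Opc_le 2 X hg.1))
    have h4 : g ^ 4 = 1 := eq_one_of_pow_of_not_dvd Nat.prime_three (pow_mem hg.1 4)
      (hb.cube (mem_sup_left h3)) o3
    have h5 : g ^ 2 = 1 := eq_one_of_pow_of_not_dvd Nat.prime_two (pow_mem hg.1 2)
      (by rw [← pow_mul, h4]) o2
    exact eq_one_of_pow_of_not_dvd Nat.prime_two hg.1 h5 o2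
  have key : ∀ j : ℕ, c ^ j * f * (c ^ j)⁻¹ ∈ C1 z ⊓ C1 y ⊓ C1 y' := fun j => by
    induction j with
    | zero => simpa using fU
    | succ j ih => simpa only [pow_succ', _root_.mul_inv_rev, mul_assoc] using hU ih
  have key2 : ∀ e ∈ D9 b c, e * f * e⁻¹ ∈ C (Opc 2 X) := fun e he => by
    obtain ⟨i, j, rfl⟩ := hb.mem he
    have k1 : Commute b (c ^ j.val) := (show Commute b c from hb.comm).pow_right _
    have h3 := cent_of_A4 o2 o3 (hn.le_N (h2 (key j))) (hn.le_N bX) (by rw [conj_mul, h.ff]; simp)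
      hb.a3 (fun e => h.n1 (by
        rw [mul_assoc, ← k1.inv_right.eq, ← mul_assoc, ← mul_assoc, ← mul_assoc, mul_left_inj, k1.eq,
          mul_assoc, mul_assoc, mul_right_inj] at e
        exact e)) (by
        rw [← mul_inv_eq_iff_eq_mul.2 k1.eq.symm, conj_inv, conj_mul, conj_mul, conj_mul, conj_mul,
          conj_mul, conj_mul, h.f3]
        simp) hC
    simpa [el, mul_assoc] using hn.C _ (pow_mem bX i) _ h3
  let L : Subgroup G := C1 (z * (y * y')) ⊓ C (closure {p | ∃ e ∈ D9 b c, e * f * e⁻¹ = p})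
  have nL : Nrm (D9 b c) L := (nrm_C1 hE.le).inf (Nrm.C (Nrm.closure (by
    rintro e he _ ⟨k, hk, rfl⟩
    exact subset_closure ⟨e * k, mul_mem he hk, by group⟩)))
  have hL : Opc 2 X ≤ L := by
    refine le_inf (le_C1_iff.2 ?_) (le_C_comm.1 ((closure_le _).2 ?_))
    · have h3 : f ∈ C (Opc 2 X) := by simpa using key2 1 (one_mem _)
      have h4 := key2 _ (mul_mem (left_mem_D9 b c) (right_mem_D9 b c))
      exact h.ft ▸ mul_mem (mul_mem h3 h4) (mul_mem h3 h4)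
    · rintro _ ⟨e, he, rfl⟩; exact key2 e he
  refine hL.trans (hb.le_of_SE hP h.bP h.cP (nL b (left_mem_D9 b c)) (nL c (right_mem_D9 b c))
    fun e => ?_)
  have h3 := (hE.of_le (K := D9 b c ⊔ L) le_sup_left (sup_le hE.le inf_le_left)).inf_nrm le_sup_right
    (nL.sup_left (Nrm.self L))
  obtain ⟨g, hg, e1⟩ := exists_mem_orderOf_eq Nat.prime_three
    ((pow_one 3).symm.dvd.trans (P43.pow_dvd_of_sylIn (n := 1) Nat.prime_three h3 (by simpa using e)))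
  have h4 : g ∈ C1 f := C_le_C1 (Subgroup.subset_closure (k := {p | ∃ e ∈ D9 b c, e * f * e⁻¹ = p})
    ⟨1, one_mem _, by simp⟩) hg.2.2
  have h5 : ∀ {g}, g⁻¹ ∈ C1 f → f * g = g * f := fun e => (mem_C1.1 (inv_mem_iff.1 e)).symm
  rcases hb.mem' hg.1 with rfl | rfl | rfl | rfl | rfl | rfl | rfl | rfl | rfl
  · simp at e1
  exacts [h.n1 (h5 (inv_mem h4)), h.n1 (h5 h4), h.n2 (h5 (inv_mem h4)), h.n2 (h5 h4),
    h.n3 (h5 (inv_mem h4)), h.n3 (h5 h4), h.n4 (h5 (inv_mem h4)), h.n4 (h5 h4)]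

omit hP hb hE hm in
theorem se_of {i : G} (ii : i * i = 1) (h1 : ∀ j ∈ T, IsConj i j → ∃ k ∈ P, k * i * k⁻¹ = j)
    (h2 : C1 i ≤ P) (g : G) (hg : g * i * g⁻¹ ∈ P) : g ∈ P := by
  haveI : Fact (Nat.Prime 2) := ⟨Nat.prime_two⟩
  obtain ⟨p, hp, h3⟩ := h.syl.exists_le_cj (zpowers_le.2 hg) (isP_zp2 (P43.sq_cj ii g))
  obtain ⟨k, hk, e⟩ := h1 _ (mem_cj.1 (h3 (mem_zpowers _))) (isConj_iff.2 ⟨p⁻¹ * g, by group⟩)
  have h4 : k⁻¹ * (p⁻¹ * g) ∈ P := h2 (mem_C1_iff_conj.2 (by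
    rw [show k⁻¹ * (p⁻¹ * g) * i * (k⁻¹ * (p⁻¹ * g))⁻¹ = k⁻¹ * (p⁻¹ * (g * i * g⁻¹) * p) * k⁻¹⁻¹ by
      group, P43.cj_swap e]))
  simpa using mul_mem hp (mul_mem hk h4)

theorem eq_top (n1 : ¬ IsConj z (z * (y * y')))
    (hU : ∀ g ∈ C1 b, g ∈ C1 z → g ∈ C1 y → g ∈ C1 y' → ∀ K : Subgroup G, z ∈ K → y ∈ K → y' ∈ K →
      g ∈ K ∨ g * b⁻¹ ∈ K ∨ g * b ∈ K)
    (h57 : ∀ e ∈ D9 b c, e ≠ 1 → ∀ g ∈ C1 (z * (y * y')), g * e = e * g →
      orderOf g ≠ 5 ∧ orderOf g ≠ 7)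
    (h9 : 3 ^ 2 ∣ Nat.card (C1 z ⊓ P : Subgroup G)) (h27 : 3 ^ 3 ∣ Nat.card P)
    (h27' : ¬ 3 ^ 3 ∣ Nat.card (C1 z)) : P = ⊤ := by
  haveI : Fact (Nat.Prime 2) := ⟨Nat.prime_two⟩
  have bU := h.bU hb
  have TP := h.syl.le
  have m1 : z ∈ zpowers z ⊔ zpowers y ⊔ zpowers y' := mem_sup_left (mem_sup_left (mem_zpowers _))
  have m2 : y ∈ zpowers z ⊔ zpowers y ⊔ zpowers y' := mem_sup_left (mem_sup_right (mem_zpowers _))
  have m3 : y' ∈ zpowers z ⊔ zpowers y ⊔ zpowers y' := mem_sup_right (mem_zpowers _)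
  have e1 : C (zpowers z ⊔ zpowers y ⊔ zpowers y') = C1 z ⊓ C1 y ⊓ C1 y' := by
    rw [C_sup, C_sup, C_zpowers, C_zpowers, C_zpowers]
  have mN : ∀ {g}, g * z * g⁻¹ ∈ zpowers z ⊔ zpowers y ⊔ zpowers y' →
      g * y * g⁻¹ ∈ zpowers z ⊔ zpowers y ⊔ zpowers y' →
      g * y' * g⁻¹ ∈ zpowers z ⊔ zpowers y ⊔ zpowers y' →
      g ∈ N (zpowers z ⊔ zpowers y ⊔ zpowers y') := fun k1 k2 k3 => mem_N_of_cj_le (by
    rw [CfsgFT.cj_sup, CfsgFT.cj_sup, cj_zpowers, cj_zpowers, cj_zpowers]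
    exact sup_le (sup_le (zpowers_le.2 k1) (zpowers_le.2 k2)) (zpowers_le.2 k3))
  have UT : zpowers z ⊔ zpowers y ⊔ zpowers y' ≤ T :=
    sup_le (sup_le (zpowers_le.2 h.zT) (zpowers_le.2 h.yT)) (zpowers_le.2 h.y'T)
  have UC : zpowers z ⊔ zpowers y ⊔ zpowers y' ≤ C1 z ⊓ C1 y ⊓ C1 y' := sup_le (sup_le
    (zpowers_le.2 ⟨⟨self_mem_C1 _, mem_C1.2 h.zy⟩, mem_C1.2 h.zy'⟩)
    (zpowers_le.2 ⟨⟨mem_C1.2 h.zy.symm, self_mem_C1 _⟩, mem_C1.2 h.yy'⟩))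
    (zpowers_le.2 ⟨⟨mem_C1.2 h.zy'.symm, mem_C1.2 h.yy'.symm⟩, self_mem_C1 _⟩)
  generalize zpowers z ⊔ zpowers y ⊔ zpowers y' = U at m1 m2 m3 e1 mN UT UC
  have mt := mul_mem m1 (mul_mem m2 m3)
  have hX : NormalIn (C U) (N U ⊓ C1 (z * (y * y'))) :=
    ⟨le_inf (C_le_N U) (C_le_C1 mt), (nrm_of_le_N inf_le_left).C⟩
  have bC : b ∈ C U := e1 ▸ ⟨⟨bU.1, bU.2.1⟩, bU.2.2⟩
  have s1 : N U ⊓ C1 (z * (y * y')) ≤ P := ft3_le hP hb h.bP h.cP hX (hE.of_le (D9_le (hX.le bC)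
    ⟨mN (h.c1 ▸ m2) (h.c2 ▸ m3) (h.c3 ▸ m1), mem_C1_iff_conj.2 h.ct'⟩) inf_le_right) (e1 ▸ UC)
    (fun g hg z hz => (mem_C.1 hg z hz).symm) (h.syl.isPGroup.to_le UT) bC h.bP hb.a1 hb.a3
    (fun g hg e => hU g (mem_C1.2 e) (C_le_C1 m1 hg) (C_le_C1 m2 hg) (C_le_C1 m3 hg) U m1 m2 m3)
    fun e he e1 g hg => h57 e he e1 g hg.2
  have izy : IsConj z y := isConj_iff.2 ⟨c, h.c1⟩
  have e2 : y * (z * (z * (y * y'))) = y' := by rw [h.zt, ← mul_assoc, h.yy, one_mul]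
  have e3 : c * (y * y') * c⁻¹ = y * (z * (y * y')) := by
    rw [← conj_mul, h.c2, h.c3, ← mul_assoc, ← h.zy, mul_assoc, ← mul_assoc y, h.yy, one_mul, h.zy']
  have s2 : ∀ g ∈ C1 z ⊓ C1 (z * (y * y')), g * y * g⁻¹ ∈ T → g ∈ P ∧
      (g * y * g⁻¹ = y ∨ g * y * g⁻¹ = y') := fun g hg k1 => by
    have k2 := mem_C1_iff_conj.1 hg.1
    have k3 := mem_C1_iff_conj.1 hg.2
    have k4 : g * y * g⁻¹ = y ∨ g * y * g⁻¹ = y' := by
      rcases h.F1 _ k1 (izy.trans (isConj_iff.2 ⟨g, rfl⟩)) (isConj_iff.2 ⟨g * c, P43.cj_comp e3 (by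
        rw [← conj_mul, k3])⟩) with e | e
      · exact Or.inl (by rw [e, ← conj_injective (e.trans k2.symm)])
      · exact e
    have k5 : g * y * g⁻¹ ∈ U := by rcases k4 with e | e <;> rwa [e]
    refine ⟨s1 ⟨mN (k2.symm ▸ m1) k5 ?_, hg.2⟩, k4⟩
    rw [← e2, ← conj_mul, ← conj_mul, k2, k3]
    exact mul_mem k5 (mul_mem m1 mt)
  have s3 : SylIn 2 T ⊤ := sylIn_of_sylIn_N Nat.prime_two (h.syl.of_le (le_inf le_top (le_N T))
    fun g hg => by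
      have k : ∀ {i}, T ≤ C1 i → T ≤ C1 (g * i * g⁻¹) := fun e => by
        rw [← cj_C1, ← mem_N.1 hg.2]; exact cj_mono e
      exact (s2 g ⟨mem_C1_iff_conj.2 ((h.F5 _ (conj_mem_of_mem_N hg.2 h.zT) (k h.cz)).1
        (isConj_iff.2 ⟨g, rfl⟩)), mem_C1_iff_conj.2 ((h.F5 _ (conj_mem_of_mem_N hg.2 h.tT) (k h.ct)).2
        (isConj_iff.2 ⟨g, rfl⟩))⟩ (conj_mem_of_mem_N hg.2 h.yT)).1)
  have l1 : C1 z ⊓ C1 (z * (y * y')) ≤ C1 (y * y') := fun g hg => by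
    rw [← h.zt, mem_C1_comm]; exact mul_mem (mem_C1_comm.1 hg.1) (mem_C1_comm.1 hg.2)
  have l2 : C1 z ⊓ C1 (y * y') ≤ C1 z ⊓ C1 (z * (y * y')) := fun g hg =>
    ⟨hg.1, mem_C1_comm.1 (mul_mem (mem_C1_comm.1 hg.1) (mem_C1_comm.1 hg.2))⟩
  have l3 : C1 z ⊓ C1 y ⊓ C1 y' ≤ C1 z ⊓ C1 (z * (y * y')) := e1 ▸ le_inf (C_le_C1 m1) (C_le_C1 mt)
  have l4 : zpowers z ⊔ zpowers (z * (y * y')) ≤ T := sup_le (zpowers_le.2 h.zT) (zpowers_le.2 h.tT)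
  have l5 : C1 z ⊓ C1 (z * (y * y')) ≤ C (zpowers z ⊔ zpowers (z * (y * y'))) := by
    rw [C_sup, C_zpowers, C_zpowers]
  have s4 : C1 z ⊓ C1 (z * (y * y')) ≤ P := by
    refine zstar_sec (s3.of_le (le_inf h.cz h.ct) le_top) l4 l5 (l4.trans TP)
      (h.opc_le hP hb hE hm l1 l3) h.yT (fun e => n1 ?_) h.yy fun g hg k1 =>
        (s2 g hg k1).imp_right ?_
    · have k := (h.F5 y h.yT ((le_inf h.cz h.ct).trans (l5.trans (C_le_C1 e)))).1 izy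
      rw [← k, ← mul_assoc, h.yy, one_mul]
      exact isConj_iff.2 ⟨c, h.c2⟩
    · rintro (e | e) <;> rw [e]
      · simp
      · rw [inv_eq_of_mul_eq_one_right h.yy, ← h.yy']
        nth_rewrite 2 [← h.zt]
        exact mul_mem (mem_sup_left (mem_zpowers _)) (mem_sup_right (mem_zpowers _))
  have s5 : C1 (y * y') ≤ P := by
    refine zstar_sec (Z := ⊥) (s3.of_le h.cm le_top) bot_le
      (fun g _ => mem_C.2 fun x hx => by simp [mem_bot.1 hx]) bot_le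
      (h.opc_le hP hb hE hm le_rfl (l3.trans l1)) h.zT (fun e => n1 ?_) h.zz fun g hg k1 => ?_
    · rw [← h.c2, ← h.c1, mem_bot.1 e]; simp
    · have k2 := h.F2 _ k1 (isConj_iff.2 ⟨g, rfl⟩) (isConj_iff.2 ⟨g, by
        rw [← conj_mul, mem_C1_iff_conj.1 hg]⟩)
      exact ⟨s4 (l2 ⟨mem_C1_iff_conj.2 k2, hg⟩), by simp [k2]⟩
  have cc : ∀ {q x g : G}, g ∈ C1 (q * x * q⁻¹) → q⁻¹ * g * q ∈ C1 x := fun e => by
    rwa [← cj_C1, mem_cj] at e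
  have cP : ∀ {q g}, q ∈ P → q⁻¹ * g * q ∈ P → g ∈ P := fun k1 k2 => by
    simpa [mul_assoc] using mul_mem (mul_mem k1 k2) (inv_mem k1)
  have s6 : C1 z ≤ P := by
    refine op_le hP h.mm (h.cz h.mT) (TP h.mT) (fun g _ => h.se_of h.mm h.F0m s5 g)
      (fun g hg k1 k2 => ?_) h9 fun e => ?_
    · have k3 : g * (y * y') * g⁻¹ ∈ C1 z := mul_mem (mul_mem hg (h.cz h.mT)) (inv_mem hg)
      obtain ⟨k, hk, k4⟩ := (s3.of_le (le_inf h.cz h.cm) le_top).exists_le_cj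
        (zpowers_le.2 ⟨k3, mem_C1.2 k1.symm⟩) (isP_zp2 (P43.sq_cj h.mm g))
      have k5 := mem_C1_iff_conj.1 hk.2
      obtain ⟨p, hp, k6, k7⟩ := h.F3 _ (mem_cj.1 (k4 (mem_zpowers _)))
        (isConj_iff.2 ⟨k⁻¹ * g, by group⟩) (isConj_iff.2 ⟨k⁻¹ * g, by
          rw [h.zm, ← conj_mul, mem_C1_iff_conj.1 (mul_mem (inv_mem hk.1) hg)]; group⟩)
        fun e => k2 (((congrArg (fun q => k * q * k⁻¹) e).trans k5).symm.trans (by group)).symm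
      have k8 : k * (y * y' * (k⁻¹ * (g * (y * y') * g⁻¹) * k)) * k⁻¹ =
          y * y' * (g * (y * y') * g⁻¹) := by
        rw [← conj_mul, k5]; group
      have k9 := mul_mem (s5 hk.2) hp
      have k10 : k * p ∈ C1 z := mul_mem hk.1 k6
      intro q hq
      obtain ⟨q1, q2⟩ := mem_inf.1 hq
      rcases k7 with e | e <;> rw [← P43.cj_comp e k8] at q2
      · exact cP k9 (s4 (mem_inf.2 ⟨mul_mem (mul_mem (inv_mem k10) q1) k10, cc q2⟩))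
      · exact cP k9 (s5 (cc q2))
    · have := P43.pow_dvd_of_sylIn Nat.prime_three (h.sylb hb hm) e
      rw [Nat.card_zpowers, hb.orderOf_a] at this
      omega
  refine eq_top_iff.2 (op_le hP h.zz (mem_top z) (TP h.zT) (fun g _ => h.se_of h.zz h.F0z s6 g)
    (fun g _ k1 k2 => ?_) (by rwa [top_inf_eq]) h27')
  obtain ⟨k, hk, k4⟩ := (s3.of_le h.cz le_top).exists_le_cj
    (zpowers_le.2 (mem_C1.2 k1.symm)) (isP_zp2 (P43.sq_cj h.zz g))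
  have k5 := mem_C1_iff_conj.1 hk
  obtain ⟨p, hp, k7⟩ := h.F4 _ (mem_cj.1 (k4 (mem_zpowers _))) (isConj_iff.2 ⟨k⁻¹ * g, by group⟩)
    fun e => k2 (((congrArg (fun q => k * q * k⁻¹) e).trans k5).symm.trans (by group)).symm
  have k8 : k * (z * (k⁻¹ * (g * z * g⁻¹) * k)) * k⁻¹ = z * (g * z * g⁻¹) := by
    rw [← conj_mul, k5]; group
  rintro q ⟨-, q2⟩
  rw [← P43.cj_comp k7 k8] at q2
  exact cP (mul_mem (s6 hk) hp) (s5 (cc q2))

end E7.FF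

end CfsgH9
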