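import Cfsg.Agent.H9.Pres2

/-! Coxeter presentations of types `A₅ ⊂ E₆ ⊂ E₇`. -/

set_option autoImplicit false
set_option maxRecDepth 100000

namespace CfsgH9.E7

open CfsgH3.TC

def R1 : List (List ℕ) := [[2, 2]]

def R2 : List (List ℕ) := [[2, 2], [4, 4], [2, 4, 2, 4, 2, 4]]

def R3 : List (List ℕ) := [[2, 2], [4, 4], [2, 4, 2, 4, 2, 4], [6, 6], [2, 6, 2, 6], [4, 6, 4, 6, 4, 6]]

def R4 : List (List ℕ) := [[2, 2], [4, 4], [2, 4, 2, 4, 2, 4], [6, 6], [2, 6, 2, 6], [4, 6, 4, 6, 4, 6], [8, 8], [2, 8, 2, 8], [4, 8, 4, 8], [6, 8, 6, 8, 6, 8]]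

def R5 : List (List ℕ) := [[2, 2], [4, 4], [2, 4, 2, 4, 2, 4], [6, 6], [2, 6, 2, 6], [4, 6, 4, 6, 4, 6], [8, 8], [2, 8, 2, 8], [4, 8, 4, 8], [6, 8, 6, 8, 6, 8], [10, 10], [2, 10, 2, 10], [4, 10, 4, 10], [6, 10, 6, 10], [8, 10, 8, 10, 8, 10]]

def R6 : List (List ℕ) := [[2, 2], [4, 4], [2, 4, 2, 4, 2, 4], [6, 6], [2, 6, 2, 6], [4, 6, 4, 6, 4, 6], [8, 8], [2, 8, 2, 8], [4, 8, 4, 8], [6, 8, 6, 8, 6, 8], [10, 10], [2, 10, 2, 10], [4, 10, 4, 10], [6, 10, 6, 10], [8, 10, 8, 10, 8, 10], [12, 12], [2, 12, 2, 12], [4, 12, 4, 12], [6, 12, 6, 12, 6, 12], [8, 12, 8, 12], [10, 12, 10, 12]]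

def R7 : List (List ℕ) := [[2, 2], [4, 4], [2, 4, 2, 4, 2, 4], [6, 6], [2, 6, 2, 6], [4, 6, 4, 6, 4, 6], [8, 8], [2, 8, 2, 8], [4, 8, 4, 8], [6, 8, 6, 8, 6, 8], [10, 10], [2, 10, 2, 10], [4, 10, 4, 10], [6, 10, 6, 10], [8, 10, 8, 10, 8, 10], [12, 12], [2, 12, 2, 12], [4, 12, 4, 12], [6, 12, 6, 12, 6, 12], [8, 12, 8, 12], [10, 12, 10, 12], [14, 14], [2, 14, 2, 14], [4, 14, 4, 14], [6, 14, 6, 14], [8, 14, 8, 14], [10, 14, 10, 14, 10, 14], [12, 14, 12, 14]]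

def l1C : CfsgH3.TC.Cert where
  par j := ([(0, 0), (0, 2)] : List (ℕ × ℕ)).getD j (0, 0)
  fact t := ([(0, 1, 1), (1, 1, 0)] : List (ℕ × ℕ × ℕ)).getD t (0, 0, 0)
  just t := ([(0, 0, 0, 0, [], []),
    (1, 0, 0, 0, [0], [])] : List (ℕ × ℕ × ℕ × ℕ × List ℕ × List ℕ)).getD t (0, 0, 0, 0, [], [])
  nfacts := 2
  liv k := ([0, 1] : List ℕ).getD k 0
  nliv := 2
  fin k c := (([[(0, 1), (3, 1)],
    [(2, 0), (1, 0)]] : List (List (ℕ × ℕ))).getD k []).getD (c - 2) (0, 0)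

def l1W : List (List ℕ) := [[], [2]]

theorem l1_chk : check (R1 ++ trivRels 1) (subLetters 0) 1 l1C = true := by
  decide +kernel

theorem l1_cos {G : Type*} [Group G] {val : ℕ → G} (h0 : val 0 = 1) (hR : RelsHold val R1) :
    Cosets val 0 1 l1W :=
  cosets_of_check h0 hR l1_chk (F := 2) (by decide +kernel)

def l2C : CfsgH3.TC.Cert where
  par j := ([(0, 0), (0, 4), (1, 2)] : List (ℕ × ℕ)).getD j (0, 0)
  fact t := ([(0, 1, 0), (0, 2, 1), (1, 2, 0), (1, 1, 2), (2, 1, 1), (2, 2, 2)] : List (ℕ × ℕ × ℕ)).getD t (0, 0, 0)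
  just t := ([(2, 0, 0, 0, [], []),
    (0, 0, 0, 0, [], []),
    (1, 0, 1, 0, [2], []),
    (0, 0, 0, 0, [], []),
    (1, 1, 0, 0, [6], []),
    (1, 1, 2, 0, [6], [8, 4, 0, 2])] : List (ℕ × ℕ × ℕ × ℕ × List ℕ × List ℕ)).getD t (0, 0, 0, 0, [], [])
  nfacts := 6
  liv k := ([0, 1, 2] : List ℕ).getD k 0
  nliv := 3
  fin k c := (([[(0, 0), (1, 0), (2, 1), (5, 1)],
    [(6, 2), (9, 2), (4, 0), (3, 0)],
    [(8, 1), (7, 1), (10, 2), (11, 2)]] : List (List (ℕ × ℕ))).getD k []).getD (c - 2) (0, 0)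

def l2W : List (List ℕ) := [[], [4], [4, 2]]

theorem l2_chk : check (R2 ++ trivRels 2) (subLetters 1) 2 l2C = true := by
  decide +kernel

theorem l2_cos {G : Type*} [Group G] {val : ℕ → G} (h0 : val 0 = 1) (hR : RelsHold val R2) :
    Cosets val 1 2 l2W :=
  cosets_of_check h0 hR l2_chk (F := 3) (by decide +kernel)

def l3C : CfsgH3.TC.Cert where
  par j := ([(0, 0), (0, 6), (1, 4), (2, 2)] : List (ℕ × ℕ)).getD j (0, 0)
  fact t := ([(0, 1, 0), (0, 2, 0), (0, 3, 1), (1, 3, 0), (1, 1, 1), (1, 2, 2), (2, 2, 1), (2, 3, 2), (2, 1, 3), (3, 1, 2), (3, 2, 3), (3, 3, 3)] : List (ℕ × ℕ × ℕ)).getD t (0, 0, 0)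
  just t := ([(2, 0, 0, 0, [], []),
    (2, 0, 1, 0, [], []),
    (0, 0, 0, 0, [], []),
    (1, 0, 3, 0, [4], []),
    (1, 0, 4, 0, [0, 4], [6]),
    (0, 0, 0, 0, [], []),
    (1, 1, 1, 0, [10], []),
    (1, 1, 5, 0, [10], [12, 6, 2, 4]),
    (0, 0, 0, 0, [], []),
    (1, 2, 0, 0, [16], []),
    (1, 2, 2, 0, [16], [18, 12, 8, 10]),
    (1, 2, 4, 0, [16], [18, 14])] : List (ℕ × ℕ × ℕ × ℕ × List ℕ × List ℕ)).getD t (0, 0, 0, 0, [], [])
  nfacts := 12
  liv k := ([0, 1, 2, 3] : List ℕ).getD k 0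
  nliv := 4
  fin k c := (([[(0, 0), (1, 0), (2, 0), (3, 0), (4, 1), (7, 1)],
    [(8, 1), (9, 1), (10, 2), (13, 2), (6, 0), (5, 0)],
    [(16, 3), (19, 3), (12, 1), (11, 1), (14, 2), (15, 2)],
    [(18, 2), (17, 2), (20, 3), (21, 3), (22, 3), (23, 3)]] : List (List (ℕ × ℕ))).getD k []).getD (c - 2) (0, 0)

def l3W : List (List ℕ) := [[], [6], [6, 4], [6, 4, 2]]

theorem l3_chk : check (R3 ++ trivRels 3) (subLetters 2) 3 l3C = true := by
  decide +kernel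

theorem l3_cos {G : Type*} [Group G] {val : ℕ → G} (h0 : val 0 = 1) (hR : RelsHold val R3) :
    Cosets val 2 3 l3W :=
  cosets_of_check h0 hR l3_chk (F := 4) (by decide +kernel)

def l4C : CfsgH3.TC.Cert where
  par j := ([(0, 0), (0, 8), (1, 6), (2, 4), (3, 2)] : List (ℕ × ℕ)).getD j (0, 0)
  fact t := ([(0, 1, 0), (0, 2, 0), (0, 3, 0), (0, 4, 1), (1, 4, 0), (1, 1, 1), (1, 2, 1), (1, 3, 2), (2, 3, 1), (2, 1, 2), (2, 4, 2), (2, 2, 3), (3, 2, 2), (3, 3, 3), (3, 4, 3), (3, 1, 4), (4, 1, 3), (4, 2, 4), (4, 3, 4), (4, 4, 4)] : List (ℕ × ℕ × ℕ)).getD t (0, 0, 0)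
  just t := ([(2, 0, 0, 0, [], []),
    (2, 0, 1, 0, [], []),
    (2, 0, 2, 0, [], []),
    (0, 0, 0, 0, [], []),
    (1, 0, 6, 0, [6], []),
    (1, 0, 7, 0, [0, 6], [8]),
    (1, 0, 8, 0, [2, 6], [8]),
    (0, 0, 0, 0, [], []),
    (1, 1, 3, 0, [14], []),
    (1, 1, 4, 0, [10, 14], [16]),
    (1, 1, 9, 0, [14], [16, 8, 4, 6]),
    (0, 0, 0, 0, [], []),
    (1, 2, 1, 0, [22], []),
    (1, 2, 5, 0, [22], [24, 16, 12, 14]),
    (1, 2, 8, 0, [22], [24, 20]),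
    (0, 0, 0, 0, [], []),
    (1, 3, 0, 0, [30], []),
    (1, 3, 2, 0, [30], [32, 24, 18, 22]),
    (1, 3, 4, 0, [30], [32, 26]),
    (1, 3, 7, 0, [30], [32, 28])] : List (ℕ × ℕ × ℕ × ℕ × List ℕ × List ℕ)).getD t (0, 0, 0, 0, [], [])
  nfacts := 20
  liv k := ([0, 1, 2, 3, 4] : List ℕ).getD k 0
  nliv := 5
  fin k c := (([[(0, 0), (1, 0), (2, 0), (3, 0), (4, 0), (5, 0), (6, 1), (9, 1)],
    [(10, 1), (11, 1), (12, 1), (13, 1), (14, 2), (17, 2), (8, 0), (7, 0)],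
    [(18, 2), (19, 2), (22, 3), (25, 3), (16, 1), (15, 1), (20, 2), (21, 2)],
    [(30, 4), (33, 4), (24, 2), (23, 2), (26, 3), (27, 3), (28, 3), (29, 3)],
    [(32, 3), (31, 3), (34, 4), (35, 4), (36, 4), (37, 4), (38, 4), (39, 4)]] : List (List (ℕ × ℕ))).getD k []).getD (c - 2) (0, 0)

def l4W : List (List ℕ) := [[], [8], [8, 6], [8, 6, 4], [8, 6, 4, 2]]

theorem l4_chk : check (R4 ++ trivRels 4) (subLetters 3) 4 l4C = true := by
  decide +kernel

theorem l4_cos {G : Type*} [Group G] {val : ℕ → G} (h0 : val 0 = 1) (hR : RelsHold val R4) :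
    Cosets val 3 4 l4W :=
  cosets_of_check h0 hR l4_chk (F := 5) (by decide +kernel)

def l5C : CfsgH3.TC.Cert where
  par j := ([(0, 0), (0, 10), (1, 8), (2, 6), (3, 4), (4, 2)] : List (ℕ × ℕ)).getD j (0, 0)
  fact t := ([(0, 1, 0), (0, 2, 0), (0, 3, 0), (0, 4, 0), (0, 5, 1), (1, 5, 0), (1, 1, 1), (1, 2, 1), (1, 3, 1), (1, 4, 2), (2, 4, 1), (2, 1, 2), (2, 2, 2), (2, 5, 2), (2, 3, 3), (3, 3, 2), (3, 1, 3), (3, 4, 3), (3, 5, 3), (3, 2, 4), (4, 2, 3), (4, 3, 4), (4, 4, 4), (4, 5, 4), (4, 1, 5), (5, 1, 4), (5, 2, 5), (5, 3, 5), (5, 4, 5), (5, 5, 5)] : List (ℕ × ℕ × ℕ)).getD t (0, 0, 0)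
  just t := ([(2, 0, 0, 0, [], []),
    (2, 0, 1, 0, [], []),
    (2, 0, 2, 0, [], []),
    (2, 0, 3, 0, [], []),
    (0, 0, 0, 0, [], []),
    (1, 0, 10, 0, [8], []),
    (1, 0, 11, 0, [0, 8], [10]),
    (1, 0, 12, 0, [2, 8], [10]),
    (1, 0, 13, 0, [4, 8], [10]),
    (0, 0, 0, 0, [], []),
    (1, 1, 6, 0, [18], []),
    (1, 1, 7, 0, [12, 18], [20]),
    (1, 1, 8, 0, [14, 18], [20]),
    (1, 1, 14, 0, [18], [20, 10, 6, 8]),
    (0, 0, 0, 0, [], []),
    (1, 2, 3, 0, [28], []),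
    (1, 2, 4, 0, [22, 28], [30]),
    (1, 2, 9, 0, [28], [30, 20, 16, 18]),
    (1, 2, 13, 0, [28], [30, 26]),
    (0, 0, 0, 0, [], []),
    (1, 3, 1, 0, [38], []),
    (1, 3, 5, 0, [38], [40, 30, 24, 28]),
    (1, 3, 8, 0, [38], [40, 34]),
    (1, 3, 12, 0, [38], [40, 36]),
    (0, 0, 0, 0, [], []),
    (1, 4, 0, 0, [48], []),
    (1, 4, 2, 0, [48], [50, 40, 32, 38]),
    (1, 4, 4, 0, [48], [50, 42]),
    (1, 4, 7, 0, [48], [50, 44]),
    (1, 4, 11, 0, [48], [50, 46])] : List (ℕ × ℕ × ℕ × ℕ × List ℕ × List ℕ)).getD t (0, 0, 0, 0, [], [])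
  nfacts := 30
  liv k := ([0, 1, 2, 3, 4, 5] : List ℕ).getD k 0
  nliv := 6
  fin k c := (([[(0, 0), (1, 0), (2, 0), (3, 0), (4, 0), (5, 0), (6, 0), (7, 0), (8, 1), (11, 1)],
    [(12, 1), (13, 1), (14, 1), (15, 1), (16, 1), (17, 1), (18, 2), (21, 2), (10, 0), (9, 0)],
    [(22, 2), (23, 2), (24, 2), (25, 2), (28, 3), (31, 3), (20, 1), (19, 1), (26, 2), (27, 2)],
    [(32, 3), (33, 3), (38, 4), (41, 4), (30, 2), (29, 2), (34, 3), (35, 3), (36, 3), (37, 3)],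
    [(48, 5), (51, 5), (40, 3), (39, 3), (42, 4), (43, 4), (44, 4), (45, 4), (46, 4), (47, 4)],
    [(50, 4), (49, 4), (52, 5), (53, 5), (54, 5), (55, 5), (56, 5), (57, 5), (58, 5), (59, 5)]] : List (List (ℕ × ℕ))).getD k []).getD (c - 2) (0, 0)

def l5W : List (List ℕ) := [[], [10], [10, 8], [10, 8, 6], [10, 8, 6, 4], [10, 8, 6, 4, 2]]

theorem l5_chk : check (R5 ++ trivRels 5) (subLetters 4) 5 l5C = true := by
  decide +kernel

theorem l5_cos {G : Type*} [Group G] {val : ℕ → G} (h0 : val 0 = 1) (hR : RelsHold val R5) :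
    Cosets val 4 5 l5W :=
  cosets_of_check h0 hR l5_chk (F := 6) (by decide +kernel)

def l6C : CfsgH3.TC.Cert where
  par j := ([(0, 0), (0, 12), (1, 6), (2, 4), (2, 8), (3, 2), (3, 8), (4, 10), (5, 8), (6, 6), (6, 10), (8, 6), (8, 10), (9, 10), (9, 12), (11, 4), (11, 10), (11, 12), (13, 8), (13, 12), (15, 10), (15, 12), (16, 8), (16, 12), (18, 12), (20, 8), (20, 12), (21, 6), (22, 12), (24, 6), (25, 6), (25, 12), (26, 6), (27, 8), (28, 6), (29, 4), (30, 12), (31, 6), (32, 8), (33, 10), (34, 4), (35, 2), (36, 6), (37, 4), (37, 8), (38, 10), (40, 2), (42, 4), (42, 8), (43, 2), (43, 8), (44, 10), (47, 2), (47, 8), (48, 10), (49, 8), (50, 10), (52, 8), (53, 6), (53, 10), (55, 10), (57, 6), (57, 10), (58, 10), (61, 4), (61, 10), (63, 8), (64, 10), (65, 8), (67, 8), (69, 6), (70, 12)] : List (ℕ × ℕ)).getD j (0, 0)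
  fact t := ([(0, 1, 0), (0, 2, 0), (0, 3, 0), (0, 4, 0), (0, 5, 0), (0, 6, 1), (1, 6, 0), (1, 1, 1), (1, 2, 1), (1, 4, 1), (1, 5, 1), (1, 3, 2), (2, 3, 1), (2, 1, 2), (2, 5, 2), (2, 6, 2), (2, 2, 3), (3, 2, 2), (3, 3, 3), (3, 5, 3), (3, 6, 3), (2, 4, 4), (4, 4, 2), (4, 1, 4), (4, 3, 4), (4, 6, 4), (3, 1, 5), (5, 1, 3), (5, 2, 5), (5, 3, 5), (5, 5, 5), (5, 6, 5), (3, 4, 6), (6, 4, 3), (6, 2, 4), (6, 6, 6), (4, 2, 6), (4, 5, 7), (7, 5, 4), (7, 1, 7), (7, 3, 7), (7, 4, 7), (7, 6, 7), (5, 4, 8), (8, 4, 5), (8, 1, 6), (8, 2, 8), (8, 6, 8), (6, 1, 8), (6, 3, 9), (9, 3, 6), (9, 2, 9), (9, 4, 9), (6, 5, 10), (10, 5, 6), (10, 2, 7), (10, 4, 10), (10, 6, 10), (7, 2, 10), (8, 3, 11), (11, 3, 8), (11, 1, 9), (11, 4, 11), (9, 1, 11), (8, 5, 12), (12, 5, 8), (12, 1, 10), (12, 2, 12), (12, 4, 12), (12, 6, 12), (10, 1, 12), (9, 5, 13), (13, 5, 9), (13, 2, 13), (13, 3, 10), (10, 3, 13), (9, 6, 14), (14, 6, 9), (14, 2, 14),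 (14, 3, 14), (14, 4, 14), (11, 2, 15), (15, 2, 11), (15, 1, 15), (15, 3, 15), (15, 4, 15), (11, 5, 16), (16, 5, 11), (16, 1, 13), (16, 3, 12), (12, 3, 16), (13, 1, 16), (11, 6, 17), (17, 6, 11), (17, 1, 14), (17, 3, 17), (17, 4, 17), (14, 1, 17), (13, 4, 18), (18, 4, 13), (18, 2, 18), (18, 3, 18), (18, 5, 18), (13, 6, 19), (19, 6, 13), (19, 2, 19), (19, 3, 19), (19, 5, 14), (14, 5, 19), (15, 5, 20), (20, 5, 15), (20, 1, 20), (20, 2, 16), (20, 3, 20), (16, 2, 20), (15, 6, 21), (21, 6, 15), (21, 1, 21), (21, 2, 17), (21, 4, 21), (17, 2, 21), (16, 4, 22), (22, 4, 16), (22, 1, 18), (22, 3, 22), (22, 5, 22), (18, 1, 22), (16, 6, 23), (23, 6, 16), (23, 1, 19), (23, 3, 23), (23, 5, 17), (17, 5, 23), (19, 1, 23), (18, 6, 24), (24, 6, 18), (24, 2, 24), (24, 4, 19), (24, 5, 24), (19, 4, 24), (20, 4, 25), (25, 4, 20), (25, 1, 25), (25, 2, 22), (25, 5, 25), (22, 2, 25), (20, 6, 26), (26, 6, 20), (26, 1, 26), (26, 2,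 23), (26, 5, 21), (21, 5, 26), (23, 2, 26), (21, 3, 27), (27, 3, 21), (27, 1, 27), (27, 2, 27), (27, 6, 27), (22, 6, 28), (28, 6, 22), (28, 1, 24), (28, 4, 23), (28, 5, 28), (24, 1, 28), (23, 4, 28), (24, 3, 29), (29, 3, 24), (29, 4, 29), (29, 5, 29), (29, 6, 29), (25, 3, 30), (30, 3, 25), (30, 1, 30), (30, 2, 30), (30, 4, 30), (30, 5, 30), (25, 6, 31), (31, 6, 25), (31, 1, 31), (31, 2, 28), (31, 4, 26), (31, 5, 31), (28, 2, 31), (26, 4, 31), (26, 3, 32), (32, 3, 26), (32, 1, 32), (32, 2, 32), (32, 5, 27), (32, 6, 32), (27, 5, 32), (27, 4, 33), (33, 4, 27), (33, 1, 33), (33, 2, 33), (33, 3, 33), (33, 6, 33), (28, 3, 34), (34, 3, 28), (34, 1, 29), (34, 4, 34), (34, 5, 34), (34, 6, 34), (29, 1, 34), (29, 2, 35), (35, 2, 29), (35, 3, 35), (35, 4, 35), (35, 5, 35), (35, 6, 35), (30, 6, 36), (36, 6, 30), (36, 1, 36), (36, 2, 36), (36, 4, 36), (36, 5, 36), (31, 3, 37), (37, 3, 31), (37, 1, 37), (37, 5, 37), (32,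 4, 38), (38, 4, 32), (38, 1, 38), (38, 2, 38), (38, 6, 38), (33, 5, 39), (39, 5, 33), (39, 1, 39), (39, 2, 39), (39, 3, 39), (39, 6, 39), (34, 2, 40), (40, 2, 34), (40, 4, 40), (40, 5, 40), (40, 6, 40), (35, 1, 41), (41, 1, 35), (41, 3, 41), (41, 4, 41), (41, 5, 41), (41, 6, 41), (36, 3, 42), (42, 3, 36), (42, 1, 42), (42, 5, 42), (42, 6, 37), (37, 6, 42), (37, 2, 43), (43, 2, 37), (43, 3, 40), (43, 5, 43), (40, 3, 43), (37, 4, 44), (44, 4, 37), (44, 1, 44), (44, 3, 38), (38, 3, 44), (38, 5, 45), (45, 5, 38), (45, 1, 45), (45, 2, 45), (45, 4, 39), (45, 6, 45), (39, 4, 45), (40, 1, 46), (46, 1, 40), (46, 2, 41), (46, 4, 46), (46, 5, 46), (46, 6, 46), (41, 2, 46), (42, 2, 47), (47, 2, 42), (47, 3, 47), (47, 5, 47), (47, 6, 43), (43, 6, 47), (42, 4, 48), (48, 4, 42), (48, 1, 48), (48, 3, 48), (48, 6, 44), (44, 6, 48), (43, 1, 49), (49, 1, 43), (49, 2, 49), (49, 3, 46), (49, 5, 49), (46, 3, 49), (43, 4, 50),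 (50, 4, 43), (50, 2, 44), (50, 3, 50), (44, 2, 50), (44, 5, 51), (51, 5, 44), (51, 1, 51), (51, 3, 45), (51, 4, 51), (45, 3, 51), (47, 1, 52), (52, 1, 47), (52, 2, 52), (52, 3, 52), (52, 5, 52), (52, 6, 49), (49, 6, 52), (47, 4, 53), (53, 4, 47), (53, 2, 48), (53, 6, 50), (50, 6, 53), (48, 2, 53), (48, 5, 54), (54, 5, 48), (54, 1, 54), (54, 3, 54), (54, 4, 54), (54, 6, 51), (51, 6, 54), (49, 4, 55), (55, 4, 49), (55, 1, 50), (55, 2, 55), (55, 3, 55), (50, 1, 55), (50, 5, 56), (56, 5, 50), (56, 2, 51), (56, 3, 56), (56, 4, 56), (51, 2, 56), (52, 4, 57), (57, 4, 52), (57, 1, 53), (57, 2, 57), (57, 6, 55), (55, 6, 57), (53, 1, 57), (53, 3, 58), (58, 3, 53), (58, 2, 58), (58, 4, 58), (58, 6, 58), (53, 5, 59), (59, 5, 53), (59, 2, 54), (59, 4, 59), (59, 6, 56), (56, 6, 59), (54, 2, 59), (55, 5, 60), (60, 5, 55), (60, 1, 56), (60, 2, 60), (60, 3, 60), (60, 4, 60), (56, 1, 60), (57, 3, 61), (61, 3, 57), (61, 1,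 58), (61, 4, 61), (61, 6, 61), (58, 1, 61), (57, 5, 62), (62, 5, 57), (62, 1, 59), (62, 2, 62), (62, 4, 62), (62, 6, 60), (60, 6, 62), (59, 1, 62), (58, 5, 63), (63, 5, 58), (63, 2, 63), (63, 3, 59), (63, 6, 63), (59, 3, 63), (61, 2, 64), (64, 2, 61), (64, 1, 64), (64, 3, 64), (64, 4, 64), (64, 6, 64), (61, 5, 65), (65, 5, 61), (65, 1, 63), (65, 3, 62), (65, 6, 65), (63, 1, 65), (62, 3, 65), (63, 4, 66), (66, 4, 63), (66, 2, 66), (66, 3, 66), (66, 5, 66), (66, 6, 66), (64, 5, 67), (67, 5, 64), (67, 1, 67), (67, 2, 65), (67, 3, 67), (67, 6, 67), (65, 2, 67), (65, 4, 68), (68, 4, 65), (68, 1, 66), (68, 3, 68), (68, 5, 68), (68, 6, 68), (66, 1, 68), (67, 4, 69), (69, 4, 67), (69, 1, 69), (69, 2, 68), (69, 5, 69), (69, 6, 69), (68, 2, 69), (69, 3, 70), (70, 3, 69), (70, 1, 70), (70, 2, 70), (70, 4, 70), (70, 5, 70), (70, 6, 71), (71, 6, 70), (71, 1, 71), (71, 2, 71), (71, 3, 71), (71, 4, 71), (71, 5, 71)] :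 List (ℕ × ℕ × ℕ)).getD t (0, 0, 0)
  just t := ([(2, 0, 0, 0, [], []),
    (2, 0, 1, 0, [], []),
    (2, 0, 2, 0, [], []),
    (2, 0, 3, 0, [], []),
    (2, 0, 4, 0, [], []),
    (0, 0, 0, 0, [], []),
    (1, 0, 15, 0, [10], []),
    (1, 0, 16, 0, [0, 10], [12]),
    (1, 0, 17, 0, [2, 10], [12]),
    (1, 0, 19, 0, [6, 10], [12]),
    (1, 0, 20, 0, [8, 10], [12]),
    (0, 0, 0, 0, [], []),
    (1, 1, 3, 0, [22], []),
    (1, 1, 4, 0, [14, 22], [24]),
    (1, 1, 13, 0, [22], [24, 20]),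
    (1, 1, 18, 0, [22], [24, 12, 4, 10]),
    (0, 0, 0, 0, [], []),
    (1, 2, 1, 0, [32], []),
    (1, 2, 5, 0, [32], [34, 24, 16, 22]),
    (1, 2, 12, 0, [32], [34, 28]),
    (1, 2, 17, 0, [32], [34, 30]),
    (0, 0, 0, 0, [], []),
    (1, 2, 6, 0, [42], []),
    (1, 2, 7, 0, [26, 42], [44]),
    (1, 1, 9, 0, [22, 42], [44, 24, 18]),
    (1, 2, 19, 0, [42], [44, 30]),
    (0, 0, 0, 0, [], []),
    (1, 3, 0, 0, [52], []),
    (1, 3, 2, 0, [52], [54, 34, 26, 32]),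
    (1, 3, 4, 0, [52], [54, 36]),
    (1, 3, 11, 0, [52], [54, 38]),
    (1, 3, 16, 0, [52], [54, 40]),
    (0, 0, 0, 0, [], []),
    (1, 3, 6, 0, [64], []),
    (1, 2, 8, 0, [32, 64], [44]),
    (1, 3, 19, 0, [64], [66, 40]),
    (1, 4, 17, 0, [], [70, 68, 50]),
    (0, 0, 0, 0, [], []),
    (1, 4, 10, 0, [74], []),
    (1, 4, 11, 0, [46, 74], [76]),
    (1, 4, 13, 0, [48, 74], [76]),
    (1, 2, 14, 0, [42, 74], [76, 44, 28]),
    (1, 4, 20, 0, [74], [76, 50]),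
    (0, 0, 0, 0, [], []),
    (1, 5, 6, 0, [86], []),
    (1, 3, 7, 0, [52, 86], [66]),
    (1, 5, 8, 0, [56, 86], [88]),
    (1, 5, 19, 0, [86], [88, 62]),
    (1, 6, 16, 0, [], [94, 90, 70]),
    (0, 0, 0, 0, [], []),
    (1, 6, 3, 0, [98], []),
    (1, 4, 5, 0, [72, 98], [100, 68, 48]),
    (1, 6, 9, 0, [98], [100, 66, 36, 64]),
    (0, 0, 0, 0, [], []),
    (1, 6, 10, 0, [106], []),
    (1, 4, 12, 0, [72, 106], [76]),
    (1, 3, 14, 0, [64, 106], [108, 66, 38]),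
    (1, 6, 20, 0, [106], [108, 70]),
    (1, 7, 17, 0, [], [114, 110, 84]),
    (0, 0, 0, 0, [], []),
    (1, 8, 3, 0, [118], []),
    (1, 6, 4, 0, [96, 118], [100]),
    (1, 8, 9, 0, [118], [120, 88, 58, 86]),
    (1, 9, 7, 0, [], [124, 122, 104]),
    (0, 0, 0, 0, [], []),
    (1, 8, 10, 0, [128], []),
    (1, 6, 11, 0, [96, 128], [108]),
    (1, 8, 12, 0, [92, 128], [130]),
    (1, 5, 14, 0, [86, 128], [130, 88, 60]),
    (1, 8, 20, 0, [128], [130, 94]),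
    (1, 10, 16, 0, [], [138, 132, 114]),
    (0, 0, 0, 0, [], []),
    (1, 9, 10, 0, [142], []),
    (1, 9, 12, 0, [102, 142], [144]),
    (1, 6, 13, 0, [98, 142], [108]),
    (1, 13, 3, 0, [148], []),
    (0, 0, 0, 0, [], []),
    (1, 9, 15, 0, [152], []),
    (1, 9, 17, 0, [102, 152], [154]),
    (1, 6, 18, 0, [98, 152], [154, 100, 70]),
    (1, 9, 19, 0, [104, 152], [154]),
    (0, 0, 0, 0, [], []),
    (1, 11, 1, 0, [162], []),
    (1, 9, 2, 0, [126, 162], [164, 122, 102]),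
    (1, 11, 5, 0, [162], [164, 120, 92, 118]),
    (1, 11, 8, 0, [162], [164, 124]),
    (0, 0, 0, 0, [], []),
    (1, 11, 10, 0, [172], []),
    (1, 9, 11, 0, [126, 172], [144]),
    (1, 8, 13, 0, [118, 172], [130]),
    (1, 16, 3, 0, [178], []),
    (1, 13, 4, 0, [], [178, 132, 150]),
    (0, 0, 0, 0, [], []),
    (1, 11, 15, 0, [184], []),
    (1, 9, 16, 0, [126, 184], [154]),
    (1, 8, 18, 0, [118, 184], [186, 120, 94]),
    (1, 11, 19, 0, [124, 184], [186]),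
    (1, 14, 7, 0, [], [192, 188, 160]),
    (0, 0, 0, 0, [], []),
    (1, 13, 6, 0, [196], []),
    (1, 13, 8, 0, [146, 196], [198]),
    (1, 10, 9, 0, [150, 196], [198, 148, 112]),
    (1, 13, 14, 0, [196], [198, 144, 104, 142]),
    (0, 0, 0, 0, [], []),
    (1, 13, 15, 0, [206], []),
    (1, 13, 17, 0, [146, 206], [208]),
    (1, 10, 18, 0, [150, 206], [208, 148, 114]),
    (1, 9, 20, 0, [142, 206], [154]),
    (1, 19, 10, 0, [214], []),
    (0, 0, 0, 0, [], []),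
    (1, 15, 10, 0, [218], []),
    (1, 15, 11, 0, [166, 218], [220]),
    (1, 11, 12, 0, [162, 218], [174]),
    (1, 15, 13, 0, [168, 218], [220]),
    (1, 16, 5, 0, [], [226, 224, 178, 134, 180]),
    (0, 0, 0, 0, [], []),
    (1, 15, 15, 0, [230], []),
    (1, 15, 16, 0, [166, 230], [232]),
    (1, 11, 17, 0, [162, 230], [186]),
    (1, 15, 19, 0, [170, 230], [232]),
    (1, 17, 8, 0, [], [238, 236, 192]),
    (0, 0, 0, 0, [], []),
    (1, 16, 6, 0, [242], []),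
    (1, 13, 7, 0, [182, 242], [198]),
    (1, 12, 9, 0, [180, 242], [244, 178, 136]),
    (1, 16, 14, 0, [242], [244, 174, 124, 172]),
    (1, 18, 11, 0, [], [250, 246, 204]),
    (0, 0, 0, 0, [], []),
    (1, 16, 15, 0, [254], []),
    (1, 13, 16, 0, [182, 254], [208]),
    (1, 12, 18, 0, [180, 254], [256, 178, 138]),
    (1, 11, 20, 0, [172, 254], [186]),
    (1, 23, 10, 0, [262], []),
    (1, 19, 11, 0, [], [262, 188, 216]),
    (0, 0, 0, 0, [], []),
    (1, 18, 15, 0, [268], []),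
    (1, 18, 17, 0, [200, 268], [270]),
    (1, 13, 19, 0, [196, 268], [208]),
    (1, 18, 20, 0, [204, 268], [270]),
    (1, 19, 14, 0, [], [276, 274, 214, 160, 216]),
    (0, 0, 0, 0, [], []),
    (1, 20, 6, 0, [280], []),
    (1, 20, 7, 0, [222, 280], [282]),
    (1, 16, 8, 0, [228, 280], [244]),
    (1, 20, 14, 0, [280], [282, 220, 170, 218]),
    (1, 22, 12, 0, [], [288, 286, 250]),
    (0, 0, 0, 0, [], []),
    (1, 20, 15, 0, [292], []),
    (1, 20, 16, 0, [222, 292], [294]),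
    (1, 16, 17, 0, [228, 292], [256]),
    (1, 15, 20, 0, [218, 292], [232]),
    (1, 26, 10, 0, [300], []),
    (1, 23, 12, 0, [], [300, 236, 264]),
    (0, 0, 0, 0, [], []),
    (1, 21, 3, 0, [306], []),
    (1, 21, 4, 0, [234, 306], [308]),
    (1, 17, 5, 0, [240, 306], [308, 236, 190]),
    (1, 21, 18, 0, [306], [308, 232, 168, 230]),
    (0, 0, 0, 0, [], []),
    (1, 22, 15, 0, [316], []),
    (1, 18, 16, 0, [252, 316], [270]),
    (1, 16, 19, 0, [242, 316], [256]),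
    (1, 22, 20, 0, [250, 316], [318]),
    (1, 24, 11, 0, [], [324, 320, 276]),
    (1, 23, 14, 0, [], [324, 322, 262, 192, 264]),
    (0, 0, 0, 0, [], []),
    (1, 24, 3, 0, [330], []),
    (1, 24, 9, 0, [330], [332, 274, 212, 278]),
    (1, 24, 13, 0, [330], [332, 276]),
    (1, 24, 18, 0, [330], [332, 270, 202, 268]),
    (0, 0, 0, 0, [], []),
    (1, 25, 3, 0, [340], []),
    (1, 25, 4, 0, [284, 340], [342]),
    (1, 22, 5, 0, [290, 340], [342, 286, 248]),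
    (1, 25, 9, 0, [340], [342, 282, 226, 280]),
    (1, 25, 13, 0, [340], [342, 288]),
    (0, 0, 0, 0, [], []),
    (1, 25, 15, 0, [352], []),
    (1, 25, 16, 0, [284, 352], [354]),
    (1, 22, 17, 0, [290, 352], [318]),
    (1, 20, 19, 0, [280, 352], [294]),
    (1, 25, 20, 0, [288, 352], [354]),
    (1, 28, 12, 0, [], [362, 358, 324]),
    (1, 26, 14, 0, [], [362, 360, 300, 238, 302]),
    (0, 0, 0, 0, [], []),
    (1, 26, 3, 0, [368], []),
    (1, 26, 4, 0, [296, 368], [370]),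
    (1, 23, 5, 0, [304, 368], [370, 298, 260]),
    (1, 26, 13, 0, [368], [308, 302]),
    (1, 26, 18, 0, [368], [370, 294, 226, 292]),
    (1, 27, 20, 0, [], [378, 376, 314]),
    (0, 0, 0, 0, [], []),
    (1, 27, 6, 0, [382], []),
    (1, 27, 7, 0, [310, 382], [384]),
    (1, 27, 8, 0, [312, 382], [384]),
    (1, 21, 9, 0, [306, 382], [384, 308, 238]),
    (1, 27, 19, 0, [382], [384, 314]),
    (0, 0, 0, 0, [], []),
    (1, 28, 3, 0, [394], []),
    (1, 24, 4, 0, [326, 394], [332]),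
    (1, 28, 9, 0, [394], [396, 322, 260, 328]),
    (1, 28, 13, 0, [394], [396, 324]),
    (1, 28, 18, 0, [394], [396, 318, 248, 316]),
    (1, 29, 16, 0, [], [404, 398, 338]),
    (0, 0, 0, 0, [], []),
    (1, 29, 1, 0, [408], []),
    (1, 29, 5, 0, [408], [410, 332, 272, 330]),
    (1, 29, 8, 0, [408], [410, 334]),
    (1, 29, 12, 0, [408], [410, 336]),
    (1, 29, 17, 0, [408], [410, 338]),
    (0, 0, 0, 0, [], []),
    (1, 30, 15, 0, [420], []),
    (1, 30, 16, 0, [344, 420], [422]),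
    (1, 30, 17, 0, [346, 420], [422]),
    (1, 30, 19, 0, [348, 420], [422]),
    (1, 30, 20, 0, [350, 420], [422]),
    (0, 0, 0, 0, [], []),
    (1, 31, 3, 0, [432], []),
    (1, 31, 4, 0, [356, 432], [434]),
    (1, 31, 13, 0, [432], [434, 362]),
    (0, 0, 0, 0, [], []),
    (1, 32, 6, 0, [440], []),
    (1, 32, 7, 0, [372, 440], [442]),
    (1, 32, 8, 0, [374, 440], [442]),
    (1, 32, 19, 0, [440], [442, 378]),
    (0, 0, 0, 0, [], []),
    (1, 33, 10, 0, [450], []),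
    (1, 33, 11, 0, [386, 450], [452]),
    (1, 33, 12, 0, [388, 450], [452]),
    (1, 33, 13, 0, [390, 450], [452]),
    (1, 33, 20, 0, [450], [452, 392]),
    (0, 0, 0, 0, [], []),
    (1, 34, 1, 0, [462], []),
    (1, 34, 8, 0, [462], [464, 400]),
    (1, 34, 12, 0, [462], [464, 402]),
    (1, 34, 17, 0, [462], [464, 404]),
    (0, 0, 0, 0, [], []),
    (1, 35, 0, 0, [472], []),
    (1, 35, 4, 0, [472], [474, 412]),
    (1, 35, 7, 0, [472], [474, 414]),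
    (1, 35, 11, 0, [472], [474, 416]),
    (1, 35, 16, 0, [472], [474, 418]),
    (0, 0, 0, 0, [], []),
    (1, 36, 3, 0, [484], []),
    (1, 36, 4, 0, [424, 484], [486]),
    (1, 36, 13, 0, [484], [486, 430]),
    (1, 36, 18, 0, [484], [434, 354, 340, 420]),
    (1, 42, 15, 0, [492], []),
    (0, 0, 0, 0, [], []),
    (1, 37, 1, 0, [496], []),
    (1, 37, 5, 0, [496], [464, 396, 364, 432]),
    (1, 37, 12, 0, [496], [498, 438]),
    (1, 40, 13, 0, [], [502, 500, 468]),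
    (0, 0, 0, 0, [], []),
    (1, 37, 6, 0, [506], []),
    (1, 37, 7, 0, [436, 506], [508]),
    (1, 31, 9, 0, [432, 506], [442, 370, 366]),
    (1, 44, 3, 0, [512], []),
    (0, 0, 0, 0, [], []),
    (1, 38, 10, 0, [516], []),
    (1, 38, 11, 0, [444, 516], [518]),
    (1, 38, 12, 0, [446, 516], [518]),
    (1, 32, 14, 0, [440, 516], [452, 384, 380]),
    (1, 38, 20, 0, [516], [518, 448]),
    (1, 39, 19, 0, [], [526, 524, 460]),
    (0, 0, 0, 0, [], []),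
    (1, 40, 0, 0, [530], []),
    (1, 40, 2, 0, [530], [474, 410, 406, 462]),
    (1, 40, 7, 0, [530], [532, 466]),
    (1, 40, 11, 0, [530], [532, 468]),
    (1, 40, 16, 0, [530], [532, 470]),
    (1, 41, 17, 0, [], [540, 534, 482]),
    (0, 0, 0, 0, [], []),
    (1, 42, 1, 0, [544], []),
    (1, 42, 5, 0, [544], [546, 486, 426, 484]),
    (1, 42, 12, 0, [544], [546, 490]),
    (1, 42, 17, 0, [544], [498, 494]),
    (1, 47, 15, 0, [552], []),
    (0, 0, 0, 0, [], []),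
    (1, 42, 6, 0, [556], []),
    (1, 42, 7, 0, [488, 556], [558]),
    (1, 36, 9, 0, [484, 556], [558, 486, 428]),
    (1, 42, 19, 0, [556], [508, 494]),
    (1, 48, 15, 0, [564], []),
    (0, 0, 0, 0, [], []),
    (1, 43, 0, 0, [568], []),
    (1, 43, 2, 0, [568], [570, 498, 436, 496]),
    (1, 43, 4, 0, [568], [532, 504]),
    (1, 43, 11, 0, [568], [570, 502]),
    (1, 46, 13, 0, [], [576, 574, 538]),
    (0, 0, 0, 0, [], []),
    (1, 43, 6, 0, [580], []),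
    (1, 37, 8, 0, [496, 580], [508]),
    (1, 40, 9, 0, [504, 580], [582, 500, 466]),
    (1, 44, 5, 0, [], [586, 584, 512, 446, 514]),
    (0, 0, 0, 0, [], []),
    (1, 44, 10, 0, [590], []),
    (1, 44, 11, 0, [510, 590], [592]),
    (1, 38, 13, 0, [514, 590], [518]),
    (1, 37, 14, 0, [506, 590], [592, 508, 438]),
    (1, 45, 9, 0, [], [598, 596, 524, 458, 528]),
    (0, 0, 0, 0, [], []),
    (1, 47, 0, 0, [602], []),
    (1, 47, 2, 0, [602], [604, 546, 488, 544]),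
    (1, 47, 4, 0, [602], [604, 548]),
    (1, 47, 11, 0, [602], [604, 550]),
    (1, 47, 16, 0, [602], [570, 554]),
    (1, 52, 15, 0, [612], []),
    (0, 0, 0, 0, [], []),
    (1, 47, 6, 0, [616], []),
    (1, 42, 8, 0, [544, 616], [558]),
    (1, 47, 19, 0, [616], [582, 554]),
    (1, 53, 15, 0, [622], []),
    (1, 48, 17, 0, [], [622, 584, 566]),
    (0, 0, 0, 0, [], []),
    (1, 48, 10, 0, [628], []),
    (1, 48, 11, 0, [560, 628], [630]),
    (1, 48, 13, 0, [562, 628], [630]),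
    (1, 42, 14, 0, [556, 628], [630, 558, 490]),
    (1, 48, 20, 0, [628], [592, 566]),
    (1, 54, 15, 0, [638], []),
    (0, 0, 0, 0, [], []),
    (1, 49, 6, 0, [642], []),
    (1, 43, 7, 0, [568, 642], [582]),
    (1, 49, 8, 0, [572, 642], [644]),
    (1, 46, 9, 0, [578, 642], [644, 574, 536]),
    (1, 50, 4, 0, [], [650, 646, 586]),
    (0, 0, 0, 0, [], []),
    (1, 50, 10, 0, [654], []),
    (1, 44, 12, 0, [588, 654], [592]),
    (1, 50, 13, 0, [586, 654], [656]),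
    (1, 43, 14, 0, [580, 654], [656, 582, 502]),
    (1, 51, 8, 0, [], [662, 658, 598]),
    (0, 0, 0, 0, [], []),
    (1, 52, 6, 0, [666], []),
    (1, 47, 7, 0, [602, 666], [618]),
    (1, 52, 8, 0, [606, 666], [668]),
    (1, 52, 19, 0, [666], [644, 614]),
    (1, 57, 15, 0, [674], []),
    (1, 53, 16, 0, [], [674, 646, 624]),
    (0, 0, 0, 0, [], []),
    (1, 53, 3, 0, [680], []),
    (1, 48, 5, 0, [626, 680], [682, 620, 562]),
    (1, 53, 9, 0, [680], [682, 618, 548, 616]),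
    (1, 53, 18, 0, [680], [682, 622, 586, 624]),
    (0, 0, 0, 0, [], []),
    (1, 53, 10, 0, [690], []),
    (1, 48, 12, 0, [626, 690], [630]),
    (1, 47, 14, 0, [616, 690], [692, 618, 550]),
    (1, 53, 20, 0, [690], [656, 624]),
    (1, 59, 15, 0, [698], []),
    (1, 54, 17, 0, [], [698, 658, 640]),
    (0, 0, 0, 0, [], []),
    (1, 55, 10, 0, [704], []),
    (1, 50, 11, 0, [652, 704], [656]),
    (1, 55, 12, 0, [648, 704], [706]),
    (1, 55, 13, 0, [650, 704], [706]),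
    (1, 49, 14, 0, [642, 704], [706, 644, 576]),
    (1, 56, 7, 0, [], [714, 708, 662]),
    (0, 0, 0, 0, [], []),
    (1, 57, 3, 0, [718], []),
    (1, 53, 4, 0, [678, 718], [682]),
    (1, 57, 9, 0, [718], [720, 668, 608, 666]),
    (1, 57, 18, 0, [718], [720, 674, 650, 676]),
    (1, 58, 16, 0, [], [726, 722, 688]),
    (0, 0, 0, 0, [], []),
    (1, 57, 10, 0, [730], []),
    (1, 53, 11, 0, [678, 730], [692]),
    (1, 57, 12, 0, [672, 730], [732]),
    (1, 52, 14, 0, [666, 730], [732, 668, 610]),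
    (1, 57, 20, 0, [730], [706, 676]),
    (1, 62, 15, 0, [740], []),
    (1, 59, 16, 0, [], [740, 708, 700]),
    (0, 0, 0, 0, [], []),
    (1, 58, 10, 0, [746], []),
    (1, 58, 12, 0, [684, 746], [748]),
    (1, 53, 13, 0, [680, 746], [692]),
    (1, 58, 20, 0, [746], [748, 688]),
    (1, 59, 18, 0, [], [754, 752, 698, 660, 700]),
    (0, 0, 0, 0, [], []),
    (1, 61, 1, 0, [758], []),
    (1, 58, 2, 0, [728, 758], [760, 722, 684]),
    (1, 61, 5, 0, [758], [760, 720, 672, 718]),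
    (1, 61, 8, 0, [758], [760, 724]),
    (1, 61, 17, 0, [758], [760, 726]),
    (0, 0, 0, 0, [], []),
    (1, 61, 10, 0, [770], []),
    (1, 58, 11, 0, [728, 770], [748]),
    (1, 57, 13, 0, [718, 770], [732]),
    (1, 61, 20, 0, [770], [772, 726]),
    (1, 63, 16, 0, [], [778, 774, 754]),
    (1, 62, 18, 0, [], [778, 776, 740, 712, 742]),
    (0, 0, 0, 0, [], []),
    (1, 63, 6, 0, [784], []),
    (1, 63, 8, 0, [750, 784], [786]),
    (1, 59, 9, 0, [756, 784], [786, 752, 696]),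
    (1, 63, 14, 0, [784], [786, 748, 686, 746]),
    (1, 63, 19, 0, [784], [786, 754]),
    (0, 0, 0, 0, [], []),
    (1, 64, 10, 0, [796], []),
    (1, 64, 11, 0, [762, 796], [798]),
    (1, 61, 12, 0, [758, 796], [772]),
    (1, 64, 13, 0, [764, 796], [798]),
    (1, 64, 20, 0, [796], [798, 768]),
    (1, 65, 17, 0, [], [806, 802, 778]),
    (0, 0, 0, 0, [], []),
    (1, 65, 6, 0, [810], []),
    (1, 63, 7, 0, [780, 810], [786]),
    (1, 62, 9, 0, [782, 810], [812, 776, 738]),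
    (1, 65, 14, 0, [810], [812, 772, 724, 770]),
    (1, 65, 19, 0, [810], [812, 778]),
    (1, 66, 16, 0, [], [820, 814, 794]),
    (0, 0, 0, 0, [], []),
    (1, 67, 6, 0, [824], []),
    (1, 67, 7, 0, [800, 824], [826]),
    (1, 65, 8, 0, [808, 824], [812]),
    (1, 67, 14, 0, [824], [826, 798, 766, 796]),
    (1, 67, 19, 0, [824], [826, 806]),
    (1, 68, 17, 0, [], [834, 830, 820]),
    (0, 0, 0, 0, [], []),
    (1, 69, 3, 0, [838], []),
    (1, 69, 4, 0, [828, 838], [840]),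
    (1, 68, 5, 0, [836, 838], [840, 830, 816]),
    (1, 69, 9, 0, [838], [840, 826, 804, 824]),
    (1, 69, 13, 0, [838], [840, 832]),
    (0, 0, 0, 0, [], []),
    (1, 70, 15, 0, [850], []),
    (1, 70, 16, 0, [842, 850], [852]),
    (1, 70, 17, 0, [844, 850], [852]),
    (1, 69, 18, 0, [838, 850], [852, 840, 834]),
    (1, 70, 19, 0, [846, 850], [852]),
    (1, 70, 20, 0, [848, 850], [852])] : List (ℕ × ℕ × ℕ × ℕ × List ℕ × List ℕ)).getD t (0, 0, 0, 0, [], [])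
  nfacts := 432
  liv k := ([0, 1, 2, 3, 4, 5, 6, 7, 8, 9, 10, 11, 12, 13, 14, 15, 16, 17, 18, 19, 20, 21, 22, 23, 24, 25, 26, 27, 28, 29, 30, 31, 32, 33, 34, 35, 36, 37, 38, 39, 40, 41, 42, 43, 44, 45, 46, 47, 48, 49, 50, 51, 52, 53, 54, 55, 56, 57, 58, 59, 60, 61, 62, 63, 64, 65, 66, 67, 68, 69, 70, 71] : List ℕ).getD k 0
  nliv := 72
  fin k c := (([[(0, 0), (1, 0), (2, 0), (3, 0), (4, 0), (5, 0), (6, 0), (7, 0), (8, 0), (9, 0), (10, 1), (13, 1)],
    [(14, 1), (15, 1), (16, 1), (17, 1), (22, 2), (25, 2), (18, 1), (19, 1), (20, 1), (21, 1), (12, 0), (11, 0)],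
    [(26, 2), (27, 2), (32, 3), (35, 3), (24, 1), (23, 1), (42, 4), (45, 4), (28, 2), (29, 2), (30, 2), (31, 2)],
    [(52, 5), (55, 5), (34, 2), (33, 2), (36, 3), (37, 3), (64, 6), (67, 6), (38, 3), (39, 3), (40, 3), (41, 3)],
    [(46, 4), (47, 4), (72, 6), (69, 6), (48, 4), (49, 4), (44, 2), (43, 2), (74, 7), (77, 7), (50, 4), (51, 4)],
    [(54, 3), (53, 3), (56, 5), (57, 5), (58, 5), (59, 5), (86, 8), (89, 8), (60, 5), (61, 5), (62, 5), (63, 5)],
    [(96, 8), (91, 8), (68, 4), (73, 4), (98, 9), (101, 9), (66, 3), (65, 3), (106, 10), (109, 10), (70, 6), (71, 6)],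
    [(78, 7), (79, 7), (116, 10), (111, 10), (80, 7), (81, 7), (82, 7), (83, 7), (76, 4), (75, 4), (84, 7), (85, 7)],
    [(90, 6), (97, 6), (92, 8), (93, 8), (118, 11), (121, 11), (88, 5), (87, 5), (128, 12), (131, 12), (94, 8), (95, 8)],
    [(126, 11), (123, 11), (102, 9), (103, 9), (100, 6), (99, 6), (104, 9), (105, 9), (142, 13), (145, 13), (152, 14), (155, 14)],
    [(140, 12), (133, 12), (110, 7), (117, 7), (150, 13), (149, 13), (112, 10), (113, 10), (108, 6), (107, 6), (114, 10), (115, 10)],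
    [(122, 9), (127, 9), (162, 15), (165, 15), (120, 8), (119, 8), (124, 11), (125, 11), (172, 16), (175, 16), (184, 17), (187, 17)],
    [(132, 10), (141, 10), (134, 12), (135, 12), (180, 16), (179, 16), (136, 12), (137, 12), (130, 8), (129, 8), (138, 12), (139, 12)],
    [(182, 16), (177, 16), (146, 13), (147, 13), (148, 10), (151, 10), (196, 18), (199, 18), (144, 9), (143, 9), (206, 19), (209, 19)],
    [(194, 17), (189, 17), (156, 14), (157, 14), (158, 14), (159, 14), (160, 14), (161, 14), (216, 19), (215, 19), (154, 9), (153, 9)],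
    [(166, 15), (167, 15), (164, 11), (163, 11), (168, 15), (169, 15), (170, 15), (171, 15), (218, 20), (221, 20), (230, 21), (233, 21)],
    [(176, 13), (183, 13), (228, 20), (225, 20), (178, 12), (181, 12), (242, 22), (245, 22), (174, 11), (173, 11), (254, 23), (257, 23)],
    [(188, 14), (195, 14), (240, 21), (237, 21), (190, 17), (191, 17), (192, 17), (193, 17), (264, 23), (263, 23), (186, 11), (185, 11)],
    [(252, 22), (247, 22), (200, 18), (201, 18), (202, 18), (203, 18), (198, 13), (197, 13), (204, 18), (205, 18), (268, 24), (271, 24)],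
    [(266, 23), (259, 23), (210, 19), (211, 19), (212, 19), (213, 19), (278, 24), (275, 24), (214, 14), (217, 14), (208, 13), (207, 13)],
    [(222, 20), (223, 20), (224, 16), (229, 16), (226, 20), (227, 20), (280, 25), (283, 25), (220, 15), (219, 15), (292, 26), (295, 26)],
    [(234, 21), (235, 21), (236, 17), (241, 17), (306, 27), (309, 27), (238, 21), (239, 21), (302, 26), (301, 26), (232, 15), (231, 15)],
    [(246, 18), (253, 18), (290, 25), (287, 25), (248, 22), (249, 22), (244, 16), (243, 16), (250, 22), (251, 22), (316, 28), (319, 28)],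
    [(258, 19), (267, 19), (304, 26), (299, 26), (260, 23), (261, 23), (328, 28), (323, 28), (262, 17), (265, 17), (256, 16), (255, 16)],
    [(326, 28), (321, 28), (272, 24), (273, 24), (330, 29), (333, 29), (274, 19), (279, 19), (276, 24), (277, 24), (270, 18), (269, 18)],
    [(284, 25), (285, 25), (286, 22), (291, 22), (340, 30), (343, 30), (282, 20), (281, 20), (288, 25), (289, 25), (352, 31), (355, 31)],
    [(296, 26), (297, 26), (298, 23), (305, 23), (368, 32), (371, 32), (366, 31), (361, 31), (300, 21), (303, 21), (294, 20), (293, 20)],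
    [(310, 27), (311, 27), (312, 27), (313, 27), (308, 21), (307, 21), (382, 33), (385, 33), (380, 32), (377, 32), (314, 27), (315, 27)],
    [(320, 24), (327, 24), (364, 31), (359, 31), (394, 34), (397, 34), (322, 23), (329, 23), (324, 28), (325, 28), (318, 22), (317, 22)],
    [(406, 34), (399, 34), (408, 35), (411, 35), (332, 24), (331, 24), (334, 29), (335, 29), (336, 29), (337, 29), (338, 29), (339, 29)],
    [(344, 30), (345, 30), (346, 30), (347, 30), (342, 25), (341, 25), (348, 30), (349, 30), (350, 30), (351, 30), (420, 36), (423, 36)],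
    [(356, 31), (357, 31), (358, 28), (365, 28), (432, 37), (435, 37), (360, 26), (367, 26), (362, 31), (363, 31), (354, 25), (353, 25)],
    [(372, 32), (373, 32), (374, 32), (375, 32), (370, 26), (369, 26), (440, 38), (443, 38), (376, 27), (381, 27), (378, 32), (379, 32)],
    [(386, 33), (387, 33), (388, 33), (389, 33), (390, 33), (391, 33), (384, 27), (383, 27), (450, 39), (453, 39), (392, 33), (393, 33)],
    [(398, 29), (407, 29), (462, 40), (465, 40), (396, 28), (395, 28), (400, 34), (401, 34), (402, 34), (403, 34), (404, 34), (405, 34)],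
    [(472, 41), (475, 41), (410, 29), (409, 29), (412, 35), (413, 35), (414, 35), (415, 35), (416, 35), (417, 35), (418, 35), (419, 35)],
    [(424, 36), (425, 36), (426, 36), (427, 36), (484, 42), (487, 42), (428, 36), (429, 36), (430, 36), (431, 36), (422, 30), (421, 30)],
    [(436, 37), (437, 37), (496, 43), (499, 43), (434, 31), (433, 31), (506, 44), (509, 44), (438, 37), (439, 37), (494, 42), (493, 42)],
    [(444, 38), (445, 38), (446, 38), (447, 38), (514, 44), (513, 44), (442, 32), (441, 32), (516, 45), (519, 45), (448, 38), (449, 38)],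
    [(454, 39), (455, 39), (456, 39), (457, 39), (458, 39), (459, 39), (528, 45), (525, 45), (452, 33), (451, 33), (460, 39), (461, 39)],
    [(530, 46), (533, 46), (464, 34), (463, 34), (504, 43), (501, 43), (466, 40), (467, 40), (468, 40), (469, 40), (470, 40), (471, 40)],
    [(474, 35), (473, 35), (542, 46), (535, 46), (476, 41), (477, 41), (478, 41), (479, 41), (480, 41), (481, 41), (482, 41), (483, 41)],
    [(488, 42), (489, 42), (544, 47), (547, 47), (486, 36), (485, 36), (556, 48), (559, 48), (490, 42), (491, 42), (492, 37), (495, 37)],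
    [(568, 49), (571, 49), (498, 37), (497, 37), (500, 40), (505, 40), (580, 50), (583, 50), (502, 43), (503, 43), (554, 47), (553, 47)],
    [(510, 44), (511, 44), (588, 50), (585, 50), (512, 38), (515, 38), (508, 37), (507, 37), (590, 51), (593, 51), (566, 48), (565, 48)],
    [(520, 45), (521, 45), (522, 45), (523, 45), (600, 51), (597, 51), (524, 39), (529, 39), (518, 38), (517, 38), (526, 45), (527, 45)],
    [(532, 40), (531, 40), (534, 41), (543, 41), (578, 49), (575, 49), (536, 46), (537, 46), (538, 46), (539, 46), (540, 46), (541, 46)],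
    [(602, 52), (605, 52), (546, 42), (545, 42), (548, 47), (549, 47), (616, 53), (619, 53), (550, 47), (551, 47), (552, 43), (555, 43)],
    [(560, 48), (561, 48), (626, 53), (621, 53), (562, 48), (563, 48), (558, 42), (557, 42), (628, 54), (631, 54), (564, 44), (567, 44)],
    [(570, 43), (569, 43), (572, 49), (573, 49), (574, 46), (579, 46), (642, 55), (645, 55), (576, 49), (577, 49), (614, 52), (613, 52)],
    [(652, 55), (647, 55), (584, 44), (589, 44), (586, 50), (587, 50), (582, 43), (581, 43), (654, 56), (657, 56), (624, 53), (623, 53)],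
    [(594, 51), (595, 51), (664, 56), (659, 56), (596, 45), (601, 45), (598, 51), (599, 51), (592, 44), (591, 44), (640, 54), (639, 54)],
    [(604, 47), (603, 47), (606, 52), (607, 52), (608, 52), (609, 52), (666, 57), (669, 57), (610, 52), (611, 52), (612, 49), (615, 49)],
    [(678, 57), (671, 57), (620, 48), (627, 48), (680, 58), (683, 58), (618, 47), (617, 47), (690, 59), (693, 59), (622, 50), (625, 50)],
    [(632, 54), (633, 54), (702, 59), (695, 59), (634, 54), (635, 54), (636, 54), (637, 54), (630, 48), (629, 48), (638, 51), (641, 51)],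
    [(646, 50), (653, 50), (648, 55), (649, 55), (650, 55), (651, 55), (644, 49), (643, 49), (704, 60), (707, 60), (676, 57), (675, 57)],
    [(716, 60), (709, 60), (658, 51), (665, 51), (660, 56), (661, 56), (662, 56), (663, 56), (656, 50), (655, 50), (700, 59), (699, 59)],
    [(670, 53), (679, 53), (672, 57), (673, 57), (718, 61), (721, 61), (668, 52), (667, 52), (730, 62), (733, 62), (674, 55), (677, 55)],
    [(728, 61), (723, 61), (684, 58), (685, 58), (682, 53), (681, 53), (686, 58), (687, 58), (746, 63), (749, 63), (688, 58), (689, 58)],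
    [(744, 62), (735, 62), (694, 54), (703, 54), (756, 63), (753, 63), (696, 59), (697, 59), (692, 53), (691, 53), (698, 56), (701, 56)],
    [(708, 56), (717, 56), (710, 60), (711, 60), (712, 60), (713, 60), (714, 60), (715, 60), (706, 55), (705, 55), (742, 62), (741, 62)],
    [(722, 58), (729, 58), (758, 64), (761, 64), (720, 57), (719, 57), (724, 61), (725, 61), (770, 65), (773, 65), (726, 61), (727, 61)],
    [(734, 59), (745, 59), (736, 62), (737, 62), (782, 65), (777, 65), (738, 62), (739, 62), (732, 57), (731, 57), (740, 60), (743, 60)],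
    [(780, 65), (775, 65), (750, 63), (751, 63), (752, 59), (757, 59), (784, 66), (787, 66), (748, 58), (747, 58), (754, 63), (755, 63)],
    [(762, 64), (763, 64), (760, 61), (759, 61), (764, 64), (765, 64), (766, 64), (767, 64), (796, 67), (799, 67), (768, 64), (769, 64)],
    [(774, 63), (781, 63), (808, 67), (803, 67), (776, 62), (783, 62), (810, 68), (813, 68), (772, 61), (771, 61), (778, 65), (779, 65)],
    [(822, 68), (815, 68), (788, 66), (789, 66), (790, 66), (791, 66), (786, 63), (785, 63), (792, 66), (793, 66), (794, 66), (795, 66)],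
    [(800, 67), (801, 67), (802, 65), (809, 65), (804, 67), (805, 67), (824, 69), (827, 69), (798, 64), (797, 64), (806, 67), (807, 67)],
    [(814, 66), (823, 66), (836, 69), (831, 69), (816, 68), (817, 68), (812, 65), (811, 65), (818, 68), (819, 68), (820, 68), (821, 68)],
    [(828, 69), (829, 69), (830, 68), (837, 68), (838, 70), (841, 70), (826, 67), (825, 67), (832, 69), (833, 69), (834, 69), (835, 69)],
    [(842, 70), (843, 70), (844, 70), (845, 70), (840, 69), (839, 69), (846, 70), (847, 70), (848, 70), (849, 70), (850, 71), (853, 71)],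
    [(854, 71), (855, 71), (856, 71), (857, 71), (858, 71), (859, 71), (860, 71), (861, 71), (862, 71), (863, 71), (852, 70), (851, 70)]] : List (List (ℕ × ℕ))).getD k []).getD (c - 2) (0, 0)

def l6W : List (List ℕ) := [[], [12], [12, 6], [12, 6, 4], [12, 6, 8], [12, 6, 4, 2], [12, 6, 4, 8], [12, 6, 8, 10], [12, 6, 4, 2, 8], [12, 6, 4, 8, 6], [12, 6, 4, 8, 10], [12, 6, 4, 2, 8, 6], [12, 6, 4, 2, 8, 10], [12, 6, 4, 8, 6, 10], [12, 6, 4, 8, 6, 12], [12, 6, 4, 2, 8, 6, 4], [12, 6, 4, 2, 8, 6, 10], [12, 6, 4, 2, 8, 6, 12], [12, 6, 4, 8, 6, 10, 8], [12, 6, 4, 8, 6, 10, 12], [12, 6, 4, 2, 8, 6, 4, 10], [12, 6, 4, 2, 8, 6, 4, 12], [12, 6, 4, 2, 8, 6, 10, 8], [12, 6, 4, 2, 8, 6, 10, 12], [12, 6, 4, 8, 6, 10, 8, 12], [12, 6, 4, 2, 8, 6, 4, 10, 8], [12, 6, 4, 2, 8, 6, 4, 10, 12], [12, 6, 4, 2, 8, 6, 4, 12, 6], [12, 6, 4, 2, 8, 6, 10, 8, 12], [12, 6, 4, 8, 6, 10, 8, 12, 6], [12, 6, 4, 2, 8, 6, 4, 10, 8, 6], [12, 6,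 4, 2, 8, 6, 4, 10, 8, 12], [12, 6, 4, 2, 8, 6, 4, 10, 12, 6], [12, 6, 4, 2, 8, 6, 4, 12, 6, 8], [12, 6, 4, 2, 8, 6, 10, 8, 12, 6], [12, 6, 4, 8, 6, 10, 8, 12, 6, 4], [12, 6, 4, 2, 8, 6, 4, 10, 8, 6, 12], [12, 6, 4, 2, 8, 6, 4, 10, 8, 12, 6], [12, 6, 4, 2, 8, 6, 4, 10, 12, 6, 8], [12, 6, 4, 2, 8, 6, 4, 12, 6, 8, 10], [12, 6, 4, 2, 8, 6, 10, 8, 12, 6, 4], [12, 6, 4, 8, 6, 10, 8, 12, 6, 4, 2], [12, 6, 4, 2, 8, 6, 4, 10, 8, 6, 12, 6], [12, 6, 4, 2, 8, 6, 4, 10, 8, 12, 6, 4], [12, 6, 4, 2, 8, 6, 4, 10, 8, 12, 6, 8], [12, 6, 4, 2, 8, 6, 4, 10, 12, 6, 8, 10], [12, 6, 4, 2, 8, 6, 10, 8, 12, 6, 4, 2], [12, 6, 4, 2, 8, 6, 4, 10, 8, 6, 12, 6, 4], [12, 6, 4, 2, 8, 6, 4, 10, 8, 6, 12, 6, 8], [12, 6, 4, 2, 8, 6, 4, 10, 8, 12, 6, 4, 2], [12, 6, 4, 2, 8, 6, 4, 10, 8, 12, 6, 4, 8], [12, 6, 4, 2, 8, 6, 4, 10, 8, 12, 6, 8, 10], [12, 6, 4, 2, 8, 6, 4, 10, 8, 6, 12, 6, 4, 2], [12, 6, 4, 2, 8, 6, 4, 10, 8, 6, 12, 6, 4, 8], [12,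 6, 4, 2, 8, 6, 4, 10, 8, 6, 12, 6, 8, 10], [12, 6, 4, 2, 8, 6, 4, 10, 8, 12, 6, 4, 2, 8], [12, 6, 4, 2, 8, 6, 4, 10, 8, 12, 6, 4, 8, 10], [12, 6, 4, 2, 8, 6, 4, 10, 8, 6, 12, 6, 4, 2, 8], [12, 6, 4, 2, 8, 6, 4, 10, 8, 6, 12, 6, 4, 8, 6], [12, 6, 4, 2, 8, 6, 4, 10, 8, 6, 12, 6, 4, 8, 10], [12, 6, 4, 2, 8, 6, 4, 10, 8, 12, 6, 4, 2, 8, 10], [12, 6, 4, 2, 8, 6, 4, 10, 8, 6, 12, 6, 4, 2, 8, 6], [12, 6, 4, 2, 8, 6, 4, 10, 8, 6, 12, 6, 4, 2, 8, 10], [12, 6, 4, 2, 8, 6, 4, 10, 8, 6, 12, 6, 4, 8, 6, 10], [12, 6, 4, 2, 8, 6, 4, 10, 8, 6, 12, 6, 4, 2, 8, 6, 4], [12, 6, 4, 2, 8, 6, 4, 10, 8, 6, 12, 6, 4, 2, 8, 6, 10], [12, 6, 4, 2, 8, 6, 4, 10, 8, 6, 12, 6, 4, 8, 6, 10, 8], [12, 6, 4, 2, 8, 6, 4, 10, 8, 6, 12, 6, 4, 2, 8, 6, 4, 10], [12, 6, 4, 2, 8, 6, 4, 10, 8, 6, 12, 6, 4, 2, 8, 6, 10, 8], [12, 6, 4, 2, 8, 6, 4, 10, 8, 6, 12, 6, 4, 2, 8, 6, 4, 10, 8], [12, 6, 4, 2, 8, 6, 4, 10, 8, 6, 12, 6, 4, 2, 8, 6, 4, 10, 8, 6],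 [12, 6, 4, 2, 8, 6, 4, 10, 8, 6, 12, 6, 4, 2, 8, 6, 4, 10, 8, 6, 12]]

theorem l6_chk : check (R6 ++ trivRels 6) (subLetters 5) 6 l6C = true := by
  decide +kernel

theorem l6_cos {G : Type*} [Group G] {val : ℕ → G} (h0 : val 0 = 1) (hR : RelsHold val R6) :
    Cosets val 5 6 l6W :=
  cosets_of_check h0 hR l6_chk (F := 72) (by decide +kernel)

def l7C : CfsgH3.TC.Cert where
  par j := ([(0, 0), (0, 14), (1, 10), (2, 8), (3, 6), (4, 4), (4, 12), (5, 2), (5, 12), (7, 12), (8, 6), (9, 6), (10, 8), (11, 4), (11, 8), (12, 10), (13, 8), (14, 10), (15, 14), (16, 6), (16, 10), (17, 14), (19, 10), (19, 12), (20, 14), (22, 8), (22, 12), (22, 14), (25, 12), (25, 14), (26, 14), (28, 6), (28, 14), (29, 10), (31, 4), (31, 14), (32, 10), (34, 2), (34, 14), (35, 10), (37, 14), (38, 10), (39, 8), (40, 10), (41, 8), (43, 8), (44, 6), (45, 6), (46, 12), (47, 4), (47, 12), (49, 12), (51, 6), (52, 8), (53, 10), (54, 14)] : List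 (ℕ × ℕ)).getD j (0, 0)
  fact t := ([(0, 1, 0), (0, 2, 0), (0, 3, 0), (0, 4, 0), (0, 5, 0), (0, 6, 0), (0, 7, 1), (1, 7, 0), (1, 1, 1), (1, 2, 1), (1, 3, 1), (1, 4, 1), (1, 6, 1), (1, 5, 2), (2, 5, 1), (2, 1, 2), (2, 2, 2), (2, 3, 2), (2, 6, 2), (2, 7, 2), (2, 4, 3), (3, 4, 2), (3, 1, 3), (3, 2, 3), (3, 5, 3), (3, 6, 3), (3, 7, 3), (3, 3, 4), (4, 3, 3), (4, 1, 4), (4, 4, 4), (4, 5, 4), (4, 7, 4), (4, 2, 5), (5, 2, 4), (5, 3, 5), (5, 4, 5), (5, 5, 5), (5, 7, 5), (4, 6, 6), (6, 6, 4), (6, 1, 6), (6, 3, 6), (6, 4, 6), (6, 5, 6), (6, 7, 6), (5, 1, 7), (7, 1, 5), (7, 2, 7), (7, 3, 7), (7, 4, 7), (7, 5, 7), (7, 7, 7), (5, 6, 8), (8, 6, 5), (8, 2, 6), (8, 4, 8), (8, 5, 8), (8, 7, 8), (6, 2, 8), (7, 6, 9), (9, 6, 7), (9, 1, 8), (9, 2, 9), (9, 4, 9), (9, 5, 9), (9, 7, 9), (8, 1, 9), (8, 3, 10), (10, 3, 8), (10, 2, 10), (10, 5, 10), (10, 6, 10), (10, 7, 10), (9, 3, 11), (11, 3, 9), (11, 1, 10), (11, 5, 11), (11, 6,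 11), (11, 7, 11), (10, 1, 11), (10, 4, 12), (12, 4, 10), (12, 2, 12), (12, 3, 12), (12, 6, 12), (12, 7, 12), (11, 2, 13), (13, 2, 11), (13, 1, 13), (13, 3, 13), (13, 5, 13), (13, 6, 13), (13, 7, 13), (11, 4, 14), (14, 4, 11), (14, 1, 12), (14, 3, 14), (14, 6, 14), (14, 7, 14), (12, 1, 14), (12, 5, 15), (15, 5, 12), (15, 2, 15), (15, 3, 15), (15, 4, 15), (15, 6, 15), (13, 4, 16), (16, 4, 13), (16, 1, 16), (16, 2, 14), (16, 6, 16), (16, 7, 16), (14, 2, 16), (14, 5, 17), (17, 5, 14), (17, 1, 15), (17, 3, 17), (17, 4, 17), (17, 6, 17), (15, 1, 17), (15, 7, 18), (18, 7, 15), (18, 2, 18), (18, 3, 18), (18, 4, 18), (18, 5, 18), (18, 6, 18), (16, 3, 19), (19, 3, 16), (19, 1, 19), (19, 2, 19), (19, 4, 19), (19, 7, 19), (16, 5, 20), (20, 5, 16), (20, 1, 20), (20, 2, 17), (20, 4, 20), (20, 6, 20), (17, 2, 20), (17, 7, 21), (21, 7, 17), (21, 1, 18), (21, 3, 21), (21, 4, 21), (21, 5, 21), (21, 6, 21), (18, 1, 21), (19,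 5, 22), (22, 5, 19), (22, 1, 22), (22, 2, 22), (22, 3, 20), (20, 3, 22), (19, 6, 23), (23, 6, 19), (23, 1, 23), (23, 2, 23), (23, 3, 23), (23, 4, 23), (23, 7, 23), (20, 7, 24), (24, 7, 20), (24, 1, 24), (24, 2, 21), (24, 4, 24), (24, 5, 24), (24, 6, 24), (21, 2, 24), (22, 4, 25), (25, 4, 22), (25, 1, 25), (25, 2, 25), (25, 3, 25), (25, 5, 25), (22, 6, 26), (26, 6, 22), (26, 1, 26), (26, 2, 26), (26, 3, 26), (26, 5, 23), (23, 5, 26), (22, 7, 27), (27, 7, 22), (27, 1, 27), (27, 2, 27), (27, 3, 24), (27, 5, 27), (24, 3, 27), (25, 6, 28), (28, 6, 25), (28, 1, 28), (28, 2, 28), (28, 4, 26), (28, 5, 28), (26, 4, 28), (25, 7, 29), (29, 7, 25), (29, 1, 29), (29, 2, 29), (29, 3, 29), (29, 4, 27), (27, 4, 29), (26, 7, 30), (30, 7, 26), (30, 1, 30), (30, 2, 30), (30, 3, 30), (30, 5, 30), (30, 6, 27), (27, 6, 30), (28, 3, 31), (31, 3, 28), (31, 1, 31), (31, 4, 31), (31, 5, 31), (31, 6, 31), (28, 7, 32), (32, 7, 28),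 (32, 1, 32), (32, 2, 32), (32, 4, 30), (32, 6, 29), (29, 6, 32), (30, 4, 32), (29, 5, 33), (33, 5, 29), (33, 1, 33), (33, 2, 33), (33, 3, 33), (33, 4, 33), (33, 7, 33), (31, 2, 34), (34, 2, 31), (34, 3, 34), (34, 4, 34), (34, 5, 34), (34, 6, 34), (31, 7, 35), (35, 7, 31), (35, 1, 35), (35, 3, 32), (35, 4, 35), (35, 6, 35), (32, 3, 35), (32, 5, 36), (36, 5, 32), (36, 1, 36), (36, 2, 36), (36, 4, 36), (36, 6, 33), (36, 7, 36), (33, 6, 36), (34, 1, 37), (37, 1, 34), (37, 2, 37), (37, 3, 37), (37, 4, 37), (37, 5, 37), (37, 6, 37), (34, 7, 38), (38, 7, 34), (38, 2, 35), (38, 3, 38), (38, 4, 38), (38, 6, 38), (35, 2, 38), (35, 5, 39), (39, 5, 35), (39, 1, 39), (39, 3, 36), (39, 6, 39), (39, 7, 39), (36, 3, 39), (37, 7, 40), (40, 7, 37), (40, 1, 38), (40, 2, 40), (40, 3, 40), (40, 4, 40), (40, 6, 40), (38, 1, 40), (38, 5, 41), (41, 5, 38), (41, 2, 39), (41, 3, 41), (41, 6, 41), (41, 7, 41), (39, 2, 41), (39, 4,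 42), (42, 4, 39), (42, 1, 42), (42, 3, 42), (42, 5, 42), (42, 6, 42), (42, 7, 42), (40, 5, 43), (43, 5, 40), (43, 1, 41), (43, 2, 43), (43, 3, 43), (43, 6, 43), (43, 7, 43), (41, 1, 43), (41, 4, 44), (44, 4, 41), (44, 2, 42), (44, 5, 44), (44, 6, 44), (44, 7, 44), (42, 2, 44), (43, 4, 45), (45, 4, 43), (45, 1, 44), (45, 2, 45), (45, 5, 45), (45, 6, 45), (45, 7, 45), (44, 1, 45), (44, 3, 46), (46, 3, 44), (46, 2, 46), (46, 4, 46), (46, 5, 46), (46, 7, 46), (45, 3, 47), (47, 3, 45), (47, 1, 46), (47, 4, 47), (47, 5, 47), (47, 7, 47), (46, 1, 47), (46, 6, 48), (48, 6, 46), (48, 2, 48), (48, 3, 48), (48, 4, 48), (48, 5, 48), (48, 7, 48), (47, 2, 49), (49, 2, 47), (49, 1, 49), (49, 3, 49), (49, 4, 49), (49, 5, 49), (49, 7, 49), (47, 6, 50), (50, 6, 47), (50, 1, 48), (50, 3, 50), (50, 4, 50), (50, 5, 50), (50, 7, 50), (48, 1, 50), (49, 6, 51), (51, 6, 49), (51, 1, 51), (51, 2, 50), (51, 4, 51), (51, 5, 51), (51,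 7, 51), (50, 2, 51), (51, 3, 52), (52, 3, 51), (52, 1, 52), (52, 2, 52), (52, 5, 52), (52, 6, 52), (52, 7, 52), (52, 4, 53), (53, 4, 52), (53, 1, 53), (53, 2, 53), (53, 3, 53), (53, 6, 53), (53, 7, 53), (53, 5, 54), (54, 5, 53), (54, 1, 54), (54, 2, 54), (54, 3, 54), (54, 4, 54), (54, 6, 54), (54, 7, 55), (55, 7, 54), (55, 1, 55), (55, 2, 55), (55, 3, 55), (55, 4, 55), (55, 5, 55), (55, 6, 55)] : List (ℕ × ℕ × ℕ)).getD t (0, 0, 0)
  just t := ([(2, 0, 0, 0, [], []),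
    (2, 0, 1, 0, [], []),
    (2, 0, 2, 0, [], []),
    (2, 0, 3, 0, [], []),
    (2, 0, 4, 0, [], []),
    (2, 0, 5, 0, [], []),
    (0, 0, 0, 0, [], []),
    (1, 0, 21, 0, [12], []),
    (1, 0, 22, 0, [0, 12], [14]),
    (1, 0, 23, 0, [2, 12], [14]),
    (1, 0, 24, 0, [4, 12], [14]),
    (1, 0, 25, 0, [6, 12], [14]),
    (1, 0, 27, 0, [10, 12], [14]),
    (0, 0, 0, 0, [], []),
    (1, 1, 10, 0, [26], []),
    (1, 1, 11, 0, [16, 26], [28]),
    (1, 1, 12, 0, [18, 26], [28]),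
    (1, 1, 13, 0, [20, 26], [28]),
    (1, 1, 20, 0, [26], [28, 24]),
    (1, 1, 26, 0, [26], [28, 14, 8, 12]),
    (0, 0, 0, 0, [], []),
    (1, 2, 6, 0, [40], []),
    (1, 2, 7, 0, [30, 40], [42]),
    (1, 2, 8, 0, [32, 40], [42]),
    (1, 2, 14, 0, [40], [42, 28, 22, 26]),
    (1, 2, 19, 0, [40], [42, 36]),
    (1, 2, 25, 0, [40], [42, 38]),
    (0, 0, 0, 0, [], []),
    (1, 3, 3, 0, [54], []),
    (1, 3, 4, 0, [44, 54], [56]),
    (1, 3, 9, 0, [54], [56, 42, 34, 40]),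
    (1, 3, 13, 0, [54], [56, 48]),
    (1, 3, 24, 0, [54], [56, 52]),
    (0, 0, 0, 0, [], []),
    (1, 4, 1, 0, [66], []),
    (1, 4, 5, 0, [66], [68, 56, 46, 54]),
    (1, 4, 8, 0, [66], [68, 60]),
    (1, 4, 12, 0, [66], [68, 62]),
    (1, 4, 23, 0, [66], [68, 64]),
    (0, 0, 0, 0, [], []),
    (1, 4, 15, 0, [78], []),
    (1, 4, 16, 0, [58, 78], [80]),
    (1, 3, 18, 0, [54, 78], [80, 56, 50]),
    (1, 4, 19, 0, [60, 78], [80]),
    (1, 4, 20, 0, [62, 78], [80]),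
    (1, 4, 27, 0, [78], [80, 64]),
    (0, 0, 0, 0, [], []),
    (1, 5, 0, 0, [92], []),
    (1, 5, 2, 0, [92], [94, 68, 58, 66]),
    (1, 5, 4, 0, [92], [94, 70]),
    (1, 5, 7, 0, [92], [94, 72]),
    (1, 5, 11, 0, [92], [94, 74]),
    (1, 5, 22, 0, [92], [94, 76]),
    (0, 0, 0, 0, [], []),
    (1, 5, 15, 0, [106], []),
    (1, 4, 17, 0, [66, 106], [80]),
    (1, 5, 19, 0, [72, 106], [108]),
    (1, 5, 20, 0, [74, 106], [108]),
    (1, 5, 27, 0, [106], [108, 76]),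
    (1, 6, 23, 0, [], [116, 110, 90]),
    (0, 0, 0, 0, [], []),
    (1, 7, 15, 0, [120], []),
    (1, 5, 16, 0, [92, 120], [108]),
    (1, 7, 17, 0, [96, 120], [122]),
    (1, 7, 19, 0, [100, 120], [122]),
    (1, 7, 20, 0, [102, 120], [122]),
    (1, 7, 27, 0, [120], [122, 104]),
    (1, 8, 22, 0, [], [132, 124, 116]),
    (0, 0, 0, 0, [], []),
    (1, 8, 3, 0, [136], []),
    (1, 6, 5, 0, [118, 136], [138, 110, 84]),
    (1, 8, 13, 0, [136], [138, 114]),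
    (1, 8, 18, 0, [136], [138, 108, 70, 106]),
    (1, 8, 24, 0, [136], [138, 116]),
    (0, 0, 0, 0, [], []),
    (1, 9, 3, 0, [148], []),
    (1, 8, 4, 0, [134, 148], [138]),
    (1, 9, 13, 0, [148], [150, 130]),
    (1, 9, 18, 0, [148], [150, 122, 98, 120]),
    (1, 9, 24, 0, [148], [150, 132]),
    (1, 10, 22, 0, [], [158, 152, 146]),
    (0, 0, 0, 0, [], []),
    (1, 10, 6, 0, [162], []),
    (1, 10, 8, 0, [140, 162], [164]),
    (1, 8, 9, 0, [136, 162], [164, 138, 112]),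
    (1, 10, 19, 0, [162], [164, 144]),
    (1, 10, 25, 0, [162], [164, 146]),
    (0, 0, 0, 0, [], []),
    (1, 11, 1, 0, [174], []),
    (1, 10, 2, 0, [160, 174], [176, 152, 140]),
    (1, 11, 5, 0, [174], [176, 150, 126, 148]),
    (1, 11, 12, 0, [174], [176, 154]),
    (1, 11, 17, 0, [174], [176, 156]),
    (1, 11, 23, 0, [174], [176, 158]),
    (0, 0, 0, 0, [], []),
    (1, 11, 6, 0, [188], []),
    (1, 10, 7, 0, [160, 188], [164]),
    (1, 9, 9, 0, [148, 188], [190, 150, 128]),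
    (1, 11, 19, 0, [188], [190, 156]),
    (1, 11, 25, 0, [188], [190, 158]),
    (1, 12, 22, 0, [], [198, 192, 172]),
    (0, 0, 0, 0, [], []),
    (1, 12, 10, 0, [202], []),
    (1, 12, 12, 0, [166, 202], [204]),
    (1, 12, 13, 0, [168, 202], [204]),
    (1, 10, 14, 0, [162, 202], [204, 164, 142]),
    (1, 12, 20, 0, [202], [204, 170]),
    (0, 0, 0, 0, [], []),
    (1, 13, 6, 0, [214], []),
    (1, 13, 7, 0, [178, 214], [216]),
    (1, 11, 8, 0, [174, 214], [190]),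
    (1, 13, 19, 0, [214], [216, 184]),
    (1, 13, 25, 0, [214], [216, 186]),
    (1, 14, 23, 0, [], [224, 220, 198]),
    (0, 0, 0, 0, [], []),
    (1, 14, 10, 0, [228], []),
    (1, 12, 11, 0, [200, 228], [204]),
    (1, 14, 13, 0, [194, 228], [230]),
    (1, 11, 14, 0, [188, 228], [230, 190, 154]),
    (1, 14, 20, 0, [228], [230, 196]),
    (1, 15, 16, 0, [], [238, 232, 212]),
    (0, 0, 0, 0, [], []),
    (1, 15, 21, 0, [242], []),
    (1, 15, 23, 0, [206, 242], [244]),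
    (1, 15, 24, 0, [208, 242], [244]),
    (1, 15, 25, 0, [210, 242], [244]),
    (1, 12, 26, 0, [202, 242], [244, 204, 172]),
    (1, 15, 27, 0, [212, 242], [244]),
    (0, 0, 0, 0, [], []),
    (1, 16, 3, 0, [256], []),
    (1, 16, 4, 0, [218, 256], [258]),
    (1, 14, 5, 0, [226, 256], [258, 220, 194]),
    (1, 16, 9, 0, [256], [258, 216, 180, 214]),
    (1, 16, 24, 0, [256], [258, 224]),
    (0, 0, 0, 0, [], []),
    (1, 16, 10, 0, [268], []),
    (1, 16, 11, 0, [218, 268], [270]),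
    (1, 14, 12, 0, [226, 268], [230]),
    (1, 13, 14, 0, [214, 268], [270, 216, 182]),
    (1, 16, 20, 0, [268], [270, 222]),
    (1, 17, 17, 0, [], [278, 274, 238]),
    (0, 0, 0, 0, [], []),
    (1, 17, 21, 0, [282], []),
    (1, 15, 22, 0, [240, 282], [244]),
    (1, 17, 24, 0, [234, 282], [284]),
    (1, 17, 25, 0, [236, 282], [284]),
    (1, 14, 26, 0, [228, 282], [284, 230, 198]),
    (1, 17, 27, 0, [238, 282], [284]),
    (1, 18, 16, 0, [], [294, 286, 254]),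
    (0, 0, 0, 0, [], []),
    (1, 19, 10, 0, [298], []),
    (1, 19, 11, 0, [260, 298], [300]),
    (1, 19, 12, 0, [262, 298], [300]),
    (1, 16, 13, 0, [256, 298], [270]),
    (1, 22, 3, 0, [306], []),
    (0, 0, 0, 0, [], []),
    (1, 19, 15, 0, [310], []),
    (1, 19, 16, 0, [260, 310], [312]),
    (1, 19, 17, 0, [262, 310], [312]),
    (1, 16, 18, 0, [256, 310], [312, 258, 222]),
    (1, 19, 19, 0, [264, 310], [312]),
    (1, 19, 27, 0, [310], [312, 266]),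
    (0, 0, 0, 0, [], []),
    (1, 20, 21, 0, [324], []),
    (1, 20, 22, 0, [272, 324], [326]),
    (1, 17, 23, 0, [280, 324], [284]),
    (1, 20, 25, 0, [276, 324], [326]),
    (1, 16, 26, 0, [268, 324], [326, 270, 224]),
    (1, 20, 27, 0, [278, 324], [326]),
    (1, 21, 17, 0, [], [336, 330, 294]),
    (0, 0, 0, 0, [], []),
    (1, 22, 6, 0, [340], []),
    (1, 22, 7, 0, [302, 340], [342]),
    (1, 22, 8, 0, [304, 340], [342]),
    (1, 20, 9, 0, [308, 340], [342, 306, 276]),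
    (1, 22, 14, 0, [340], [342, 300, 264, 298]),
    (0, 0, 0, 0, [], []),
    (1, 22, 15, 0, [352], []),
    (1, 22, 16, 0, [302, 352], [354]),
    (1, 22, 17, 0, [304, 352], [354]),
    (1, 20, 18, 0, [308, 352], [354, 306, 278]),
    (1, 19, 20, 0, [298, 352], [312]),
    (1, 26, 10, 0, [362], []),
    (0, 0, 0, 0, [], []),
    (1, 22, 21, 0, [366], []),
    (1, 22, 22, 0, [302, 366], [368]),
    (1, 22, 23, 0, [304, 366], [368]),
    (1, 20, 24, 0, [308, 366], [326]),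
    (1, 19, 26, 0, [298, 366], [368, 300, 266]),
    (1, 24, 13, 0, [], [376, 374, 334]),
    (0, 0, 0, 0, [], []),
    (1, 25, 15, 0, [380], []),
    (1, 25, 16, 0, [344, 380], [382]),
    (1, 25, 17, 0, [346, 380], [382]),
    (1, 22, 19, 0, [340, 380], [354]),
    (1, 25, 20, 0, [350, 380], [382]),
    (1, 26, 14, 0, [], [390, 388, 362, 320, 364]),
    (0, 0, 0, 0, [], []),
    (1, 25, 21, 0, [394], []),
    (1, 25, 22, 0, [344, 394], [396]),
    (1, 25, 23, 0, [346, 394], [396]),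
    (1, 25, 24, 0, [348, 394], [396]),
    (1, 22, 25, 0, [340, 394], [368]),
    (1, 29, 6, 0, [404], []),
    (0, 0, 0, 0, [], []),
    (1, 26, 21, 0, [408], []),
    (1, 26, 22, 0, [356, 408], [410]),
    (1, 26, 23, 0, [358, 408], [410]),
    (1, 26, 24, 0, [360, 408], [410]),
    (1, 23, 26, 0, [364, 408], [410, 362, 322]),
    (1, 22, 27, 0, [352, 408], [368]),
    (1, 30, 15, 0, [420], []),
    (0, 0, 0, 0, [], []),
    (1, 28, 3, 0, [424], []),
    (1, 28, 4, 0, [384, 424], [426]),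
    (1, 28, 9, 0, [424], [426, 388, 360, 392]),
    (1, 28, 13, 0, [424], [426, 390]),
    (1, 28, 18, 0, [424], [426, 382, 348, 380]),
    (0, 0, 0, 0, [], []),
    (1, 28, 21, 0, [436], []),
    (1, 28, 22, 0, [384, 436], [438]),
    (1, 28, 23, 0, [386, 436], [438]),
    (1, 26, 25, 0, [392, 436], [410]),
    (1, 25, 27, 0, [380, 436], [396]),
    (1, 32, 15, 0, [446], []),
    (1, 30, 19, 0, [], [446, 404, 422]),
    (0, 0, 0, 0, [], []),
    (1, 29, 10, 0, [452], []),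
    (1, 29, 11, 0, [398, 452], [454]),
    (1, 29, 12, 0, [400, 452], [454]),
    (1, 29, 13, 0, [402, 452], [454]),
    (1, 27, 14, 0, [406, 452], [454, 404, 376]),
    (1, 29, 26, 0, [452], [454, 396, 350, 394]),
    (0, 0, 0, 0, [], []),
    (1, 31, 1, 0, [466], []),
    (1, 31, 5, 0, [466], [468, 426, 386, 424]),
    (1, 31, 8, 0, [466], [468, 430]),
    (1, 31, 12, 0, [466], [468, 432]),
    (1, 31, 17, 0, [466], [468, 434]),
    (0, 0, 0, 0, [], []),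
    (1, 31, 21, 0, [478], []),
    (1, 31, 22, 0, [428, 478], [480]),
    (1, 28, 24, 0, [424, 478], [438]),
    (1, 31, 25, 0, [430, 478], [480]),
    (1, 31, 27, 0, [434, 478], [480]),
    (1, 32, 18, 0, [], [488, 484, 446, 402, 448]),
    (0, 0, 0, 0, [], []),
    (1, 32, 10, 0, [492], []),
    (1, 32, 11, 0, [440, 492], [494]),
    (1, 32, 12, 0, [442, 492], [494]),
    (1, 30, 14, 0, [450, 492], [494, 444, 418]),
    (1, 32, 20, 0, [492], [454, 448]),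
    (1, 32, 26, 0, [492], [494, 438, 390, 436]),
    (1, 33, 27, 0, [], [504, 502, 464]),
    (0, 0, 0, 0, [], []),
    (1, 34, 0, 0, [508], []),
    (1, 34, 2, 0, [508], [510, 468, 428, 466]),
    (1, 34, 4, 0, [508], [510, 470]),
    (1, 34, 7, 0, [508], [510, 472]),
    (1, 34, 11, 0, [508], [510, 474]),
    (1, 34, 16, 0, [508], [510, 476]),
    (0, 0, 0, 0, [], []),
    (1, 34, 21, 0, [522], []),
    (1, 31, 23, 0, [466, 522], [480]),
    (1, 34, 24, 0, [470, 522], [524]),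
    (1, 34, 25, 0, [472, 522], [524]),
    (1, 34, 27, 0, [476, 522], [524]),
    (1, 35, 17, 0, [], [532, 526, 488]),
    (0, 0, 0, 0, [], []),
    (1, 35, 10, 0, [536], []),
    (1, 35, 11, 0, [482, 536], [538]),
    (1, 32, 13, 0, [490, 536], [494]),
    (1, 35, 20, 0, [536], [538, 488]),
    (1, 35, 26, 0, [536], [538, 480, 432, 478]),
    (1, 36, 24, 0, [], [546, 542, 504]),
    (0, 0, 0, 0, [], []),
    (1, 37, 21, 0, [550], []),
    (1, 34, 22, 0, [508, 550], [524]),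
    (1, 37, 23, 0, [512, 550], [552]),
    (1, 37, 24, 0, [514, 550], [552]),
    (1, 37, 25, 0, [516, 550], [552]),
    (1, 37, 27, 0, [520, 550], [552]),
    (1, 38, 16, 0, [], [562, 554, 532]),
    (0, 0, 0, 0, [], []),
    (1, 38, 10, 0, [566], []),
    (1, 35, 12, 0, [534, 566], [538]),
    (1, 38, 13, 0, [528, 566], [568]),
    (1, 38, 20, 0, [566], [568, 532]),
    (1, 38, 26, 0, [566], [568, 524, 474, 522]),
    (1, 39, 23, 0, [], [576, 570, 546]),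
    (0, 0, 0, 0, [], []),
    (1, 39, 6, 0, [580], []),
    (1, 39, 7, 0, [540, 580], [582]),
    (1, 36, 9, 0, [548, 580], [582, 542, 500]),
    (1, 39, 14, 0, [580], [582, 538, 486, 536]),
    (1, 39, 19, 0, [580], [582, 544]),
    (1, 39, 25, 0, [580], [582, 546]),
    (0, 0, 0, 0, [], []),
    (1, 40, 10, 0, [594], []),
    (1, 38, 11, 0, [564, 594], [568]),
    (1, 40, 12, 0, [556, 594], [596]),
    (1, 40, 13, 0, [558, 594], [596]),
    (1, 40, 20, 0, [594], [596, 562]),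
    (1, 40, 26, 0, [594], [596, 552, 518, 550]),
    (1, 41, 22, 0, [], [606, 598, 576]),
    (0, 0, 0, 0, [], []),
    (1, 41, 6, 0, [610], []),
    (1, 39, 8, 0, [578, 610], [582]),
    (1, 41, 14, 0, [610], [612, 568, 530, 566]),
    (1, 41, 19, 0, [610], [612, 574]),
    (1, 41, 25, 0, [610], [612, 576]),
    (1, 42, 23, 0, [], [620, 614, 592]),
    (0, 0, 0, 0, [], []),
    (1, 43, 6, 0, [624], []),
    (1, 41, 7, 0, [608, 624], [612]),
    (1, 43, 8, 0, [600, 624], [626]),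
    (1, 43, 14, 0, [624], [626, 596, 560, 594]),
    (1, 43, 19, 0, [624], [626, 604]),
    (1, 43, 25, 0, [624], [626, 606]),
    (1, 44, 22, 0, [], [636, 628, 620]),
    (0, 0, 0, 0, [], []),
    (1, 44, 3, 0, [640], []),
    (1, 42, 5, 0, [622, 640], [642, 614, 586]),
    (1, 44, 9, 0, [640], [642, 612, 572, 610]),
    (1, 44, 13, 0, [640], [642, 616]),
    (1, 44, 24, 0, [640], [642, 620]),
    (0, 0, 0, 0, [], []),
    (1, 45, 3, 0, [652], []),
    (1, 44, 4, 0, [638, 652], [642]),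
    (1, 45, 9, 0, [652], [654, 626, 602, 624]),
    (1, 45, 13, 0, [652], [654, 632]),
    (1, 45, 24, 0, [652], [654, 636]),
    (1, 46, 22, 0, [], [662, 656, 650]),
    (0, 0, 0, 0, [], []),
    (1, 46, 15, 0, [666], []),
    (1, 46, 17, 0, [644, 666], [668]),
    (1, 44, 18, 0, [640, 666], [668, 642, 618]),
    (1, 46, 19, 0, [646, 666], [668]),
    (1, 46, 20, 0, [648, 666], [668]),
    (1, 46, 27, 0, [666], [668, 650]),
    (0, 0, 0, 0, [], []),
    (1, 47, 1, 0, [680], []),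
    (1, 46, 2, 0, [664, 680], [682, 656, 644]),
    (1, 47, 5, 0, [680], [682, 654, 630, 652]),
    (1, 47, 8, 0, [680], [682, 658]),
    (1, 47, 12, 0, [680], [682, 660]),
    (1, 47, 23, 0, [680], [682, 662]),
    (0, 0, 0, 0, [], []),
    (1, 47, 15, 0, [694], []),
    (1, 46, 16, 0, [664, 694], [668]),
    (1, 45, 18, 0, [652, 694], [696, 654, 634]),
    (1, 47, 19, 0, [658, 694], [696]),
    (1, 47, 20, 0, [660, 694], [696]),
    (1, 47, 27, 0, [694], [696, 662]),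
    (1, 48, 22, 0, [], [706, 698, 678]),
    (0, 0, 0, 0, [], []),
    (1, 49, 15, 0, [710], []),
    (1, 49, 16, 0, [684, 710], [712]),
    (1, 47, 17, 0, [680, 710], [696]),
    (1, 49, 19, 0, [688, 710], [712]),
    (1, 49, 20, 0, [690, 710], [712]),
    (1, 49, 27, 0, [710], [712, 692]),
    (1, 50, 23, 0, [], [722, 716, 706]),
    (0, 0, 0, 0, [], []),
    (1, 51, 3, 0, [726], []),
    (1, 51, 4, 0, [714, 726], [728]),
    (1, 50, 5, 0, [724, 726], [728, 716, 700]),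
    (1, 51, 13, 0, [726], [728, 720]),
    (1, 51, 18, 0, [726], [728, 712, 686, 710]),
    (1, 51, 24, 0, [726], [728, 722]),
    (0, 0, 0, 0, [], []),
    (1, 52, 6, 0, [740], []),
    (1, 52, 7, 0, [730, 740], [742]),
    (1, 52, 8, 0, [732, 740], [742]),
    (1, 51, 9, 0, [726, 740], [742, 728, 718]),
    (1, 52, 19, 0, [740], [742, 736]),
    (1, 52, 25, 0, [740], [742, 738]),
    (0, 0, 0, 0, [], []),
    (1, 53, 10, 0, [754], []),
    (1, 53, 11, 0, [744, 754], [756]),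
    (1, 53, 12, 0, [746, 754], [756]),
    (1, 53, 13, 0, [748, 754], [756]),
    (1, 52, 14, 0, [740, 754], [756, 742, 734]),
    (1, 53, 20, 0, [754], [756, 750]),
    (0, 0, 0, 0, [], []),
    (1, 54, 21, 0, [768], []),
    (1, 54, 22, 0, [758, 768], [770]),
    (1, 54, 23, 0, [760, 768], [770]),
    (1, 54, 24, 0, [762, 768], [770]),
    (1, 54, 25, 0, [764, 768], [770]),
    (1, 53, 26, 0, [754, 768], [770, 756, 752]),
    (1, 54, 27, 0, [766, 768], [770])] : List (ℕ × ℕ × ℕ × ℕ × List ℕ × List ℕ)).getD t (0, 0, 0, 0, [], [])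
  nfacts := 392
  liv k := ([0, 1, 2, 3, 4, 5, 6, 7, 8, 9, 10, 11, 12, 13, 14, 15, 16, 17, 18, 19, 20, 21, 22, 23, 24, 25, 26, 27, 28, 29, 30, 31, 32, 33, 34, 35, 36, 37, 38, 39, 40, 41, 42, 43, 44, 45, 46, 47, 48, 49, 50, 51, 52, 53, 54, 55] : List ℕ).getD k 0
  nliv := 56
  fin k c := (([[(0, 0), (1, 0), (2, 0), (3, 0), (4, 0), (5, 0), (6, 0), (7, 0), (8, 0), (9, 0), (10, 0), (11, 0), (12, 1), (15, 1)],
    [(16, 1), (17, 1), (18, 1), (19, 1), (20, 1), (21, 1), (22, 1), (23, 1), (26, 2), (29, 2), (24, 1), (25, 1), (14, 0), (13, 0)],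
    [(30, 2), (31, 2), (32, 2), (33, 2), (34, 2), (35, 2), (40, 3), (43, 3), (28, 1), (27, 1), (36, 2), (37, 2), (38, 2), (39, 2)],
    [(44, 3), (45, 3), (46, 3), (47, 3), (54, 4), (57, 4), (42, 2), (41, 2), (48, 3), (49, 3), (50, 3), (51, 3), (52, 3), (53, 3)],
    [(58, 4), (59, 4), (66, 5), (69, 5), (56, 3), (55, 3), (60, 4), (61, 4), (62, 4), (63, 4), (78, 6), (81, 6), (64, 4), (65, 4)],
    [(92, 7), (95, 7), (68, 4), (67, 4), (70, 5), (71, 5), (72, 5), (73, 5), (74, 5), (75, 5), (106, 8), (109, 8), (76, 5), (77, 5)],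
    [(82, 6), (83, 6), (118, 8), (111, 8), (84, 6), (85, 6), (86, 6), (87, 6), (88, 6), (89, 6), (80, 4), (79, 4), (90, 6), (91, 6)],
    [(94, 5), (93, 5), (96, 7), (97, 7), (98, 7), (99, 7), (100, 7), (101, 7), (102, 7), (103, 7), (120, 9), (123, 9), (104, 7), (105, 7)],
    [(134, 9), (125, 9), (110, 6), (119, 6), (136, 10), (139, 10), (112, 8), (113, 8), (114, 8), (115, 8), (108, 5), (107, 5), (116, 8), (117, 8)],
    [(124, 8), (135, 8), (126, 9), (127, 9), (148, 11), (151, 11), (128, 9), (129, 9), (130, 9), (131, 9), (122, 7), (121, 7), (132, 9), (133, 9)],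
    [(160, 11), (153, 11), (140, 10), (141, 10), (138, 8), (137, 8), (162, 12), (165, 12), (142, 10), (143, 10), (144, 10), (145, 10), (146, 10), (147, 10)],
    [(152, 10), (161, 10), (174, 13), (177, 13), (150, 9), (149, 9), (188, 14), (191, 14), (154, 11), (155, 11), (156, 11), (157, 11), (158, 11), (159, 11)],
    [(200, 14), (193, 14), (166, 12), (167, 12), (168, 12), (169, 12), (164, 10), (163, 10), (202, 15), (205, 15), (170, 12), (171, 12), (172, 12), (173, 12)],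
    [(178, 13), (179, 13), (176, 11), (175, 11), (180, 13), (181, 13), (214, 16), (217, 16), (182, 13), (183, 13), (184, 13), (185, 13), (186, 13), (187, 13)],
    [(192, 12), (201, 12), (226, 16), (221, 16), (194, 14), (195, 14), (190, 11), (189, 11), (228, 17), (231, 17), (196, 14), (197, 14), (198, 14), (199, 14)],
    [(240, 17), (233, 17), (206, 15), (207, 15), (208, 15), (209, 15), (210, 15), (211, 15), (204, 12), (203, 12), (212, 15), (213, 15), (242, 18), (245, 18)],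
    [(218, 16), (219, 16), (220, 14), (227, 14), (256, 19), (259, 19), (216, 13), (215, 13), (268, 20), (271, 20), (222, 16), (223, 16), (224, 16), (225, 16)],
    [(232, 15), (241, 15), (280, 20), (275, 20), (234, 17), (235, 17), (236, 17), (237, 17), (230, 14), (229, 14), (238, 17), (239, 17), (282, 21), (285, 21)],
    [(296, 21), (287, 21), (246, 18), (247, 18), (248, 18), (249, 18), (250, 18), (251, 18), (252, 18), (253, 18), (254, 18), (255, 18), (244, 15), (243, 15)],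
    [(260, 19), (261, 19), (262, 19), (263, 19), (258, 16), (257, 16), (264, 19), (265, 19), (298, 22), (301, 22), (310, 23), (313, 23), (266, 19), (267, 19)],
    [(272, 20), (273, 20), (274, 17), (281, 17), (308, 22), (307, 22), (276, 20), (277, 20), (270, 16), (269, 16), (278, 20), (279, 20), (324, 24), (327, 24)],
    [(286, 18), (297, 18), (338, 24), (331, 24), (288, 21), (289, 21), (290, 21), (291, 21), (292, 21), (293, 21), (294, 21), (295, 21), (284, 17), (283, 17)],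
    [(302, 22), (303, 22), (304, 22), (305, 22), (306, 20), (309, 20), (340, 25), (343, 25), (300, 19), (299, 19), (352, 26), (355, 26), (366, 27), (369, 27)],
    [(314, 23), (315, 23), (316, 23), (317, 23), (318, 23), (319, 23), (320, 23), (321, 23), (364, 26), (363, 26), (312, 19), (311, 19), (322, 23), (323, 23)],
    [(328, 24), (329, 24), (330, 21), (339, 21), (378, 27), (375, 27), (332, 24), (333, 24), (334, 24), (335, 24), (336, 24), (337, 24), (326, 20), (325, 20)],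
    [(344, 25), (345, 25), (346, 25), (347, 25), (348, 25), (349, 25), (342, 22), (341, 22), (350, 25), (351, 25), (380, 28), (383, 28), (394, 29), (397, 29)],
    [(356, 26), (357, 26), (358, 26), (359, 26), (360, 26), (361, 26), (392, 28), (389, 28), (362, 23), (365, 23), (354, 22), (353, 22), (408, 30), (411, 30)],
    [(370, 27), (371, 27), (372, 27), (373, 27), (374, 24), (379, 24), (406, 29), (405, 29), (376, 27), (377, 27), (422, 30), (421, 30), (368, 22), (367, 22)],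
    [(384, 28), (385, 28), (386, 28), (387, 28), (424, 31), (427, 31), (388, 26), (393, 26), (390, 28), (391, 28), (382, 25), (381, 25), (436, 32), (439, 32)],
    [(398, 29), (399, 29), (400, 29), (401, 29), (402, 29), (403, 29), (404, 27), (407, 27), (452, 33), (455, 33), (448, 32), (447, 32), (396, 25), (395, 25)],
    [(412, 30), (413, 30), (414, 30), (415, 30), (416, 30), (417, 30), (450, 32), (445, 32), (418, 30), (419, 30), (420, 27), (423, 27), (410, 26), (409, 26)],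
    [(428, 31), (429, 31), (466, 34), (469, 34), (426, 28), (425, 28), (430, 31), (431, 31), (432, 31), (433, 31), (434, 31), (435, 31), (478, 35), (481, 35)],
    [(440, 32), (441, 32), (442, 32), (443, 32), (490, 35), (485, 35), (444, 30), (451, 30), (492, 36), (495, 36), (446, 29), (449, 29), (438, 28), (437, 28)],
    [(456, 33), (457, 33), (458, 33), (459, 33), (460, 33), (461, 33), (462, 33), (463, 33), (454, 29), (453, 29), (506, 36), (503, 36), (464, 33), (465, 33)],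
    [(508, 37), (511, 37), (468, 31), (467, 31), (470, 34), (471, 34), (472, 34), (473, 34), (474, 34), (475, 34), (476, 34), (477, 34), (522, 38), (525, 38)],
    [(482, 35), (483, 35), (534, 38), (527, 38), (484, 32), (491, 32), (486, 35), (487, 35), (536, 39), (539, 39), (488, 35), (489, 35), (480, 31), (479, 31)],
    [(496, 36), (497, 36), (498, 36), (499, 36), (548, 39), (543, 39), (500, 36), (501, 36), (494, 32), (493, 32), (502, 33), (507, 33), (504, 36), (505, 36)],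
    [(510, 34), (509, 34), (512, 37), (513, 37), (514, 37), (515, 37), (516, 37), (517, 37), (518, 37), (519, 37), (520, 37), (521, 37), (550, 40), (553, 40)],
    [(564, 40), (555, 40), (526, 35), (535, 35), (528, 38), (529, 38), (530, 38), (531, 38), (566, 41), (569, 41), (532, 38), (533, 38), (524, 34), (523, 34)],
    [(540, 39), (541, 39), (578, 41), (571, 41), (542, 36), (549, 36), (580, 42), (583, 42), (538, 35), (537, 35), (544, 39), (545, 39), (546, 39), (547, 39)],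
    [(554, 38), (565, 38), (556, 40), (557, 40), (558, 40), (559, 40), (560, 40), (561, 40), (594, 43), (597, 43), (562, 40), (563, 40), (552, 37), (551, 37)],
    [(608, 43), (599, 43), (570, 39), (579, 39), (572, 41), (573, 41), (610, 44), (613, 44), (568, 38), (567, 38), (574, 41), (575, 41), (576, 41), (577, 41)],
    [(584, 42), (585, 42), (622, 44), (615, 44), (586, 42), (587, 42), (582, 39), (581, 39), (588, 42), (589, 42), (590, 42), (591, 42), (592, 42), (593, 42)],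
    [(598, 41), (609, 41), (600, 43), (601, 43), (602, 43), (603, 43), (624, 45), (627, 45), (596, 40), (595, 40), (604, 43), (605, 43), (606, 43), (607, 43)],
    [(638, 45), (629, 45), (614, 42), (623, 42), (640, 46), (643, 46), (612, 41), (611, 41), (616, 44), (617, 44), (618, 44), (619, 44), (620, 44), (621, 44)],
    [(628, 44), (639, 44), (630, 45), (631, 45), (652, 47), (655, 47), (626, 43), (625, 43), (632, 45), (633, 45), (634, 45), (635, 45), (636, 45), (637, 45)],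
    [(664, 47), (657, 47), (644, 46), (645, 46), (642, 44), (641, 44), (646, 46), (647, 46), (648, 46), (649, 46), (666, 48), (669, 48), (650, 46), (651, 46)],
    [(656, 46), (665, 46), (680, 49), (683, 49), (654, 45), (653, 45), (658, 47), (659, 47), (660, 47), (661, 47), (694, 50), (697, 50), (662, 47), (663, 47)],
    [(708, 50), (699, 50), (670, 48), (671, 48), (672, 48), (673, 48), (674, 48), (675, 48), (676, 48), (677, 48), (668, 46), (667, 46), (678, 48), (679, 48)],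
    [(684, 49), (685, 49), (682, 47), (681, 47), (686, 49), (687, 49), (688, 49), (689, 49), (690, 49), (691, 49), (710, 51), (713, 51), (692, 49), (693, 49)],
    [(698, 48), (709, 48), (724, 51), (717, 51), (700, 50), (701, 50), (702, 50), (703, 50), (704, 50), (705, 50), (696, 47), (695, 47), (706, 50), (707, 50)],
    [(714, 51), (715, 51), (716, 50), (725, 50), (726, 52), (729, 52), (718, 51), (719, 51), (720, 51), (721, 51), (712, 49), (711, 49), (722, 51), (723, 51)],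
    [(730, 52), (731, 52), (732, 52), (733, 52), (728, 51), (727, 51), (740, 53), (743, 53), (734, 52), (735, 52), (736, 52), (737, 52), (738, 52), (739, 52)],
    [(744, 53), (745, 53), (746, 53), (747, 53), (748, 53), (749, 53), (742, 52), (741, 52), (754, 54), (757, 54), (750, 53), (751, 53), (752, 53), (753, 53)],
    [(758, 54), (759, 54), (760, 54), (761, 54), (762, 54), (763, 54), (764, 54), (765, 54), (756, 53), (755, 53), (766, 54), (767, 54), (768, 55), (771, 55)],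
    [(772, 55), (773, 55), (774, 55), (775, 55), (776, 55), (777, 55), (778, 55), (779, 55), (780, 55), (781, 55), (782, 55), (783, 55), (770, 54), (769, 54)]] : List (List (ℕ × ℕ))).getD k []).getD (c - 2) (0, 0)

def l7W : List (List ℕ) := [[], [14], [14, 10], [14, 10, 8], [14, 10, 8, 6], [14, 10, 8, 6, 4], [14, 10, 8, 6, 12], [14, 10, 8, 6, 4, 2], [14, 10, 8, 6, 4, 12], [14, 10, 8, 6, 4, 2, 12], [14, 10, 8, 6, 4, 12, 6], [14, 10, 8, 6, 4, 2, 12, 6], [14, 10, 8, 6, 4, 12, 6, 8], [14, 10, 8, 6, 4, 2, 12, 6, 4], [14, 10, 8, 6, 4, 2, 12, 6, 8], [14, 10, 8, 6, 4, 12, 6, 8, 10], [14, 10, 8, 6, 4, 2, 12, 6, 4, 8], [14, 10, 8, 6, 4, 2, 12, 6, 8, 10], [14, 10, 8, 6, 4, 12, 6, 8, 10, 14], [14, 10, 8, 6, 4, 2, 12, 6, 4, 8, 6], [14, 10, 8, 6, 4, 2, 12, 6, 4, 8, 10], [14, 10, 8, 6, 4, 2, 12, 6, 8, 10, 14], [14, 10, 8, 6, 4, 2, 12, 6, 4, 8, 6, 10], [14, 10, 8, 6, 4, 2, 12, 6, 4, 8, 6, 12], [14, 10, 8, 6, 4, 2, 12,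 6, 4, 8, 10, 14], [14, 10, 8, 6, 4, 2, 12, 6, 4, 8, 6, 10, 8], [14, 10, 8, 6, 4, 2, 12, 6, 4, 8, 6, 10, 12], [14, 10, 8, 6, 4, 2, 12, 6, 4, 8, 6, 10, 14], [14, 10, 8, 6, 4, 2, 12, 6, 4, 8, 6, 10, 8, 12], [14, 10, 8, 6, 4, 2, 12, 6, 4, 8, 6, 10, 8, 14], [14, 10, 8, 6, 4, 2, 12, 6, 4, 8, 6, 10, 12, 14], [14, 10, 8, 6, 4, 2, 12, 6, 4, 8, 6, 10, 8, 12, 6], [14, 10, 8, 6, 4, 2, 12, 6, 4, 8, 6, 10, 8, 12, 14], [14, 10, 8, 6, 4, 2, 12, 6, 4, 8, 6, 10, 8, 14, 10], [14, 10, 8, 6, 4, 2, 12, 6, 4, 8, 6, 10, 8, 12, 6, 4], [14, 10, 8, 6, 4, 2, 12, 6, 4, 8, 6, 10, 8, 12, 6, 14], [14, 10, 8, 6, 4, 2, 12, 6, 4, 8, 6, 10, 8, 12, 14, 10], [14, 10, 8, 6, 4, 2, 12, 6, 4, 8, 6, 10, 8, 12, 6, 4, 2], [14, 10, 8, 6, 4, 2, 12, 6, 4, 8, 6, 10, 8, 12, 6, 4, 14], [14, 10, 8, 6, 4, 2, 12, 6, 4, 8, 6, 10, 8, 12, 6, 14, 10], [14, 10, 8, 6, 4, 2, 12, 6, 4, 8, 6, 10, 8, 12, 6, 4, 2, 14], [14, 10, 8, 6, 4, 2, 12, 6, 4, 8, 6, 10, 8, 12, 6,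 4, 14, 10], [14, 10, 8, 6, 4, 2, 12, 6, 4, 8, 6, 10, 8, 12, 6, 14, 10, 8], [14, 10, 8, 6, 4, 2, 12, 6, 4, 8, 6, 10, 8, 12, 6, 4, 2, 14, 10], [14, 10, 8, 6, 4, 2, 12, 6, 4, 8, 6, 10, 8, 12, 6, 4, 14, 10, 8], [14, 10, 8, 6, 4, 2, 12, 6, 4, 8, 6, 10, 8, 12, 6, 4, 2, 14, 10, 8], [14, 10, 8, 6, 4, 2, 12, 6, 4, 8, 6, 10, 8, 12, 6, 4, 14, 10, 8, 6], [14, 10, 8, 6, 4, 2, 12, 6, 4, 8, 6, 10, 8, 12, 6, 4, 2, 14, 10, 8, 6], [14, 10, 8, 6, 4, 2, 12, 6, 4, 8, 6, 10, 8, 12, 6, 4, 14, 10, 8, 6, 12], [14, 10, 8, 6, 4, 2, 12, 6, 4, 8, 6, 10, 8, 12, 6, 4, 2, 14, 10, 8, 6, 4], [14, 10, 8, 6, 4, 2, 12, 6, 4, 8, 6, 10, 8, 12, 6, 4, 2, 14, 10, 8, 6, 12], [14, 10, 8, 6, 4, 2, 12, 6, 4, 8, 6, 10, 8, 12, 6, 4, 2, 14, 10, 8, 6, 4, 12], [14, 10, 8, 6, 4, 2, 12, 6, 4, 8, 6, 10, 8, 12, 6, 4, 2, 14, 10, 8, 6, 4, 12, 6], [14, 10, 8, 6, 4, 2, 12, 6, 4, 8, 6, 10, 8, 12, 6, 4, 2, 14, 10, 8, 6, 4, 12, 6, 8], [14, 10, 8, 6, 4, 2, 12, 6, 4,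 8, 6, 10, 8, 12, 6, 4, 2, 14, 10, 8, 6, 4, 12, 6, 8, 10], [14, 10, 8, 6, 4, 2, 12, 6, 4, 8, 6, 10, 8, 12, 6, 4, 2, 14, 10, 8, 6, 4, 12, 6, 8, 10, 14]]

theorem l7_chk : check (R7 ++ trivRels 7) (subLetters 6) 7 l7C = true := by
  decide +kernel

theorem l7_cos {G : Type*} [Group G] {val : ℕ → G} (h0 : val 0 = 1) (hR : RelsHold val R7) :
    Cosets val 6 7 l7W :=
  cosets_of_check h0 hR l7_chk (F := 56) (by decide +kernel)

variable {G : Type*} [Group G] {val : ℕ → G}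

theorem bd1 (h0 : val 0 = 1) (hR : RelsHold val R1) : Bd (gcl val 1) 2 :=
  (l1_cos h0 hR).bd (bd_zero val) rfl

theorem bd2 (h0 : val 0 = 1) (hR : RelsHold val R2) : Bd (gcl val 2) 6 :=
  (l2_cos h0 hR).bd (bd1 h0 (hR.mono (by decide))) rfl

theorem bd3 (h0 : val 0 = 1) (hR : RelsHold val R3) : Bd (gcl val 3) 24 :=
  (l3_cos h0 hR).bd (bd2 h0 (hR.mono (by decide))) rfl

theorem bd4 (h0 : val 0 = 1) (hR : RelsHold val R4) : Bd (gcl val 4) 120 :=
  (l4_cos h0 hR).bd (bd3 h0 (hR.mono (by decide))) rfl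

theorem bd5 (h0 : val 0 = 1) (hR : RelsHold val R5) : Bd (gcl val 5) 720 :=
  (l5_cos h0 hR).bd (bd4 h0 (hR.mono (by decide))) rfl

theorem bd6 (h0 : val 0 = 1) (hR : RelsHold val R6) : Bd (gcl val 6) 51840 :=
  (l6_cos h0 hR).bd (bd5 h0 (hR.mono (by decide))) rfl

theorem bd7 (h0 : val 0 = 1) (hR : RelsHold val R7) : Bd (gcl val 7) 2903040 :=
  (l7_cos h0 hR).bd (bd6 h0 (hR.mono (by decide))) rfl

end CfsgH9.E7
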