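import Cfsg.Agent.H9.S6Fin
import Cfsg.Agent.H9.P43Rel
import Cfsg.Agent.H7.Loc1

/-! Sylow 2-subgroups of `W(E₆)` and `Sp₆(2)` with their classes of involutions. -/

set_option autoImplicit false
set_option maxRecDepth 100000

namespace CfsgH9.E7

open CfsgH3.TC Subgroup CfsgH5 CfsgH6 CfsgFT CfsgH7

/-- substitution of words for letters -/
def subW (Ws : List (List ℕ)) (w : List ℕ) : List ℕ :=
  w.flatMap fun c => if c % 2 = 0 then Ws.getD (c / 2) [] else invW (Ws.getD (c / 2) [])

theorem wval_subW {G : Type*} [Group G] (val : ℕ → G) (Ws : List (List ℕ)) (w : List ℕ) :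
    wval val (subW Ws w) = wval (fun a => wval val (Ws.getD a [])) w := by
  induction w with
  | nil => rfl
  | cons c w ih =>
    rw [subW, List.flatMap_cons, wval_append, wval_cons, ← ih, sval]
    split_ifs
    · rfl
    · rw [wval_invW]; rfl

noncomputable def t128_s : NT := (.node (.node (.leaf (nat_lit 40564838587904609921353362964481)) (.leaf (nat_lit 5793579034286759823430503366720))) (.leaf (nat_lit 40564821663007716935201408155656)))
noncomputable def t128_t : NT := (.node (.node (.node (.node (.node (.node (.node (.leaf (nat_lit 40564838550125678058396201254913)) (.leaf (nat_lit 40644066712639942395989745205249))) (.node (.leaf (nat_lit 5794954828993409605064749744201)) (.leaf (nat_lit 5784896528986714744838838026304)))) (.node (.node (.leaf (nat_lit 5793561844808054458956902563904)) (.leaf (nat_lit 5794971409286694564166042124361))) (.node (.leaf (nat_lit 5783829986713192911755209080905)) (.leaf (nat_lit 5784913491791702830779902197824))))) (.node (.node (.node (.leaf (nat_lit 5793578765111870299860726186048))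 (.leaf (nat_lit 40655346033693122661650232770568))) (.node (.leaf (nat_lit 40644221795746706582018860253185)) (.leaf (nat_lit 5794816974327198125210009337920)))) (.node (.node (.leaf (nat_lit 5783658324493771416757709570112)) (.leaf (nat_lit 40644049825521981272794952105992))) (.node (.leaf (nat_lit 5794954526761954701407456067657)) (.leaf (nat_lit 40644066712639960410388254687233)))))) (.node (.node (.node (.node (.leaf (nat_lit 40564821663007861050389484011528)) (.leaf (nat_lit 40655191550329207643075273555976))) (.node (.leaf (nat_lit 40564976410825434016770672558088)) (.leaf (nat_lit 40644049825522125387983027961864)))) (.node (.node (.leaf (nat_lit 5793733469247409183891143000137)) (.leaf (nat_lit 5794800049300997787038031020096))) (.node (.leaf (nat_lit 5794816705151155680135625310272)) (.leaf (nat_lit 40644049830244491870852673175560))))) (.node (.node (.node (.leaf (nat_lit 5783675207018511279516295626816)) (.leaf (nat_lit 40576135055807078803942246711297))) (.node (.leaf (nat_lit 5783813363918771736413695115337))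 (.leaf (nat_lit 40644049830244347755664597319688)))) (.node (.node (.leaf (nat_lit 5783829986712202119837187571785)) (.leaf (nat_lit 5785067926751487500112086696009))) (.node (.leaf (nat_lit 5793562104539363938291996164160)) (.leaf (nat_lit 40644066750418892273345416396801))))))) (.node (.node (.node (.node (.node (.leaf (nat_lit 40564821663007716935201408155656)) (.leaf (nat_lit 5785068228982942403769380372553))) (.node (.leaf (nat_lit 40655191555051718241132994625544)) (.leaf (nat_lit 5783658324494924338262316417088)))) (.node (.node (.leaf (nat_lit 5793733771480143109842609897545)) (.leaf (nat_lit 5794954526763233723701629288521))) (.node (.leaf (nat_lit 5783675551752417450505003073600)) (.leaf (nat_lit 5784896259811825221269060845632))))) (.node (.node (.node (.leaf (nat_lit 40564821667730227533259129225224)) (.leaf (nat_lit 40644204875572162064338041176072))) (.node (.leaf (nat_lit 5784896259810672299764453998656)) (.leaf (nat_lit 5794799780126108263468253839424)))) (.node (.node (.leaf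 (nat_lit 5783830288944647815412502757449)) (.leaf (nat_lit 5785068228983933195687401881673))) (.node (.leaf (nat_lit 5793716582001599874955594432585)) (.leaf (nat_lit 5784913147058949581295801598016)))))) (.node (.node (.node (.node (.leaf (nat_lit 40564821667730083418071053369352)) (.leaf (nat_lit 40564976406102923418712951488520))) (.node (.leaf (nat_lit 40655362953867667179331051847681)) (.leaf (nat_lit 5794971409287973586460215345225)))) (.node (.node (.leaf (nat_lit 40564838587904627935751872446465)) (.leaf (nat_lit 5793561844809207380461509410880))) (.node (.leaf (nat_lit 5794954828994688627358922965065)) (.leaf (nat_lit 5794816705152308601640232157248))))) (.node (.node (.node (.leaf (nat_lit 40564838550125696072794710736897)) (.leaf (nat_lit 5794971711519428490117509021769))) (.node (.leaf (nat_lit 5783813061686001781665209253961)) (.leaf (nat_lit 5785067926752478292030108205129)))) (.node (.node (.leaf (nat_lit 5794816974326045203705402490944)) (.leaf (nat_lit 5785051006448950681502436294729)))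 (.node (.leaf (nat_lit 5793578765113023221365333033024)) (.leaf (nat_lit 40575980355213296767047076675585)))))))) (.node (.node (.node (.node (.node (.node (.leaf (nat_lit 40564838587904609921353362964481)) (.leaf (nat_lit 5784913147057796659791194751040))) (.node (.leaf (nat_lit 5793716884233054778612888109129)) (.leaf (nat_lit 40644204870849795581468395962376)))) (.node (.node (.leaf (nat_lit 5793716884231739727521695924297)) (.leaf (nat_lit 40564993330999816404864906297345))) (.node (.leaf (nat_lit 40655362916088735316373890138113)) (.leaf (nat_lit 40644221757967756704663189061633))))) (.node (.node (.node (.leaf (nat_lit 5793733771478864087548436676681)) (.leaf (nat_lit 5783658584225080896092803170368))) (.node (.leaf (nat_lit 5784913491790549909275295350848)) (.leaf (nat_lit 40644221795746688567620350771201)))) (.node (.node (.leaf (nat_lit 5783813363917456685322502930505)) (.leaf (nat_lit 40575980355213314781445586157569))) (.node (.leaf (nat_lit 40564976406103067533901027344392)) (.leaf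 (nat_lit 40575963387815087420669805461512)))))) (.node (.node (.node (.node (.leaf (nat_lit 5783675551751264529000396226624)) (.leaf (nat_lit 5785051006447671659208263073865))) (.node (.leaf (nat_lit 5793733469248688206185316221001)) (.leaf (nat_lit 40575980317434382918488424448001)))) (.node (.node (.leaf (nat_lit 40564993330999834419263415779329)) (.leaf (nat_lit 40644204870849939696656471818248))) (.node (.leaf (nat_lit 5794971711518149467823335800905)) (.leaf (nat_lit 40575963392537309788351374819336))))) (.node (.node (.node (.leaf (nat_lit 5783830288943657023494481248329)) (.leaf (nat_lit 40644066750418874258946906914817))) (.node (.leaf (nat_lit 40655191555051574125944918769672)) (.leaf (nat_lit 40575963392537453903539450675208)))) (.node (.node (.leaf (nat_lit 40564993293220902556306254069761)) (.leaf (nat_lit 40564993293220884541907744587777))) (.node (.leaf (nat_lit 40644204875572306179526117031944)) (.leaf (nat_lit 40575963387814943305481729605640))))))) (.node (.node (.node (.node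 (.node (.leaf (nat_lit 5793579034286759823430503366720)) (.leaf (nat_lit 5785051308680405585159729971273))) (.node (.leaf (nat_lit 5793716582000284823864402247753)) (.leaf (nat_lit 40576118173411466149218589343752)))) (.node (.node (.leaf (nat_lit 40655208517727579119039130107905)) (.leaf (nat_lit 40655346028970900293968663412744))) (.node (.leaf (nat_lit 40644221757967774719061698543617)) (.leaf (nat_lit 40576118168689099666348944130056))))) (.node (.node (.node (.leaf (nat_lit 5783658584223927974588196323392)) (.leaf (nat_lit 5783675207019664201020902473792))) (.node (.leaf (nat_lit 5785051308679126562865556750409)) (.leaf (nat_lit 40576118168689243781537019985928)))) (.node (.node (.leaf (nat_lit 40655208479948647256081968398337)) (.leaf (nat_lit 40655208479948629241683458916353))) (.node (.leaf (nat_lit 40655346033693266776838308626440)) (.leaf (nat_lit 40576135055807060789543737229313)))))) (.node (.node (.node (.node (.leaf (nat_lit 5793562104538211016787389317184)) (.leaf (nat_lit 5783813061687316832756401438793)))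 (.node (.leaf (nat_lit 5793579034287912744935110213696)) (.leaf (nat_lit 40655362953867649164932542365697)))) (.node (.node (.leaf (nat_lit 5784896528985561823334231179328)) (.leaf (nat_lit 40576118173411610264406665199624))) (.node (.leaf (nat_lit 40655191550329351758263349411848)) (.leaf (nat_lit 40576135093585992652500898938881))))) (.node (.node (.node (.leaf (nat_lit 5794800049299844865533424173120)) (.leaf (nat_lit 40655208517727561104640620625921))) (.node (.leaf (nat_lit 40564976410825289901582596702216)) (.leaf (nat_lit 40655362916088717301975380656129)))) (.node (.node (.leaf (nat_lit 5794799780124955341963646992448)) (.leaf (nat_lit 40655346028970756178780587556872))) (.node (.leaf (nat_lit 40576135093586010666899408420865)) (.leaf (nat_lit 40575980317434364904089914966017)))))))))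
noncomputable def t128_P : NT := (.node (.node (.node (.node (.node (.node (.node (.leaf (nat_lit 0)) (.leaf (nat_lit 119))) (.node (.leaf (nat_lit 46)) (.leaf (nat_lit 208)))) (.node (.node (.leaf (nat_lit 21)) (.leaf (nat_lit 159))) (.node (.leaf (nat_lit 78)) (.leaf (nat_lit 277))))) (.node (.node (.node (.leaf (nat_lit 9)) (.leaf (nat_lit 134))) (.node (.leaf (nat_lit 62)) (.leaf (nat_lit 241)))) (.node (.node (.leaf (nat_lit 33)) (.leaf (nat_lit 182))) (.node (.leaf (nat_lit 96)) (.leaf (nat_lit 314)))))) (.node (.node (.node (.node (.leaf (nat_lit 4)) (.leaf (nat_lit 128))) (.node (.leaf (nat_lit 53)) (.leaf (nat_lit 221)))) (.node (.node (.leaf (nat_lit 27)) (.leaf (nat_lit 169))) (.node (.leaf (nat_lit 90)) (.leaf (nat_lit 290))))) (.node (.node (.node (.leaf (nat_lit 15)) (.leaf (nat_lit 146))) (.node (.leaf (nat_lit 73)) (.leaf (nat_lit 254)))) (.node (.node (.leaf (nat_lit 39)) (.leaf (nat_lit 198))) (.node (.leaf (nat_lit 106)) (.leaf (nat_lit 338))))))) (.node (.node (.node (.node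 (.node (.leaf (nat_lit 1)) (.leaf (nat_lit 124))) (.node (.leaf (nat_lit 50)) (.leaf (nat_lit 214)))) (.node (.node (.leaf (nat_lit 25)) (.leaf (nat_lit 162))) (.node (.leaf (nat_lit 85)) (.leaf (nat_lit 283))))) (.node (.node (.node (.leaf (nat_lit 12)) (.leaf (nat_lit 140))) (.node (.leaf (nat_lit 69)) (.leaf (nat_lit 247)))) (.node (.node (.leaf (nat_lit 37)) (.leaf (nat_lit 196))) (.node (.leaf (nat_lit 99)) (.leaf (nat_lit 331)))))) (.node (.node (.node (.node (.leaf (nat_lit 6)) (.leaf (nat_lit 131))) (.node (.leaf (nat_lit 56)) (.leaf (nat_lit 234)))) (.node (.node (.leaf (nat_lit 31)) (.leaf (nat_lit 175))) (.node (.leaf (nat_lit 94)) (.leaf (nat_lit 307))))) (.node (.node (.node (.leaf (nat_lit 19)) (.leaf (nat_lit 157))) (.node (.leaf (nat_lit 75)) (.leaf (nat_lit 270)))) (.node (.node (.leaf (nat_lit 44)) (.leaf (nat_lit 201))) (.node (.leaf (nat_lit 112)) (.leaf (nat_lit 356)))))))) (.node (.node (.node (.node (.node (.node (.leaf (nat_lit 0)) (.leaf (nat_lit 123))) (.node (.leaf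 (nat_lit 49)) (.leaf (nat_lit 209)))) (.node (.node (.leaf (nat_lit 22)) (.leaf (nat_lit 161))) (.node (.leaf (nat_lit 80)) (.leaf (nat_lit 278))))) (.node (.node (.node (.leaf (nat_lit 10)) (.leaf (nat_lit 139))) (.node (.leaf (nat_lit 68)) (.leaf (nat_lit 242)))) (.node (.node (.leaf (nat_lit 34)) (.leaf (nat_lit 188))) (.node (.leaf (nat_lit 98)) (.leaf (nat_lit 320)))))) (.node (.node (.node (.node (.leaf (nat_lit 5)) (.leaf (nat_lit 129))) (.node (.leaf (nat_lit 54)) (.leaf (nat_lit 227)))) (.node (.node (.leaf (nat_lit 29)) (.leaf (nat_lit 170))) (.node (.leaf (nat_lit 91)) (.leaf (nat_lit 296))))) (.node (.node (.node (.leaf (nat_lit 16)) (.leaf (nat_lit 152))) (.node (.leaf (nat_lit 74)) (.leaf (nat_lit 260)))) (.node (.node (.leaf (nat_lit 41)) (.leaf (nat_lit 200))) (.node (.leaf (nat_lit 107)) (.leaf (nat_lit 344))))))) (.node (.node (.node (.node (.node (.leaf (nat_lit 2)) (.leaf (nat_lit 127))) (.node (.leaf (nat_lit 51)) (.leaf (nat_lit 215)))) (.node (.node (.leaf (nat_lit 26))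 (.leaf (nat_lit 164))) (.node (.leaf (nat_lit 86)) (.leaf (nat_lit 284))))) (.node (.node (.node (.leaf (nat_lit 14)) (.leaf (nat_lit 145))) (.node (.leaf (nat_lit 70)) (.leaf (nat_lit 248)))) (.node (.node (.leaf (nat_lit 38)) (.leaf (nat_lit 197))) (.node (.leaf (nat_lit 101)) (.leaf (nat_lit 332)))))) (.node (.node (.node (.node (.leaf (nat_lit 8)) (.leaf (nat_lit 132))) (.node (.leaf (nat_lit 61)) (.leaf (nat_lit 236)))) (.node (.node (.leaf (nat_lit 32)) (.leaf (nat_lit 176))) (.node (.leaf (nat_lit 95)) (.leaf (nat_lit 308))))) (.node (.node (.node (.leaf (nat_lit 20)) (.leaf (nat_lit 158))) (.node (.leaf (nat_lit 77)) (.leaf (nat_lit 272)))) (.node (.node (.leaf (nat_lit 45)) (.leaf (nat_lit 203))) (.node (.leaf (nat_lit 113)) (.leaf (nat_lit 368)))))))))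
noncomputable def t128_H : NT := (.node (.node (.node (.node (.node (.node (.node (.node (.node (.leaf (nat_lit 1)) (.leaf (nat_lit 105))) (.leaf (nat_lit 68))) (.node (.node (.leaf (nat_lit 36)) (.leaf (nat_lit 121))) (.leaf (nat_lit 77)))) (.node (.node (.node (.leaf (nat_lit 23)) (.leaf (nat_lit 114))) (.leaf (nat_lit 30))) (.node (.node (.leaf (nat_lit 56)) (.leaf (nat_lit 101))) (.leaf (nat_lit 46))))) (.node (.node (.node (.node (.leaf (nat_lit 13)) (.leaf (nat_lit 111))) (.leaf (nat_lit 26))) (.node (.node (.leaf (nat_lit 49)) (.leaf (nat_lit 122))) (.leaf (nat_lit 96)))) (.node (.node (.node (.leaf (nat_lit 7)) (.leaf (nat_lit 117))) (.leaf (nat_lit 87))) (.node (.node (.leaf (nat_lit 62)) (.leaf (nat_lit 127))) (.leaf (nat_lit 53)))))) (.node (.node (.node (.node (.node (.leaf (nat_lit 7)) (.leaf (nat_lit 108))) (.leaf (nat_lit 27))) (.node (.node (.leaf (nat_lit 11)) (.leaf (nat_lit 89))) (.leaf (nat_lit 93)))) (.node (.node (.node (.leaf (nat_lit 5)) (.leaf (nat_lit 117))) (.leaf (nat_lit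 32))) (.node (.node (.leaf (nat_lit 16)) (.leaf (nat_lit 124))) (.leaf (nat_lit 100))))) (.node (.node (.node (.node (.leaf (nat_lit 3)) (.leaf (nat_lit 70))) (.leaf (nat_lit 77))) (.node (.node (.leaf (nat_lit 47)) (.leaf (nat_lit 125))) (.leaf (nat_lit 95)))) (.node (.node (.node (.leaf (nat_lit 38)) (.leaf (nat_lit 118))) (.leaf (nat_lit 40))) (.node (.node (.leaf (nat_lit 51)) (.leaf (nat_lit 127))) (.leaf (nat_lit 107))))))) (.node (.node (.node (.node (.node (.node (.leaf (nat_lit 4)) (.leaf (nat_lit 109))) (.leaf (nat_lit 71))) (.node (.node (.leaf (nat_lit 41)) (.leaf (nat_lit 88))) (.leaf (nat_lit 90)))) (.node (.node (.node (.leaf (nat_lit 5)) (.leaf (nat_lit 113))) (.leaf (nat_lit 83))) (.node (.node (.leaf (nat_lit 16)) (.leaf (nat_lit 126))) (.leaf (nat_lit 63))))) (.node (.node (.node (.node (.leaf (nat_lit 15)) (.leaf (nat_lit 66))) (.leaf (nat_lit 72))) (.node (.node (.leaf (nat_lit 13)) (.leaf (nat_lit 97))) (.leaf (nat_lit 43)))) (.node (.node (.node (.leaf (nat_lit 7)) (.leaf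 (nat_lit 119))) (.leaf (nat_lit 86))) (.node (.node (.leaf (nat_lit 18)) (.leaf (nat_lit 120))) (.leaf (nat_lit 57)))))) (.node (.node (.node (.node (.node (.leaf (nat_lit 10)) (.leaf (nat_lit 109))) (.leaf (nat_lit 74))) (.node (.node (.leaf (nat_lit 11)) (.leaf (nat_lit 123))) (.leaf (nat_lit 45)))) (.node (.node (.node (.leaf (nat_lit 30)) (.leaf (nat_lit 116))) (.leaf (nat_lit 81))) (.node (.node (.leaf (nat_lit 57)) (.leaf (nat_lit 126))) (.leaf (nat_lit 103))))) (.node (.node (.node (.node (.leaf (nat_lit 3)) (.leaf (nat_lit 115))) (.leaf (nat_lit 30))) (.node (.node (.leaf (nat_lit 14)) (.leaf (nat_lit 100))) (.leaf (nat_lit 46)))) (.node (.node (.node (.leaf (nat_lit 9)) (.leaf (nat_lit 85))) (.leaf (nat_lit 89))) (.node (.node (.leaf (nat_lit 66)) (.leaf (nat_lit 118))) (.leaf (nat_lit 106)))))))) (.node (.node (.node (.node (.node (.node (.node (.leaf (nat_lit 3)) (.leaf (nat_lit 60))) (.leaf (nat_lit 23))) (.node (.node (.leaf (nat_lit 14)) (.leaf (nat_lit 119))) (.leaf (nat_lit 39))))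 (.node (.node (.node (.leaf (nat_lit 25)) (.leaf (nat_lit 116))) (.leaf (nat_lit 82))) (.node (.node (.leaf (nat_lit 57)) (.leaf (nat_lit 104))) (.leaf (nat_lit 48))))) (.node (.node (.node (.node (.leaf (nat_lit 2)) (.leaf (nat_lit 68))) (.leaf (nat_lit 76))) (.node (.node (.leaf (nat_lit 45)) (.leaf (nat_lit 124))) (.leaf (nat_lit 47)))) (.node (.node (.node (.leaf (nat_lit 34)) (.leaf (nat_lit 78))) (.leaf (nat_lit 38))) (.node (.node (.leaf (nat_lit 49)) (.leaf (nat_lit 115))) (.leaf (nat_lit 105)))))) (.node (.node (.node (.node (.node (.leaf (nat_lit 9)) (.leaf (nat_lit 60))) (.leaf (nat_lit 25))) (.node (.node (.leaf (nat_lit 45)) (.leaf (nat_lit 90))) (.leaf (nat_lit 42)))) (.node (.node (.node (.leaf (nat_lit 22)) (.leaf (nat_lit 76))) (.leaf (nat_lit 85))) (.node (.node (.leaf (nat_lit 60)) (.leaf (nat_lit 104))) (.leaf (nat_lit 102))))) (.node (.node (.node (.node (.leaf (nat_lit 19)) (.leaf (nat_lit 67))) (.leaf (nat_lit 74))) (.node (.node (.leaf (nat_lit 52)) (.leaf (nat_lit 123)))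 (.leaf (nat_lit 44)))) (.node (.node (.node (.leaf (nat_lit 34)) (.leaf (nat_lit 120))) (.leaf (nat_lit 39))) (.node (.node (.leaf (nat_lit 20)) (.leaf (nat_lit 127))) (.leaf (nat_lit 103))))))) (.node (.node (.node (.node (.node (.node (.leaf (nat_lit 6)) (.leaf (nat_lit 63))) (.leaf (nat_lit 72))) (.node (.node (.leaf (nat_lit 43)) (.leaf (nat_lit 84))) (.leaf (nat_lit 92)))) (.node (.node (.node (.leaf (nat_lit 27)) (.leaf (nat_lit 73))) (.leaf (nat_lit 79))) (.node (.node (.leaf (nat_lit 55)) (.leaf (nat_lit 107))) (.leaf (nat_lit 48))))) (.node (.node (.node (.node (.leaf (nat_lit 17)) (.leaf (nat_lit 113))) (.leaf (nat_lit 75))) (.node (.node (.leaf (nat_lit 51)) (.leaf (nat_lit 96))) (.leaf (nat_lit 98)))) (.node (.node (.node (.leaf (nat_lit 37)) (.leaf (nat_lit 83))) (.leaf (nat_lit 88))) (.node (.node (.leaf (nat_lit 20)) (.leaf (nat_lit 112))) (.leaf (nat_lit 54)))))) (.node (.node (.node (.node (.node (.leaf (nat_lit 11)) (.leaf (nat_lit 110))) (.leaf (nat_lit 29))) (.node (.node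 (.leaf (nat_lit 48)) (.leaf (nat_lit 95))) (.leaf (nat_lit 42)))) (.node (.node (.node (.leaf (nat_lit 32)) (.leaf (nat_lit 73))) (.leaf (nat_lit 33))) (.node (.node (.leaf (nat_lit 17)) (.leaf (nat_lit 112))) (.leaf (nat_lit 55))))) (.node (.node (.node (.node (.leaf (nat_lit 4)) (.leaf (nat_lit 111))) (.leaf (nat_lit 79))) (.node (.node (.leaf (nat_lit 54)) (.leaf (nat_lit 96))) (.leaf (nat_lit 97)))) (.node (.node (.node (.leaf (nat_lit 40)) (.leaf (nat_lit 84))) (.leaf (nat_lit 87))) (.node (.node (.leaf (nat_lit 23)) (.leaf (nat_lit 125))) (.leaf (nat_lit 108))))))))) (.node (.node (.node (.node (.node (.node (.node (.node (.leaf (nat_lit 2)) (.leaf (nat_lit 56))) (.leaf (nat_lit 69))) (.node (.node (.leaf (nat_lit 9)) (.leaf (nat_lit 87))) (.leaf (nat_lit 88)))) (.node (.node (.node (.leaf (nat_lit 24)) (.leaf (nat_lit 69))) (.leaf (nat_lit 81))) (.node (.node (.leaf (nat_lit 15)) (.leaf (nat_lit 98))) (.leaf (nat_lit 50))))) (.node (.node (.node (.node (.leaf (nat_lit 1)) (.leaf (nat_lit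 79))) (.leaf (nat_lit 75))) (.node (.node (.leaf (nat_lit 19)) (.leaf (nat_lit 92))) (.leaf (nat_lit 97)))) (.node (.node (.node (.leaf (nat_lit 33)) (.leaf (nat_lit 75))) (.leaf (nat_lit 83))) (.node (.node (.leaf (nat_lit 63)) (.leaf (nat_lit 119))) (.leaf (nat_lit 104)))))) (.node (.node (.node (.node (.node (.leaf (nat_lit 8)) (.leaf (nat_lit 64))) (.leaf (nat_lit 24))) (.node (.node (.leaf (nat_lit 44)) (.leaf (nat_lit 86))) (.leaf (nat_lit 94)))) (.node (.node (.node (.leaf (nat_lit 29)) (.leaf (nat_lit 115))) (.leaf (nat_lit 84))) (.node (.node (.leaf (nat_lit 17)) (.leaf (nat_lit 108))) (.leaf (nat_lit 50))))) (.node (.node (.node (.node (.leaf (nat_lit 18)) (.leaf (nat_lit 66))) (.leaf (nat_lit 40))) (.node (.node (.leaf (nat_lit 13)) (.leaf (nat_lit 99))) (.leaf (nat_lit 49)))) (.node (.node (.node (.leaf (nat_lit 27)) (.leaf (nat_lit 80))) (.leaf (nat_lit 35))) (.node (.node (.leaf (nat_lit 61)) (.leaf (nat_lit 114))) (.leaf (nat_lit 59))))))) (.node (.node (.node (.node (.node (.node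 (.leaf (nat_lit 5)) (.leaf (nat_lit 107))) (.leaf (nat_lit 24))) (.node (.node (.leaf (nat_lit 42)) (.leaf (nat_lit 120))) (.leaf (nat_lit 91)))) (.node (.node (.node (.leaf (nat_lit 26)) (.leaf (nat_lit 69))) (.leaf (nat_lit 34))) (.node (.node (.leaf (nat_lit 59)) (.leaf (nat_lit 123))) (.leaf (nat_lit 99))))) (.node (.node (.node (.node (.leaf (nat_lit 16)) (.leaf (nat_lit 112))) (.leaf (nat_lit 26))) (.node (.node (.leaf (nat_lit 50)) (.leaf (nat_lit 92))) (.leaf (nat_lit 44)))) (.node (.node (.node (.leaf (nat_lit 36)) (.leaf (nat_lit 111))) (.leaf (nat_lit 35))) (.node (.node (.leaf (nat_lit 62)) (.leaf (nat_lit 116))) (.leaf (nat_lit 53)))))) (.node (.node (.node (.node (.node (.leaf (nat_lit 1)) (.leaf (nat_lit 62))) (.leaf (nat_lit 70))) (.node (.node (.leaf (nat_lit 47)) (.leaf (nat_lit 103))) (.leaf (nat_lit 91)))) (.node (.node (.node (.leaf (nat_lit 31)) (.leaf (nat_lit 77))) (.leaf (nat_lit 32))) (.node (.node (.leaf (nat_lit 21)) (.leaf (nat_lit 106))) (.leaf (nat_lit 91))))) (.node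 (.node (.node (.node (.leaf (nat_lit 21)) (.leaf (nat_lit 72))) (.leaf (nat_lit 78))) (.node (.node (.leaf (nat_lit 15)) (.leaf (nat_lit 124))) (.leaf (nat_lit 100)))) (.node (.node (.node (.leaf (nat_lit 39)) (.leaf (nat_lit 80))) (.leaf (nat_lit 76))) (.node (.node (.leaf (nat_lit 22)) (.leaf (nat_lit 126))) (.leaf (nat_lit 56)))))))) (.node (.node (.node (.node (.node (.node (.node (.leaf (nat_lit 0)) (.leaf (nat_lit 58))) (.leaf (nat_lit 70))) (.node (.node (.leaf (nat_lit 10)) (.leaf (nat_lit 82))) (.leaf (nat_lit 41)))) (.node (.node (.node (.leaf (nat_lit 4)) (.leaf (nat_lit 74))) (.leaf (nat_lit 31))) (.node (.node (.leaf (nat_lit 58)) (.leaf (nat_lit 102))) (.leaf (nat_lit 101))))) (.node (.node (.node (.node (.leaf (nat_lit 14)) (.leaf (nat_lit 65))) (.leaf (nat_lit 38))) (.node (.node (.leaf (nat_lit 12)) (.leaf (nat_lit 105))) (.leaf (nat_lit 93)))) (.node (.node (.node (.leaf (nat_lit 35)) (.leaf (nat_lit 118))) (.leaf (nat_lit 33))) (.node (.node (.leaf (nat_lit 59)) (.leaf (nat_lit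 110))) (.leaf (nat_lit 93)))))) (.node (.node (.node (.node (.node (.leaf (nat_lit 0)) (.leaf (nat_lit 101))) (.leaf (nat_lit 73))) (.node (.node (.leaf (nat_lit 46)) (.leaf (nat_lit 122))) (.leaf (nat_lit 95)))) (.node (.node (.node (.leaf (nat_lit 6)) (.leaf (nat_lit 71))) (.leaf (nat_lit 36))) (.node (.node (.leaf (nat_lit 61)) (.leaf (nat_lit 109))) (.leaf (nat_lit 52))))) (.node (.node (.node (.node (.leaf (nat_lit 20)) (.leaf (nat_lit 114))) (.leaf (nat_lit 28))) (.node (.node (.leaf (nat_lit 53)) (.leaf (nat_lit 94))) (.leaf (nat_lit 98)))) (.node (.node (.node (.leaf (nat_lit 8)) (.leaf (nat_lit 113))) (.leaf (nat_lit 37))) (.node (.node (.leaf (nat_lit 65)) (.leaf (nat_lit 121))) (.leaf (nat_lit 54))))))) (.node (.node (.node (.node (.node (.node (.leaf (nat_lit 0)) (.leaf (nat_lit 58))) (.leaf (nat_lit 68))) (.node (.node (.leaf (nat_lit 10)) (.leaf (nat_lit 121))) (.leaf (nat_lit 41)))) (.node (.node (.node (.leaf (nat_lit 28)) (.leaf (nat_lit 71))) (.leaf (nat_lit 31))) (.node (.node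 (.leaf (nat_lit 19)) (.leaf (nat_lit 102))) (.leaf (nat_lit 64))))) (.node (.node (.node (.node (.leaf (nat_lit 2)) (.leaf (nat_lit 81))) (.leaf (nat_lit 28))) (.node (.node (.leaf (nat_lit 21)) (.leaf (nat_lit 94))) (.leaf (nat_lit 99)))) (.node (.node (.node (.leaf (nat_lit 8)) (.leaf (nat_lit 78))) (.leaf (nat_lit 85))) (.node (.node (.leaf (nat_lit 64)) (.leaf (nat_lit 117))) (.leaf (nat_lit 106)))))) (.node (.node (.node (.node (.node (.leaf (nat_lit 12)) (.leaf (nat_lit 65))) (.leaf (nat_lit 25))) (.node (.node (.leaf (nat_lit 12)) (.leaf (nat_lit 90))) (.leaf (nat_lit 43)))) (.node (.node (.node (.leaf (nat_lit 6)) (.leaf (nat_lit 89))) (.leaf (nat_lit 86))) (.node (.node (.leaf (nat_lit 18)) (.leaf (nat_lit 110))) (.leaf (nat_lit 52))))) (.node (.node (.node (.node (.leaf (nat_lit 22)) (.leaf (nat_lit 67))) (.leaf (nat_lit 80))) (.node (.node (.leaf (nat_lit 55)) (.leaf (nat_lit 125))) (.leaf (nat_lit 51)))) (.node (.node (.node (.leaf (nat_lit 29)) (.leaf (nat_lit 82))) (.leaf (nat_lit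 37))) (.node (.node (.leaf (nat_lit 67)) (.leaf (nat_lit 122))) (.leaf (nat_lit 61))))))))))
noncomputable def t128_I : NT := (.node (.node (.node (.node (.node (.node (.node (.node (.node (.node (.leaf (nat_lit 87)) (.leaf (nat_lit 99))) (.node (.leaf (nat_lit 115)) (.leaf (nat_lit 107)))) (.leaf (nat_lit 0))) (.leaf (nat_lit 0))) (.leaf (nat_lit 0))) (.node (.node (.leaf (nat_lit 113)) (.leaf (nat_lit 51))) (.node (.leaf (nat_lit 64)) (.leaf (nat_lit 120))))) (.node (.node (.node (.leaf (nat_lit 24)) (.node (.node (.leaf (nat_lit 2)) (.leaf (nat_lit 69))) (.leaf (nat_lit 0)))) (.leaf (nat_lit 0))) (.node (.node (.leaf (nat_lit 110)) (.leaf (nat_lit 20))) (.node (.node (.leaf (nat_lit 91)) (.node (.node (.node (.leaf (nat_lit 111)) (.leaf (nat_lit 67))) (.leaf (nat_lit 0))) (.leaf (nat_lit 0)))) (.node (.leaf (nat_lit 27)) (.leaf (nat_lit 49))))))) (.node (.node (.node (.node (.node (.node (.leaf (nat_lit 37)) (.leaf (nat_lit 52))) (.leaf (nat_lit 0))) (.node (.node (.node (.leaf (nat_lit 108))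 (.leaf (nat_lit 116))) (.leaf (nat_lit 100))) (.leaf (nat_lit 0)))) (.node (.node (.node (.node (.leaf (nat_lit 97)) (.leaf (nat_lit 85))) (.node (.leaf (nat_lit 74)) (.leaf (nat_lit 61)))) (.leaf (nat_lit 0))) (.leaf (nat_lit 0)))) (.node (.leaf (nat_lit 0)) (.node (.leaf (nat_lit 114)) (.leaf (nat_lit 94))))) (.node (.node (.node (.leaf (nat_lit 23)) (.leaf (nat_lit 25))) (.node (.leaf (nat_lit 65)) (.leaf (nat_lit 28)))) (.leaf (nat_lit 90))))) (.node (.node (.node (.node (.leaf (nat_lit 73)) (.node (.node (.leaf (nat_lit 75)) (.leaf (nat_lit 63))) (.leaf (nat_lit 119)))) (.leaf (nat_lit 53))) (.node (.leaf (nat_lit 0)) (.node (.node (.node (.leaf (nat_lit 29)) (.node (.node (.leaf (nat_lit 109)) (.leaf (nat_lit 117))) (.node (.leaf (nat_lit 125)) (.leaf (nat_lit 121))))) (.node (.leaf (nat_lit 84)) (.leaf (nat_lit 33)))) (.leaf (nat_lit 62))))) (.node (.node (.node (.node (.leaf (nat_lit 105)) (.leaf (nat_lit 40))) (.node (.node (.leaf (nat_lit 66)) (.leaf (nat_lit 77))) (.node (.leaf (nat_lit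 0)) (.node (.leaf (nat_lit 0)) (.node (.leaf (nat_lit 124)) (.leaf (nat_lit 41))))))) (.node (.node (.leaf (nat_lit 106)) (.node (.leaf (nat_lit 0)) (.node (.leaf (nat_lit 82)) (.leaf (nat_lit 86))))) (.leaf (nat_lit 0)))) (.node (.node (.leaf (nat_lit 0)) (.node (.node (.leaf (nat_lit 79)) (.node (.leaf (nat_lit 7)) (.leaf (nat_lit 17)))) (.leaf (nat_lit 19)))) (.leaf (nat_lit 39)))))) (.node (.node (.node (.node (.leaf (nat_lit 26)) (.node (.node (.leaf (nat_lit 0)) (.node (.node (.node (.leaf (nat_lit 59)) (.leaf (nat_lit 72))) (.node (.leaf (nat_lit 95)) (.leaf (nat_lit 83)))) (.leaf (nat_lit 11)))) (.leaf (nat_lit 12)))) (.node (.node (.node (.leaf (nat_lit 8)) (.leaf (nat_lit 88))) (.node (.leaf (nat_lit 0)) (.node (.leaf (nat_lit 15)) (.leaf (nat_lit 32))))) (.node (.leaf (nat_lit 0)) (.node (.node (.leaf (nat_lit 71)) (.leaf (nat_lit 104))) (.leaf (nat_lit 98)))))) (.node (.node (.node (.leaf (nat_lit 0)) (.node (.node (.leaf (nat_lit 56)) (.node (.leaf (nat_lit 0)) (.node (.leaf (nat_lit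 1)) (.leaf (nat_lit 31))))) (.node (.leaf (nat_lit 0)) (.node (.leaf (nat_lit 16)) (.leaf (nat_lit 22)))))) (.node (.node (.node (.leaf (nat_lit 21)) (.leaf (nat_lit 54))) (.leaf (nat_lit 81))) (.leaf (nat_lit 118)))) (.node (.node (.node (.leaf (nat_lit 46)) (.node (.leaf (nat_lit 0)) (.node (.node (.node (.leaf (nat_lit 3)) (.leaf (nat_lit 30))) (.leaf (nat_lit 0))) (.leaf (nat_lit 0))))) (.node (.leaf (nat_lit 126)) (.leaf (nat_lit 89)))) (.node (.node (.node (.node (.leaf (nat_lit 122)) (.leaf (nat_lit 48))) (.leaf (nat_lit 0))) (.leaf (nat_lit 0))) (.node (.leaf (nat_lit 0)) (.node (.leaf (nat_lit 96)) (.leaf (nat_lit 44)))))))) (.node (.node (.node (.node (.node (.leaf (nat_lit 0)) (.node (.node (.node (.leaf (nat_lit 6)) (.leaf (nat_lit 10))) (.leaf (nat_lit 4))) (.node (.node (.node (.leaf (nat_lit 18)) (.leaf (nat_lit 78))) (.leaf (nat_lit 0))) (.leaf (nat_lit 42))))) (.leaf (nat_lit 0))) (.node (.leaf (nat_lit 80)) (.node (.leaf (nat_lit 103)) (.node (.node (.node (.leaf (nat_lit 70))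 (.leaf (nat_lit 57))) (.node (.leaf (nat_lit 47)) (.leaf (nat_lit 36)))) (.leaf (nat_lit 38)))))) (.node (.node (.leaf (nat_lit 0)) (.node (.leaf (nat_lit 13)) (.leaf (nat_lit 5)))) (.node (.node (.node (.leaf (nat_lit 58)) (.node (.node (.leaf (nat_lit 34)) (.leaf (nat_lit 45))) (.node (.leaf (nat_lit 68)) (.leaf (nat_lit 55))))) (.leaf (nat_lit 0))) (.leaf (nat_lit 0))))) (.node (.node (.node (.leaf (nat_lit 43)) (.node (.leaf (nat_lit 76)) (.node (.node (.leaf (nat_lit 123)) (.leaf (nat_lit 92))) (.leaf (nat_lit 0))))) (.node (.node (.leaf (nat_lit 9)) (.node (.leaf (nat_lit 0)) (.node (.node (.node (.leaf (nat_lit 50)) (.leaf (nat_lit 112))) (.leaf (nat_lit 0))) (.leaf (nat_lit 0))))) (.node (.leaf (nat_lit 127)) (.leaf (nat_lit 101))))) (.node (.node (.leaf (nat_lit 0)) (.node (.leaf (nat_lit 0)) (.node (.leaf (nat_lit 0)) (.node (.leaf (nat_lit 35)) (.leaf (nat_lit 14)))))) (.node (.node (.leaf (nat_lit 60)) (.leaf (nat_lit 93))) (.leaf (nat_lit 102))))))))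

def t128_W : List (List ℕ) := [[6], [4, 2, 6, 4], [4, 2, 8, 10, 12, 6, 4, 2, 8, 6, 4, 10, 8, 12]]

noncomputable def t128_lv : List (ℕ × NT) := [(nat_lit 128, t128_t)]

theorem t128_hs : allLt 3 (fun a => Nat.beq (t128_s.get a) (eM.wcode e7T (t128_W.getD a []))) = true := by
  decide +kernel

theorem t128_mem : ∀ a, a < 3 → eM.Mem (gcl e7val 6) (t128_s.get a) :=
  e7_tab.mem_gens e7_h0 (by norm_num) (by decide) t128_hs

theorem t128_tree : allLt 128 (eM.treeF 3 t128_s t128_t t128_P) = true := by decide +kernel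

theorem t128_sch : allLt (128 * 3) (eM.schF 3 t128_s 128 t128_t [] t128_H) = true := by decide +kernel

theorem t128_chain : eM.Chain (eM.gen 3 t128_s) t128_lv :=
  Model.chain_cons (by norm_num) (Model.valid_of_mem t128_mem) eM.chain_bot bot_le (by norm_num)
    t128_tree t128_sch

theorem t128_card : Nat.card (eM.gen 3 t128_s) = 128 :=
  t128_chain.card_eq_hash (by decide +kernel) 1285 (I := t128_I) (by decide +kernel)

theorem t128_gen (a : ℕ) (ha : a < 3) : eM.Mem (eM.gen 3 t128_s) (eM.wcode e7T (t128_W.getD a [])) := by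
  rw [← Nat.eq_of_beq_eq_true (allLt_iff.1 t128_hs a ha)]
  exact (Model.valid_of_mem t128_mem).mem_gen ha


noncomputable def t512_s : NT := (.node (.node (.leaf (nat_lit 40564838550125680310197088681985)) (.leaf (nat_lit 40564838550125680626865161671169))) (.node (.leaf (nat_lit 5159889166265988330799448981505)) (.leaf (nat_lit 5794954828994688627358922965065))))
noncomputable def t512_t : NT := (.node (.node (.node (.node (.node (.node (.node (.node (.node (.leaf (nat_lit 40564838550125678058396201254913)) (.leaf (nat_lit 41198666268755517023077777313865))) (.node (.leaf (nat_lit 5793716884895825086561195954249)) (.leaf (nat_lit 40653970572964612517623190556673)))) (.node (.node (.leaf (nat_lit 41289036235693317567931775713353)) (.leaf (nat_lit 40653970572964614452756004995585))) (.node (.leaf (nat_lit 41199904212854383421524583383553)) (.leaf (nat_lit 40655208517727563637925074698241))))) (.node (.node (.node (.leaf (nat_lit 5070757143427054184392256651265)) (.leaf (nat_lit 41199904212854383452860813709385)))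 (.node (.leaf (nat_lit 5161127111028934697352221950537)) (.leaf (nat_lit 41199904213518465958030790922753)))) (.node (.node (.leaf (nat_lit 5159889166930070875070928257537)) (.leaf (nat_lit 5161127111693017484074485547009))) (.node (.leaf (nat_lit 40655208518391646424647338295297)) (.leaf (nat_lit 5070757143427051932591369224193)))))) (.node (.node (.node (.node (.leaf (nat_lit 41199904213518463956377239851081)) (.leaf (nat_lit 5705822806155754519984512995401))) (.node (.leaf (nat_lit 40566076494888627239785714680393)) (.leaf (nat_lit 41289036235693317599268006040065)))) (.node (.node (.leaf (nat_lit 5070757144091136971114520285697)) (.leaf (nat_lit 5159889166265988053164158353921))) (.node (.leaf (nat_lit 40566076494888629491517882368585)) (.leaf (nat_lit 5159889166930068904753607475713))))) (.node (.node (.node (.leaf (nat_lit 5071995088190000871530098365001)) (.leaf (nat_lit 41287798291594451208517751930953))) (.node (.leaf (nat_lit 5793716884231742260806149997129)) (.leaf (nat_lit 5794954829658773669661630304329))))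 (.node (.node (.leaf (nat_lit 5071995088854085870951747289089)) (.leaf (nat_lit 5793716884231739727521695924809))) (.node (.leaf (nat_lit 5161127111693017484074485584457)) (.leaf (nat_lit 5070757143427051651107802578945))))))) (.node (.node (.node (.node (.node (.leaf (nat_lit 5159889166265988053164158353409)) (.leaf (nat_lit 41199904212854380919576359637065))) (.node (.leaf (nat_lit 40564838550789763132103858586113)) (.leaf (nat_lit 5071995088190002841847419146825)))) (.node (.node (.leaf (nat_lit 41198666268091434275388296004169)) (.leaf (nat_lit 40655208517727563352661951775305))) (.node (.leaf (nat_lit 41287798290930366447629891534921)) (.leaf (nat_lit 5705822806155756768005844107337))))) (.node (.node (.node (.leaf (nat_lit 5705822806819837302858500575305)) (.leaf (nat_lit 41199904213518466204398570963017))) (.node (.leaf (nat_lit 5704584862056890904969497280585)) (.leaf (nat_lit 41287798290930366169994600943689)))) (.node (.node (.leaf (nat_lit 5161127111028934982752784351817)) (.leaf (nat_lit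 40564838550125680345381595025409))) (.node (.leaf (nat_lit 40564838550789760845118464851969)) (.leaf (nat_lit 40653970573628695304345454153729)))))) (.node (.node (.node (.node (.leaf (nat_lit 41199904212854381204976922001481)) (.leaf (nat_lit 5705822806819837271522270249033))) (.node (.leaf (nat_lit 5704584861392805897782576545865)) (.leaf (nat_lit 5704584861392807868099897327689)))) (.node (.node (.leaf (nat_lit 40653970573628697274662774899201)) (.leaf (nat_lit 5794954828994690918261312455169))) (.node (.leaf (nat_lit 41289036235693317317853159096833)) (.leaf (nat_lit 5159889166930068619421764849665))))) (.node (.node (.node (.leaf (nat_lit 5070757144091136724815459910145)) (.leaf (nat_lit 40566076494888626958233428296265))) (.node (.leaf (nat_lit 40655208517727563669261305024513)) (.leaf (nat_lit 5161127111028936953070105133641)))) (.node (.node (.leaf (nat_lit 40566076495552709744955691892737)) (.leaf (nat_lit 40564838550789763413587425231361))) (.node (.leaf (nat_lit 41198666268755514806461396157001))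 (.leaf (nat_lit 5794954828994691160643377037385)))))))) (.node (.node (.node (.node (.node (.node (.leaf (nat_lit 5794954828994688627358922965065)) (.leaf (nat_lit 5161127111028934982752784351233))) (.node (.leaf (nat_lit 40655208518391646139246775894017)) (.leaf (nat_lit 41289036235693317286516928843849)))) (.node (.node (.leaf (nat_lit 5071995088854085589399460904961)) (.leaf (nat_lit 5071995088190000871530098364417))) (.node (.leaf (nat_lit 40564838550789763096919352279041)) (.leaf (nat_lit 5071995088190003123262266053193))))) (.node (.node (.node (.leaf (nat_lit 41199904213518466243431353323593)) (.leaf (nat_lit 40564838550125680626865161670657))) (.node (.leaf (nat_lit 41287798290930366169994600944201)) (.leaf (nat_lit 40564838550125678339879767900673)))) (.node (.node (.leaf (nat_lit 41198666268755515052760456495689)) (.leaf (nat_lit 5071995088854083619082140123137))) (.node (.leaf (nat_lit 41199904213518463987713470103625)) (.leaf (nat_lit 5070757144091134719313632858625)))))) (.node (.node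 (.node (.node (.leaf (nat_lit 5070757143427053902908690006017)) (.leaf (nat_lit 5794954829658771449265692869121))) (.node (.leaf (nat_lit 5159889166930070839886421950465)) (.leaf (nat_lit 40653970572964614738087847657985)))) (.node (.node (.leaf (nat_lit 40566076495552711996687859580929)) (.leaf (nat_lit 41287798290930368417947212316745))) (.node (.leaf (nat_lit 41198666268755515087944962839113)) (.leaf (nat_lit 5070757144091134437830066213377))))) (.node (.node (.node (.leaf (nat_lit 40653970573628697274662774935553)) (.leaf (nat_lit 40566076494888627271121945006081))) (.node (.leaf (nat_lit 5793716884895824801229353254985)) (.leaf (nat_lit 5704584861392807832915391057993)))) (.node (.node (.leaf (nat_lit 40564838550789760880302971195393)) (.leaf (nat_lit 40653970573628697524810111254529))) (.node (.leaf (nat_lit 40566076495552710026370538836553)) (.leaf (nat_lit 5070757144091134473014572519425))))))) (.node (.node (.node (.node (.node (.leaf (nat_lit 5794954828994688947943991672905)) (.leaf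 (nat_lit 5794954828994688908911209386057))) (.node (.leaf (nat_lit 5793716884895822795727526167113)) (.leaf (nat_lit 5705822806155754766352293073409)))) (.node (.node (.leaf (nat_lit 41287798290930366412445385265225)) (.leaf (nat_lit 5070757143427051651107802579457))) (.node (.leaf (nat_lit 40655208517727561382344630993481)) (.leaf (nat_lit 41287798290930368703279055016521))))) (.node (.node (.node (.leaf (nat_lit 5070757143427051967775875568129)) (.leaf (nat_lit 40655208518391646455983568585289))) (.node (.leaf (nat_lit 40564838550789760845118464889345)) (.leaf (nat_lit 5705822806819839558438944281089)))) (.node (.node (.leaf (nat_lit 41289036235693315065983551967745)) (.leaf (nat_lit 40653970572964614773272354000897))) (.node (.leaf (nat_lit 5793716884231739762706202267721)) (.leaf (nat_lit 5159889166265988365983955325441)))))) (.node (.node (.node (.node (.leaf (nat_lit 5705822806155754797688523325513)) (.leaf (nat_lit 40653970572964614487940511338497))) (.node (.leaf (nat_lit 5071995088190000832497316004425))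 (.leaf (nat_lit 41289036236357397817521309258241)))) (.node (.node (.leaf (nat_lit 5704584862056888653168609854025)) (.leaf (nat_lit 5705822806155757014236184707585))) (.node (.leaf (nat_lit 41198666268755517304561343922249)) (.leaf (nat_lit 40653970572964614487940511339009))))) (.node (.node (.node (.leaf (nat_lit 41287798291594449203015924843081)) (.leaf (nat_lit 5161127111693017769337608507977))) (.node (.leaf (nat_lit 5793716884895824766044846985289)) (.leaf (nat_lit 41199904212854383175294242783305)))) (.node (.node (.leaf (nat_lit 41287798290930368703279055016009)) (.leaf (nat_lit 41289036236357400108286259232841))) (.node (.leaf (nat_lit 5794954829658773982550146941441)) (.leaf (nat_lit 40564838550125678093580707598849))))))))) (.node (.node (.node (.node (.node (.node (.node (.leaf (nat_lit 5159889166265988330799448981505)) (.leaf (nat_lit 5071995088854083376700075577345))) (.node (.leaf (nat_lit 5704584861392808114398957666889)) (.leaf (nat_lit 5159889166265985797514994909697)))) (.node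 (.node (.leaf (nat_lit 5705822806155757053268967068161)) (.leaf (nat_lit 5159889166265988365983955324929))) (.node (.leaf (nat_lit 5793716884231740012853538623561)) (.leaf (nat_lit 5070757144091134719313632821249))))) (.node (.node (.node (.leaf (nat_lit 5705822806155754480951730634825)) (.leaf (nat_lit 5161127111693020017358939656777))) (.node (.leaf (nat_lit 41289036236357398137968938451017)) (.leaf (nat_lit 5159889166930068584237258543617)))) (.node (.node (.leaf (nat_lit 5070757144091136689630953603073)) (.leaf (nat_lit 40655208517727561135976850952193))) (.node (.leaf (nat_lit 5161127111028937269669458382849)) (.leaf (nat_lit 5794954828994688666391705326081)))))) (.node (.node (.node (.node (.leaf (nat_lit 41289036236357400389838545653833)) (.leaf (nat_lit 40566076495552711996687859618377))) (.node (.leaf (nat_lit 5705822806819837549088841138689)) (.leaf (nat_lit 40564838550789761126602031534593)))) (.node (.node (.leaf (nat_lit 40655208518391646178279558218313)) (.leaf (nat_lit 5161127111028936984406335459913)))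 (.node (.leaf (nat_lit 5705822806819837588121623461961)) (.leaf (nat_lit 41289036236357400108286259270145))))) (.node (.node (.node (.leaf (nat_lit 41289036235693315347535838314569)) (.leaf (nat_lit 41289036236357397817521309220937))) (.node (.leaf (nat_lit 41198666268755514771276889849929)) (.leaf (nat_lit 40564838550789763413587425267713)))) (.node (.node (.leaf (nat_lit 41198666268091432269886468952137)) (.leaf (nat_lit 40566076495552710026370538799105))) (.node (.leaf (nat_lit 5705822806155754797688523325953)) (.leaf (nat_lit 41289036236357400069253476945993))))))) (.node (.node (.node (.node (.node (.leaf (nat_lit 41199904212854383421524583383113)) (.leaf (nat_lit 5793716884895822553276741881929))) (.node (.leaf (nat_lit 40653970573628697239478268592129)) (.leaf (nat_lit 41198666268091434275388296003657)))) (.node (.node (.leaf (nat_lit 5161127111693020017358939619329)) (.leaf (nat_lit 40564838550125678375064274243585))) (.node (.leaf (nat_lit 5793716884895822553276741845577)) (.leaf (nat_lit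 5704584861392805862598070276681))))) (.node (.node (.node (.leaf (nat_lit 5070757144091137006299026591745)) (.leaf (nat_lit 40653970572964612204803393585665))) (.node (.leaf (nat_lit 41198666268091434556871862685769)) (.leaf (nat_lit 41198666268091434240203789733961)))) (.node (.node (.leaf (nat_lit 41289036236357398098936156127745)) (.leaf (nat_lit 5071995088854085870951747326537))) (.node (.leaf (nat_lit 5704584862056890940154003587657)) (.leaf (nat_lit 5793716884231742260806149996617)))))) (.node (.node (.node (.node (.leaf (nat_lit 40655208517727561421377413354057)) (.leaf (nat_lit 5159889166265988330799448982017))) (.node (.leaf (nat_lit 41198666268755517339745850229321)) (.leaf (nat_lit 41287798290930366134810094600265)))) (.node (.node (.leaf (nat_lit 41289036235693317286516928844289)) (.leaf (nat_lit 41199904213518463671114116928001))) (.node (.leaf (nat_lit 5071995088854085628432243265537)) (.leaf (nat_lit 41287798290930368382762706047049))))) (.node (.node (.node (.leaf (nat_lit 5705822806155756736669613855233))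 (.leaf (nat_lit 41289036235693315347535838315009))) (.node (.leaf (nat_lit 41198666268755514806461396193353)) (.leaf (nat_lit 5070757143427051967775875567617)))) (.node (.node (.leaf (nat_lit 5793716884895825051376689610825)) (.leaf (nat_lit 5161127111028935014089014677505))) (.node (.leaf (nat_lit 5793716884895824766044846948937)) (.leaf (nat_lit 5070757144091134754498139164673)))))))) (.node (.node (.node (.node (.node (.node (.leaf (nat_lit 40564838550125678375064274244097)) (.leaf (nat_lit 40655208518391644207962237472769))) (.node (.leaf (nat_lit 5704584861392805862598070276169)) (.leaf (nat_lit 5070757143427053902908690006529)))) (.node (.node (.leaf (nat_lit 41199904213518466204398571000321)) (.leaf (nat_lit 41199904213518465958030790885449))) (.node (.leaf (nat_lit 5704584862056888688353116197449)) (.leaf (nat_lit 40653970573628695304345454117377))))) (.node (.node (.node (.leaf (nat_lit 5161127111693020056391721943625)) (.leaf (nat_lit 5070757143427051932591369224705))) (.node (.leaf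 (nat_lit 40655208518391643891362884222977)) (.leaf (nat_lit 5161127111693017523107267871305)))) (.node (.node (.leaf (nat_lit 41287798291594451486153042559561)) (.leaf (nat_lit 5159889166930068584237258506241))) (.node (.leaf (nat_lit 41287798290930368668094548672585)) (.leaf (nat_lit 41199904212854380888240129310793)))))) (.node (.node (.node (.node (.leaf (nat_lit 5705822806819837549088841175113)) (.leaf (nat_lit 40655208517727563637925074698825))) (.node (.leaf (nat_lit 41287798291594449238200431186505)) (.leaf (nat_lit 40566076494888629241439265788489)))) (.node (.node (.leaf (nat_lit 5161127111028935014089014678089)) (.leaf (nat_lit 5793716884895822518092235575881))) (.node (.leaf (nat_lit 41287798291594451450968536289865)) (.leaf (nat_lit 41199904213518465926694560632905))))) (.node (.node (.node (.leaf (nat_lit 40566076494888627271121945006665)) (.leaf (nat_lit 5705822806819839558438944243785))) (.node (.leaf (nat_lit 5794954829658773951213916651593)) (.leaf (nat_lit 5070757143427053938093196349953))))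 (.node (.node (.leaf (nat_lit 5159889166930071117521712615937)) (.leaf (nat_lit 40655208518391644207962237436489))) (.node (.leaf (nat_lit 5705822806155757053268967067721)) (.leaf (nat_lit 40564838550125680345381595025921))))))) (.node (.node (.node (.node (.node (.leaf (nat_lit 40653970572964612204803393585153)) (.leaf (nat_lit 40566076495552709776291922219009))) (.node (.leaf (nat_lit 5704584862056888406869549515337)) (.leaf (nat_lit 41199904213518465926694560596481)))) (.node (.node (.leaf (nat_lit 40653970573628695026710163525633)) (.leaf (nat_lit 41199904212854383136261460496457))) (.node (.leaf (nat_lit 5705822806819837302858500538881)) (.leaf (nat_lit 40566076494888626989569658622537))))) (.node (.node (.node (.leaf (nat_lit 40566076495552712028024089870921)) (.leaf (nat_lit 5793716884231742295990656340041))) (.node (.leaf (nat_lit 5704584862056890940154003624009)) (.leaf (nat_lit 40653970573628697524810111291905)))) (.node (.node (.leaf (nat_lit 5704584861392808149583464010313)) (.leaf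 (nat_lit 5794954829658773982550146977865))) (.node (.leaf (nat_lit 41287798291594451208517751968329)) (.leaf (nat_lit 5704584861392805616299009937993)))))) (.node (.node (.node (.node (.leaf (nat_lit 5070757144091136724815459946497)) (.leaf (nat_lit 5071995088854085909984529649665))) (.node (.leaf (nat_lit 41289036236357400389838545617409)) (.leaf (nat_lit 5794954828994691160643377037825)))) (.node (.node (.leaf (nat_lit 41198666268091434240203789734473)) (.leaf (nat_lit 40655208518391646139246775931465))) (.node (.leaf (nat_lit 5071995088190002841847419146241)) (.leaf (nat_lit 5704584861392805897782576546377))))) (.node (.node (.node (.leaf (nat_lit 5793716884231741983170859405897)) (.leaf (nat_lit 5705822806155756736669613854793))) (.node (.leaf (nat_lit 40655208518391646455983568621569)) (.leaf (nat_lit 41198666268091432269886468952649)))) (.node (.node (.leaf (nat_lit 40653970573628694991525657219585)) (.leaf (nat_lit 40566076494888629210103035462217))) (.node (.leaf (nat_lit 5071995088190000589977811980289))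 (.leaf (nat_lit 40564838550125678339879767900161)))))))))) (.node (.node (.node (.node (.node (.node (.node (.node (.leaf (nat_lit 40564838550125680310197088681985)) (.leaf (nat_lit 41199904212854381204976922001921))) (.node (.leaf (nat_lit 40655208518391646424647338332745)) (.leaf (nat_lit 5161127111028937230636676022857)))) (.node (.node (.leaf (nat_lit 40566076494888629522854112694857)) (.leaf (nat_lit 41289036235693315065983551967305))) (.node (.leaf (nat_lit 5794954828994691199676159397961)) (.leaf (nat_lit 40655208517727563391694734135881))))) (.node (.node (.node (.leaf (nat_lit 40653970572964614773272354001409)) (.leaf (nat_lit 5794954829658773951213916688897))) (.node (.leaf (nat_lit 41199904213518463956377239814657)) (.leaf (nat_lit 41199904213518463710146899251273)))) (.node (.node (.leaf (nat_lit 41287798291594449203015924879433)) (.leaf (nat_lit 5794954829658771417929462579273))) (.node (.leaf (nat_lit 41289036236357400350805763293257)) (.leaf (nat_lit 5159889166265988088348664697345))))))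 (.node (.node (.node (.node (.leaf (nat_lit 5161127111693019770991159542345)) (.leaf (nat_lit 40655208518391646178279558254593))) (.node (.leaf (nat_lit 41287798290930368382762706047561)) (.leaf (nat_lit 41289036235693317317853159096393)))) (.node (.node (.leaf (nat_lit 41287798290930366134810094600777)) (.leaf (nat_lit 5161127111028934697352221949953))) (.node (.leaf (nat_lit 5794954829658771699344309486081)) (.leaf (nat_lit 5070757143427054219576762995201))))) (.node (.node (.node (.leaf (nat_lit 5071995088190003084229483692033)) (.leaf (nat_lit 41287798291594448952868588487241))) (.node (.leaf (nat_lit 5705822806155754480951730635265)) (.leaf (nat_lit 5793716884231740048038044893769)))) (.node (.node (.leaf (nat_lit 5159889166930071152706218885633)) (.leaf (nat_lit 5159889166265986082846837572097))) (.node (.leaf (nat_lit 5704584862056890623485930672201)) (.leaf (nat_lit 40653970572964612239987899929089))))))) (.node (.node (.node (.node (.node (.leaf (nat_lit 5159889166265985832699501253121))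 (.leaf (nat_lit 5070757143427054219576762994689))) (.node (.leaf (nat_lit 5704584862056888653168609890377)) (.leaf (nat_lit 40653970573628695269160947810305)))) (.node (.node (.leaf (nat_lit 40566076495552709776291922182729)) (.leaf (nat_lit 5794954829658773669661630267905))) (.node (.leaf (nat_lit 40566076495552712028024089907201)) (.leaf (nat_lit 5159889166930068869569101206017))))) (.node (.node (.node (.leaf (nat_lit 41289036236357400350805763330561)) (.leaf (nat_lit 5071995088190003123262266052609))) (.node (.leaf (nat_lit 5159889166930071117521712578561)) (.leaf (nat_lit 5071995088854083658114922447433)))) (.node (.node (.leaf (nat_lit 5704584861392807832915391058505)) (.leaf (nat_lit 5705822806819839804806724358657))) (.node (.leaf (nat_lit 5704584862056890658670436941897)) (.leaf (nat_lit 40655208517727561135976850952777)))))) (.node (.node (.node (.node (.leaf (nat_lit 41199904212854380919576359637505)) (.leaf (nat_lit 40566076494888626989569658621953))) (.node (.leaf (nat_lit 5161127111693019770991159578625))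 (.leaf (nat_lit 5161127111028937269669458383433)))) (.node (.node (.leaf (nat_lit 41198666268091434521687356342345)) (.leaf (nat_lit 5794954828994688666391705325641))) (.node (.leaf (nat_lit 41289036235693317599268006039625)) (.leaf (nat_lit 5161127111693017800673838760521))))) (.node (.node (.node (.leaf (nat_lit 5793716884231739727521695924297)) (.leaf (nat_lit 41287798291594451173333245661257))) (.node (.leaf (nat_lit 41198666268755517058262283620937)) (.leaf (nat_lit 41289036236357400069253476909569)))) (.node (.node (.leaf (nat_lit 40653970573628695026710163489281)) (.leaf (nat_lit 41287798291594451173333245624905))) (.node (.leaf (nat_lit 41199904213518463671114116890697)) (.leaf (nat_lit 5793716884231739762706202268233)))))))) (.node (.node (.node (.node (.node (.node (.leaf (nat_lit 40653970572964614452756004995073)) (.leaf (nat_lit 5794954828994690879228530167881))) (.node (.leaf (nat_lit 5793716884231742018355365675593)) (.leaf (nat_lit 5161127111693017800673838796801)))) (.node (.node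 (.leaf (nat_lit 5794954829658771449265692905545)) (.leaf (nat_lit 41199904213518463710146899214849))) (.node (.leaf (nat_lit 5704584862056888406869549551689)) (.leaf (nat_lit 41198666268091431988402902270025))))) (.node (.node (.node (.leaf (nat_lit 41199904213518463987713470140929)) (.leaf (nat_lit 5071995088854085589399460942409))) (.node (.leaf (nat_lit 5704584861392805581114503594057)) (.leaf (nat_lit 5161127111693017769337608470529)))) (.node (.node (.leaf (nat_lit 5159889166930070839886421987841)) (.leaf (nat_lit 5071995088854083376700075541065))) (.node (.leaf (nat_lit 5070757143427053938093196349441)) (.leaf (nat_lit 5793716884231740012853538624073)))))) (.node (.node (.node (.node (.leaf (nat_lit 5159889166265986118031343915521)) (.leaf (nat_lit 40655208517727563391694734135297))) (.node (.leaf (nat_lit 41287798291594451486153042595913)) (.leaf (nat_lit 40566076494888629491517882368001)))) (.node (.node (.leaf (nat_lit 5704584861392807868099897328201)) (.leaf (nat_lit 40653970572964612239987899928577)))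 (.node (.leaf (nat_lit 41199904212854381165944139714633)) (.leaf (nat_lit 41287798290930368668094548673097))))) (.node (.node (.node (.leaf (nat_lit 41198666268091432023587408613961)) (.leaf (nat_lit 5705822806819839836142954611201))) (.node (.leaf (nat_lit 5793716884895825086561195917897)) (.leaf (nat_lit 40653970573628697559994617561601)))) (.node (.node (.leaf (nat_lit 5704584862056890904969497317961)) (.leaf (nat_lit 5704584861392808149583464009801))) (.node (.leaf (nat_lit 41289036235693317567931775713793)) (.leaf (nat_lit 40653970572964612482438684213249))))))) (.node (.node (.node (.node (.node (.leaf (nat_lit 5794954828994691199676159398401)) (.leaf (nat_lit 5704584862056888371685043245641))) (.node (.leaf (nat_lit 40564838550789763096919352316417)) (.leaf (nat_lit 5071995088190002802814636786249)))) (.node (.node (.leaf (nat_lit 5705822806819837271522270286337)) (.leaf (nat_lit 40566076494888627239785714679809))) (.node (.leaf (nat_lit 5704584862056888371685043208265)) (.leaf (nat_lit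 40564838550789761161786537840641))))) (.node (.node (.node (.leaf (nat_lit 5794954829658771699344309522505)) (.leaf (nat_lit 40564838550789763378402918924289))) (.node (.leaf (nat_lit 5704584862056890658670436979273)) (.leaf (nat_lit 5705822806819839836142954647625)))) (.node (.node (.leaf (nat_lit 40566076494888626958233428295681)) (.leaf (nat_lit 5794954829658773700997860594177))) (.node (.leaf (nat_lit 40566076494888629522854112694273)) (.leaf (nat_lit 5705822806155757014236184707145)))))) (.node (.node (.node (.node (.leaf (nat_lit 5794954828994690879228530168321)) (.leaf (nat_lit 41198666268755517304561343959625))) (.node (.leaf (nat_lit 41287798291594451450968536252489)) (.leaf (nat_lit 40655208518391643891362884260425)))) (.node (.node (.leaf (nat_lit 40653970573628697239478268629505)) (.leaf (nat_lit 5159889166265985832699501252609))) (.node (.leaf (nat_lit 41199904213518466243431353287169)) (.leaf (nat_lit 5705822806819839519406161956937))))) (.node (.node (.node (.leaf (nat_lit 5070757144091136689630953640449))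 (.leaf (nat_lit 5071995088190000832497316003841))) (.node (.leaf (nat_lit 5794954828994688947943991673345)) (.leaf (nat_lit 40653970573628695269160947847681)))) (.node (.node (.leaf (nat_lit 41198666268755514771276889887305)) (.leaf (nat_lit 41199904212854381165944139715073))) (.node (.leaf (nat_lit 5794954829658773700997860556873)) (.leaf (nat_lit 40653970572964614738087847657473))))))))) (.node (.node (.node (.node (.node (.node (.node (.leaf (nat_lit 40564838550125680626865161671169)) (.leaf (nat_lit 5071995088854083619082140160585))) (.node (.leaf (nat_lit 5794954828994688627358922965505)) (.leaf (nat_lit 40655208517727561382344630992897)))) (.node (.node (.leaf (nat_lit 5071995088854085909984529613385)) (.leaf (nat_lit 41198666268755517023077777277513))) (.node (.leaf (nat_lit 5793716884895822795727526203465)) (.leaf (nat_lit 5793716884231742018355365675081))))) (.node (.node (.node (.leaf (nat_lit 5071995088854085628432243229257)) (.leaf (nat_lit 41289036235693315034647321641473))) (.node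 (.leaf (nat_lit 5161127111028937230636676022273)) (.leaf (nat_lit 41198666268091434521687356342857)))) (.node (.node (.leaf (nat_lit 5793716884231740048038044893257)) (.leaf (nat_lit 5070757143427054184392256651777))) (.node (.leaf (nat_lit 40564838550125678058396201255425)) (.leaf (nat_lit 5794954828994690918261312454729)))))) (.node (.node (.node (.node (.leaf (nat_lit 41289036236357398137968938488321)) (.leaf (nat_lit 5793716884895822518092235538505))) (.node (.leaf (nat_lit 41198666268755515052760456532041)) (.leaf (nat_lit 41287798290930366412445385265737)))) (.node (.node (.leaf (nat_lit 5794954829658771730680539812353)) (.leaf (nat_lit 40564838550789761126602031497217))) (.node (.leaf (nat_lit 41198666268755517339745850265673)) (.leaf (nat_lit 41289036236357397856554091581513))))) (.node (.node (.node (.leaf (nat_lit 41199904212854383136261460496897)) (.leaf (nat_lit 5704584862056890623485930635849))) (.node (.leaf (nat_lit 40653970573628694991525657182209)) (.leaf (nat_lit 40566076495552710057706769089097))))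 (.node (.node (.leaf (nat_lit 5794954829658771417929462616577)) (.leaf (nat_lit 40566076495552712309576376255049))) (.node (.leaf (nat_lit 40566076495552712309576376291329)) (.leaf (nat_lit 41287798290930366447629891535433))))))) (.node (.node (.node (.node (.node (.leaf (nat_lit 40655208517727563669261305025097)) (.leaf (nat_lit 5793716884895822830912032510537))) (.node (.leaf (nat_lit 41198666268091432305070975221833)) (.leaf (nat_lit 40564838550125678093580707598337)))) (.node (.node (.leaf (nat_lit 5070757144091137006299026555393)) (.leaf (nat_lit 5071995088190003084229483692617))) (.node (.leaf (nat_lit 5793716884895822830912032473161)) (.leaf (nat_lit 41289036235693315034647321641033))))) (.node (.node (.node (.leaf (nat_lit 41287798290930368417947212317257)) (.leaf (nat_lit 40655208518391644168929455112193))) (.node (.leaf (nat_lit 41287798291594448917684082217545)) (.leaf (nat_lit 5159889166930068619421764813313)))) (.node (.node (.leaf (nat_lit 5161127111028934736385004311113)) (.leaf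 (nat_lit 41199904212854380888240129311233))) (.node (.leaf (nat_lit 5705822806819839804806724321353)) (.leaf (nat_lit 5070757144091134754498139128321)))))) (.node (.node (.node (.node (.leaf (nat_lit 40655208517727561104640620625921)) (.leaf (nat_lit 5794954829658771730680539775049))) (.node (.leaf (nat_lit 41198666268755515087944962801737)) (.leaf (nat_lit 40564838550789761161786537804289)))) (.node (.node (.leaf (nat_lit 40564838550789763132103858622465)) (.leaf (nat_lit 40566076495552709744955691930185))) (.node (.leaf (nat_lit 5161127111693019739654929289801)) (.leaf (nat_lit 5070757144091134473014572483073))))) (.node (.node (.node (.leaf (nat_lit 5159889166930070875070928293889)) (.leaf (nat_lit 5161127111693017523107267907585))) (.node (.leaf (nat_lit 5071995088854083337667293254217)) (.leaf (nat_lit 41199904212854383452860813709825)))) (.node (.node (.leaf (nat_lit 5070757144091136971114520248321)) (.leaf (nat_lit 41289036236357397856554091545089))) (.node (.leaf (nat_lit 40655208517727561421377413353473))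 (.leaf (nat_lit 5159889166265985797514994909185)))))))) (.node (.node (.node (.node (.node (.node (.leaf (nat_lit 41289036236357398098936156164169)) (.leaf (nat_lit 40564838550125680310197088682497))) (.node (.leaf (nat_lit 5161127111028936953070105133057)) (.leaf (nat_lit 5071995088190000550945029619713)))) (.node (.node (.leaf (nat_lit 5159889166930071152706218921985)) (.leaf (nat_lit 41289036235693315316199608062465))) (.node (.leaf (nat_lit 5705822806155754766352293072969)) (.leaf (nat_lit 5705822806155754519984512995841))))) (.node (.node (.node (.leaf (nat_lit 5161127111693019739654929252353)) (.leaf (nat_lit 40566076495552712278240145965057))) (.node (.leaf (nat_lit 40564838550789760880302971159041)) (.leaf (nat_lit 5070757144091134437830066176001)))) (.node (.node (.leaf (nat_lit 41287798291594449238200431149129)) (.leaf (nat_lit 41198666268091432023587408613449))) (.node (.leaf (nat_lit 41287798291594448917684082180169)) (.leaf (nat_lit 41198666268091434556871862686281)))))) (.node (.node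 (.node (.node (.leaf (nat_lit 5071995088190000589977811980873)) (.leaf (nat_lit 5071995088854083337667293216769))) (.node (.leaf (nat_lit 41289036235693315316199608062025)) (.leaf (nat_lit 5159889166930068869569101168641)))) (.node (.node (.leaf (nat_lit 5071995088190002802814636785665)) (.leaf (nat_lit 40655208518391643922699114549249))) (.node (.leaf (nat_lit 5161127111693020056391721979905)) (.leaf (nat_lit 41198666268091432305070975222345))))) (.node (.node (.node (.leaf (nat_lit 40655208517727563352661951774721)) (.leaf (nat_lit 5161127111028934736385004310529))) (.node (.leaf (nat_lit 5704584861392805616299009937481)) (.leaf (nat_lit 5794954828994688908911209386497)))) (.node (.node (.leaf (nat_lit 41198666268091431988402902270537)) (.leaf (nat_lit 5793716884231741983170859405385))) (.node (.leaf (nat_lit 41198666268755517058262283583561)) (.leaf (nat_lit 5159889166265986082846837571585))))))) (.node (.node (.node (.node (.node (.leaf (nat_lit 40653970572964612517623190557185)) (.leaf (nat_lit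 5705822806155756768005844107777))) (.node (.leaf (nat_lit 5704584862056888688353116160073)) (.leaf (nat_lit 5159889166265986118031343915009)))) (.node (.node (.leaf (nat_lit 5793716884895825051376689648201)) (.leaf (nat_lit 5071995088854083658114922483713))) (.node (.leaf (nat_lit 40566076494888629241439265787905)) (.leaf (nat_lit 5704584861392808114398957666377))))) (.node (.node (.node (.leaf (nat_lit 5705822806819837588121623499265)) (.leaf (nat_lit 5159889166265988088348664696833))) (.node (.leaf (nat_lit 40566076495552712278240146002505)) (.leaf (nat_lit 5704584861392805581114503594569)))) (.node (.node (.leaf (nat_lit 40655208518391643922699114512969)) (.leaf (nat_lit 40564838550789763378402918961665))) (.node (.leaf (nat_lit 41287798291594448952868588523593)) (.leaf (nat_lit 5159889166930068904753607512065)))))) (.node (.node (.node (.node (.leaf (nat_lit 5793716884231742295990656340553)) (.leaf (nat_lit 41199904212854383175294242783745))) (.node (.leaf (nat_lit 5161127111028936984406335459329))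 (.leaf (nat_lit 5070757143427051686292308922369)))) (.node (.node (.leaf (nat_lit 40566076494888629210103035461633)) (.leaf (nat_lit 40653970572964612482438684213761))) (.node (.leaf (nat_lit 5071995088190000550945029620297)) (.leaf (nat_lit 40653970573628697559994617597953))))) (.node (.node (.node (.leaf (nat_lit 5070757143427051686292308922881)) (.leaf (nat_lit 40566076495552710057706769125377))) (.node (.leaf (nat_lit 40655208518391644168929455149641)) (.leaf (nat_lit 40564838550125680591680655327745)))) (.node (.node (.leaf (nat_lit 5793716884895824801229353292361)) (.leaf (nat_lit 5705822806819839519406161920513))) (.node (.leaf (nat_lit 40655208517727561104640620626505)) (.leaf (nat_lit 40564838550125680591680655327233)))))))))))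
noncomputable def t512_P : NT := (.node (.node (.node (.node (.node (.node (.node (.node (.node (.leaf (nat_lit 0)) (.leaf (nat_lit 742))) (.node (.leaf (nat_lit 318)) (.leaf (nat_lit 1243)))) (.node (.node (.leaf (nat_lit 131)) (.leaf (nat_lit 979))) (.node (.leaf (nat_lit 523)) (.leaf (nat_lit 1548))))) (.node (.node (.node (.leaf (nat_lit 57)) (.leaf (nat_lit 852))) (.node (.leaf (nat_lit 416)) (.leaf (nat_lit 1384)))) (.node (.node (.leaf (nat_lit 219)) (.leaf (nat_lit 1103))) (.node (.leaf (nat_lit 631)) (.leaf (nat_lit 1731)))))) (.node (.node (.node (.node (.leaf (nat_lit 23)) (.leaf (nat_lit 796))) (.node (.leaf (nat_lit 375)) (.leaf (nat_lit 1308)))) (.node (.node (.leaf (nat_lit 170)) (.leaf (nat_lit 1039))) (.node (.leaf (nat_lit 576)) (.leaf (nat_lit 1627))))) (.node (.node (.node (.leaf (nat_lit 92)) (.leaf (nat_lit 924))) (.node (.leaf (nat_lit 477)) (.leaf (nat_lit 1462)))) (.node (.node (.leaf (nat_lit 270)) (.leaf (nat_lit 1167))) (.node (.leaf (nat_lit 691)) (.leaf (nat_lit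 1839))))))) (.node (.node (.node (.node (.node (.leaf (nat_lit 8)) (.leaf (nat_lit 770))) (.node (.leaf (nat_lit 347)) (.leaf (nat_lit 1270)))) (.node (.node (.leaf (nat_lit 151)) (.leaf (nat_lit 1006))) (.node (.leaf (nat_lit 557)) (.leaf (nat_lit 1586))))) (.node (.node (.node (.leaf (nat_lit 73)) (.leaf (nat_lit 886))) (.node (.leaf (nat_lit 451)) (.leaf (nat_lit 1419)))) (.node (.node (.leaf (nat_lit 247)) (.leaf (nat_lit 1135))) (.node (.leaf (nat_lit 670)) (.leaf (nat_lit 1779)))))) (.node (.node (.node (.node (.leaf (nat_lit 40)) (.leaf (nat_lit 826))) (.node (.leaf (nat_lit 397)) (.leaf (nat_lit 1343)))) (.node (.node (.leaf (nat_lit 195)) (.leaf (nat_lit 1071))) (.node (.leaf (nat_lit 603)) (.leaf (nat_lit 1671))))) (.node (.node (.node (.leaf (nat_lit 107)) (.leaf (nat_lit 950))) (.node (.leaf (nat_lit 499)) (.leaf (nat_lit 1514)))) (.node (.node (.leaf (nat_lit 294)) (.leaf (nat_lit 1203))) (.node (.leaf (nat_lit 714)) (.leaf (nat_lit 1930)))))))) (.node (.node (.node (.node (.node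 (.node (.leaf (nat_lit 3)) (.leaf (nat_lit 755))) (.node (.leaf (nat_lit 330)) (.leaf (nat_lit 1258)))) (.node (.node (.leaf (nat_lit 142)) (.leaf (nat_lit 991))) (.node (.leaf (nat_lit 546)) (.leaf (nat_lit 1566))))) (.node (.node (.node (.leaf (nat_lit 64)) (.leaf (nat_lit 871))) (.node (.leaf (nat_lit 435)) (.leaf (nat_lit 1403)))) (.node (.node (.leaf (nat_lit 235)) (.leaf (nat_lit 1116))) (.node (.leaf (nat_lit 646)) (.leaf (nat_lit 1763)))))) (.node (.node (.node (.node (.leaf (nat_lit 33)) (.leaf (nat_lit 811))) (.node (.leaf (nat_lit 386)) (.leaf (nat_lit 1327)))) (.node (.node (.leaf (nat_lit 186)) (.leaf (nat_lit 1051))) (.node (.leaf (nat_lit 590)) (.leaf (nat_lit 1655))))) (.node (.node (.node (.leaf (nat_lit 99)) (.leaf (nat_lit 935))) (.node (.leaf (nat_lit 488)) (.leaf (nat_lit 1483)))) (.node (.node (.leaf (nat_lit 279)) (.leaf (nat_lit 1187))) (.node (.leaf (nat_lit 700)) (.leaf (nat_lit 1871))))))) (.node (.node (.node (.node (.node (.leaf (nat_lit 16)) (.leaf (nat_lit 787)))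 (.node (.leaf (nat_lit 363)) (.leaf (nat_lit 1295)))) (.node (.node (.leaf (nat_lit 159)) (.leaf (nat_lit 1023))) (.node (.leaf (nat_lit 567)) (.leaf (nat_lit 1603))))) (.node (.node (.node (.leaf (nat_lit 82)) (.leaf (nat_lit 898))) (.node (.leaf (nat_lit 466)) (.leaf (nat_lit 1444)))) (.node (.node (.leaf (nat_lit 258)) (.leaf (nat_lit 1155))) (.node (.leaf (nat_lit 681)) (.leaf (nat_lit 1811)))))) (.node (.node (.node (.node (.leaf (nat_lit 49)) (.leaf (nat_lit 843))) (.node (.leaf (nat_lit 407)) (.leaf (nat_lit 1371)))) (.node (.node (.leaf (nat_lit 207)) (.leaf (nat_lit 1084))) (.node (.leaf (nat_lit 618)) (.leaf (nat_lit 1703))))) (.node (.node (.node (.leaf (nat_lit 119)) (.leaf (nat_lit 960))) (.node (.leaf (nat_lit 510)) (.leaf (nat_lit 1526)))) (.node (.node (.leaf (nat_lit 304)) (.leaf (nat_lit 1224))) (.node (.leaf (nat_lit 727)) (.leaf (nat_lit 1959))))))))) (.node (.node (.node (.node (.node (.node (.node (.leaf (nat_lit 1)) (.leaf (nat_lit 747))) (.node (.leaf (nat_lit 325)) (.leaf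 (nat_lit 1251)))) (.node (.node (.leaf (nat_lit 138)) (.leaf (nat_lit 987))) (.node (.leaf (nat_lit 531)) (.leaf (nat_lit 1555))))) (.node (.node (.node (.leaf (nat_lit 59)) (.leaf (nat_lit 862))) (.node (.leaf (nat_lit 426)) (.leaf (nat_lit 1391)))) (.node (.node (.leaf (nat_lit 226)) (.leaf (nat_lit 1108))) (.node (.leaf (nat_lit 636)) (.leaf (nat_lit 1756)))))) (.node (.node (.node (.node (.leaf (nat_lit 28)) (.leaf (nat_lit 806))) (.node (.leaf (nat_lit 379)) (.leaf (nat_lit 1315)))) (.node (.node (.leaf (nat_lit 179)) (.leaf (nat_lit 1042))) (.node (.leaf (nat_lit 586)) (.leaf (nat_lit 1648))))) (.node (.node (.node (.leaf (nat_lit 97)) (.leaf (nat_lit 931))) (.node (.leaf (nat_lit 483)) (.leaf (nat_lit 1467)))) (.node (.node (.leaf (nat_lit 275)) (.leaf (nat_lit 1180))) (.node (.leaf (nat_lit 695)) (.leaf (nat_lit 1866))))))) (.node (.node (.node (.node (.node (.leaf (nat_lit 11)) (.leaf (nat_lit 780))) (.node (.leaf (nat_lit 354)) (.leaf (nat_lit 1279)))) (.node (.node (.leaf (nat_lit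 154)) (.leaf (nat_lit 1015))) (.node (.leaf (nat_lit 560)) (.leaf (nat_lit 1595))))) (.node (.node (.node (.leaf (nat_lit 75)) (.leaf (nat_lit 895))) (.node (.leaf (nat_lit 456)) (.leaf (nat_lit 1427)))) (.node (.node (.leaf (nat_lit 251)) (.leaf (nat_lit 1146))) (.node (.leaf (nat_lit 674)) (.leaf (nat_lit 1795)))))) (.node (.node (.node (.node (.leaf (nat_lit 44)) (.leaf (nat_lit 835))) (.node (.leaf (nat_lit 400)) (.leaf (nat_lit 1351)))) (.node (.node (.leaf (nat_lit 202)) (.leaf (nat_lit 1079))) (.node (.leaf (nat_lit 611)) (.leaf (nat_lit 1687))))) (.node (.node (.node (.leaf (nat_lit 114)) (.leaf (nat_lit 955))) (.node (.leaf (nat_lit 502)) (.leaf (nat_lit 1523)))) (.node (.node (.leaf (nat_lit 299)) (.leaf (nat_lit 1219))) (.node (.leaf (nat_lit 722)) (.leaf (nat_lit 1935)))))))) (.node (.node (.node (.node (.node (.node (.leaf (nat_lit 6)) (.leaf (nat_lit 760))) (.node (.leaf (nat_lit 339)) (.leaf (nat_lit 1267)))) (.node (.node (.leaf (nat_lit 146)) (.leaf (nat_lit 996))) (.node (.leaf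 (nat_lit 550)) (.leaf (nat_lit 1571))))) (.node (.node (.node (.leaf (nat_lit 68)) (.leaf (nat_lit 879))) (.node (.leaf (nat_lit 446)) (.leaf (nat_lit 1410)))) (.node (.node (.leaf (nat_lit 240)) (.leaf (nat_lit 1123))) (.node (.leaf (nat_lit 655)) (.leaf (nat_lit 1774)))))) (.node (.node (.node (.node (.leaf (nat_lit 35)) (.leaf (nat_lit 816))) (.node (.leaf (nat_lit 390)) (.leaf (nat_lit 1334)))) (.node (.node (.leaf (nat_lit 193)) (.leaf (nat_lit 1066))) (.node (.leaf (nat_lit 598)) (.leaf (nat_lit 1666))))) (.node (.node (.node (.leaf (nat_lit 105)) (.leaf (nat_lit 940))) (.node (.leaf (nat_lit 495)) (.leaf (nat_lit 1499)))) (.node (.node (.leaf (nat_lit 286)) (.leaf (nat_lit 1198))) (.node (.leaf (nat_lit 710)) (.leaf (nat_lit 1895))))))) (.node (.node (.node (.node (.node (.leaf (nat_lit 20)) (.leaf (nat_lit 791))) (.node (.leaf (nat_lit 368)) (.leaf (nat_lit 1300)))) (.node (.node (.leaf (nat_lit 163)) (.leaf (nat_lit 1030))) (.node (.leaf (nat_lit 571)) (.leaf (nat_lit 1622))))) (.node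 (.node (.node (.leaf (nat_lit 87)) (.leaf (nat_lit 907))) (.node (.leaf (nat_lit 470)) (.leaf (nat_lit 1451)))) (.node (.node (.leaf (nat_lit 267)) (.leaf (nat_lit 1158))) (.node (.leaf (nat_lit 684)) (.leaf (nat_lit 1823)))))) (.node (.node (.node (.node (.leaf (nat_lit 51)) (.leaf (nat_lit 847))) (.node (.leaf (nat_lit 411)) (.leaf (nat_lit 1376)))) (.node (.node (.leaf (nat_lit 212)) (.leaf (nat_lit 1094))) (.node (.leaf (nat_lit 623)) (.leaf (nat_lit 1715))))) (.node (.node (.node (.leaf (nat_lit 124)) (.leaf (nat_lit 970))) (.node (.leaf (nat_lit 515)) (.leaf (nat_lit 1535)))) (.node (.node (.leaf (nat_lit 314)) (.leaf (nat_lit 1234))) (.node (.leaf (nat_lit 735)) (.leaf (nat_lit 1995)))))))))) (.node (.node (.node (.node (.node (.node (.node (.node (.leaf (nat_lit 0)) (.leaf (nat_lit 743))) (.node (.leaf (nat_lit 323)) (.leaf (nat_lit 1246)))) (.node (.node (.leaf (nat_lit 135)) (.leaf (nat_lit 982))) (.node (.leaf (nat_lit 526)) (.leaf (nat_lit 1550))))) (.node (.node (.node (.leaf (nat_lit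 58)) (.leaf (nat_lit 859))) (.node (.leaf (nat_lit 423)) (.leaf (nat_lit 1386)))) (.node (.node (.leaf (nat_lit 223)) (.leaf (nat_lit 1106))) (.node (.leaf (nat_lit 634)) (.leaf (nat_lit 1743)))))) (.node (.node (.node (.node (.leaf (nat_lit 27)) (.leaf (nat_lit 803))) (.node (.leaf (nat_lit 377)) (.leaf (nat_lit 1310)))) (.node (.node (.leaf (nat_lit 172)) (.leaf (nat_lit 1040))) (.node (.leaf (nat_lit 583)) (.leaf (nat_lit 1639))))) (.node (.node (.node (.leaf (nat_lit 94)) (.leaf (nat_lit 926))) (.node (.leaf (nat_lit 479)) (.leaf (nat_lit 1463)))) (.node (.node (.leaf (nat_lit 271)) (.leaf (nat_lit 1175))) (.node (.leaf (nat_lit 694)) (.leaf (nat_lit 1851))))))) (.node (.node (.node (.node (.node (.leaf (nat_lit 10)) (.leaf (nat_lit 775))) (.node (.leaf (nat_lit 351)) (.leaf (nat_lit 1275)))) (.node (.node (.leaf (nat_lit 153)) (.leaf (nat_lit 1008))) (.node (.leaf (nat_lit 559)) (.leaf (nat_lit 1591))))) (.node (.node (.node (.leaf (nat_lit 74)) (.leaf (nat_lit 888))) (.node (.leaf (nat_lit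 454)) (.leaf (nat_lit 1426)))) (.node (.node (.leaf (nat_lit 249)) (.leaf (nat_lit 1143))) (.node (.leaf (nat_lit 672)) (.leaf (nat_lit 1794)))))) (.node (.node (.node (.node (.leaf (nat_lit 42)) (.leaf (nat_lit 828))) (.node (.leaf (nat_lit 399)) (.leaf (nat_lit 1350)))) (.node (.node (.leaf (nat_lit 199)) (.leaf (nat_lit 1072))) (.node (.leaf (nat_lit 604)) (.leaf (nat_lit 1686))))) (.node (.node (.node (.leaf (nat_lit 111)) (.leaf (nat_lit 954))) (.node (.leaf (nat_lit 500)) (.leaf (nat_lit 1516)))) (.node (.node (.leaf (nat_lit 295)) (.leaf (nat_lit 1218))) (.node (.leaf (nat_lit 719)) (.leaf (nat_lit 1931)))))))) (.node (.node (.node (.node (.node (.node (.leaf (nat_lit 5)) (.leaf (nat_lit 758))) (.node (.leaf (nat_lit 335)) (.leaf (nat_lit 1260)))) (.node (.node (.leaf (nat_lit 145)) (.leaf (nat_lit 995))) (.node (.leaf (nat_lit 548)) (.leaf (nat_lit 1567))))) (.node (.node (.node (.leaf (nat_lit 66)) (.leaf (nat_lit 874))) (.node (.leaf (nat_lit 439)) (.leaf (nat_lit 1408)))) (.node (.node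 (.leaf (nat_lit 238)) (.leaf (nat_lit 1118))) (.node (.leaf (nat_lit 651)) (.leaf (nat_lit 1767)))))) (.node (.node (.node (.node (.leaf (nat_lit 34)) (.leaf (nat_lit 815))) (.node (.leaf (nat_lit 388)) (.leaf (nat_lit 1332)))) (.node (.node (.leaf (nat_lit 191)) (.leaf (nat_lit 1059))) (.node (.leaf (nat_lit 595)) (.leaf (nat_lit 1659))))) (.node (.node (.node (.leaf (nat_lit 103)) (.leaf (nat_lit 939))) (.node (.leaf (nat_lit 490)) (.leaf (nat_lit 1487)))) (.node (.node (.leaf (nat_lit 283)) (.leaf (nat_lit 1191))) (.node (.leaf (nat_lit 707)) (.leaf (nat_lit 1883))))))) (.node (.node (.node (.node (.node (.leaf (nat_lit 18)) (.leaf (nat_lit 790))) (.node (.leaf (nat_lit 366)) (.leaf (nat_lit 1298)))) (.node (.node (.leaf (nat_lit 162)) (.leaf (nat_lit 1027))) (.node (.leaf (nat_lit 570)) (.leaf (nat_lit 1607))))) (.node (.node (.node (.leaf (nat_lit 83)) (.leaf (nat_lit 903))) (.node (.leaf (nat_lit 468)) (.leaf (nat_lit 1446)))) (.node (.node (.leaf (nat_lit 262)) (.leaf (nat_lit 1156)))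 (.node (.leaf (nat_lit 683)) (.leaf (nat_lit 1822)))))) (.node (.node (.node (.node (.leaf (nat_lit 50)) (.leaf (nat_lit 846))) (.node (.leaf (nat_lit 410)) (.leaf (nat_lit 1374)))) (.node (.node (.leaf (nat_lit 210)) (.leaf (nat_lit 1091))) (.node (.leaf (nat_lit 619)) (.leaf (nat_lit 1714))))) (.node (.node (.node (.leaf (nat_lit 122)) (.leaf (nat_lit 967))) (.node (.leaf (nat_lit 511)) (.leaf (nat_lit 1531)))) (.node (.node (.leaf (nat_lit 311)) (.leaf (nat_lit 1231))) (.node (.leaf (nat_lit 728)) (.leaf (nat_lit 1975))))))))) (.node (.node (.node (.node (.node (.node (.node (.leaf (nat_lit 2)) (.leaf (nat_lit 748))) (.node (.leaf (nat_lit 327)) (.leaf (nat_lit 1255)))) (.node (.node (.leaf (nat_lit 140)) (.leaf (nat_lit 990))) (.node (.leaf (nat_lit 543)) (.leaf (nat_lit 1559))))) (.node (.node (.node (.leaf (nat_lit 63)) (.leaf (nat_lit 864))) (.node (.leaf (nat_lit 430)) (.leaf (nat_lit 1395)))) (.node (.node (.leaf (nat_lit 228)) (.leaf (nat_lit 1115))) (.node (.leaf (nat_lit 643)) (.leaf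 (nat_lit 1758)))))) (.node (.node (.node (.node (.leaf (nat_lit 30)) (.leaf (nat_lit 810))) (.node (.leaf (nat_lit 383)) (.leaf (nat_lit 1319)))) (.node (.node (.leaf (nat_lit 182)) (.leaf (nat_lit 1047))) (.node (.leaf (nat_lit 588)) (.leaf (nat_lit 1650))))) (.node (.node (.node (.leaf (nat_lit 98)) (.leaf (nat_lit 934))) (.node (.leaf (nat_lit 486)) (.leaf (nat_lit 1482)))) (.node (.node (.leaf (nat_lit 278)) (.leaf (nat_lit 1182))) (.node (.leaf (nat_lit 699)) (.leaf (nat_lit 1867))))))) (.node (.node (.node (.node (.node (.leaf (nat_lit 15)) (.leaf (nat_lit 782))) (.node (.leaf (nat_lit 356)) (.leaf (nat_lit 1287)))) (.node (.node (.leaf (nat_lit 155)) (.leaf (nat_lit 1018))) (.node (.leaf (nat_lit 562)) (.leaf (nat_lit 1602))))) (.node (.node (.node (.leaf (nat_lit 79)) (.leaf (nat_lit 896))) (.node (.leaf (nat_lit 463)) (.leaf (nat_lit 1431)))) (.node (.node (.leaf (nat_lit 255)) (.leaf (nat_lit 1148))) (.node (.leaf (nat_lit 679)) (.leaf (nat_lit 1799)))))) (.node (.node (.node (.node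 (.leaf (nat_lit 46)) (.leaf (nat_lit 838))) (.node (.leaf (nat_lit 402)) (.leaf (nat_lit 1355)))) (.node (.node (.leaf (nat_lit 203)) (.leaf (nat_lit 1082))) (.node (.leaf (nat_lit 614)) (.leaf (nat_lit 1691))))) (.node (.node (.node (.leaf (nat_lit 115)) (.leaf (nat_lit 959))) (.node (.leaf (nat_lit 507)) (.leaf (nat_lit 1524)))) (.node (.node (.leaf (nat_lit 302)) (.leaf (nat_lit 1223))) (.node (.leaf (nat_lit 723)) (.leaf (nat_lit 1947)))))))) (.node (.node (.node (.node (.node (.node (.leaf (nat_lit 7)) (.leaf (nat_lit 767))) (.node (.leaf (nat_lit 346)) (.leaf (nat_lit 1268)))) (.node (.node (.leaf (nat_lit 147)) (.leaf (nat_lit 1003))) (.node (.leaf (nat_lit 555)) (.leaf (nat_lit 1584))))) (.node (.node (.node (.leaf (nat_lit 70)) (.leaf (nat_lit 883))) (.node (.leaf (nat_lit 447)) (.leaf (nat_lit 1415)))) (.node (.node (.leaf (nat_lit 242)) (.leaf (nat_lit 1127))) (.node (.leaf (nat_lit 667)) (.leaf (nat_lit 1775)))))) (.node (.node (.node (.node (.leaf (nat_lit 39)) (.leaf (nat_lit 823)))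 (.node (.leaf (nat_lit 395)) (.leaf (nat_lit 1339)))) (.node (.node (.leaf (nat_lit 194)) (.leaf (nat_lit 1067))) (.node (.leaf (nat_lit 599)) (.leaf (nat_lit 1667))))) (.node (.node (.node (.leaf (nat_lit 106)) (.leaf (nat_lit 947))) (.node (.leaf (nat_lit 497)) (.leaf (nat_lit 1511)))) (.node (.node (.leaf (nat_lit 288)) (.leaf (nat_lit 1199))) (.node (.leaf (nat_lit 712)) (.leaf (nat_lit 1911))))))) (.node (.node (.node (.node (.node (.leaf (nat_lit 22)) (.leaf (nat_lit 795))) (.node (.leaf (nat_lit 370)) (.leaf (nat_lit 1307)))) (.node (.node (.leaf (nat_lit 167)) (.leaf (nat_lit 1032))) (.node (.leaf (nat_lit 575)) (.leaf (nat_lit 1623))))) (.node (.node (.node (.leaf (nat_lit 90)) (.leaf (nat_lit 915))) (.node (.leaf (nat_lit 475)) (.leaf (nat_lit 1455)))) (.node (.node (.leaf (nat_lit 269)) (.leaf (nat_lit 1163))) (.node (.leaf (nat_lit 686)) (.leaf (nat_lit 1827)))))) (.node (.node (.node (.node (.leaf (nat_lit 55)) (.leaf (nat_lit 851))) (.node (.leaf (nat_lit 415)) (.leaf (nat_lit 1383))))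 (.node (.node (.leaf (nat_lit 218)) (.leaf (nat_lit 1099))) (.node (.leaf (nat_lit 624)) (.leaf (nat_lit 1719))))) (.node (.node (.node (.leaf (nat_lit 130)) (.leaf (nat_lit 972))) (.node (.leaf (nat_lit 516)) (.leaf (nat_lit 1543)))) (.node (.node (.leaf (nat_lit 316)) (.leaf (nat_lit 1236))) (.node (.leaf (nat_lit 738)) (.leaf (nat_lit 2019)))))))))))
noncomputable def t512_H : NT := (.node (.node (.node (.node (.node (.node (.node (.node (.node (.node (.node (.leaf (nat_lit 1)) (.leaf (nat_lit 186))) (.node (.leaf (nat_lit 188)) (.leaf (nat_lit 364)))) (.node (.node (.leaf (nat_lit 50)) (.leaf (nat_lit 298))) (.node (.leaf (nat_lit 257)) (.leaf (nat_lit 387))))) (.node (.node (.node (.leaf (nat_lit 20)) (.leaf (nat_lit 213))) (.node (.leaf (nat_lit 104)) (.leaf (nat_lit 346)))) (.node (.node (.leaf (nat_lit 113)) (.leaf (nat_lit 421))) (.node (.leaf (nat_lit 299)) (.leaf (nat_lit 496)))))) (.node (.node (.node (.node (.leaf (nat_lit 36)) (.leaf (nat_lit 199))) (.node (.leaf (nat_lit 208))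 (.leaf (nat_lit 327)))) (.node (.node (.leaf (nat_lit 61)) (.leaf (nat_lit 282))) (.node (.leaf (nat_lit 144)) (.leaf (nat_lit 427))))) (.node (.node (.node (.leaf (nat_lit 23)) (.leaf (nat_lit 231))) (.node (.leaf (nat_lit 133)) (.leaf (nat_lit 366)))) (.node (.node (.leaf (nat_lit 68)) (.leaf (nat_lit 433))) (.node (.leaf (nat_lit 316)) (.leaf (nat_lit 480))))))) (.node (.node (.node (.node (.node (.leaf (nat_lit 2)) (.leaf (nat_lit 334))) (.node (.leaf (nat_lit 167)) (.leaf (nat_lit 452)))) (.node (.node (.leaf (nat_lit 119)) (.leaf (nat_lit 255))) (.node (.leaf (nat_lit 230)) (.leaf (nat_lit 493))))) (.node (.node (.node (.leaf (nat_lit 22)) (.leaf (nat_lit 228))) (.node (.leaf (nat_lit 233)) (.leaf (nat_lit 474)))) (.node (.node (.leaf (nat_lit 160)) (.leaf (nat_lit 395))) (.node (.leaf (nat_lit 196)) (.leaf (nat_lit 479)))))) (.node (.node (.node (.node (.leaf (nat_lit 10)) (.leaf (nat_lit 210))) (.node (.leaf (nat_lit 165)) (.leaf (nat_lit 463)))) (.node (.node (.leaf (nat_lit 121)) (.leaf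 (nat_lit 414))) (.node (.leaf (nat_lit 291)) (.leaf (nat_lit 495))))) (.node (.node (.node (.leaf (nat_lit 75)) (.leaf (nat_lit 382))) (.node (.leaf (nat_lit 251)) (.leaf (nat_lit 385)))) (.node (.node (.leaf (nat_lit 84)) (.leaf (nat_lit 411))) (.node (.leaf (nat_lit 323)) (.leaf (nat_lit 483)))))))) (.node (.node (.node (.node (.node (.node (.leaf (nat_lit 12)) (.leaf (nat_lit 337))) (.node (.leaf (nat_lit 166)) (.leaf (nat_lit 321)))) (.node (.node (.leaf (nat_lit 112)) (.leaf (nat_lit 254))) (.node (.leaf (nat_lit 232)) (.leaf (nat_lit 392))))) (.node (.node (.node (.leaf (nat_lit 16)) (.leaf (nat_lit 330))) (.node (.leaf (nat_lit 145)) (.leaf (nat_lit 447)))) (.node (.node (.leaf (nat_lit 154)) (.leaf (nat_lit 279))) (.node (.leaf (nat_lit 296)) (.leaf (nat_lit 468)))))) (.node (.node (.node (.node (.leaf (nat_lit 32)) (.leaf (nat_lit 209))) (.node (.leaf (nat_lit 169)) (.leaf (nat_lit 351)))) (.node (.node (.leaf (nat_lit 120)) (.leaf (nat_lit 410))) (.node (.leaf (nat_lit 285)) (.leaf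 (nat_lit 484))))) (.node (.node (.node (.leaf (nat_lit 78)) (.leaf (nat_lit 237))) (.node (.leaf (nat_lit 122)) (.leaf (nat_lit 373)))) (.node (.node (.leaf (nat_lit 91)) (.leaf (nat_lit 393))) (.node (.leaf (nat_lit 175)) (.leaf (nat_lit 506))))))) (.node (.node (.node (.node (.node (.leaf (nat_lit 4)) (.leaf (nat_lit 345))) (.node (.leaf (nat_lit 202)) (.leaf (nat_lit 455)))) (.node (.node (.leaf (nat_lit 124)) (.leaf (nat_lit 294))) (.node (.leaf (nat_lit 278)) (.leaf (nat_lit 403))))) (.node (.node (.node (.leaf (nat_lit 63)) (.leaf (nat_lit 374))) (.node (.leaf (nat_lit 141)) (.leaf (nat_lit 361)))) (.node (.node (.leaf (nat_lit 90)) (.leaf (nat_lit 384))) (.node (.leaf (nat_lit 194)) (.leaf (nat_lit 481)))))) (.node (.node (.node (.node (.leaf (nat_lit 34)) (.leaf (nat_lit 341))) (.node (.leaf (nat_lit 223)) (.leaf (nat_lit 466)))) (.node (.node (.leaf (nat_lit 142)) (.leaf (nat_lit 271))) (.node (.leaf (nat_lit 155)) (.leaf (nat_lit 497))))) (.node (.node (.node (.leaf (nat_lit 102)) (.leaf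 (nat_lit 240))) (.node (.leaf (nat_lit 128)) (.leaf (nat_lit 486)))) (.node (.node (.leaf (nat_lit 76)) (.leaf (nat_lit 306))) (.node (.leaf (nat_lit 329)) (.leaf (nat_lit 502))))))))) (.node (.node (.node (.node (.node (.node (.node (.leaf (nat_lit 8)) (.leaf (nat_lit 335))) (.node (.leaf (nat_lit 85)) (.leaf (nat_lit 369)))) (.node (.node (.leaf (nat_lit 58)) (.leaf (nat_lit 303))) (.node (.leaf (nat_lit 236)) (.leaf (nat_lit 423))))) (.node (.node (.node (.leaf (nat_lit 28)) (.leaf (nat_lit 219))) (.node (.leaf (nat_lit 225)) (.leaf (nat_lit 457)))) (.node (.node (.leaf (nat_lit 123)) (.leaf (nat_lit 277))) (.node (.leaf (nat_lit 159)) (.leaf (nat_lit 439)))))) (.node (.node (.node (.node (.leaf (nat_lit 7)) (.leaf (nat_lit 347))) (.node (.leaf (nat_lit 206)) (.leaf (nat_lit 367)))) (.node (.node (.leaf (nat_lit 111)) (.leaf (nat_lit 409))) (.node (.leaf (nat_lit 280)) (.leaf (nat_lit 412))))) (.node (.node (.node (.leaf (nat_lit 64)) (.leaf (nat_lit 380))) (.node (.leaf (nat_lit 247)) (.leaf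 (nat_lit 461)))) (.node (.node (.leaf (nat_lit 170)) (.leaf (nat_lit 295))) (.node (.leaf (nat_lit 177)) (.leaf (nat_lit 467))))))) (.node (.node (.node (.node (.node (.leaf (nat_lit 24)) (.leaf (nat_lit 195))) (.node (.leaf (nat_lit 179)) (.leaf (nat_lit 453)))) (.node (.node (.leaf (nat_lit 39)) (.leaf (nat_lit 292))) (.node (.leaf (nat_lit 140)) (.leaf (nat_lit 494))))) (.node (.node (.node (.leaf (nat_lit 30)) (.leaf (nat_lit 320))) (.node (.leaf (nat_lit 114)) (.leaf (nat_lit 359)))) (.node (.node (.leaf (nat_lit 158)) (.leaf (nat_lit 293))) (.node (.leaf (nat_lit 307)) (.leaf (nat_lit 451)))))) (.node (.node (.node (.node (.leaf (nat_lit 11)) (.leaf (nat_lit 336))) (.node (.leaf (nat_lit 100)) (.leaf (nat_lit 340)))) (.node (.node (.leaf (nat_lit 108)) (.leaf (nat_lit 416))) (.node (.leaf (nat_lit 286)) (.leaf (nat_lit 424))))) (.node (.node (.node (.leaf (nat_lit 66)) (.leaf (nat_lit 245))) (.node (.leaf (nat_lit 256)) (.leaf (nat_lit 415)))) (.node (.node (.leaf (nat_lit 180)) (.leaf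 (nat_lit 311))) (.node (.leaf (nat_lit 181)) (.leaf (nat_lit 500)))))))) (.node (.node (.node (.node (.node (.node (.leaf (nat_lit 3)) (.leaf (nat_lit 190))) (.node (.leaf (nat_lit 183)) (.leaf (nat_lit 355)))) (.node (.node (.leaf (nat_lit 37)) (.leaf (nat_lit 249))) (.node (.leaf (nat_lit 269)) (.leaf (nat_lit 437))))) (.node (.node (.node (.leaf (nat_lit 17)) (.leaf (nat_lit 332))) (.node (.leaf (nat_lit 132)) (.leaf (nat_lit 473)))) (.node (.node (.leaf (nat_lit 60)) (.leaf (nat_lit 407))) (.node (.leaf (nat_lit 200)) (.leaf (nat_lit 444)))))) (.node (.node (.node (.node (.leaf (nat_lit 40)) (.leaf (nat_lit 204))) (.node (.leaf (nat_lit 214)) (.leaf (nat_lit 462)))) (.node (.node (.leaf (nat_lit 107)) (.leaf (nat_lit 267))) (.node (.leaf (nat_lit 150)) (.leaf (nat_lit 417))))) (.node (.node (.node (.leaf (nat_lit 65)) (.leaf (nat_lit 235))) (.node (.leaf (nat_lit 253)) (.leaf (nat_lit 465)))) (.node (.node (.leaf (nat_lit 101)) (.leaf (nat_lit 300))) (.node (.leaf (nat_lit 318)) (.leaf (nat_lit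 508))))))) (.node (.node (.node (.node (.node (.leaf (nat_lit 5)) (.leaf (nat_lit 201))) (.node (.leaf (nat_lit 92)) (.leaf (nat_lit 325)))) (.node (.node (.leaf (nat_lit 52)) (.leaf (nat_lit 264))) (.node (.leaf (nat_lit 146)) (.leaf (nat_lit 406))))) (.node (.node (.node (.leaf (nat_lit 73)) (.leaf (nat_lit 375))) (.node (.leaf (nat_lit 241)) (.leaf (nat_lit 445)))) (.node (.node (.leaf (nat_lit 105)) (.leaf (nat_lit 432))) (.node (.leaf (nat_lit 171)) (.leaf (nat_lit 458)))))) (.node (.node (.node (.node (.leaf (nat_lit 42)) (.leaf (nat_lit 218))) (.node (.leaf (nat_lit 106)) (.leaf (nat_lit 344)))) (.node (.node (.leaf (nat_lit 53)) (.leaf (nat_lit 413))) (.node (.leaf (nat_lit 297)) (.leaf (nat_lit 431))))) (.node (.node (.node (.leaf (nat_lit 31)) (.leaf (nat_lit 246))) (.node (.leaf (nat_lit 262)) (.leaf (nat_lit 487)))) (.node (.node (.leaf (nat_lit 93)) (.leaf (nat_lit 312))) (.node (.leaf (nat_lit 324)) (.leaf (nat_lit 511)))))))))) (.node (.node (.node (.node (.node (.node (.node (.node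 (.leaf (nat_lit 0)) (.leaf (nat_lit 192))) (.node (.leaf (nat_lit 191)) (.leaf (nat_lit 440)))) (.node (.node (.leaf (nat_lit 54)) (.leaf (nat_lit 388))) (.node (.leaf (nat_lit 261)) (.leaf (nat_lit 489))))) (.node (.node (.node (.leaf (nat_lit 15)) (.leaf (nat_lit 365))) (.node (.leaf (nat_lit 221)) (.leaf (nat_lit 470)))) (.node (.node (.leaf (nat_lit 149)) (.leaf (nat_lit 283))) (.node (.leaf (nat_lit 162)) (.leaf (nat_lit 492)))))) (.node (.node (.node (.node (.leaf (nat_lit 38)) (.leaf (nat_lit 343))) (.node (.leaf (nat_lit 164)) (.leaf (nat_lit 459)))) (.node (.node (.leaf (nat_lit 43)) (.leaf (nat_lit 260))) (.node (.leaf (nat_lit 276)) (.leaf (nat_lit 438))))) (.node (.node (.node (.leaf (nat_lit 87)) (.leaf (nat_lit 377))) (.node (.leaf (nat_lit 242)) (.leaf (nat_lit 368)))) (.node (.node (.leaf (nat_lit 96)) (.leaf (nat_lit 386))) (.node (.leaf (nat_lit 174)) (.leaf (nat_lit 476))))))) (.node (.node (.node (.node (.node (.leaf (nat_lit 21)) (.leaf (nat_lit 229))) (.node (.leaf (nat_lit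 197)) (.leaf (nat_lit 372)))) (.node (.node (.leaf (nat_lit 46)) (.leaf (nat_lit 252))) (.node (.leaf (nat_lit 270)) (.leaf (nat_lit 418))))) (.node (.node (.node (.leaf (nat_lit 19)) (.leaf (nat_lit 222))) (.node (.leaf (nat_lit 148)) (.leaf (nat_lit 357)))) (.node (.node (.leaf (nat_lit 110)) (.leaf (nat_lit 428))) (.node (.leaf (nat_lit 168)) (.leaf (nat_lit 449)))))) (.node (.node (.node (.node (.leaf (nat_lit 51)) (.leaf (nat_lit 207))) (.node (.leaf (nat_lit 215)) (.leaf (nat_lit 338)))) (.node (.node (.leaf (nat_lit 139)) (.leaf (nat_lit 268))) (.node (.leaf (nat_lit 151)) (.leaf (nat_lit 422))))) (.node (.node (.node (.leaf (nat_lit 99)) (.leaf (nat_lit 239))) (.node (.leaf (nat_lit 125)) (.leaf (nat_lit 379)))) (.node (.node (.leaf (nat_lit 88)) (.leaf (nat_lit 305))) (.node (.leaf (nat_lit 326)) (.leaf (nat_lit 485)))))))) (.node (.node (.node (.node (.node (.node (.leaf (nat_lit 14)) (.leaf (nat_lit 193))) (.node (.leaf (nat_lit 176)) (.leaf (nat_lit 315)))) (.node (.node (.leaf (nat_lit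 45)) (.leaf (nat_lit 398))) (.node (.leaf (nat_lit 137)) (.leaf (nat_lit 394))))) (.node (.node (.node (.leaf (nat_lit 70)) (.leaf (nat_lit 362))) (.node (.leaf (nat_lit 152)) (.leaf (nat_lit 352)))) (.node (.node (.leaf (nat_lit 118)) (.leaf (nat_lit 425))) (.node (.leaf (nat_lit 265)) (.leaf (nat_lit 505)))))) (.node (.node (.node (.node (.leaf (nat_lit 9)) (.leaf (nat_lit 354))) (.node (.leaf (nat_lit 97)) (.leaf (nat_lit 333)))) (.node (.node (.leaf (nat_lit 130)) (.leaf (nat_lit 284))) (.node (.leaf (nat_lit 288)) (.leaf (nat_lit 499))))) (.node (.node (.node (.leaf (nat_lit 94)) (.leaf (nat_lit 383))) (.node (.leaf (nat_lit 250)) (.leaf (nat_lit 454)))) (.node (.node (.leaf (nat_lit 173)) (.leaf (nat_lit 436))) (.node (.leaf (nat_lit 314)) (.leaf (nat_lit 509))))))) (.node (.node (.node (.node (.node (.leaf (nat_lit 29)) (.leaf (nat_lit 198))) (.node (.leaf (nat_lit 172)) (.leaf (nat_lit 331)))) (.node (.node (.leaf (nat_lit 47)) (.leaf (nat_lit 405))) (.node (.leaf (nat_lit 143)) (.leaf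 (nat_lit 434))))) (.node (.node (.node (.leaf (nat_lit 69)) (.leaf (nat_lit 339))) (.node (.leaf (nat_lit 117)) (.leaf (nat_lit 477)))) (.node (.node (.leaf (nat_lit 95)) (.leaf (nat_lit 289))) (.node (.leaf (nat_lit 308)) (.leaf (nat_lit 456)))))) (.node (.node (.node (.node (.leaf (nat_lit 13)) (.leaf (nat_lit 212))) (.node (.leaf (nat_lit 103)) (.leaf (nat_lit 350)))) (.node (.node (.leaf (nat_lit 126)) (.leaf (nat_lit 399))) (.node (.leaf (nat_lit 161)) (.leaf (nat_lit 429))))) (.node (.node (.node (.leaf (nat_lit 80)) (.leaf (nat_lit 391))) (.node (.leaf (nat_lit 131)) (.leaf (nat_lit 430)))) (.node (.node (.leaf (nat_lit 185)) (.leaf (nat_lit 443))) (.node (.leaf (nat_lit 182)) (.leaf (nat_lit 501))))))))) (.node (.node (.node (.node (.node (.node (.node (.leaf (nat_lit 6)) (.leaf (nat_lit 187))) (.node (.leaf (nat_lit 189)) (.leaf (nat_lit 448)))) (.node (.node (.leaf (nat_lit 35)) (.leaf (nat_lit 248))) (.node (.leaf (nat_lit 266)) (.leaf (nat_lit 490))))) (.node (.node (.node (.leaf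 (nat_lit 67)) (.leaf (nat_lit 216))) (.node (.leaf (nat_lit 135)) (.leaf (nat_lit 471)))) (.node (.node (.leaf (nat_lit 57)) (.leaf (nat_lit 390))) (.node (.leaf (nat_lit 263)) (.leaf (nat_lit 504)))))) (.node (.node (.node (.node (.leaf (nat_lit 41)) (.leaf (nat_lit 203))) (.node (.leaf (nat_lit 211)) (.leaf (nat_lit 460)))) (.node (.node (.leaf (nat_lit 115)) (.leaf (nat_lit 301))) (.node (.leaf (nat_lit 147)) (.leaf (nat_lit 498))))) (.node (.node (.node (.leaf (nat_lit 25)) (.leaf (nat_lit 234))) (.node (.leaf (nat_lit 138)) (.leaf (nat_lit 371)))) (.node (.node (.leaf (nat_lit 83)) (.leaf (nat_lit 435))) (.node (.leaf (nat_lit 319)) (.leaf (nat_lit 469))))))) (.node (.node (.node (.node (.node (.leaf (nat_lit 26)) (.leaf (nat_lit 342))) (.node (.leaf (nat_lit 89)) (.leaf (nat_lit 360)))) (.node (.node (.leaf (nat_lit 56)) (.leaf (nat_lit 397))) (.node (.leaf (nat_lit 275)) (.leaf (nat_lit 401))))) (.node (.node (.node (.leaf (nat_lit 81)) (.leaf (nat_lit 224))) (.node (.leaf (nat_lit 238))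 (.leaf (nat_lit 464)))) (.node (.node (.leaf (nat_lit 86)) (.leaf (nat_lit 287))) (.node (.leaf (nat_lit 310)) (.leaf (nat_lit 475)))))) (.node (.node (.node (.node (.leaf (nat_lit 55)) (.leaf (nat_lit 353))) (.node (.leaf (nat_lit 220)) (.leaf (nat_lit 376)))) (.node (.node (.leaf (nat_lit 116)) (.leaf (nat_lit 274))) (.node (.leaf (nat_lit 290)) (.leaf (nat_lit 491))))) (.node (.node (.node (.leaf (nat_lit 71)) (.leaf (nat_lit 389))) (.node (.leaf (nat_lit 259)) (.leaf (nat_lit 381)))) (.node (.node (.leaf (nat_lit 98)) (.leaf (nat_lit 441))) (.node (.leaf (nat_lit 184)) (.leaf (nat_lit 503)))))))) (.node (.node (.node (.node (.node (.node (.leaf (nat_lit 18)) (.leaf (nat_lit 227))) (.node (.leaf (nat_lit 163)) (.leaf (nat_lit 317)))) (.node (.node (.leaf (nat_lit 59)) (.leaf (nat_lit 400))) (.node (.leaf (nat_lit 272)) (.leaf (nat_lit 396))))) (.node (.node (.node (.leaf (nat_lit 74)) (.leaf (nat_lit 370))) (.node (.leaf (nat_lit 136)) (.leaf (nat_lit 450)))) (.node (.node (.leaf (nat_lit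 157)) (.leaf (nat_lit 426))) (.node (.leaf (nat_lit 304)) (.leaf (nat_lit 446)))))) (.node (.node (.node (.node (.leaf (nat_lit 48)) (.leaf (nat_lit 356))) (.node (.leaf (nat_lit 217)) (.leaf (nat_lit 358)))) (.node (.node (.leaf (nat_lit 49)) (.leaf (nat_lit 273))) (.node (.leaf (nat_lit 153)) (.leaf (nat_lit 419))))) (.node (.node (.node (.leaf (nat_lit 27)) (.leaf (nat_lit 378))) (.node (.leaf (nat_lit 134)) (.leaf (nat_lit 482)))) (.node (.node (.leaf (nat_lit 72)) (.leaf (nat_lit 302))) (.node (.leaf (nat_lit 178)) (.leaf (nat_lit 507))))))) (.node (.node (.node (.node (.node (.leaf (nat_lit 33)) (.leaf (nat_lit 348))) (.node (.leaf (nat_lit 205)) (.leaf (nat_lit 349)))) (.node (.node (.leaf (nat_lit 127)) (.leaf (nat_lit 258))) (.node (.leaf (nat_lit 281)) (.leaf (nat_lit 408))))) (.node (.node (.node (.leaf (nat_lit 77)) (.leaf (nat_lit 322))) (.node (.leaf (nat_lit 244)) (.leaf (nat_lit 478)))) (.node (.node (.leaf (nat_lit 82)) (.leaf (nat_lit 402))) (.node (.leaf (nat_lit 313)) (.leaf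 (nat_lit 472)))))) (.node (.node (.node (.node (.leaf (nat_lit 62)) (.leaf (nat_lit 363))) (.node (.leaf (nat_lit 226)) (.leaf (nat_lit 442)))) (.node (.node (.leaf (nat_lit 109)) (.leaf (nat_lit 404))) (.node (.leaf (nat_lit 156)) (.leaf (nat_lit 488))))) (.node (.node (.node (.leaf (nat_lit 44)) (.leaf (nat_lit 243))) (.node (.leaf (nat_lit 129)) (.leaf (nat_lit 420)))) (.node (.node (.leaf (nat_lit 79)) (.leaf (nat_lit 309))) (.node (.leaf (nat_lit 328)) (.leaf (nat_lit 510))))))))))) (.node (.node (.node (.node (.node (.node (.node (.node (.node (.leaf (nat_lit 3)) (.leaf (nat_lit 185))) (.node (.leaf (nat_lit 79)) (.leaf (nat_lit 320)))) (.node (.node (.leaf (nat_lit 108)) (.leaf (nat_lit 384))) (.node (.leaf (nat_lit 264)) (.leaf (nat_lit 489))))) (.node (.node (.node (.leaf (nat_lit 63)) (.leaf (nat_lit 363))) (.node (.leaf (nat_lit 226)) (.leaf (nat_lit 470)))) (.node (.node (.leaf (nat_lit 148)) (.leaf (nat_lit 422))) (.node (.leaf (nat_lit 300)) (.leaf (nat_lit 438)))))) (.node (.node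 (.node (.node (.leaf (nat_lit 37)) (.leaf (nat_lit 348))) (.node (.leaf (nat_lit 207)) (.leaf (nat_lit 459)))) (.node (.node (.leaf (nat_lit 42)) (.leaf (nat_lit 399))) (.node (.leaf (nat_lit 281)) (.leaf (nat_lit 407))))) (.node (.node (.node (.leaf (nat_lit 87)) (.leaf (nat_lit 377))) (.node (.leaf (nat_lit 236)) (.leaf (nat_lit 365)))) (.node (.node (.leaf (nat_lit 67)) (.leaf (nat_lit 302))) (.node (.leaf (nat_lit 315)) (.leaf (nat_lit 465))))))) (.node (.node (.node (.node (.node (.leaf (nat_lit 21)) (.leaf (nat_lit 192))) (.node (.leaf (nat_lit 196)) (.leaf (nat_lit 317)))) (.node (.node (.leaf (nat_lit 114)) (.leaf (nat_lit 251))) (.node (.leaf (nat_lit 145)) (.leaf (nat_lit 396))))) (.node (.node (.node (.leaf (nat_lit 77)) (.leaf (nat_lit 221))) (.node (.leaf (nat_lit 234)) (.leaf (nat_lit 469)))) (.node (.node (.leaf (nat_lit 159)) (.leaf (nat_lit 420))) (.node (.leaf (nat_lit 167)) (.leaf (nat_lit 445)))))) (.node (.node (.node (.node (.leaf (nat_lit 51)) (.leaf (nat_lit 206))) (.node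 (.leaf (nat_lit 105)) (.leaf (nat_lit 458)))) (.node (.node (.leaf (nat_lit 138)) (.leaf (nat_lit 268))) (.node (.leaf (nat_lit 151)) (.leaf (nat_lit 418))))) (.node (.node (.node (.leaf (nat_lit 98)) (.leaf (nat_lit 237))) (.node (.leaf (nat_lit 255)) (.leaf (nat_lit 378)))) (.node (.node (.leaf (nat_lit 73)) (.leaf (nat_lit 301))) (.node (.leaf (nat_lit 178)) (.leaf (nat_lit 482)))))))) (.node (.node (.node (.node (.node (.node (.leaf (nat_lit 13)) (.leaf (nat_lit 338))) (.node (.leaf (nat_lit 82)) (.leaf (nat_lit 314)))) (.node (.node (.leaf (nat_lit 35)) (.leaf (nat_lit 397))) (.node (.leaf (nat_lit 136)) (.leaf (nat_lit 391))))) (.node (.node (.node (.leaf (nat_lit 70)) (.leaf (nat_lit 227))) (.node (.leaf (nat_lit 230)) (.leaf (nat_lit 360)))) (.node (.node (.leaf (nat_lit 155)) (.leaf (nat_lit 425))) (.node (.leaf (nat_lit 161)) (.leaf (nat_lit 506)))))) (.node (.node (.node (.node (.leaf (nat_lit 44)) (.leaf (nat_lit 353))) (.node (.leaf (nat_lit 96)) (.leaf (nat_lit 341)))) (.node (.node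 (.leaf (nat_lit 46)) (.leaf (nat_lit 403))) (.node (.leaf (nat_lit 147)) (.leaf (nat_lit 500))))) (.node (.node (.node (.leaf (nat_lit 93)) (.leaf (nat_lit 382))) (.node (.leaf (nat_lit 250)) (.leaf (nat_lit 478)))) (.node (.node (.leaf (nat_lit 172)) (.leaf (nat_lit 437))) (.node (.leaf (nat_lit 319)) (.leaf (nat_lit 468))))))) (.node (.node (.node (.node (.node (.leaf (nat_lit 29)) (.leaf (nat_lit 344))) (.node (.leaf (nat_lit 203)) (.leaf (nat_lit 456)))) (.node (.node (.leaf (nat_lit 43)) (.leaf (nat_lit 265))) (.node (.leaf (nat_lit 277)) (.leaf (nat_lit 410))))) (.node (.node (.node (.leaf (nat_lit 20)) (.leaf (nat_lit 224))) (.node (.leaf (nat_lit 116)) (.leaf (nat_lit 477)))) (.node (.node (.leaf (nat_lit 64)) (.leaf (nat_lit 298))) (.node (.leaf (nat_lit 176)) (.leaf (nat_lit 507)))))) (.node (.node (.node (.node (.leaf (nat_lit 58)) (.leaf (nat_lit 351))) (.node (.leaf (nat_lit 222)) (.leaf (nat_lit 467)))) (.node (.node (.leaf (nat_lit 143)) (.leaf (nat_lit 272))) (.node (.leaf (nat_lit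 154)) (.leaf (nat_lit 501))))) (.node (.node (.node (.leaf (nat_lit 103)) (.leaf (nat_lit 389))) (.node (.leaf (nat_lit 127)) (.leaf (nat_lit 381)))) (.node (.node (.leaf (nat_lit 81)) (.leaf (nat_lit 441))) (.node (.leaf (nat_lit 182)) (.leaf (nat_lit 511))))))))) (.node (.node (.node (.node (.node (.node (.node (.leaf (nat_lit 9)) (.leaf (nat_lit 187))) (.node (.leaf (nat_lit 183)) (.leaf (nat_lit 322)))) (.node (.node (.leaf (nat_lit 34)) (.leaf (nat_lit 386))) (.node (.leaf (nat_lit 133)) (.leaf (nat_lit 491))))) (.node (.node (.node (.leaf (nat_lit 66)) (.leaf (nat_lit 215))) (.node (.leaf (nat_lit 106)) (.leaf (nat_lit 472)))) (.node (.node (.leaf (nat_lit 56)) (.leaf (nat_lit 278))) (.node (.leaf (nat_lit 160)) (.leaf (nat_lit 504)))))) (.node (.node (.node (.node (.leaf (nat_lit 41)) (.leaf (nat_lit 201))) (.node (.leaf (nat_lit 210)) (.leaf (nat_lit 461)))) (.node (.node (.leaf (nat_lit 132)) (.leaf (nat_lit 260))) (.node (.leaf (nat_lit 146)) (.leaf (nat_lit 498))))) (.node (.node (.node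 (.leaf (nat_lit 90)) (.leaf (nat_lit 379))) (.node (.leaf (nat_lit 248)) (.leaf (nat_lit 367)))) (.node (.node (.leaf (nat_lit 72)) (.leaf (nat_lit 435))) (.node (.leaf (nat_lit 318)) (.leaf (nat_lit 466))))))) (.node (.node (.node (.node (.node (.leaf (nat_lit 25)) (.leaf (nat_lit 342))) (.node (.leaf (nat_lit 88)) (.leaf (nat_lit 446)))) (.node (.node (.leaf (nat_lit 38)) (.leaf (nat_lit 263))) (.node (.leaf (nat_lit 275)) (.leaf (nat_lit 408))))) (.node (.node (.node (.leaf (nat_lit 80)) (.leaf (nat_lit 364))) (.node (.leaf (nat_lit 119)) (.leaf (nat_lit 471)))) (.node (.node (.leaf (nat_lit 162)) (.leaf (nat_lit 286))) (.node (.leaf (nat_lit 168)) (.leaf (nat_lit 505)))))) (.node (.node (.node (.node (.leaf (nat_lit 55)) (.leaf (nat_lit 349))) (.node (.leaf (nat_lit 220)) (.leaf (nat_lit 460)))) (.node (.node (.leaf (nat_lit 50)) (.leaf (nat_lit 417))) (.node (.leaf (nat_lit 293)) (.leaf (nat_lit 499))))) (.node (.node (.node (.leaf (nat_lit 28)) (.leaf (nat_lit 388))) (.node (.leaf (nat_lit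 125)) (.leaf (nat_lit 390)))) (.node (.node (.leaf (nat_lit 181)) (.leaf (nat_lit 440))) (.node (.leaf (nat_lit 180)) (.leaf (nat_lit 484)))))))) (.node (.node (.node (.node (.node (.node (.leaf (nat_lit 1)) (.leaf (nat_lit 191))) (.node (.leaf (nat_lit 85)) (.leaf (nat_lit 442)))) (.node (.node (.leaf (nat_lit 36)) (.leaf (nat_lit 398))) (.node (.leaf (nat_lit 137)) (.leaf (nat_lit 393))))) (.node (.node (.node (.leaf (nat_lit 74)) (.leaf (nat_lit 229))) (.node (.leaf (nat_lit 111)) (.leaf (nat_lit 352)))) (.node (.node (.leaf (nat_lit 157)) (.leaf (nat_lit 427))) (.node (.leaf (nat_lit 164)) (.leaf (nat_lit 443)))))) (.node (.node (.node (.node (.leaf (nat_lit 47)) (.leaf (nat_lit 354))) (.node (.leaf (nat_lit 97)) (.leaf (nat_lit 333)))) (.node (.node (.leaf (nat_lit 135)) (.leaf (nat_lit 266))) (.node (.leaf (nat_lit 149)) (.leaf (nat_lit 416))))) (.node (.node (.node (.leaf (nat_lit 95)) (.leaf (nat_lit 383))) (.node (.leaf (nat_lit 252)) (.leaf (nat_lit 480)))) (.node (.node (.leaf (nat_lit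 71)) (.leaf (nat_lit 299))) (.node (.leaf (nat_lit 177)) (.leaf (nat_lit 510))))))) (.node (.node (.node (.node (.node (.leaf (nat_lit 33)) (.leaf (nat_lit 347))) (.node (.leaf (nat_lit 205)) (.leaf (nat_lit 326)))) (.node (.node (.leaf (nat_lit 126)) (.leaf (nat_lit 257))) (.node (.leaf (nat_lit 280)) (.leaf (nat_lit 405))))) (.node (.node (.node (.leaf (nat_lit 84)) (.leaf (nat_lit 368))) (.node (.leaf (nat_lit 117)) (.leaf (nat_lit 479)))) (.node (.node (.leaf (nat_lit 165)) (.leaf (nat_lit 289))) (.node (.leaf (nat_lit 313)) (.leaf (nat_lit 463)))))) (.node (.node (.node (.node (.leaf (nat_lit 61)) (.leaf (nat_lit 362))) (.node (.leaf (nat_lit 225)) (.leaf (nat_lit 345)))) (.node (.node (.leaf (nat_lit 139)) (.leaf (nat_lit 273))) (.node (.leaf (nat_lit 156)) (.leaf (nat_lit 436))))) (.node (.node (.node (.leaf (nat_lit 99)) (.leaf (nat_lit 242))) (.node (.leaf (nat_lit 129)) (.leaf (nat_lit 394)))) (.node (.node (.leaf (nat_lit 78)) (.leaf (nat_lit 308))) (.node (.leaf (nat_lit 331)) (.leaf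 (nat_lit 502)))))))))) (.node (.node (.node (.node (.node (.node (.node (.node (.leaf (nat_lit 6)) (.leaf (nat_lit 334))) (.node (.leaf (nat_lit 190)) (.leaf (nat_lit 311)))) (.node (.node (.leaf (nat_lit 109)) (.leaf (nat_lit 245))) (.node (.leaf (nat_lit 131)) (.leaf (nat_lit 387))))) (.node (.node (.node (.leaf (nat_lit 14)) (.leaf (nat_lit 366))) (.node (.leaf (nat_lit 228)) (.leaf (nat_lit 346)))) (.node (.node (.leaf (nat_lit 150)) (.leaf (nat_lit 276))) (.node (.leaf (nat_lit 158)) (.leaf (nat_lit 503)))))) (.node (.node (.node (.node (.leaf (nat_lit 39)) (.leaf (nat_lit 350))) (.node (.leaf (nat_lit 200)) (.leaf (nat_lit 327)))) (.node (.node (.leaf (nat_lit 124)) (.leaf (nat_lit 409))) (.node (.leaf (nat_lit 283)) (.leaf (nat_lit 496))))) (.node (.node (.node (.leaf (nat_lit 23)) (.leaf (nat_lit 231))) (.node (.leaf (nat_lit 246)) (.leaf (nat_lit 375)))) (.node (.node (.leaf (nat_lit 169)) (.leaf (nat_lit 303))) (.node (.leaf (nat_lit 173)) (.leaf (nat_lit 509))))))) (.node (.node (.node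 (.node (.node (.leaf (nat_lit 2)) (.leaf (nat_lit 332))) (.node (.leaf (nat_lit 198)) (.leaf (nat_lit 454)))) (.node (.node (.leaf (nat_lit 120)) (.leaf (nat_lit 253))) (.node (.leaf (nat_lit 274)) (.leaf (nat_lit 495))))) (.node (.node (.node (.leaf (nat_lit 18)) (.leaf (nat_lit 223))) (.node (.leaf (nat_lit 113)) (.leaf (nat_lit 356)))) (.node (.node (.leaf (nat_lit 152)) (.leaf (nat_lit 429))) (.node (.leaf (nat_lit 307)) (.leaf (nat_lit 448)))))) (.node (.node (.node (.node (.leaf (nat_lit 10)) (.leaf (nat_lit 208))) (.node (.leaf (nat_lit 219)) (.leaf (nat_lit 337)))) (.node (.node (.leaf (nat_lit 53)) (.leaf (nat_lit 414))) (.node (.leaf (nat_lit 291)) (.leaf (nat_lit 421))))) (.node (.node (.node (.leaf (nat_lit 31)) (.leaf (nat_lit 238))) (.node (.leaf (nat_lit 256)) (.leaf (nat_lit 380)))) (.node (.node (.leaf (nat_lit 179)) (.leaf (nat_lit 304))) (.node (.leaf (nat_lit 325)) (.leaf (nat_lit 490)))))))) (.node (.node (.node (.node (.node (.node (.leaf (nat_lit 15)) (.leaf (nat_lit 189)))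 (.node (.leaf (nat_lit 194)) (.leaf (nat_lit 316)))) (.node (.node (.leaf (nat_lit 115)) (.leaf (nat_lit 249))) (.node (.leaf (nat_lit 269)) (.leaf (nat_lit 487))))) (.node (.node (.node (.leaf (nat_lit 16)) (.leaf (nat_lit 218))) (.node (.leaf (nat_lit 110)) (.leaf (nat_lit 473)))) (.node (.node (.leaf (nat_lit 59)) (.leaf (nat_lit 279))) (.node (.leaf (nat_lit 294)) (.leaf (nat_lit 451)))))) (.node (.node (.node (.node (.leaf (nat_lit 8)) (.leaf (nat_lit 204))) (.node (.leaf (nat_lit 214)) (.leaf (nat_lit 462)))) (.node (.node (.leaf (nat_lit 134)) (.leaf (nat_lit 404))) (.node (.leaf (nat_lit 287)) (.leaf (nat_lit 424))))) (.node (.node (.node (.leaf (nat_lit 89)) (.leaf (nat_lit 235))) (.node (.leaf (nat_lit 122)) (.leaf (nat_lit 372)))) (.node (.node (.leaf (nat_lit 174)) (.leaf (nat_lit 431))) (.node (.leaf (nat_lit 321)) (.leaf (nat_lit 476))))))) (.node (.node (.node (.node (.node (.leaf (nat_lit 4)) (.leaf (nat_lit 197))) (.node (.leaf (nat_lit 91)) (.leaf (nat_lit 324)))) (.node (.node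 (.leaf (nat_lit 40)) (.leaf (nat_lit 406))) (.node (.leaf (nat_lit 142)) (.leaf (nat_lit 402))))) (.node (.node (.node (.leaf (nat_lit 83)) (.leaf (nat_lit 376))) (.node (.leaf (nat_lit 241)) (.leaf (nat_lit 361)))) (.node (.node (.leaf (nat_lit 65)) (.leaf (nat_lit 432))) (.node (.leaf (nat_lit 312)) (.leaf (nat_lit 455)))))) (.node (.node (.node (.node (.leaf (nat_lit 12)) (.leaf (nat_lit 211))) (.node (.leaf (nat_lit 102)) (.leaf (nat_lit 343)))) (.node (.node (.leaf (nat_lit 52)) (.leaf (nat_lit 282))) (.node (.leaf (nat_lit 296)) (.leaf (nat_lit 428))))) (.node (.node (.node (.leaf (nat_lit 30)) (.leaf (nat_lit 392))) (.node (.leaf (nat_lit 261)) (.leaf (nat_lit 488)))) (.node (.node (.leaf (nat_lit 186)) (.leaf (nat_lit 444))) (.node (.leaf (nat_lit 329)) (.leaf (nat_lit 497))))))))) (.node (.node (.node (.node (.node (.node (.node (.leaf (nat_lit 0)) (.leaf (nat_lit 335))) (.node (.leaf (nat_lit 193)) (.leaf (nat_lit 449)))) (.node (.node (.leaf (nat_lit 112)) (.leaf (nat_lit 247))) (.node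 (.leaf (nat_lit 267)) (.leaf (nat_lit 485))))) (.node (.node (.node (.leaf (nat_lit 68)) (.leaf (nat_lit 217))) (.node (.leaf (nat_lit 107)) (.leaf (nat_lit 359)))) (.node (.node (.leaf (nat_lit 62)) (.leaf (nat_lit 415))) (.node (.leaf (nat_lit 292)) (.leaf (nat_lit 439)))))) (.node (.node (.node (.node (.leaf (nat_lit 7)) (.leaf (nat_lit 202))) (.node (.leaf (nat_lit 212)) (.leaf (nat_lit 340)))) (.node (.node (.leaf (nat_lit 45)) (.leaf (nat_lit 411))) (.node (.leaf (nat_lit 285)) (.leaf (nat_lit 412))))) (.node (.node (.node (.leaf (nat_lit 24)) (.leaf (nat_lit 233))) (.node (.leaf (nat_lit 121)) (.leaf (nat_lit 370)))) (.node (.node (.leaf (nat_lit 69)) (.leaf (nat_lit 295))) (.node (.leaf (nat_lit 175)) (.leaf (nat_lit 474))))))) (.node (.node (.node (.node (.node (.leaf (nat_lit 27)) (.leaf (nat_lit 195))) (.node (.leaf (nat_lit 94)) (.leaf (nat_lit 447)))) (.node (.node (.leaf (nat_lit 123)) (.leaf (nat_lit 254))) (.node (.leaf (nat_lit 140)) (.leaf (nat_lit 400))))) (.node (.node (.node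 (.leaf (nat_lit 76)) (.leaf (nat_lit 374))) (.node (.leaf (nat_lit 239)) (.leaf (nat_lit 358)))) (.node (.node (.leaf (nat_lit 163)) (.leaf (nat_lit 288))) (.node (.leaf (nat_lit 309)) (.leaf (nat_lit 450)))))) (.node (.node (.node (.node (.leaf (nat_lit 11)) (.leaf (nat_lit 209))) (.node (.leaf (nat_lit 100)) (.leaf (nat_lit 339)))) (.node (.node (.leaf (nat_lit 141)) (.leaf (nat_lit 270))) (.node (.leaf (nat_lit 153)) (.leaf (nat_lit 423))))) (.node (.node (.node (.leaf (nat_lit 101)) (.leaf (nat_lit 240))) (.node (.leaf (nat_lit 258)) (.leaf (nat_lit 486)))) (.node (.node (.leaf (nat_lit 75)) (.leaf (nat_lit 306))) (.node (.leaf (nat_lit 328)) (.leaf (nat_lit 492)))))))) (.node (.node (.node (.node (.node (.node (.leaf (nat_lit 19)) (.leaf (nat_lit 330))) (.node (.leaf (nat_lit 86)) (.leaf (nat_lit 452)))) (.node (.node (.leaf (nat_lit 118)) (.leaf (nat_lit 401))) (.node (.leaf (nat_lit 271)) (.leaf (nat_lit 493))))) (.node (.node (.node (.leaf (nat_lit 17)) (.leaf (nat_lit 371))) (.node (.leaf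 (nat_lit 232)) (.leaf (nat_lit 475)))) (.node (.node (.leaf (nat_lit 60)) (.leaf (nat_lit 419))) (.node (.leaf (nat_lit 305)) (.leaf (nat_lit 453)))))) (.node (.node (.node (.node (.leaf (nat_lit 49)) (.leaf (nat_lit 357))) (.node (.leaf (nat_lit 216)) (.leaf (nat_lit 464)))) (.node (.node (.leaf (nat_lit 48)) (.leaf (nat_lit 413))) (.node (.leaf (nat_lit 290)) (.leaf (nat_lit 426))))) (.node (.node (.node (.leaf (nat_lit 26)) (.leaf (nat_lit 385))) (.node (.leaf (nat_lit 130)) (.leaf (nat_lit 483)))) (.node (.node (.leaf (nat_lit 170)) (.leaf (nat_lit 433))) (.node (.leaf (nat_lit 323)) (.leaf (nat_lit 481))))))) (.node (.node (.node (.node (.node (.leaf (nat_lit 5)) (.leaf (nat_lit 199))) (.node (.leaf (nat_lit 92)) (.leaf (nat_lit 336)))) (.node (.node (.leaf (nat_lit 128)) (.leaf (nat_lit 259))) (.node (.leaf (nat_lit 144)) (.leaf (nat_lit 494))))) (.node (.node (.node (.leaf (nat_lit 22)) (.leaf (nat_lit 369))) (.node (.leaf (nat_lit 243)) (.leaf (nat_lit 373)))) (.node (.node (.leaf (nat_lit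 166)) (.leaf (nat_lit 434))) (.node (.leaf (nat_lit 171)) (.leaf (nat_lit 457)))))) (.node (.node (.node (.node (.leaf (nat_lit 57)) (.leaf (nat_lit 213))) (.node (.leaf (nat_lit 104)) (.leaf (nat_lit 355)))) (.node (.node (.leaf (nat_lit 54)) (.leaf (nat_lit 284))) (.node (.leaf (nat_lit 297)) (.leaf (nat_lit 430))))) (.node (.node (.node (.leaf (nat_lit 32)) (.leaf (nat_lit 244))) (.node (.leaf (nat_lit 262)) (.leaf (nat_lit 395)))) (.node (.node (.leaf (nat_lit 188)) (.leaf (nat_lit 310))) (.node (.leaf (nat_lit 184)) (.leaf (nat_lit 508)))))))))))) (.node (.node (.node (.node (.node (.node (.node (.node (.node (.node (.leaf (nat_lit 2)) (.leaf (nat_lit 313))) (.node (.leaf (nat_lit 186)) (.leaf (nat_lit 330)))) (.node (.node (.leaf (nat_lit 34)) (.leaf (nat_lit 263))) (.node (.leaf (nat_lit 131)) (.leaf (nat_lit 391))))) (.node (.node (.node (.leaf (nat_lit 14)) (.leaf (nat_lit 345))) (.node (.leaf (nat_lit 208)) (.leaf (nat_lit 466)))) (.node (.node (.leaf (nat_lit 56)) (.leaf (nat_lit 295)))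 (.node (.leaf (nat_lit 279)) (.leaf (nat_lit 503)))))) (.node (.node (.node (.node (.leaf (nat_lit 7)) (.leaf (nat_lit 217))) (.node (.leaf (nat_lit 204)) (.leaf (nat_lit 455)))) (.node (.node (.leaf (nat_lit 126)) (.leaf (nat_lit 390))) (.node (.leaf (nat_lit 160)) (.leaf (nat_lit 491))))) (.node (.node (.node (.leaf (nat_lit 86)) (.leaf (nat_lit 247))) (.node (.leaf (nat_lit 119)) (.leaf (nat_lit 477)))) (.node (.node (.leaf (nat_lit 166)) (.leaf (nat_lit 419))) (.node (.leaf (nat_lit 175)) (.leaf (nat_lit 509))))))) (.node (.node (.node (.node (.node (.leaf (nat_lit 20)) (.leaf (nat_lit 193))) (.node (.leaf (nat_lit 88)) (.leaf (nat_lit 338)))) (.node (.node (.leaf (nat_lit 43)) (.leaf (nat_lit 382))) (.node (.leaf (nat_lit 139)) (.leaf (nat_lit 483))))) (.node (.node (.node (.leaf (nat_lit 18)) (.leaf (nat_lit 353))) (.node (.leaf (nat_lit 231)) (.leaf (nat_lit 373)))) (.node (.node (.leaf (nat_lit 156)) (.leaf (nat_lit 284))) (.node (.leaf (nat_lit 169)) (.leaf (nat_lit 461)))))) (.node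 (.node (.node (.node (.leaf (nat_lit 50)) (.leaf (nat_lit 225))) (.node (.leaf (nat_lit 99)) (.leaf (nat_lit 451)))) (.node (.node (.leaf (nat_lit 136)) (.leaf (nat_lit 271))) (.node (.leaf (nat_lit 287)) (.leaf (nat_lit 434))))) (.node (.node (.node (.leaf (nat_lit 96)) (.leaf (nat_lit 385))) (.node (.leaf (nat_lit 254)) (.leaf (nat_lit 397)))) (.node (.node (.leaf (nat_lit 74)) (.leaf (nat_lit 427))) (.node (.leaf (nat_lit 181)) (.leaf (nat_lit 486)))))))) (.node (.node (.node (.node (.node (.node (.leaf (nat_lit 10)) (.leaf (nat_lit 317))) (.node (.leaf (nat_lit 84)) (.leaf (nat_lit 334)))) (.node (.node (.leaf (nat_lit 39)) (.leaf (nat_lit 378))) (.node (.leaf (nat_lit 138)) (.leaf (nat_lit 489))))) (.node (.node (.node (.leaf (nat_lit 69)) (.leaf (nat_lit 349))) (.node (.leaf (nat_lit 110)) (.leaf (nat_lit 351)))) (.node (.node (.leaf (nat_lit 60)) (.leaf (nat_lit 421))) (.node (.leaf (nat_lit 162)) (.leaf (nat_lit 457)))))) (.node (.node (.node (.node (.leaf (nat_lit 8)) (.leaf (nat_lit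 221))) (.node (.leaf (nat_lit 98)) (.leaf (nat_lit 332)))) (.node (.node (.leaf (nat_lit 132)) (.leaf (nat_lit 394))) (.node (.leaf (nat_lit 150)) (.leaf (nat_lit 430))))) (.node (.node (.node (.leaf (nat_lit 91)) (.leaf (nat_lit 251))) (.node (.leaf (nat_lit 233)) (.leaf (nat_lit 375)))) (.node (.node (.leaf (nat_lit 71)) (.leaf (nat_lit 423))) (.node (.leaf (nat_lit 191)) (.leaf (nat_lit 479))))))) (.node (.node (.node (.node (.node (.leaf (nat_lit 28)) (.leaf (nat_lit 199))) (.node (.leaf (nat_lit 92)) (.leaf (nat_lit 439)))) (.node (.node (.leaf (nat_lit 114)) (.leaf (nat_lit 404))) (.node (.leaf (nat_lit 144)) (.leaf (nat_lit 494))))) (.node (.node (.node (.leaf (nat_lit 21)) (.leaf (nat_lit 357))) (.node (.leaf (nat_lit 118)) (.leaf (nat_lit 365)))) (.node (.node (.leaf (nat_lit 66)) (.leaf (nat_lit 415))) (.node (.leaf (nat_lit 170)) (.leaf (nat_lit 508)))))) (.node (.node (.node (.node (.leaf (nat_lit 12)) (.leaf (nat_lit 360))) (.node (.leaf (nat_lit 104)) (.leaf (nat_lit 361)))) (.node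 (.node (.leaf (nat_lit 140)) (.leaf (nat_lit 291))) (.node (.leaf (nat_lit 275)) (.leaf (nat_lit 502))))) (.node (.node (.node (.leaf (nat_lit 100)) (.leaf (nat_lit 259))) (.node (.leaf (nat_lit 241)) (.leaf (nat_lit 401)))) (.node (.node (.leaf (nat_lit 183)) (.leaf (nat_lit 326))) (.node (.leaf (nat_lit 325)) (.leaf (nat_lit 492))))))))) (.node (.node (.node (.node (.node (.node (.node (.leaf (nat_lit 0)) (.leaf (nat_lit 190))) (.node (.leaf (nat_lit 81)) (.leaf (nat_lit 447)))) (.node (.node (.leaf (nat_lit 108)) (.leaf (nat_lit 395))) (.node (.leaf (nat_lit 134)) (.leaf (nat_lit 407))))) (.node (.node (.node (.leaf (nat_lit 64)) (.leaf (nat_lit 347))) (.node (.leaf (nat_lit 228)) (.leaf (nat_lit 367)))) (.node (.node (.leaf (nat_lit 148)) (.leaf (nat_lit 297))) (.node (.leaf (nat_lit 281)) (.leaf (nat_lit 443)))))) (.node (.node (.node (.node (.leaf (nat_lit 40)) (.leaf (nat_lit 350))) (.node (.leaf (nat_lit 209)) (.leaf (nat_lit 445)))) (.node (.node (.leaf (nat_lit 46)) (.leaf (nat_lit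 392))) (.node (.leaf (nat_lit 283)) (.leaf (nat_lit 416))))) (.node (.node (.node (.leaf (nat_lit 24)) (.leaf (nat_lit 235))) (.node (.leaf (nat_lit 122)) (.leaf (nat_lit 472)))) (.node (.node (.leaf (nat_lit 76)) (.leaf (nat_lit 299))) (.node (.leaf (nat_lit 189)) (.leaf (nat_lit 470))))))) (.node (.node (.node (.node (.node (.leaf (nat_lit 4)) (.leaf (nat_lit 211))) (.node (.leaf (nat_lit 196)) (.leaf (nat_lit 340)))) (.node (.node (.leaf (nat_lit 120)) (.leaf (nat_lit 384))) (.node (.leaf (nat_lit 154)) (.leaf (nat_lit 485))))) (.node (.node (.node (.leaf (nat_lit 78)) (.leaf (nat_lit 355))) (.node (.leaf (nat_lit 236)) (.leaf (nat_lit 474)))) (.node (.node (.leaf (nat_lit 161)) (.leaf (nat_lit 413))) (.node (.leaf (nat_lit 305)) (.leaf (nat_lit 453)))))) (.node (.node (.node (.node (.leaf (nat_lit 54)) (.leaf (nat_lit 227))) (.node (.leaf (nat_lit 202)) (.leaf (nat_lit 463)))) (.node (.node (.leaf (nat_lit 51)) (.leaf (nat_lit 289))) (.node (.leaf (nat_lit 153)) (.leaf (nat_lit 426))))) (.node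 (.node (.node (.leaf (nat_lit 29)) (.leaf (nat_lit 257))) (.node (.leaf (nat_lit 128)) (.leaf (nat_lit 399)))) (.node (.node (.leaf (nat_lit 178)) (.leaf (nat_lit 324))) (.node (.leaf (nat_lit 307)) (.leaf (nat_lit 495)))))))) (.node (.node (.node (.node (.node (.node (.leaf (nat_lit 15)) (.leaf (nat_lit 319))) (.node (.leaf (nat_lit 194)) (.leaf (nat_lit 336)))) (.node (.node (.leaf (nat_lit 115)) (.leaf (nat_lit 380))) (.node (.leaf (nat_lit 267)) (.leaf (nat_lit 411))))) (.node (.node (.node (.leaf (nat_lit 73)) (.leaf (nat_lit 369))) (.node (.leaf (nat_lit 112)) (.leaf (nat_lit 371)))) (.node (.node (.leaf (nat_lit 142)) (.leaf (nat_lit 301))) (.node (.leaf (nat_lit 165)) (.leaf (nat_lit 504)))))) (.node (.node (.node (.node (.leaf (nat_lit 45)) (.leaf (nat_lit 223))) (.node (.leaf (nat_lit 212)) (.leaf (nat_lit 449)))) (.node (.node (.leaf (nat_lit 48)) (.leaf (nat_lit 285))) (.node (.leaf (nat_lit 269)) (.leaf (nat_lit 498))))) (.node (.node (.node (.leaf (nat_lit 26)) (.leaf (nat_lit 253)))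 (.node (.leaf (nat_lit 249)) (.leaf (nat_lit 481)))) (.node (.node (.leaf (nat_lit 172)) (.leaf (nat_lit 435))) (.node (.leaf (nat_lit 321)) (.leaf (nat_lit 476))))))) (.node (.node (.node (.node (.node (.leaf (nat_lit 32)) (.leaf (nat_lit 215))) (.node (.leaf (nat_lit 102)) (.leaf (nat_lit 441)))) (.node (.node (.leaf (nat_lit 42)) (.leaf (nat_lit 388))) (.node (.leaf (nat_lit 158)) (.leaf (nat_lit 409))))) (.node (.node (.node (.leaf (nat_lit 82)) (.leaf (nat_lit 359))) (.node (.leaf (nat_lit 239)) (.leaf (nat_lit 468)))) (.node (.node (.leaf (nat_lit 164)) (.leaf (nat_lit 417))) (.node (.leaf (nat_lit 185)) (.leaf (nat_lit 460)))))) (.node (.node (.node (.node (.leaf (nat_lit 59)) (.leaf (nat_lit 343))) (.node (.leaf (nat_lit 206)) (.leaf (nat_lit 363)))) (.node (.node (.leaf (nat_lit 145)) (.leaf (nat_lit 274))) (.node (.leaf (nat_lit 159)) (.leaf (nat_lit 433))))) (.node (.node (.node (.leaf (nat_lit 105)) (.leaf (nat_lit 261))) (.node (.leaf (nat_lit 258)) (.leaf (nat_lit 403)))) (.node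 (.node (.leaf (nat_lit 80)) (.leaf (nat_lit 328))) (.node (.leaf (nat_lit 184)) (.leaf (nat_lit 501)))))))))) (.node (.node (.node (.node (.node (.node (.node (.node (.leaf (nat_lit 5)) (.leaf (nat_lit 314))) (.node (.leaf (nat_lit 187)) (.leaf (nat_lit 312)))) (.node (.node (.leaf (nat_lit 107)) (.leaf (nat_lit 246))) (.node (.leaf (nat_lit 264)) (.leaf (nat_lit 406))))) (.node (.node (.node (.leaf (nat_lit 63)) (.leaf (nat_lit 346))) (.node (.leaf (nat_lit 106)) (.leaf (nat_lit 366)))) (.node (.node (.leaf (nat_lit 147)) (.leaf (nat_lit 296))) (.node (.leaf (nat_lit 280)) (.leaf (nat_lit 438)))))) (.node (.node (.node (.node (.leaf (nat_lit 35)) (.leaf (nat_lit 201))) (.node (.leaf (nat_lit 94)) (.leaf (nat_lit 444)))) (.node (.node (.leaf (nat_lit 130)) (.leaf (nat_lit 405))) (.node (.leaf (nat_lit 146)) (.leaf (nat_lit 497))))) (.node (.node (.node (.leaf (nat_lit 27)) (.leaf (nat_lit 234))) (.node (.leaf (nat_lit 245)) (.leaf (nat_lit 478)))) (.node (.node (.leaf (nat_lit 167)) (.leaf (nat_lit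 294))) (.node (.leaf (nat_lit 188)) (.leaf (nat_lit 465))))))) (.node (.node (.node (.node (.node (.leaf (nat_lit 3)) (.leaf (nat_lit 341))) (.node (.leaf (nat_lit 195)) (.leaf (nat_lit 339)))) (.node (.node (.leaf (nat_lit 38)) (.leaf (nat_lit 383))) (.node (.leaf (nat_lit 273)) (.leaf (nat_lit 484))))) (.node (.node (.node (.leaf (nat_lit 77)) (.leaf (nat_lit 354))) (.node (.leaf (nat_lit 232)) (.leaf (nat_lit 473)))) (.node (.node (.leaf (nat_lit 62)) (.leaf (nat_lit 412))) (.node (.leaf (nat_lit 180)) (.leaf (nat_lit 452)))))) (.node (.node (.node (.node (.leaf (nat_lit 13)) (.leaf (nat_lit 226))) (.node (.leaf (nat_lit 218)) (.leaf (nat_lit 462)))) (.node (.node (.leaf (nat_lit 57)) (.leaf (nat_lit 288))) (.node (.leaf (nat_lit 272)) (.leaf (nat_lit 425))))) (.node (.node (.node (.leaf (nat_lit 89)) (.leaf (nat_lit 256))) (.node (.leaf (nat_lit 238)) (.leaf (nat_lit 398)))) (.node (.node (.leaf (nat_lit 75)) (.leaf (nat_lit 323))) (.node (.leaf (nat_lit 182)) (.leaf (nat_lit 487))))))))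 (.node (.node (.node (.node (.node (.node (.leaf (nat_lit 1)) (.leaf (nat_lit 318))) (.node (.leaf (nat_lit 85)) (.leaf (nat_lit 335)))) (.node (.node (.leaf (nat_lit 36)) (.leaf (nat_lit 252))) (.node (.leaf (nat_lit 149)) (.leaf (nat_lit 490))))) (.node (.node (.node (.leaf (nat_lit 19)) (.leaf (nat_lit 219))) (.node (.leaf (nat_lit 230)) (.leaf (nat_lit 356)))) (.node (.node (.leaf (nat_lit 61)) (.leaf (nat_lit 300))) (.node (.leaf (nat_lit 303)) (.leaf (nat_lit 458)))))) (.node (.node (.node (.node (.leaf (nat_lit 44)) (.leaf (nat_lit 207))) (.node (.leaf (nat_lit 197)) (.leaf (nat_lit 337)))) (.node (.node (.leaf (nat_lit 133)) (.leaf (nat_lit 265))) (.node (.leaf (nat_lit 151)) (.leaf (nat_lit 431))))) (.node (.node (.node (.leaf (nat_lit 31)) (.leaf (nat_lit 379))) (.node (.leaf (nat_lit 248)) (.leaf (nat_lit 475)))) (.node (.node (.leaf (nat_lit 171)) (.leaf (nat_lit 424))) (.node (.leaf (nat_lit 177)) (.leaf (nat_lit 510))))))) (.node (.node (.node (.node (.node (.leaf (nat_lit 25))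 (.leaf (nat_lit 214))) (.node (.leaf (nat_lit 93)) (.leaf (nat_lit 440)))) (.node (.node (.leaf (nat_lit 41)) (.leaf (nat_lit 387))) (.node (.leaf (nat_lit 157)) (.leaf (nat_lit 488))))) (.node (.node (.node (.leaf (nat_lit 22)) (.leaf (nat_lit 358))) (.node (.leaf (nat_lit 127)) (.leaf (nat_lit 467)))) (.node (.node (.leaf (nat_lit 163)) (.leaf (nat_lit 428))) (.node (.leaf (nat_lit 311)) (.leaf (nat_lit 459)))))) (.node (.node (.node (.node (.leaf (nat_lit 58)) (.leaf (nat_lit 342))) (.node (.leaf (nat_lit 205)) (.leaf (nat_lit 362)))) (.node (.node (.leaf (nat_lit 141)) (.leaf (nat_lit 292))) (.node (.leaf (nat_lit 276)) (.leaf (nat_lit 432))))) (.node (.node (.node (.leaf (nat_lit 101)) (.leaf (nat_lit 260))) (.node (.leaf (nat_lit 242)) (.leaf (nat_lit 402)))) (.node (.node (.leaf (nat_lit 79)) (.leaf (nat_lit 327))) (.node (.leaf (nat_lit 310)) (.leaf (nat_lit 496))))))))) (.node (.node (.node (.node (.node (.node (.node (.leaf (nat_lit 9)) (.leaf (nat_lit 316))) (.node (.leaf (nat_lit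 192)) (.leaf (nat_lit 333)))) (.node (.node (.leaf (nat_lit 111)) (.leaf (nat_lit 377))) (.node (.leaf (nat_lit 137)) (.leaf (nat_lit 408))))) (.node (.node (.node (.leaf (nat_lit 17)) (.leaf (nat_lit 348))) (.node (.leaf (nat_lit 109)) (.leaf (nat_lit 368)))) (.node (.node (.leaf (nat_lit 152)) (.leaf (nat_lit 298))) (.node (.leaf (nat_lit 282)) (.leaf (nat_lit 456)))))) (.node (.node (.node (.node (.leaf (nat_lit 37)) (.leaf (nat_lit 220))) (.node (.leaf (nat_lit 97)) (.leaf (nat_lit 446)))) (.node (.node (.leaf (nat_lit 47)) (.leaf (nat_lit 393))) (.node (.leaf (nat_lit 266)) (.leaf (nat_lit 429))))) (.node (.node (.node (.leaf (nat_lit 90)) (.leaf (nat_lit 250))) (.node (.leaf (nat_lit 123)) (.leaf (nat_lit 374)))) (.node (.node (.leaf (nat_lit 70)) (.leaf (nat_lit 422))) (.node (.leaf (nat_lit 315)) (.leaf (nat_lit 471))))))) (.node (.node (.node (.node (.node (.leaf (nat_lit 23)) (.leaf (nat_lit 198))) (.node (.leaf (nat_lit 200)) (.leaf (nat_lit 322)))) (.node (.node (.leaf (nat_lit 121))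 (.leaf (nat_lit 255))) (.node (.leaf (nat_lit 143)) (.leaf (nat_lit 493))))) (.node (.node (.node (.leaf (nat_lit 72)) (.leaf (nat_lit 370))) (.node (.leaf (nat_lit 117)) (.leaf (nat_lit 376)))) (.node (.node (.leaf (nat_lit 65)) (.leaf (nat_lit 414))) (.node (.leaf (nat_lit 306)) (.leaf (nat_lit 464)))))) (.node (.node (.node (.node (.leaf (nat_lit 49)) (.leaf (nat_lit 210))) (.node (.leaf (nat_lit 103)) (.leaf (nat_lit 454)))) (.node (.node (.leaf (nat_lit 52)) (.leaf (nat_lit 290))) (.node (.leaf (nat_lit 293)) (.leaf (nat_lit 437))))) (.node (.node (.node (.leaf (nat_lit 30)) (.leaf (nat_lit 243))) (.node (.leaf (nat_lit 129)) (.leaf (nat_lit 482)))) (.node (.node (.leaf (nat_lit 179)) (.leaf (nat_lit 309))) (.node (.leaf (nat_lit 308)) (.leaf (nat_lit 511)))))))) (.node (.node (.node (.node (.node (.node (.leaf (nat_lit 16)) (.leaf (nat_lit 320))) (.node (.leaf (nat_lit 87)) (.leaf (nat_lit 448)))) (.node (.node (.leaf (nat_lit 116)) (.leaf (nat_lit 381))) (.node (.leaf (nat_lit 268)) (.leaf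 (nat_lit 400))))) (.node (.node (.node (.leaf (nat_lit 68)) (.leaf (nat_lit 352))) (.node (.leaf (nat_lit 113)) (.leaf (nat_lit 372)))) (.node (.node (.leaf (nat_lit 155)) (.leaf (nat_lit 302))) (.node (.leaf (nat_lit 168)) (.leaf (nat_lit 505)))))) (.node (.node (.node (.node (.leaf (nat_lit 11)) (.leaf (nat_lit 224))) (.node (.leaf (nat_lit 213)) (.leaf (nat_lit 450)))) (.node (.node (.leaf (nat_lit 135)) (.leaf (nat_lit 286))) (.node (.leaf (nat_lit 270)) (.leaf (nat_lit 499))))) (.node (.node (.node (.leaf (nat_lit 95)) (.leaf (nat_lit 237))) (.node (.leaf (nat_lit 124)) (.leaf (nat_lit 396)))) (.node (.node (.leaf (nat_lit 176)) (.leaf (nat_lit 436))) (.node (.leaf (nat_lit 304)) (.leaf (nat_lit 480))))))) (.node (.node (.node (.node (.node (.leaf (nat_lit 6)) (.leaf (nat_lit 344))) (.node (.leaf (nat_lit 203)) (.leaf (nat_lit 442)))) (.node (.node (.leaf (nat_lit 125)) (.leaf (nat_lit 389))) (.node (.leaf (nat_lit 277)) (.leaf (nat_lit 410))))) (.node (.node (.node (.leaf (nat_lit 83))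 (.leaf (nat_lit 229))) (.node (.leaf (nat_lit 240)) (.leaf (nat_lit 469)))) (.node (.node (.leaf (nat_lit 67)) (.leaf (nat_lit 418))) (.node (.leaf (nat_lit 174)) (.leaf (nat_lit 506)))))) (.node (.node (.node (.node (.leaf (nat_lit 53)) (.leaf (nat_lit 216))) (.node (.leaf (nat_lit 222)) (.leaf (nat_lit 364)))) (.node (.node (.leaf (nat_lit 55)) (.leaf (nat_lit 420))) (.node (.leaf (nat_lit 278)) (.leaf (nat_lit 500))))) (.node (.node (.node (.leaf (nat_lit 33)) (.leaf (nat_lit 262))) (.node (.leaf (nat_lit 244)) (.leaf (nat_lit 386)))) (.node (.node (.leaf (nat_lit 173)) (.leaf (nat_lit 329))) (.node (.leaf (nat_lit 331)) (.leaf (nat_lit 507))))))))))) (.node (.node (.node (.node (.node (.node (.node (.node (.node (.leaf (nat_lit 4)) (.leaf (nat_lit 333))) (.node (.leaf (nat_lit 190)) (.leaf (nat_lit 310)))) (.node (.node (.leaf (nat_lit 32)) (.leaf (nat_lit 244))) (.node (.leaf (nat_lit 130)) (.leaf (nat_lit 490))))) (.node (.node (.node (.leaf (nat_lit 64)) (.leaf (nat_lit 364))) (.node (.leaf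 (nat_lit 227)) (.leaf (nat_lit 471)))) (.node (.node (.leaf (nat_lit 54)) (.leaf (nat_lit 275))) (.node (.leaf (nat_lit 157)) (.leaf (nat_lit 432)))))) (.node (.node (.node (.node (.leaf (nat_lit 5)) (.leaf (nat_lit 349))) (.node (.leaf (nat_lit 93)) (.leaf (nat_lit 460)))) (.node (.node (.leaf (nat_lit 129)) (.leaf (nat_lit 259))) (.node (.leaf (nat_lit 282)) (.leaf (nat_lit 406))))) (.node (.node (.node (.leaf (nat_lit 88)) (.leaf (nat_lit 378))) (.node (.leaf (nat_lit 245)) (.leaf (nat_lit 480)))) (.node (.node (.leaf (nat_lit 168)) (.leaf (nat_lit 291))) (.node (.leaf (nat_lit 172)) (.leaf (nat_lit 459))))))) (.node (.node (.node (.node (.node (.leaf (nat_lit 22)) (.leaf (nat_lit 341))) (.node (.leaf (nat_lit 86)) (.leaf (nat_lit 454)))) (.node (.node (.leaf (nat_lit 37)) (.leaf (nat_lit 402))) (.node (.leaf (nat_lit 273)) (.leaf (nat_lit 495))))) (.node (.node (.node (.leaf (nat_lit 78)) (.leaf (nat_lit 372))) (.node (.leaf (nat_lit 112)) (.leaf (nat_lit 354)))) (.node (.node (.leaf (nat_lit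 61)) (.leaf (nat_lit 283))) (.node (.leaf (nat_lit 306)) (.leaf (nat_lit 444)))))) (.node (.node (.node (.node (.leaf (nat_lit 52)) (.leaf (nat_lit 358))) (.node (.leaf (nat_lit 218)) (.leaf (nat_lit 335)))) (.node (.node (.leaf (nat_lit 48)) (.leaf (nat_lit 267))) (.node (.leaf (nat_lit 150)) (.leaf (nat_lit 417))))) (.node (.node (.node (.leaf (nat_lit 26)) (.leaf (nat_lit 386))) (.node (.leaf (nat_lit 124)) (.leaf (nat_lit 484)))) (.node (.node (.leaf (nat_lit 178)) (.leaf (nat_lit 300))) (.node (.leaf (nat_lit 325)) (.leaf (nat_lit 511)))))))) (.node (.node (.node (.node (.node (.node (.leaf (nat_lit 0)) (.leaf (nat_lit 188))) (.node (.leaf (nat_lit 194)) (.leaf (nat_lit 450)))) (.node (.node (.leaf (nat_lit 114)) (.leaf (nat_lit 247))) (.node (.leaf (nat_lit 268)) (.leaf (nat_lit 492))))) (.node (.node (.node (.leaf (nat_lit 71)) (.leaf (nat_lit 217))) (.node (.leaf (nat_lit 108)) (.leaf (nat_lit 350)))) (.node (.node (.leaf (nat_lit 58)) (.leaf (nat_lit 426))) (.node (.leaf (nat_lit 303))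 (.leaf (nat_lit 440)))))) (.node (.node (.node (.node (.leaf (nat_lit 45)) (.leaf (nat_lit 202))) (.node (.leaf (nat_lit 213)) (.leaf (nat_lit 331)))) (.node (.node (.leaf (nat_lit 134)) (.leaf (nat_lit 262))) (.node (.leaf (nat_lit 287)) (.leaf (nat_lit 413))))) (.node (.node (.node (.leaf (nat_lit 24)) (.leaf (nat_lit 233))) (.node (.leaf (nat_lit 251)) (.leaf (nat_lit 370)))) (.node (.node (.leaf (nat_lit 69)) (.leaf (nat_lit 296))) (.node (.leaf (nat_lit 320)) (.leaf (nat_lit 467))))))) (.node (.node (.node (.node (.node (.leaf (nat_lit 30)) (.leaf (nat_lit 196))) (.node (.leaf (nat_lit 90)) (.leaf (nat_lit 323)))) (.node (.node (.leaf (nat_lit 39)) (.leaf (nat_lit 255))) (.node (.leaf (nat_lit 141)) (.leaf (nat_lit 400))))) (.node (.node (.node (.leaf (nat_lit 82)) (.leaf (nat_lit 376))) (.node (.leaf (nat_lit 240)) (.leaf (nat_lit 478)))) (.node (.node (.leaf (nat_lit 164)) (.leaf (nat_lit 288))) (.node (.leaf (nat_lit 311)) (.leaf (nat_lit 452)))))) (.node (.node (.node (.node (.leaf (nat_lit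 59)) (.leaf (nat_lit 210))) (.node (.leaf (nat_lit 101)) (.leaf (nat_lit 342)))) (.node (.node (.leaf (nat_lit 51)) (.leaf (nat_lit 419))) (.node (.leaf (nat_lit 295)) (.leaf (nat_lit 425))))) (.node (.node (.node (.leaf (nat_lit 29)) (.leaf (nat_lit 390))) (.node (.leaf (nat_lit 260)) (.leaf (nat_lit 488)))) (.node (.node (.leaf (nat_lit 184)) (.leaf (nat_lit 442))) (.node (.leaf (nat_lit 181)) (.leaf (nat_lit 489))))))))) (.node (.node (.node (.node (.node (.node (.node (.leaf (nat_lit 10)) (.leaf (nat_lit 186))) (.node (.leaf (nat_lit 192)) (.leaf (nat_lit 312)))) (.node (.node (.leaf (nat_lit 110)) (.leaf (nat_lit 246))) (.node (.leaf (nat_lit 132)) (.leaf (nat_lit 388))))) (.node (.node (.node (.leaf (nat_lit 14)) (.leaf (nat_lit 367))) (.node (.leaf (nat_lit 229)) (.leaf (nat_lit 347)))) (.node (.node (.leaf (nat_lit 151)) (.leaf (nat_lit 424))) (.node (.leaf (nat_lit 302)) (.leaf (nat_lit 505)))))) (.node (.node (.node (.node (.leaf (nat_lit 42)) (.leaf (nat_lit 351))) (.node (.leaf (nat_lit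 94)) (.leaf (nat_lit 328)))) (.node (.node (.leaf (nat_lit 44)) (.leaf (nat_lit 411))) (.node (.leaf (nat_lit 284)) (.leaf (nat_lit 499))))) (.node (.node (.node (.leaf (nat_lit 91)) (.leaf (nat_lit 232))) (.node (.leaf (nat_lit 120)) (.leaf (nat_lit 366)))) (.node (.node (.leaf (nat_lit 68)) (.leaf (nat_lit 436))) (.node (.leaf (nat_lit 173)) (.leaf (nat_lit 510))))))) (.node (.node (.node (.node (.node (.leaf (nat_lit 2)) (.leaf (nat_lit 343))) (.node (.leaf (nat_lit 199)) (.leaf (nat_lit 319)))) (.node (.node (.leaf (nat_lit 122)) (.leaf (nat_lit 253))) (.node (.leaf (nat_lit 276)) (.leaf (nat_lit 398))))) (.node (.node (.node (.leaf (nat_lit 18)) (.leaf (nat_lit 223))) (.node (.leaf (nat_lit 237)) (.leaf (nat_lit 356)))) (.node (.node (.leaf (nat_lit 62)) (.leaf (nat_lit 430))) (.node (.leaf (nat_lit 309)) (.leaf (nat_lit 448)))))) (.node (.node (.node (.node (.leaf (nat_lit 56)) (.leaf (nat_lit 208))) (.node (.leaf (nat_lit 221)) (.leaf (nat_lit 337)))) (.node (.node (.leaf (nat_lit 140))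 (.leaf (nat_lit 269))) (.node (.leaf (nat_lit 152)) (.leaf (nat_lit 421))))) (.node (.node (.node (.leaf (nat_lit 100)) (.leaf (nat_lit 238))) (.node (.leaf (nat_lit 258)) (.leaf (nat_lit 380)))) (.node (.node (.leaf (nat_lit 74)) (.leaf (nat_lit 304))) (.node (.leaf (nat_lit 327)) (.leaf (nat_lit 483)))))))) (.node (.node (.node (.node (.node (.node (.leaf (nat_lit 17)) (.leaf (nat_lit 340))) (.node (.leaf (nat_lit 84)) (.leaf (nat_lit 316)))) (.node (.node (.leaf (nat_lit 117)) (.leaf (nat_lit 399))) (.node (.leaf (nat_lit 271)) (.leaf (nat_lit 392))))) (.node (.node (.node (.leaf (nat_lit 75)) (.leaf (nat_lit 219))) (.node (.leaf (nat_lit 231)) (.leaf (nat_lit 475)))) (.node (.node (.leaf (nat_lit 158)) (.leaf (nat_lit 280))) (.node (.leaf (nat_lit 163)) (.leaf (nat_lit 507)))))) (.node (.node (.node (.node (.leaf (nat_lit 8)) (.leaf (nat_lit 355))) (.node (.leaf (nat_lit 216)) (.leaf (nat_lit 464)))) (.node (.node (.leaf (nat_lit 136)) (.leaf (nat_lit 412))) (.node (.leaf (nat_lit 289)) (.leaf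 (nat_lit 501))))) (.node (.node (.node (.leaf (nat_lit 96)) (.leaf (nat_lit 384))) (.node (.leaf (nat_lit 123)) (.leaf (nat_lit 374)))) (.node (.node (.leaf (nat_lit 175)) (.leaf (nat_lit 438))) (.node (.leaf (nat_lit 322)) (.leaf (nat_lit 473))))))) (.node (.node (.node (.node (.node (.leaf (nat_lit 34)) (.leaf (nat_lit 197))) (.node (.leaf (nat_lit 206)) (.leaf (nat_lit 458)))) (.node (.node (.leaf (nat_lit 40)) (.leaf (nat_lit 407))) (.node (.leaf (nat_lit 142)) (.leaf (nat_lit 497))))) (.node (.node (.node (.leaf (nat_lit 21)) (.leaf (nat_lit 226))) (.node (.leaf (nat_lit 243)) (.leaf (nat_lit 362)))) (.node (.node (.leaf (nat_lit 66)) (.leaf (nat_lit 434))) (.node (.leaf (nat_lit 314)) (.leaf (nat_lit 455)))))) (.node (.node (.node (.node (.leaf (nat_lit 12)) (.leaf (nat_lit 211))) (.node (.leaf (nat_lit 102)) (.leaf (nat_lit 469)))) (.node (.node (.leaf (nat_lit 146)) (.leaf (nat_lit 420))) (.node (.leaf (nat_lit 155)) (.leaf (nat_lit 428))))) (.node (.node (.node (.leaf (nat_lit 106))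 (.leaf (nat_lit 393))) (.node (.leaf (nat_lit 128)) (.leaf (nat_lit 383)))) (.node (.node (.leaf (nat_lit 187)) (.leaf (nat_lit 445))) (.node (.leaf (nat_lit 183)) (.leaf (nat_lit 498)))))))))) (.node (.node (.node (.node (.node (.node (.node (.node (.leaf (nat_lit 7)) (.leaf (nat_lit 185))) (.node (.leaf (nat_lit 80)) (.leaf (nat_lit 447)))) (.node (.node (.leaf (nat_lit 33)) (.leaf (nat_lit 395))) (.node (.leaf (nat_lit 265)) (.leaf (nat_lit 491))))) (.node (.node (.node (.leaf (nat_lit 65)) (.leaf (nat_lit 214))) (.node (.leaf (nat_lit 105)) (.leaf (nat_lit 472)))) (.node (.node (.leaf (nat_lit 55)) (.leaf (nat_lit 423))) (.node (.leaf (nat_lit 301)) (.leaf (nat_lit 435)))))) (.node (.node (.node (.node (.leaf (nat_lit 6)) (.leaf (nat_lit 200))) (.node (.leaf (nat_lit 209)) (.leaf (nat_lit 461)))) (.node (.node (.leaf (nat_lit 131)) (.leaf (nat_lit 410))) (.node (.leaf (nat_lit 145)) (.leaf (nat_lit 409))))) (.node (.node (.node (.leaf (nat_lit 89)) (.leaf (nat_lit 379))) (.node (.leaf (nat_lit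 119)) (.leaf (nat_lit 365)))) (.node (.node (.leaf (nat_lit 67)) (.leaf (nat_lit 293))) (.node (.leaf (nat_lit 317)) (.leaf (nat_lit 462))))))) (.node (.node (.node (.node (.node (.leaf (nat_lit 23)) (.leaf (nat_lit 193))) (.node (.leaf (nat_lit 87)) (.leaf (nat_lit 318)))) (.node (.node (.leaf (nat_lit 121)) (.leaf (nat_lit 403))) (.node (.leaf (nat_lit 139)) (.leaf (nat_lit 397))))) (.node (.node (.node (.leaf (nat_lit 79)) (.leaf (nat_lit 373))) (.node (.leaf (nat_lit 235)) (.leaf (nat_lit 476)))) (.node (.node (.leaf (nat_lit 161)) (.leaf (nat_lit 285))) (.node (.leaf (nat_lit 308)) (.leaf (nat_lit 508)))))) (.node (.node (.node (.node (.leaf (nat_lit 53)) (.leaf (nat_lit 359))) (.node (.leaf (nat_lit 99)) (.leaf (nat_lit 465)))) (.node (.node (.leaf (nat_lit 49)) (.leaf (nat_lit 415))) (.node (.leaf (nat_lit 292)) (.leaf (nat_lit 502))))) (.node (.node (.node (.leaf (nat_lit 27)) (.leaf (nat_lit 387))) (.node (.leaf (nat_lit 257)) (.leaf (nat_lit 485)))) (.node (.node (.leaf (nat_lit 73))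 (.leaf (nat_lit 439))) (.node (.leaf (nat_lit 179)) (.leaf (nat_lit 482)))))))) (.node (.node (.node (.node (.node (.node (.leaf (nat_lit 16)) (.leaf (nat_lit 339))) (.node (.leaf (nat_lit 83)) (.leaf (nat_lit 451)))) (.node (.node (.leaf (nat_lit 116)) (.leaf (nat_lit 248))) (.node (.leaf (nat_lit 270)) (.leaf (nat_lit 391))))) (.node (.node (.node (.leaf (nat_lit 72)) (.leaf (nat_lit 369))) (.node (.leaf (nat_lit 109)) (.leaf (nat_lit 474)))) (.node (.node (.leaf (nat_lit 156)) (.leaf (nat_lit 427))) (.node (.leaf (nat_lit 162)) (.leaf (nat_lit 441)))))) (.node (.node (.node (.node (.leaf (nat_lit 46)) (.leaf (nat_lit 203))) (.node (.leaf (nat_lit 215)) (.leaf (nat_lit 463)))) (.node (.node (.leaf (nat_lit 47)) (.leaf (nat_lit 264))) (.node (.leaf (nat_lit 148)) (.leaf (nat_lit 414))))) (.node (.node (.node (.leaf (nat_lit 25)) (.leaf (nat_lit 234))) (.node (.leaf (nat_lit 252)) (.leaf (nat_lit 371)))) (.node (.node (.leaf (nat_lit 70)) (.leaf (nat_lit 297))) (.node (.leaf (nat_lit 176)) (.leaf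 (nat_lit 470))))))) (.node (.node (.node (.node (.node (.leaf (nat_lit 31)) (.leaf (nat_lit 346))) (.node (.leaf (nat_lit 204)) (.leaf (nat_lit 457)))) (.node (.node (.leaf (nat_lit 125)) (.leaf (nat_lit 256))) (.node (.leaf (nat_lit 279)) (.leaf (nat_lit 401))))) (.node (.node (.node (.leaf (nat_lit 20)) (.leaf (nat_lit 225))) (.node (.leaf (nat_lit 242)) (.leaf (nat_lit 479)))) (.node (.node (.leaf (nat_lit 165)) (.leaf (nat_lit 433))) (.node (.leaf (nat_lit 170)) (.leaf (nat_lit 509)))))) (.node (.node (.node (.node (.leaf (nat_lit 60)) (.leaf (nat_lit 361))) (.node (.leaf (nat_lit 224)) (.leaf (nat_lit 468)))) (.node (.node (.leaf (nat_lit 144)) (.leaf (nat_lit 272))) (.node (.leaf (nat_lit 154)) (.leaf (nat_lit 503))))) (.node (.node (.node (.leaf (nat_lit 104)) (.leaf (nat_lit 241))) (.node (.leaf (nat_lit 127)) (.leaf (nat_lit 382)))) (.node (.node (.leaf (nat_lit 77)) (.leaf (nat_lit 307))) (.node (.leaf (nat_lit 330)) (.leaf (nat_lit 493))))))))) (.node (.node (.node (.node (.node (.node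 (.node (.leaf (nat_lit 11)) (.leaf (nat_lit 336))) (.node (.leaf (nat_lit 81)) (.leaf (nat_lit 313)))) (.node (.node (.leaf (nat_lit 113)) (.leaf (nat_lit 396))) (.node (.leaf (nat_lit 135)) (.leaf (nat_lit 389))))) (.node (.node (.node (.leaf (nat_lit 15)) (.leaf (nat_lit 368))) (.node (.leaf (nat_lit 230)) (.leaf (nat_lit 348)))) (.node (.node (.leaf (nat_lit 153)) (.leaf (nat_lit 278))) (.node (.leaf (nat_lit 160)) (.leaf (nat_lit 506)))))) (.node (.node (.node (.node (.leaf (nat_lit 43)) (.leaf (nat_lit 352))) (.node (.leaf (nat_lit 95)) (.leaf (nat_lit 329)))) (.node (.node (.leaf (nat_lit 133)) (.leaf (nat_lit 261))) (.node (.leaf (nat_lit 286)) (.leaf (nat_lit 500))))) (.node (.node (.node (.leaf (nat_lit 92)) (.leaf (nat_lit 381))) (.node (.leaf (nat_lit 249)) (.leaf (nat_lit 481)))) (.node (.node (.leaf (nat_lit 171)) (.leaf (nat_lit 437))) (.node (.leaf (nat_lit 174)) (.leaf (nat_lit 466))))))) (.node (.node (.node (.node (.node (.leaf (nat_lit 3)) (.leaf (nat_lit 344))) (.node (.leaf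 (nat_lit 201)) (.leaf (nat_lit 321)))) (.node (.node (.leaf (nat_lit 38)) (.leaf (nat_lit 404))) (.node (.leaf (nat_lit 277)) (.leaf (nat_lit 496))))) (.node (.node (.node (.leaf (nat_lit 19)) (.leaf (nat_lit 375))) (.node (.leaf (nat_lit 115)) (.leaf (nat_lit 357)))) (.node (.node (.leaf (nat_lit 63)) (.leaf (nat_lit 431))) (.node (.leaf (nat_lit 169)) (.leaf (nat_lit 449)))))) (.node (.node (.node (.node (.leaf (nat_lit 57)) (.leaf (nat_lit 360))) (.node (.leaf (nat_lit 222)) (.leaf (nat_lit 338)))) (.node (.node (.leaf (nat_lit 50)) (.leaf (nat_lit 418))) (.node (.leaf (nat_lit 294)) (.leaf (nat_lit 422))))) (.node (.node (.node (.leaf (nat_lit 28)) (.leaf (nat_lit 239))) (.node (.leaf (nat_lit 126)) (.leaf (nat_lit 487)))) (.node (.node (.leaf (nat_lit 182)) (.leaf (nat_lit 305))) (.node (.leaf (nat_lit 180)) (.leaf (nat_lit 486)))))))) (.node (.node (.node (.node (.node (.node (.leaf (nat_lit 1)) (.leaf (nat_lit 191))) (.node (.leaf (nat_lit 195)) (.leaf (nat_lit 453)))) (.node (.node (.leaf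 (nat_lit 36)) (.leaf (nat_lit 250))) (.node (.leaf (nat_lit 138)) (.leaf (nat_lit 494))))) (.node (.node (.node (.leaf (nat_lit 76)) (.leaf (nat_lit 220))) (.node (.leaf (nat_lit 111)) (.leaf (nat_lit 353)))) (.node (.node (.leaf (nat_lit 159)) (.leaf (nat_lit 281))) (.node (.leaf (nat_lit 166)) (.leaf (nat_lit 443)))))) (.node (.node (.node (.node (.leaf (nat_lit 9)) (.leaf (nat_lit 205))) (.node (.leaf (nat_lit 98)) (.leaf (nat_lit 334)))) (.node (.node (.leaf (nat_lit 137)) (.leaf (nat_lit 266))) (.node (.leaf (nat_lit 149)) (.leaf (nat_lit 416))))) (.node (.node (.node (.leaf (nat_lit 97)) (.leaf (nat_lit 236))) (.node (.leaf (nat_lit 254)) (.leaf (nat_lit 377)))) (.node (.node (.leaf (nat_lit 177)) (.leaf (nat_lit 299))) (.node (.leaf (nat_lit 324)) (.leaf (nat_lit 477))))))) (.node (.node (.node (.node (.node (.leaf (nat_lit 35)) (.leaf (nat_lit 198))) (.node (.leaf (nat_lit 207)) (.leaf (nat_lit 326)))) (.node (.node (.leaf (nat_lit 41)) (.leaf (nat_lit 408))) (.node (.leaf (nat_lit 143))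 (.leaf (nat_lit 405))))) (.node (.node (.node (.leaf (nat_lit 85)) (.leaf (nat_lit 228))) (.node (.leaf (nat_lit 118)) (.leaf (nat_lit 363)))) (.node (.node (.leaf (nat_lit 167)) (.leaf (nat_lit 290))) (.node (.leaf (nat_lit 315)) (.leaf (nat_lit 456)))))) (.node (.node (.node (.node (.leaf (nat_lit 13)) (.leaf (nat_lit 212))) (.node (.leaf (nat_lit 103)) (.leaf (nat_lit 345)))) (.node (.node (.leaf (nat_lit 147)) (.leaf (nat_lit 274))) (.node (.leaf (nat_lit 298)) (.leaf (nat_lit 429))))) (.node (.node (.node (.leaf (nat_lit 107)) (.leaf (nat_lit 394))) (.node (.leaf (nat_lit 263)) (.leaf (nat_lit 385)))) (.node (.node (.leaf (nat_lit 189)) (.leaf (nat_lit 446))) (.node (.leaf (nat_lit 332)) (.leaf (nat_lit 504)))))))))))))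
noncomputable def t512_I : NT := (.node (.node (.node (.node (.node (.node (.node (.node (.node (.leaf (nat_lit 0)) (.node (.leaf (nat_lit 110)) (.node (.leaf (nat_lit 373)) (.leaf (nat_lit 315))))) (.node (.leaf (nat_lit 0)) (.node (.leaf (nat_lit 1)) (.node (.node (.leaf (nat_lit 330)) (.leaf (nat_lit 263))) (.leaf (nat_lit 0)))))) (.node (.leaf (nat_lit 0)) (.node (.node (.leaf (nat_lit 164)) (.node (.node (.leaf (nat_lit 309)) (.leaf (nat_lit 310))) (.leaf (nat_lit 0)))) (.leaf (nat_lit 65))))) (.node (.node (.leaf (nat_lit 439)) (.node (.node (.node (.node (.leaf (nat_lit 0)) (.node (.leaf (nat_lit 184)) (.leaf (nat_lit 60)))) (.leaf (nat_lit 0))) (.leaf (nat_lit 0))) (.leaf (nat_lit 0)))) (.node (.leaf (nat_lit 0)) (.node (.leaf (nat_lit 67)) (.leaf (nat_lit 287)))))) (.node (.node (.node (.leaf (nat_lit 143)) (.node (.leaf (nat_lit 177)) (.leaf (nat_lit 468)))) (.node (.leaf (nat_lit 123)) (.node (.node (.node (.leaf (nat_lit 147)) (.leaf (nat_lit 55))) (.leaf (nat_lit 0))) (.leaf (nat_lit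 0))))) (.node (.node (.leaf (nat_lit 304)) (.node (.node (.node (.node (.leaf (nat_lit 317)) (.leaf (nat_lit 415))) (.leaf (nat_lit 0))) (.leaf (nat_lit 63))) (.leaf (nat_lit 122)))) (.node (.leaf (nat_lit 69)) (.leaf (nat_lit 319)))))) (.node (.node (.node (.node (.node (.leaf (nat_lit 38)) (.leaf (nat_lit 374))) (.leaf (nat_lit 241))) (.leaf (nat_lit 0))) (.node (.node (.node (.node (.node (.leaf (nat_lit 444)) (.leaf (nat_lit 224))) (.leaf (nat_lit 0))) (.leaf (nat_lit 0))) (.node (.leaf (nat_lit 0)) (.node (.leaf (nat_lit 0)) (.node (.leaf (nat_lit 0)) (.node (.leaf (nat_lit 498)) (.leaf (nat_lit 218))))))) (.node (.leaf (nat_lit 268)) (.node (.node (.leaf (nat_lit 0)) (.node (.leaf (nat_lit 11)) (.leaf (nat_lit 232)))) (.leaf (nat_lit 0)))))) (.node (.node (.node (.leaf (nat_lit 328)) (.node (.leaf (nat_lit 225)) (.node (.leaf (nat_lit 359)) (.leaf (nat_lit 53))))) (.node (.leaf (nat_lit 325)) (.node (.node (.leaf (nat_lit 34)) (.leaf (nat_lit 36))) (.node (.leaf (nat_lit 349)) (.leaf (nat_lit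 9)))))) (.node (.leaf (nat_lit 418)) (.node (.leaf (nat_lit 237)) (.node (.node (.leaf (nat_lit 88)) (.leaf (nat_lit 156))) (.leaf (nat_lit 0)))))))) (.node (.node (.node (.node (.node (.leaf (nat_lit 104)) (.leaf (nat_lit 391))) (.node (.node (.leaf (nat_lit 429)) (.node (.node (.node (.leaf (nat_lit 333)) (.leaf (nat_lit 395))) (.leaf (nat_lit 0))) (.leaf (nat_lit 508)))) (.leaf (nat_lit 0)))) (.node (.node (.node (.node (.leaf (nat_lit 441)) (.node (.node (.leaf (nat_lit 247)) (.leaf (nat_lit 172))) (.leaf (nat_lit 0)))) (.node (.leaf (nat_lit 339)) (.leaf (nat_lit 363)))) (.node (.leaf (nat_lit 354)) (.leaf (nat_lit 159)))) (.node (.leaf (nat_lit 0)) (.node (.node (.leaf (nat_lit 509)) (.leaf (nat_lit 404))) (.leaf (nat_lit 0)))))) (.node (.node (.node (.leaf (nat_lit 0)) (.node (.leaf (nat_lit 125)) (.node (.node (.leaf (nat_lit 100)) (.leaf (nat_lit 487))) (.leaf (nat_lit 170))))) (.node (.node (.leaf (nat_lit 423)) (.leaf (nat_lit 221))) (.leaf (nat_lit 286)))) (.node (.node (.leaf (nat_lit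 52)) (.node (.leaf (nat_lit 35)) (.node (.node (.leaf (nat_lit 275)) (.leaf (nat_lit 428))) (.leaf (nat_lit 0))))) (.leaf (nat_lit 217))))) (.node (.node (.node (.node (.leaf (nat_lit 422)) (.node (.leaf (nat_lit 348)) (.node (.leaf (nat_lit 41)) (.node (.leaf (nat_lit 144)) (.leaf (nat_lit 80)))))) (.node (.node (.node (.leaf (nat_lit 198)) (.leaf (nat_lit 307))) (.leaf (nat_lit 0))) (.leaf (nat_lit 223)))) (.node (.node (.node (.node (.leaf (nat_lit 505)) (.leaf (nat_lit 236))) (.leaf (nat_lit 0))) (.node (.node (.leaf (nat_lit 465)) (.node (.leaf (nat_lit 0)) (.node (.node (.leaf (nat_lit 265)) (.leaf (nat_lit 400))) (.leaf (nat_lit 0))))) (.leaf (nat_lit 129)))) (.node (.leaf (nat_lit 486)) (.node (.node (.leaf (nat_lit 489)) (.leaf (nat_lit 79))) (.node (.leaf (nat_lit 276)) (.leaf (nat_lit 338))))))) (.node (.node (.leaf (nat_lit 0)) (.node (.leaf (nat_lit 0)) (.node (.leaf (nat_lit 417)) (.node (.leaf (nat_lit 200)) (.node (.leaf (nat_lit 499)) (.leaf (nat_lit 97))))))) (.node (.leaf (nat_lit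 260)) (.node (.leaf (nat_lit 0)) (.node (.leaf (nat_lit 215)) (.node (.leaf (nat_lit 262)) (.leaf (nat_lit 435)))))))))) (.node (.node (.node (.node (.node (.node (.leaf (nat_lit 248)) (.leaf (nat_lit 482))) (.node (.node (.leaf (nat_lit 0)) (.node (.leaf (nat_lit 235)) (.leaf (nat_lit 24)))) (.node (.node (.node (.leaf (nat_lit 313)) (.leaf (nat_lit 43))) (.node (.leaf (nat_lit 340)) (.node (.leaf (nat_lit 7)) (.leaf (nat_lit 335))))) (.leaf (nat_lit 0))))) (.node (.node (.leaf (nat_lit 0)) (.node (.node (.node (.leaf (nat_lit 135)) (.leaf (nat_lit 137))) (.leaf (nat_lit 0))) (.leaf (nat_lit 0)))) (.node (.node (.leaf (nat_lit 472)) (.leaf (nat_lit 115))) (.node (.node (.leaf (nat_lit 46)) (.leaf (nat_lit 273))) (.leaf (nat_lit 0)))))) (.node (.node (.node (.leaf (nat_lit 454)) (.node (.node (.leaf (nat_lit 187)) (.leaf (nat_lit 167))) (.leaf (nat_lit 452)))) (.leaf (nat_lit 0))) (.node (.node (.node (.leaf (nat_lit 204)) (.leaf (nat_lit 173))) (.node (.node (.leaf (nat_lit 119)) (.leaf (nat_lit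 453))) (.leaf (nat_lit 0)))) (.node (.leaf (nat_lit 382)) (.leaf (nat_lit 64)))))) (.node (.node (.node (.node (.node (.leaf (nat_lit 196)) (.leaf (nat_lit 163))) (.leaf (nat_lit 0))) (.node (.node (.leaf (nat_lit 103)) (.leaf (nat_lit 297))) (.node (.leaf (nat_lit 345)) (.node (.leaf (nat_lit 496)) (.leaf (nat_lit 332)))))) (.node (.node (.node (.leaf (nat_lit 95)) (.leaf (nat_lit 190))) (.leaf (nat_lit 245))) (.node (.leaf (nat_lit 182)) (.node (.leaf (nat_lit 440)) (.leaf (nat_lit 387)))))) (.node (.node (.node (.node (.node (.leaf (nat_lit 463)) (.leaf (nat_lit 130))) (.leaf (nat_lit 214))) (.node (.node (.leaf (nat_lit 510)) (.leaf (nat_lit 420))) (.leaf (nat_lit 0)))) (.node (.leaf (nat_lit 181)) (.leaf (nat_lit 210)))) (.node (.leaf (nat_lit 500)) (.node (.leaf (nat_lit 323)) (.node (.leaf (nat_lit 257)) (.leaf (nat_lit 75)))))))) (.node (.node (.node (.node (.node (.node (.leaf (nat_lit 29)) (.leaf (nat_lit 86))) (.node (.leaf (nat_lit 0)) (.node (.leaf (nat_lit 377)) (.leaf (nat_lit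 150))))) (.node (.node (.leaf (nat_lit 0)) (.node (.leaf (nat_lit 368)) (.leaf (nat_lit 57)))) (.leaf (nat_lit 193)))) (.node (.node (.node (.leaf (nat_lit 0)) (.node (.leaf (nat_lit 347)) (.leaf (nat_lit 427)))) (.leaf (nat_lit 0))) (.node (.leaf (nat_lit 92)) (.leaf (nat_lit 278))))) (.node (.node (.node (.leaf (nat_lit 0)) (.node (.leaf (nat_lit 128)) (.leaf (nat_lit 87)))) (.node (.leaf (nat_lit 66)) (.leaf (nat_lit 201)))) (.node (.node (.node (.node (.leaf (nat_lit 361)) (.leaf (nat_lit 300))) (.leaf (nat_lit 42))) (.leaf (nat_lit 256))) (.node (.leaf (nat_lit 311)) (.leaf (nat_lit 233)))))) (.node (.node (.node (.node (.leaf (nat_lit 279)) (.leaf (nat_lit 376))) (.node (.leaf (nat_lit 261)) (.node (.leaf (nat_lit 47)) (.node (.leaf (nat_lit 116)) (.leaf (nat_lit 425)))))) (.node (.leaf (nat_lit 343)) (.node (.leaf (nat_lit 353)) (.leaf (nat_lit 82))))) (.node (.node (.node (.node (.node (.leaf (nat_lit 431)) (.leaf (nat_lit 165))) (.leaf (nat_lit 0))) (.node (.leaf (nat_lit 0)) (.node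 (.leaf (nat_lit 0)) (.node (.leaf (nat_lit 448)) (.leaf (nat_lit 246)))))) (.node (.node (.leaf (nat_lit 227)) (.leaf (nat_lit 289))) (.node (.leaf (nat_lit 0)) (.node (.leaf (nat_lit 0)) (.node (.node (.leaf (nat_lit 397)) (.leaf (nat_lit 157))) (.leaf (nat_lit 0))))))) (.node (.node (.node (.leaf (nat_lit 186)) (.node (.leaf (nat_lit 155)) (.leaf (nat_lit 106)))) (.node (.node (.node (.leaf (nat_lit 107)) (.leaf (nat_lit 378))) (.leaf (nat_lit 0))) (.leaf (nat_lit 0)))) (.node (.leaf (nat_lit 13)) (.leaf (nat_lit 475))))))))) (.node (.node (.node (.node (.node (.node (.node (.leaf (nat_lit 61)) (.leaf (nat_lit 234))) (.node (.node (.leaf (nat_lit 285)) (.node (.leaf (nat_lit 250)) (.leaf (nat_lit 267)))) (.node (.leaf (nat_lit 209)) (.node (.leaf (nat_lit 244)) (.node (.node (.node (.leaf (nat_lit 189)) (.leaf (nat_lit 179))) (.leaf (nat_lit 0))) (.leaf (nat_lit 197))))))) (.node (.node (.node (.node (.leaf (nat_lit 229)) (.leaf (nat_lit 438))) (.leaf (nat_lit 0))) (.node (.leaf (nat_lit 213))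 (.leaf (nat_lit 385)))) (.node (.node (.leaf (nat_lit 0)) (.node (.leaf (nat_lit 369)) (.node (.leaf (nat_lit 503)) (.leaf (nat_lit 73))))) (.leaf (nat_lit 0))))) (.node (.node (.node (.node (.leaf (nat_lit 48)) (.node (.leaf (nat_lit 0)) (.node (.node (.leaf (nat_lit 58)) (.leaf (nat_lit 312))) (.leaf (nat_lit 0))))) (.leaf (nat_lit 0))) (.node (.leaf (nat_lit 243)) (.node (.node (.node (.leaf (nat_lit 0)) (.node (.leaf (nat_lit 192)) (.leaf (nat_lit 148)))) (.leaf (nat_lit 495))) (.leaf (nat_lit 367))))) (.node (.node (.node (.node (.leaf (nat_lit 449)) (.node (.node (.leaf (nat_lit 379)) (.leaf (nat_lit 231))) (.node (.node (.leaf (nat_lit 416)) (.leaf (nat_lit 49))) (.leaf (nat_lit 0))))) (.leaf (nat_lit 0))) (.node (.leaf (nat_lit 0)) (.node (.leaf (nat_lit 4)) (.leaf (nat_lit 18))))) (.node (.leaf (nat_lit 424)) (.node (.node (.node (.leaf (nat_lit 194)) (.leaf (nat_lit 3))) (.node (.node (.leaf (nat_lit 485)) (.leaf (nat_lit 292))) (.leaf (nat_lit 0)))) (.node (.node (.leaf (nat_lit 27))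 (.leaf (nat_lit 272))) (.leaf (nat_lit 0)))))))) (.node (.node (.node (.node (.node (.leaf (nat_lit 12)) (.leaf (nat_lit 178))) (.node (.node (.node (.node (.leaf (nat_lit 111)) (.leaf (nat_lit 491))) (.leaf (nat_lit 0))) (.leaf (nat_lit 77))) (.leaf (nat_lit 0)))) (.node (.node (.node (.leaf (nat_lit 161)) (.leaf (nat_lit 380))) (.leaf (nat_lit 0))) (.node (.node (.node (.node (.leaf (nat_lit 212)) (.leaf (nat_lit 109))) (.leaf (nat_lit 0))) (.leaf (nat_lit 0))) (.node (.node (.leaf (nat_lit 0)) (.node (.leaf (nat_lit 0)) (.node (.leaf (nat_lit 324)) (.leaf (nat_lit 132))))) (.leaf (nat_lit 0)))))) (.node (.node (.leaf (nat_lit 169)) (.node (.leaf (nat_lit 365)) (.node (.leaf (nat_lit 356)) (.node (.leaf (nat_lit 0)) (.node (.leaf (nat_lit 17)) (.leaf (nat_lit 455))))))) (.node (.leaf (nat_lit 131)) (.node (.leaf (nat_lit 266)) (.leaf (nat_lit 277)))))) (.node (.node (.node (.node (.node (.node (.leaf (nat_lit 393)) (.leaf (nat_lit 364))) (.leaf (nat_lit 33))) (.leaf (nat_lit 10))) (.leaf (nat_lit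 252))) (.node (.node (.node (.leaf (nat_lit 461)) (.leaf (nat_lit 381))) (.leaf (nat_lit 318))) (.node (.leaf (nat_lit 0)) (.node (.leaf (nat_lit 31)) (.leaf (nat_lit 302)))))) (.node (.node (.node (.node (.node (.leaf (nat_lit 0)) (.node (.node (.leaf (nat_lit 255)) (.leaf (nat_lit 316))) (.leaf (nat_lit 0)))) (.leaf (nat_lit 0))) (.node (.leaf (nat_lit 85)) (.node (.leaf (nat_lit 408)) (.leaf (nat_lit 22))))) (.leaf (nat_lit 0))) (.node (.node (.node (.node (.leaf (nat_lit 331)) (.leaf (nat_lit 446))) (.leaf (nat_lit 114))) (.leaf (nat_lit 0))) (.leaf (nat_lit 430))))))) (.node (.node (.node (.node (.node (.node (.node (.node (.leaf (nat_lit 145)) (.leaf (nat_lit 203))) (.leaf (nat_lit 474))) (.leaf (nat_lit 220))) (.node (.node (.leaf (nat_lit 142)) (.leaf (nat_lit 493))) (.node (.leaf (nat_lit 492)) (.leaf (nat_lit 322))))) (.node (.node (.node (.leaf (nat_lit 133)) (.node (.leaf (nat_lit 451)) (.node (.leaf (nat_lit 0)) (.node (.leaf (nat_lit 459)) (.leaf (nat_lit 45)))))) (.leaf (nat_lit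 0))) (.node (.leaf (nat_lit 405)) (.node (.leaf (nat_lit 98)) (.leaf (nat_lit 506)))))) (.node (.node (.leaf (nat_lit 406)) (.leaf (nat_lit 160))) (.node (.node (.leaf (nat_lit 118)) (.node (.node (.leaf (nat_lit 0)) (.node (.leaf (nat_lit 0)) (.node (.leaf (nat_lit 414)) (.leaf (nat_lit 327))))) (.leaf (nat_lit 0)))) (.node (.leaf (nat_lit 0)) (.node (.leaf (nat_lit 134)) (.node (.node (.node (.leaf (nat_lit 23)) (.leaf (nat_lit 458))) (.leaf (nat_lit 0))) (.leaf (nat_lit 0)))))))) (.node (.node (.node (.leaf (nat_lit 0)) (.node (.leaf (nat_lit 301)) (.node (.leaf (nat_lit 141)) (.node (.leaf (nat_lit 280)) (.leaf (nat_lit 464)))))) (.node (.node (.node (.leaf (nat_lit 480)) (.node (.leaf (nat_lit 0)) (.node (.node (.leaf (nat_lit 294)) (.leaf (nat_lit 270))) (.leaf (nat_lit 0))))) (.leaf (nat_lit 445))) (.leaf (nat_lit 216)))) (.node (.node (.leaf (nat_lit 0)) (.node (.node (.node (.node (.node (.leaf (nat_lit 360)) (.leaf (nat_lit 421))) (.leaf (nat_lit 0))) (.leaf (nat_lit 242))) (.leaf (nat_lit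 502))) (.node (.node (.node (.node (.leaf (nat_lit 467)) (.leaf (nat_lit 253))) (.leaf (nat_lit 0))) (.leaf (nat_lit 0))) (.leaf (nat_lit 146))))) (.node (.node (.node (.node (.leaf (nat_lit 5)) (.leaf (nat_lit 15))) (.node (.node (.leaf (nat_lit 320)) (.leaf (nat_lit 384))) (.leaf (nat_lit 0)))) (.leaf (nat_lit 0))) (.leaf (nat_lit 0)))))) (.node (.node (.node (.node (.node (.leaf (nat_lit 101)) (.leaf (nat_lit 208))) (.leaf (nat_lit 0))) (.node (.leaf (nat_lit 350)) (.node (.leaf (nat_lit 0)) (.node (.leaf (nat_lit 72)) (.node (.leaf (nat_lit 394)) (.leaf (nat_lit 16))))))) (.node (.node (.node (.leaf (nat_lit 158)) (.node (.node (.leaf (nat_lit 481)) (.leaf (nat_lit 259))) (.node (.leaf (nat_lit 358)) (.leaf (nat_lit 303))))) (.node (.leaf (nat_lit 0)) (.node (.leaf (nat_lit 202)) (.node (.node (.leaf (nat_lit 0)) (.node (.leaf (nat_lit 504)) (.leaf (nat_lit 151)))) (.leaf (nat_lit 0)))))) (.node (.node (.node (.leaf (nat_lit 124)) (.leaf (nat_lit 460))) (.leaf (nat_lit 171))) (.leaf (nat_lit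 0))))) (.node (.node (.node (.node (.node (.leaf (nat_lit 497)) (.leaf (nat_lit 341))) (.node (.leaf (nat_lit 411)) (.node (.leaf (nat_lit 0)) (.node (.leaf (nat_lit 0)) (.node (.leaf (nat_lit 401)) (.leaf (nat_lit 366))))))) (.node (.leaf (nat_lit 153)) (.leaf (nat_lit 254)))) (.node (.node (.leaf (nat_lit 0)) (.node (.node (.leaf (nat_lit 337)) (.leaf (nat_lit 371))) (.leaf (nat_lit 0)))) (.leaf (nat_lit 207)))) (.node (.node (.node (.leaf (nat_lit 370)) (.node (.leaf (nat_lit 466)) (.leaf (nat_lit 326)))) (.node (.leaf (nat_lit 0)) (.node (.node (.leaf (nat_lit 372)) (.leaf (nat_lit 174))) (.leaf (nat_lit 0))))) (.node (.leaf (nat_lit 188)) (.node (.node (.leaf (nat_lit 0)) (.node (.leaf (nat_lit 28)) (.leaf (nat_lit 126)))) (.leaf (nat_lit 291))))))))) (.node (.node (.node (.node (.node (.node (.node (.leaf (nat_lit 136)) (.leaf (nat_lit 251))) (.leaf (nat_lit 0))) (.node (.leaf (nat_lit 0)) (.node (.leaf (nat_lit 473)) (.node (.leaf (nat_lit 0)) (.node (.leaf (nat_lit 83)) (.leaf (nat_lit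 249))))))) (.node (.node (.node (.leaf (nat_lit 226)) (.leaf (nat_lit 84))) (.node (.node (.node (.leaf (nat_lit 0)) (.node (.leaf (nat_lit 0)) (.node (.leaf (nat_lit 479)) (.leaf (nat_lit 386))))) (.leaf (nat_lit 507))) (.leaf (nat_lit 0)))) (.node (.leaf (nat_lit 162)) (.node (.leaf (nat_lit 299)) (.node (.leaf (nat_lit 0)) (.node (.leaf (nat_lit 456)) (.leaf (nat_lit 74)))))))) (.node (.node (.node (.node (.node (.leaf (nat_lit 462)) (.node (.leaf (nat_lit 0)) (.node (.node (.leaf (nat_lit 117)) (.leaf (nat_lit 293))) (.leaf (nat_lit 0))))) (.node (.leaf (nat_lit 206)) (.leaf (nat_lit 149)))) (.leaf (nat_lit 388))) (.node (.node (.node (.leaf (nat_lit 478)) (.leaf (nat_lit 152))) (.node (.node (.node (.node (.node (.leaf (nat_lit 183)) (.leaf (nat_lit 120))) (.leaf (nat_lit 0))) (.leaf (nat_lit 0))) (.leaf (nat_lit 0))) (.leaf (nat_lit 494)))) (.node (.node (.leaf (nat_lit 113)) (.leaf (nat_lit 175))) (.leaf (nat_lit 443))))) (.node (.node (.leaf (nat_lit 357)) (.node (.node (.node (.node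 (.leaf (nat_lit 470)) (.leaf (nat_lit 70))) (.leaf (nat_lit 0))) (.leaf (nat_lit 0))) (.leaf (nat_lit 0)))) (.node (.leaf (nat_lit 199)) (.node (.node (.leaf (nat_lit 490)) (.leaf (nat_lit 176))) (.leaf (nat_lit 0))))))) (.node (.node (.node (.node (.node (.node (.leaf (nat_lit 511)) (.leaf (nat_lit 447))) (.leaf (nat_lit 0))) (.node (.leaf (nat_lit 0)) (.node (.leaf (nat_lit 81)) (.leaf (nat_lit 410))))) (.node (.node (.leaf (nat_lit 90)) (.node (.leaf (nat_lit 37)) (.leaf (nat_lit 26)))) (.node (.node (.leaf (nat_lit 105)) (.leaf (nat_lit 436))) (.leaf (nat_lit 281))))) (.node (.node (.node (.leaf (nat_lit 396)) (.leaf (nat_lit 432))) (.leaf (nat_lit 30))) (.node (.node (.leaf (nat_lit 409)) (.node (.leaf (nat_lit 240)) (.leaf (nat_lit 121)))) (.node (.node (.node (.leaf (nat_lit 306)) (.leaf (nat_lit 180))) (.leaf (nat_lit 0))) (.node (.leaf (nat_lit 211)) (.leaf (nat_lit 407))))))) (.node (.node (.node (.node (.node (.node (.node (.leaf (nat_lit 484)) (.leaf (nat_lit 288))) (.leaf (nat_lit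 0))) (.leaf (nat_lit 0))) (.leaf (nat_lit 0))) (.node (.leaf (nat_lit 383)) (.node (.node (.leaf (nat_lit 39)) (.leaf (nat_lit 271))) (.leaf (nat_lit 0))))) (.node (.node (.leaf (nat_lit 140)) (.node (.leaf (nat_lit 476)) (.leaf (nat_lit 284)))) (.node (.leaf (nat_lit 205)) (.leaf (nat_lit 305))))) (.node (.node (.node (.leaf (nat_lit 93)) (.node (.node (.leaf (nat_lit 44)) (.leaf (nat_lit 20))) (.node (.leaf (nat_lit 0)) (.node (.leaf (nat_lit 390)) (.leaf (nat_lit 442)))))) (.node (.node (.leaf (nat_lit 238)) (.leaf (nat_lit 112))) (.leaf (nat_lit 0)))) (.node (.node (.node (.leaf (nat_lit 96)) (.leaf (nat_lit 166))) (.leaf (nat_lit 434))) (.leaf (nat_lit 0))))))) (.node (.node (.node (.node (.node (.leaf (nat_lit 0)) (.node (.leaf (nat_lit 0)) (.node (.node (.leaf (nat_lit 0)) (.node (.leaf (nat_lit 230)) (.leaf (nat_lit 334)))) (.leaf (nat_lit 469))))) (.node (.node (.node (.node (.leaf (nat_lit 21)) (.leaf (nat_lit 8))) (.node (.leaf (nat_lit 0)) (.node (.leaf (nat_lit 336)) (.leaf (nat_lit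 399))))) (.leaf (nat_lit 321))) (.leaf (nat_lit 0)))) (.node (.node (.node (.node (.leaf (nat_lit 127)) (.leaf (nat_lit 258))) (.leaf (nat_lit 457))) (.node (.node (.leaf (nat_lit 344)) (.node (.leaf (nat_lit 0)) (.node (.leaf (nat_lit 274)) (.leaf (nat_lit 78))))) (.leaf (nat_lit 329)))) (.node (.node (.leaf (nat_lit 191)) (.node (.leaf (nat_lit 437)) (.leaf (nat_lit 290)))) (.node (.node (.leaf (nat_lit 471)) (.leaf (nat_lit 139))) (.leaf (nat_lit 352)))))) (.node (.node (.node (.node (.leaf (nat_lit 269)) (.leaf (nat_lit 239))) (.node (.leaf (nat_lit 40)) (.leaf (nat_lit 195)))) (.node (.node (.node (.leaf (nat_lit 19)) (.leaf (nat_lit 228))) (.leaf (nat_lit 0))) (.node (.leaf (nat_lit 168)) (.node (.leaf (nat_lit 375)) (.node (.node (.node (.leaf (nat_lit 102)) (.leaf (nat_lit 62))) (.leaf (nat_lit 25))) (.leaf (nat_lit 0))))))) (.node (.node (.node (.leaf (nat_lit 50)) (.node (.leaf (nat_lit 298)) (.leaf (nat_lit 14)))) (.node (.leaf (nat_lit 346)) (.node (.leaf (nat_lit 389)) (.leaf (nat_lit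 59))))) (.node (.node (.leaf (nat_lit 0)) (.node (.leaf (nat_lit 355)) (.leaf (nat_lit 32)))) (.node (.leaf (nat_lit 392)) (.leaf (nat_lit 308))))))) (.node (.node (.node (.node (.node (.node (.leaf (nat_lit 71)) (.leaf (nat_lit 0))) (.leaf (nat_lit 0))) (.node (.leaf (nat_lit 68)) (.node (.leaf (nat_lit 351)) (.leaf (nat_lit 501))))) (.node (.leaf (nat_lit 295)) (.node (.leaf (nat_lit 283)) (.leaf (nat_lit 6))))) (.node (.node (.leaf (nat_lit 398)) (.node (.node (.leaf (nat_lit 402)) (.node (.leaf (nat_lit 154)) (.leaf (nat_lit 222)))) (.leaf (nat_lit 185)))) (.node (.leaf (nat_lit 56)) (.node (.leaf (nat_lit 483)) (.leaf (nat_lit 314)))))) (.node (.node (.node (.node (.node (.leaf (nat_lit 477)) (.leaf (nat_lit 264))) (.node (.node (.leaf (nat_lit 0)) (.node (.leaf (nat_lit 219)) (.leaf (nat_lit 76)))) (.leaf (nat_lit 403)))) (.node (.node (.leaf (nat_lit 2)) (.leaf (nat_lit 282))) (.leaf (nat_lit 0)))) (.node (.node (.node (.leaf (nat_lit 89)) (.leaf (nat_lit 419))) (.node (.node (.leaf (nat_lit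 99)) (.leaf (nat_lit 94))) (.node (.node (.leaf (nat_lit 426)) (.leaf (nat_lit 433))) (.leaf (nat_lit 0))))) (.node (.leaf (nat_lit 450)) (.leaf (nat_lit 412))))) (.node (.node (.node (.node (.leaf (nat_lit 54)) (.leaf (nat_lit 362))) (.node (.node (.node (.leaf (nat_lit 342)) (.leaf (nat_lit 91))) (.leaf (nat_lit 0))) (.leaf (nat_lit 51)))) (.leaf (nat_lit 296))) (.node (.leaf (nat_lit 0)) (.node (.node (.node (.leaf (nat_lit 138)) (.leaf (nat_lit 108))) (.leaf (nat_lit 488))) (.leaf (nat_lit 413)))))))))))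

def t512_W : List (List ℕ) := [[12, 14], [6, 8, 10, 8, 6], [6, 4, 8, 6, 12, 6, 4, 8, 6], [2, 4, 6, 8, 10, 12, 6, 4, 8, 6, 10, 8, 12, 6, 4, 2]]

noncomputable def t512_lv : List (ℕ × NT) := [(nat_lit 512, t512_t)]

theorem t512_hs : allLt 4 (fun a => Nat.beq (t512_s.get a) (eM.wcode e7T (t512_W.getD a []))) = true := by
  decide +kernel

theorem t512_mem : ∀ a, a < 4 → eM.Mem (gcl e7val 7) (t512_s.get a) :=
  e7_tab.mem_gens e7_h0 (by norm_num) (by decide) t512_hs

theorem t512_tree : allLt 512 (eM.treeF 4 t512_s t512_t t512_P) = true := by decide +kernel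

theorem t512_sch_0 : allR 0 700 (eM.schF 4 t512_s 512 t512_t [] t512_H) = true := by decide +kernel

theorem t512_sch_1 : allR 700 700 (eM.schF 4 t512_s 512 t512_t [] t512_H) = true := by decide +kernel

theorem t512_sch_2 : allR 1400 648 (eM.schF 4 t512_s 512 t512_t [] t512_H) = true := by decide +kernel

theorem t512_sch : allLt (512 * 4) (eM.schF 4 t512_s 512 t512_t [] t512_H) = true := by
  have h0 := t512_sch_0
  have h1 : allR 0 1400 (eM.schF 4 t512_s 512 t512_t [] t512_H) = true := allR_append (lo := 0) (a := 700) (b := 700) h0 t512_sch_1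
  have h2 : allR 0 2048 (eM.schF 4 t512_s 512 t512_t [] t512_H) = true := allR_append (lo := 0) (a := 1400) (b := 648) h1 t512_sch_2
  exact allLt_of_allR_zero h2

theorem t512_chain : eM.Chain (eM.gen 4 t512_s) t512_lv :=
  Model.chain_cons (by norm_num) (Model.valid_of_mem t512_mem) eM.chain_bot bot_le (by norm_num)
    t512_tree t512_sch

theorem t512_card : Nat.card (eM.gen 4 t512_s) = 512 :=
  t512_chain.card_eq_hash (by decide +kernel) 9137 (I := t512_I) (by decide +kernel)

theorem t512_gen (a : ℕ) (ha : a < 4) : eM.Mem (eM.gen 4 t512_s) (eM.wcode e7T (t512_W.getD a [])) := by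
  rw [← Nat.eq_of_beq_eq_true (allLt_iff.1 t512_hs a ha)]
  exact (Model.valid_of_mem t512_mem).mem_gen ha


def W6 : List (List ℕ) := [[], [2, 4], [10, 8], th6 ++ [12], [2, 4, 6, 8, 10, 12, 6, 4, 2, 8, 6, 4, 12, 6, 8, 10], [2, 4, 2, 6, 4, 2, 8, 6, 4, 2, 12, 6, 4, 2, 8, 6, 4, 12, 6, 8], [2, 8, 6, 12, 6, 4, 2, 8, 6, 4], 10 :: th6]
def k128 : List (List ℕ) := [[], [4, 6, 2, 4], [12, 8, 10, 6, 8, 2, 4, 6, 12, 10, 8], [6, 8, 2, 4, 6, 12, 10, 4, 6, 8], [], [], [], [], [], [], [12, 8, 10, 6, 8, 4, 6, 12, 10, 8], [], [8, 2, 4, 6, 12, 10, 4, 6, 8], [], [], [], [], [6, 8, 2, 4, 6, 12, 8, 10, 2, 4, 6, 8], [], [12, 6, 8, 4, 6, 12, 10, 8, 6, 4], [], [10, 8, 6, 12, 6, 8], [12, 8, 10, 4, 6, 8, 2, 4, 6, 12, 10, 8], [], [], [], [], [8, 10, 6, 8], [], [10, 8, 6, 12, 6, 8, 4, 6, 2, 4], [], [], [], [], [8, 10, 4, 6, 8], [], [10, 8, 2, 4, 6, 12, 6, 8], [], [], [], [], [], [], [], [], [], [8, 2, 4, 6, 12, 8, 10, 2, 4, 6, 8], [], [], [], [], [], [], [], [6, 8, 4, 6, 12, 8, 10, 2, 4, 6, 8], [], [], [], [], [], [],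 [], [], [8, 6, 12, 6, 8], [8, 10, 6, 8, 4, 6, 2, 4], [], [], [], [8, 10, 2, 4, 6, 8], [], [10, 8, 4, 6, 12, 6, 8], [], [], [], [], [], [8, 6, 12, 6, 8, 4, 6, 2, 4], [12, 8, 10, 4, 6, 8, 2, 4, 6, 12, 6, 8, 10, 4, 6, 8], [], [4, 6, 8, 10, 2, 4, 6, 8], [], [10, 8, 6, 12, 6, 8], [], [], [], [], [], [8, 2, 4, 6, 12, 6, 8], [12, 8, 10, 6, 8, 2, 4, 6, 12, 10, 8, 2, 4], [], [], [8, 10, 6, 8], [], [], [8, 4, 6, 12, 8, 10, 2, 4, 6, 8], [], [], [], [], [], [], [4, 6, 2, 4], [], [], [6, 8, 4, 6, 12, 10, 4, 6, 8], [], [], [], [], [12, 4, 6, 8, 10, 6, 8], [], [], [], [], [], [8, 4, 6, 12, 6, 8], [12, 8, 10, 6, 8, 4, 6, 12, 10, 8, 2, 4], [], [], [8, 6, 12, 6, 8], [8, 6, 12, 4, 6, 8, 2, 4, 6, 12, 10, 8], [], [8, 4, 6, 12, 10, 4, 6, 8], [10], [12, 8, 10, 4, 6, 8, 2, 4, 6, 12, 10, 8, 2, 4], [12, 2, 4, 6, 8, 10, 6, 8], [], [12, 6, 8, 10, 6, 8]]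
def yW : List ℕ := [12, 14, 6, 10, 8, 10, 6, 14, 12]
def y'W : List ℕ := [6, 10, 8, 10, 6]
def mW : List ℕ := yW ++ y'W
def tW : List ℕ := 8 :: mW
def rW : List ℕ := th7 ++ [12, 14]
def bW : List ℕ := th7 ++ [2]
def cW : List ℕ := [12, 6, 14, 10]
def fW : List ℕ := [6, 4, 8, 6, 4, 10, 12, 6, 4, 8, 6, 14, 10, 8, 6, 4, 12, 6, 8, 10, 14]
def W7 : List (List ℕ) := [[], bW, [12, 6], [14, 10], [2, 12, 6, 4, 2, 8, 6, 4, 10, 8, 6, 12, 6, 4, 2, 8, 6, 4, 14, 10, 8, 6, 4, 2, 12, 6, 4, 8, 6, 10, 8], tW, [4, 6, 4, 2, 8, 6, 4, 10, 12, 6, 4, 2, 8, 6, 4, 10, 8, 6, 12, 14, 10, 8, 6, 4, 2, 12, 6, 4, 8, 10], [12, 14]]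
def w1 : List (List ℕ) := [[], [10, 6], [12, 10, 4, 6], [14, 10, 4, 6], [6, 12, 4, 6], [14, 12, 10, 6], [2, 4, 6, 8, 10, 14, 12, 6, 8, 4, 6, 12, 10, 2, 4, 6]]
def w2 : List (List ℕ) := [[], [4], [12], [2, 4], [10, 6, 8, 4, 6, 4], [12, 4], [6, 8, 2, 4, 6, 12, 8, 10, 6, 8, 4, 6, 2, 4], [10, 8, 6, 12, 8, 6], [6, 8, 10, 8, 6, 2, 4], [12, 2, 4], [6, 8, 4, 6, 12, 8, 10, 6, 8, 4, 6, 2, 4], [4, 6, 8, 10, 8, 6, 2, 4], [6, 8, 4, 6, 12, 10, 6, 8, 4, 6, 2, 4], [6, 8, 4, 6, 12, 6, 8, 4, 6, 2, 4], [12, 6, 8, 4, 6, 12, 6, 8, 4, 6, 2, 4], [10, 8, 2, 4, 6, 12, 8, 10, 6, 8, 4, 6, 2, 4], [10, 14, 6, 4], [10, 8, 4, 6, 12, 8, 10, 6, 8, 4, 6, 2, 4], [10, 14, 6, 2, 4], [4, 6, 8, 2, 4, 6, 2, 4], [10, 14, 8, 4, 6, 12, 6, 8, 4, 6, 2, 4], [4, 6, 12, 4, 6, 4], [14, 10, 8, 2, 4, 6, 12, 8, 10, 6, 8, 2, 4, 6, 2, 4], [14, 6, 12, 10, 6, 2, 4], [14, 10, 8, 4, 6, 12, 8, 10, 6, 8, 2, 4, 6, 2, 4], [14, 12, 4, 6, 8, 2, 4, 6, 2, 4], [14, 10, 6, 8, 4, 6, 12, 8, 4, 6, 2, 4]]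
def w3 : List (List ℕ) := [[14, 12, 10, 6], [14, 10, 4, 6], [12, 10, 4, 6], [2, 4, 6, 8, 10, 14, 12, 6, 8, 4, 6, 12, 8, 10, 2, 4, 6, 4], [10, 6], [6, 8, 2, 4, 6, 12, 6, 8, 10, 6, 8, 2, 4, 6, 2, 4], [2, 4, 6, 8, 10, 14, 12, 6, 8, 4, 6, 12, 10, 2, 4, 6, 2, 4], [6, 12, 4, 6], [10, 14, 10, 4, 6, 4], [], [10, 8, 2, 4, 6, 12, 6, 8, 10, 6, 8, 2, 4, 6, 2, 4], [4], [12], [2, 4], [6, 8, 10, 8, 6, 4], [12, 4], [14, 6, 12, 10, 6, 4], [4, 6, 12, 4, 6, 4], [10, 8, 2, 4, 6, 12, 8, 10, 6, 8, 4, 6, 2, 4], [10, 14, 6, 4], [2, 4, 6, 8, 10, 14, 12, 10, 6, 8, 2, 4, 6, 12, 10, 2, 4, 6, 2, 4], [14, 10, 8, 2, 4, 6, 12, 6, 8, 10, 6, 8, 4, 6, 2, 4], [10, 14, 12, 4, 6, 4], [6, 8, 2, 4, 6, 12, 8, 10, 6, 8, 4, 6, 2, 4], [6, 8, 10, 14, 8, 6], [14, 10, 8, 2, 4, 6, 12, 8, 10, 6, 8, 2, 4, 6, 2, 4], [6, 8, 10, 8, 6, 2, 4], [12, 2, 4], [14, 6, 12, 10, 6, 2, 4], [10, 8, 4, 6, 12, 8, 10, 6, 8, 4, 6, 2, 4], [10, 14, 6, 2, 4], [14, 10, 8, 4, 6, 12, 6, 8, 10, 6, 8, 4, 6, 2, 4], [6, 8, 4, 6, 12, 8, 10, 6, 8, 4, 6, 2, 4], [14, 12, 4,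 6, 8, 10, 4, 6, 2, 4], [4, 6, 8, 10, 4, 6, 2, 4], [4, 6, 8, 10, 8, 6, 2, 4], [6, 8, 4, 6, 12, 10, 6, 8, 4, 6, 2, 4], [6, 8, 4, 6, 12, 6, 8, 4, 6, 2, 4], [12, 6, 8, 4, 6, 12, 6, 8, 4, 6, 2, 4], [10, 14, 8, 4, 6, 12, 6, 8, 4, 6, 2, 4], [14, 10, 6, 8, 4, 6, 12, 8, 4, 6, 2, 4]]
def w4 : List (List ℕ) := [[14, 10, 6, 8, 2, 4, 6, 12, 10, 8, 4, 6, 4, 2], [12, 2, 4, 6, 8, 10, 14, 8, 4, 6, 12, 4, 6, 8, 10, 6, 4, 2], [10, 14, 10, 8, 2, 4, 6, 12, 10, 8, 4, 6, 4, 2], [14, 6, 12, 8, 10, 6], [10, 14, 10, 8, 2, 4, 6, 12, 10, 6, 8, 2, 4, 6, 4, 2], [6, 12, 2, 4, 6, 8, 10, 14, 6, 12, 4, 6, 8, 10, 8, 6, 4, 2], [10, 14, 8, 10, 4, 6], [10, 14, 8, 2, 4, 6, 12, 10, 8, 2, 4, 6, 4, 2], [10, 4, 6, 8, 2, 4, 6, 12, 10, 8, 4, 6, 4, 2], [4, 6, 12, 8, 10, 6], [10, 14, 8, 2, 4, 6, 12, 10, 6, 8, 4, 6, 4, 2], [10, 14, 8, 10, 8, 6], [10, 14, 10, 8, 4, 6, 12, 10, 6, 8, 2, 4, 6, 4, 2], [10, 14, 8, 10, 2, 4, 6], [10, 14, 8, 4, 6, 12, 10, 8, 2, 4, 6, 4, 2], [2, 4, 6, 12, 8, 10, 6], [10, 14, 10, 8, 4, 6, 12, 10, 2, 4, 6, 2], [10, 14,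 8, 4, 6, 12, 10, 2, 4, 6, 4, 2], [10, 14, 8, 10, 4, 6, 8, 2, 4, 6, 4, 2], [10, 14, 12, 8, 10, 4, 6, 8, 2, 4, 6, 2], [14, 6, 8, 2, 4, 6, 12, 10, 8, 2, 4, 6, 4, 2], [14, 10, 6, 8, 2, 4, 6, 12, 10, 6, 8, 2, 4, 6, 4, 2], [14, 6, 8, 2, 4, 6, 12, 10, 6, 8, 4, 6, 4, 2], [4, 6, 8, 2, 4, 6, 12, 10, 8, 2, 4, 6, 4, 2], [4, 6, 12, 8, 10, 8, 4, 6], [2, 4, 6, 8, 10, 14, 10, 8, 6, 12, 4, 6, 8, 10, 8, 6, 4, 2], [14, 6, 8, 10, 4, 6], [12, 6, 8, 10, 8, 6], [14, 6, 8, 4, 6, 12, 10, 8, 2, 4, 6, 4, 2], [14, 10, 6, 8, 4, 6, 12, 10, 6, 8, 2, 4, 6, 4, 2], [14, 6, 12, 8, 10, 8, 2, 4, 6], [14, 6, 8, 10, 2, 4, 6], [14, 10, 6, 8, 4, 6, 12, 10, 2, 4, 6, 2], [14, 6, 8, 4, 6, 12, 10, 2, 4, 6, 4, 2], [14, 6, 8, 10, 4, 6, 8, 2, 4, 6, 4, 2], [14, 6, 12, 8, 10, 4, 6, 8, 2, 4, 6, 2], [2, 4, 6, 8, 10, 14, 4, 6, 12, 2, 4, 6, 8, 10, 6, 4, 2], [12, 4, 6, 8, 10, 8, 6], [2, 4, 6, 8, 10, 14, 8, 6, 12, 4, 6, 8, 10, 8, 6, 4, 2], [6, 8, 10, 8, 6], [14, 12, 6, 8, 4, 6, 12, 8, 10, 8, 2, 4, 6, 4, 2], [6, 8, 4, 6, 12, 8, 10, 8, 2, 4, 6, 4, 2],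 [2, 4, 6, 8, 10, 14, 4, 6, 12, 2, 4, 6, 8, 10, 4, 2], [10, 8, 6, 12, 4, 6, 8, 10], [2, 4, 6, 8, 10, 14, 4, 6, 12, 2, 4, 6, 8, 10, 8, 6, 4, 2], [12, 6, 8, 2, 4, 6, 12, 10, 8, 2, 4, 6, 4, 2], [4, 6, 8, 10, 8, 6], [14, 12, 4, 6, 8, 10, 4, 6], [6, 12, 6, 8, 10, 8, 4, 6], [14, 12, 6, 8, 4, 6, 12, 8, 10, 2, 4, 6, 4, 2], [14, 12, 4, 6, 8, 10, 2, 4, 6], [14, 12, 4, 6, 8, 10, 4, 6, 8, 2, 4, 6, 4, 2], [10, 4, 6, 8, 2, 4, 6, 12, 10, 6, 8, 2, 4, 6, 4, 2], [4, 6, 8, 10, 4, 6], [6, 8, 4, 6, 12, 8, 10, 2, 4, 6, 4, 2], [4, 6, 8, 10, 2, 4, 6], [4, 6, 8, 10, 4, 6, 8, 2, 4, 6, 4, 2], [2, 4, 6, 8, 10, 14, 8, 6, 12, 6, 8, 10, 8, 6, 4, 2], [12, 6, 8, 10, 4, 6], [], [12, 6, 8, 4, 6, 12, 10, 8, 2, 4, 6, 4, 2], [6, 12, 6, 8, 10, 8, 2, 4, 6], [12, 10, 6, 8, 4, 6, 12, 10, 6, 8, 2, 4, 6, 4, 2], [12, 6, 8, 10, 2, 4, 6], [12, 10, 6, 8, 4, 6, 12, 10, 2, 4, 6, 2], [12, 6, 8, 4, 6, 12, 10, 2, 4, 6, 4, 2], [12, 6, 8, 10, 4, 6, 8, 2, 4, 6, 4, 2], [6, 12, 6, 8, 10, 4, 6, 8, 2, 4, 6, 2]]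
def k3 : List (List ℕ) := [[], [], [], [], [], [], [], [], [], [], [], [10, 4, 6, 8, 6, 4, 10], [12, 10, 6, 8, 6, 10, 12], [10, 2, 4, 6, 8, 6, 4, 2, 10], [6, 8, 4, 6, 8, 6, 4, 8, 6], [4, 6, 12, 2, 4, 6, 8, 6, 4, 2, 12, 6, 4, 10, 2, 4, 6, 8, 6, 4, 2, 10], [], [], [], [], [], [], [], [12, 10, 6, 8, 6, 10, 12, 10, 4, 6, 8, 6, 4, 10], [6, 12, 8, 6, 8, 6, 8, 12, 6], [], [6, 8, 2, 4, 6, 8, 6, 4, 2, 8, 6], [4, 6, 12, 2, 4, 6, 8, 6, 4, 2, 12, 6, 4, 10, 4, 6, 8, 6, 4, 10], [], [], [], [], [10, 2, 4, 6, 8, 6, 4, 2, 10, 12, 10, 6, 8, 6, 10, 12], [], [], [6, 8, 4, 6, 12, 10, 2, 4, 6, 8, 6, 4, 2, 10, 12, 6, 4, 8, 6, 12, 10, 6, 8, 6, 10, 12], [4, 6, 12, 2, 4, 6, 8, 6, 4, 2, 12, 6, 4], [6, 8, 4, 6, 12, 10, 2, 4, 6, 8, 6, 4, 2, 10, 12, 6, 4, 8, 6], [6, 8, 2, 4, 6, 8, 6, 4, 2, 8, 6, 10, 4, 6, 8, 6, 4, 10], [], []]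
def l1 : List ℕ := [40564838550125680591680655327233, 5159889166265988330799448981505, 5793716884231742295990656340553, 41287798290930366134810094600777, 40564838550125680626865161671169, 40653970572964612204803393585153, 40564838550125678058396201255425]
def l2 : List ℕ := [5070757143427051651107802578945, 5070757143427051967775875567617, 5070757143427051932591369224193, 5070757144091134754498139164673, 40564838550125678375064274243585, 5070757143427051686292308922369, 40564838550125678093580707598337, 40564838550125678339879767900161, 40564838550789761161786537840641, 5070757144091134473014572519425, 40564838550789760880302971195393, 40564838550789760845118464851969, 40564838550789761126602031497217, 5070757144091134719313632821249, 5070757144091134437830066176001, 41198666268091432023587408613449, 5704584861392805616299009937481, 41199904213518463710146899251273, 5705822806819837302858500575305, 40566076495552709744955691892737, 5071995088854083337667293216769, 5704584861392805581114503594057,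 41198666268091431988402902270025, 5705822806155754480951730634825, 41199904212854380888240129310793, 40566076494888626958233428295681, 5071995088190000550945029619713]
def l3 : List ℕ := [5159889166265985797514994909185, 5793716884231739762706202268233, 41287798290930368668094548673097, 40564838550125678093580707598849, 40653970572964614738087847657473, 40564838550125680591680655327745, 41198666268091432023587408613961, 5704584861392808114398957666889, 5159889166265985832699501253121, 5070757143427054184392256651265, 5159889166265988330799448982017, 5070757143427053938093196349441, 5070757143427053902908690006017, 5070757144091136724815459946497, 40564838550125680345381595025409, 5070757143427054219576762994689, 5793716884231739727521695924297, 5704584861392808149583464010313, 5793716884231742295990656340041, 41287798290930368703279055016009, 41198666268091431988402902270537, 41287798290930366134810094600265, 40653970572964614773272354001409, 40564838550125680626865161670657, 40564838550125680310197088681985,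 40653970572964612204803393585665, 40564838550789763132103858622465, 5070757144091137006299026591745, 5794954828994688627358922965065, 5794954829658773982550146977865, 41289036236357400389838545653833, 41289036235693315034647321641033, 40564838550789763413587425267713, 40655208517727561104640620625921, 5161127111693020017358939619329, 40564838550789763378402918924289, 40564838550789763096919352279041, 5070757144091136689630953603073, 5070757144091136971114520248321, 40655208518391646424647338295297, 5161127111028934697352221949953]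
def l4 : List ℕ := [41198666268091434556871862686281, 5704584861392805581114503594569, 5159889166265988365983955325441, 5159889166265985797514994909697, 5793716884231742260806149996617, 5704584861392805616299009937993, 5793716884231739762706202267721, 41287798290930366169994600943689, 41198666268091434521687356342857, 41287798290930368668094548672585, 40653970572964612239987899929089, 40653970572964614738087847657985, 5794954828994691160643377037385, 5794954829658771449265692905545, 41289036236357397856554091581513, 41289036235693317567931775713353, 40655208517727563637925074698241, 5161127111693017484074485547009, 40655208518391643891362884222977, 5161127111028937230636676022273, 40653970572964612239987899928577, 41198666268091434521687356342345, 41287798290930366169994600944201, 5793716884231742260806149997129, 5704584861392808114398957666377, 5070757143427051686292308922881, 5159889166265985832699501252609, 5070757143427054184392256651777, 40653970573628695026710163525633, 41199904212854383421524583383113,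 5705822806155757014236184707145, 5159889166930068619421764849665, 5071995088190003084229483692033, 5159889166930068584237258506241, 40653970573628694991525657182209, 40566076494888629491517882368001, 5070757143427051932591369224705, 5070757143427053938093196349953, 5070757143427051967775875568129, 5070757143427053902908690006529, 41287798291594449203015924843081, 5793716884895824801229353292361, 40564838550125678339879767900673, 40564838550125680345381595025921, 5070757143427051651107802579457, 5159889166265988365983955324929, 5070757143427054219576762995201, 5793716884231739727521695924809, 5704584861392808149583464009801, 5793716884895822795727526167113, 5793716884895822830912032510537, 41287798291594449238200431186505, 41198666268091434556871862685769, 41287798290930368703279055016521, 41287798291594451208517751968329, 41287798291594451173333245624905, 5793716884895824766044846948937, 40564838550125678375064274244097, 40653970572964614773272354000897, 40564838550125680310197088682497, 5159889166930071152706218921985,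 5705822806819839836142954647625, 41199904213518466243431353323593, 40653970573628697559994617597953, 5071995088854085870951747289089, 40653970573628697524810111254529, 5159889166930071117521712578561, 40566076495552712278240145965057]

theorem chkR6 : ∀ w ∈ P43.R7.map (subW W6), eM.wcode e7T w = eM.one := by decide +kernel
theorem chkR7 : ∀ w ∈ P43.R7.map (subW W7), eM.wcode e7T w = eM.one := by decide +kernel

theorem chk128 : allLt 128 (fun i => (fun g k => bimp (eM.o2 g) (bor (Nat.beq g eM.one)
    (bor (Nat.beq (eM.mul k (wc [2])) (eM.mul g k)) (bor (Nat.beq (eM.mul k (wc (10 :: th6))) (eM.mul g k))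
      (bor (Nat.beq (eM.mul k (wc (2 :: 10 :: th6))) (eM.mul g k))
        (Nat.beq (eM.mul k (wc (W6.getD 5 []))) (eM.mul g k)))))))
    (eM.elt t128_lv i) (wc (k128.getD i []))) = true := by
  decide +kernel

theorem chkW : eM.allC e7_lv5 (fun g => bimp (eM.cm g (wc [6, 2, 10, 4, 8, 6, 8, 4, 10, 2, 4, 8, 6, 8, 4]))
    (Nat.beq (eM.pow 5 g 12) eM.one)) = true := by
  decide +kernel

theorem l1_eq : w1.map (fun w => wc (w ++ [8] ++ invW w)) = l1 := by decide +kernel
theorem l2_eq : w2.map (fun w => wc (w ++ tW ++ invW w)) = l2 := by decide +kernel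
theorem l3_eq : w3.map (fun w => wc (w ++ mW ++ invW w)) = l3 := by decide +kernel
theorem l4_eq : w4.map (fun w => wc (w ++ rW ++ invW w)) = l4 := by decide +kernel

theorem chk512 : eM.allC t512_lv (fun g => band (eM.cm g (wc [8])) (band (eM.cm g (wc tW))
    (bimp (eM.o2 g) (bor (Nat.beq g eM.one) (bor (memL l1 g) (bor (memL l2 g)
      (bor (memL l3 g) (memL l4 g)))))))) = true := by
  decide +kernel

theorem chkF1 : allL l1 (fun g => band (bimp (memL l3 (eM.mul g (wc tW)))
    (memL ([[8], yW, y'W].map (eM.wcode e7T)) g)) (band (bimp (memL l2 (eM.mul g (wc mW)))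
      (Nat.beq g (wc [8]))) (bor (Nat.beq g (wc [8])) (memL l3 (eM.mul (wc [8]) g))))) = true := by
  decide +kernel

theorem chkF3 : allLt 41 (fun i => (fun g k => bimp (memL l2 (eM.mul g (wc [8])))
    (bor (Nat.beq g (wc mW)) (band (eM.cm k (wc [8]))
      (bor (Nat.beq (eM.mul k (wc tW)) (eM.mul (eM.mul (wc mW) g) k))
        (Nat.beq (eM.mul k (wc mW)) (eM.mul (eM.mul (wc mW) g) k))))))
    (l3.getD i 0) (wc (k3.getD i []))) = true := by
  decide +kernel

theorem chkF5 : allL (l1 ++ l2) (fun g => bimp (allLt 4 fun a => eM.cm g (wc (t512_W.getD a [])))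
    (memL ([[8], tW].map (eM.wcode e7T)) g)) = true := by
  decide +kernel

universe u
variable {G : Type u} [Group G]

theorem isP_zp2 {x : G} (hx : x * x = 1) : IsPGroup 2 (zpowers x) := fun g => ⟨1, Subtype.ext (by
  rcases mem_zpowers_order_two' hx g.2 with e | e <;> simp [e, pow_two, hx])⟩

theorem rels_sub {n : ℕ} {val val' : ℕ → G} {ψ : gcl e7val n →* G} (h : WM eM e7T e7val 8 n val ψ)
    {Ws : List (List ℕ)} (hW : WLt n (P43.R7.map (subW Ws)))
    (e : ∀ w ∈ P43.R7.map (subW Ws), eM.wcode e7T w = eM.one) (h0 : val' 0 = 1)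
    (h1 : Ws.getD 0 [] = []) (h2 : ∀ a, 1 ≤ a → a ≤ 7 → wval val (Ws.getD a []) = val' a) :
    RelsHold val' P43.R7 :=
  RelsHold.congr (n := 7) (by rw [h1]; rfl) h0 h2 (fun w hw => by
    rw [← wval_subW]; exact h.rels hW e _ (List.mem_map_of_mem hw)) (by decide)

theorem conj_of_mem {n : ℕ} {val : ℕ → G} {ψ : gcl e7val n →* G} (h : WM eM e7T e7val 8 n val ψ)
    {ws : List (List ℕ)} (hW : WLt n ws) {z : List ℕ} (hz : ∀ c ∈ z, c < 2 * n + 2) {l : List ℕ}
    (e : ws.map (fun w => wc (w ++ z ++ invW w)) = l) {g : G} {c : ℕ} (hg : Rep eM ψ g c)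
    (hc : memL l c = true) : ∃ k ∈ gcl val n, k * wval val z * k⁻¹ = g := by
  rw [memL_iff, ← e] at hc
  obtain ⟨w, hw, rfl⟩ := List.mem_map.1 hc
  exact ⟨_, h.mem w (hW w hw), (h.rep_conj w z (hW w hw) hz).eq hg⟩

variable [Finite G]

theorem S6.cent_w {a b c d e : G} (h : S6 a b c d e) {g : G} (hg : g ∈ K6 a b c d e)
    (h1 : g ∈ C1 (c * (a * e * (b * d * c * d * b) * e * a * (b * d * c * d * b)))) : g ^ 12 = 1 := by
  obtain ⟨ψ, hψ, hi⟩ := h.wm
  obtain ⟨x, hx, e1⟩ := hψ.all le_rfl e7_ch5 chkW hg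
  exact (hx.pow 5 12 (by norm_num) (by norm_num)).eq' Rep.one (bimp_iff.1 e1
    (hx.cm hi (hψ.rep _ (by decide)) (by simpa [sval, lv, mul_assoc] using mem_C1.1 h1)))

theorem inv_class6 {val : ℕ → G} {ψ : gcl e7val 6 →* G} (h : WM eM e7T e7val 8 6 val ψ)
    (hi : Function.Injective ψ) {g : G} (hg : g ∈ gcl val 6) (h2 : g * g = 1) :
    g = 1 ∨ (∃ k ∈ gcl val 6, k * val 1 * k⁻¹ = g) ∨ IsConj (wval val (10 :: th6)) g ∨
      IsConj (wval val (2 :: 10 :: th6)) g ∨ IsConj (wval val (W6.getD 5 [])) g := by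
  haveI : Fact (Nat.Prime 2) := ⟨Nat.prime_two⟩
  have hc : Nat.card (imS ψ (eM.gen 3 t128_s)) = 128 := by
    rw [card_imS hi (Model.gen_le t128_mem), t128_card]
  have hle : imS ψ (eM.gen 3 t128_s) ≤ gcl val 6 := h.range ▸ imS_le _
  have hS : SylIn 2 (imS ψ (eM.gen 3 t128_s)) (gcl val 6) :=
    sylIn_of_not_dvd hle (IsPGroup.of_card (n := 7) hc) (by
      rw [relIndex_eq_of_mul hle (n := 405) (by
        rw [hc, ← h.imS_gcl le_rfl, card_imS hi le_rfl, e7_card6'])]
      norm_num)
  obtain ⟨p, hp, h3⟩ := hS.exists_le_cj (zpowers_le.2 hg) (isP_zp2 h2)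
  obtain ⟨i, h4, hx⟩ := rep_of_chain t128_chain (n := 128) (by decide +kernel)
    (mem_cj.1 (h3 (mem_zpowers _)))
  have hk := getD_lt (n := 2 * 6 + 2) (Ws := k128) (by decide) i
  have rk := h.rep _ hk
  have key : ∀ {y k}, k * y * k⁻¹ = p⁻¹ * g * p → p * k * y * (p * k)⁻¹ = g := fun {y k} e => by
    rw [show p * k * y * (p * k)⁻¹ = p * (k * y * k⁻¹) * p⁻¹ by group, e]; group
  refine (bor_iff.1 (bimp_iff.1 (allLt_iff.1 chk128 i h4) (hx.o2 hi (by
    rw [show p⁻¹ * g * p * (p⁻¹ * g * p) = p⁻¹ * (g * g) * p by group, h2]; simp)))).imp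
    (fun e => ?_) fun e => (bor_iff.1 e).imp (fun e => ⟨_, mul_mem hp (h.mem _ hk),
      key (rk.conj (rep1 h 1 (by decide)) hx e)⟩) fun e => (bor_iff.1 e).imp
      (fun e => isConj_iff.2 ⟨_, key (rk.conj (h.rep _ (by decide)) hx e)⟩) fun e => (bor_iff.1 e).imp
      (fun e => isConj_iff.2 ⟨_, key (rk.conj (h.rep _ (by decide)) hx e)⟩)
      fun e => isConj_iff.2 ⟨_, key (rk.conj (h.rep _ (by decide)) hx e)⟩
  have := hx.eq' Rep.one e
  rw [← key (k := 1) (y := 1) (by rw [this]; simp)]; simp

/-- finite facts about a Sylow 2-subgroup of `Sp₆(2)` -/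
structure FF (P T : Subgroup G) (z y y' b c f : G) : Prop where
  syl : SylIn 2 T P
  zT : z ∈ T
  yT : y ∈ T
  y'T : y' ∈ T
  bP : b ∈ P
  cP : c ∈ P
  zz : z * z = 1
  zy : z * y = y * z
  zy' : z * y' = y' * z
  yy' : y * y' = y' * y
  cz : T ≤ C1 z
  ct : T ≤ C1 (z * (y * y'))
  c1 : c * z * c⁻¹ = y
  c2 : c * y * c⁻¹ = y'
  c3 : c * y' * c⁻¹ = z
  bz : b * z = z * b
  ff : f * f = 1
  f3 : f * (b * f * b⁻¹) * (b⁻¹ * f * b) = 1
  fz : f * z = z * f
  fy : f * y = y * f
  fy' : f * y' = y' * f
  ft : f * (b * c * f * (b * c)⁻¹) * (f * (b * c * f * (b * c)⁻¹)) = z * (y * y')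
  n1 : f * b ≠ b * f
  n2 : f * c ≠ c * f
  n3 : f * (b * c) ≠ b * c * f
  n4 : f * (b * c⁻¹) ≠ b * c⁻¹ * f
  F0z : ∀ i ∈ T, IsConj z i → ∃ k ∈ P, k * z * k⁻¹ = i
  F0m : ∀ i ∈ T, IsConj (y * y') i → ∃ k ∈ P, k * (y * y') * k⁻¹ = i
  F1 : ∀ i ∈ T, IsConj z i → IsConj (y * y') (i * (z * (y * y'))) → i = z ∨ i = y ∨ i = y'
  F2 : ∀ i ∈ T, IsConj z i → IsConj (z * (y * y')) (i * (y * y')) → i = z
  F3 : ∀ i ∈ T, IsConj (y * y') i → IsConj (z * (y * y')) (i * z) → i ≠ y * y' → ∃ k ∈ P, k ∈ C1 z ∧
    (k * (z * (y * y')) * k⁻¹ = y * y' * i ∨ k * (y * y') * k⁻¹ = y * y' * i)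
  F4 : ∀ i ∈ T, IsConj z i → i ≠ z → ∃ k ∈ P, k * (y * y') * k⁻¹ = z * i
  F5 : ∀ i ∈ T, T ≤ C1 i → (IsConj z i → i = z) ∧ (IsConj (z * (y * y')) i → i = z * (y * y'))

theorem exists_FF {val : ℕ → G} {ψ : gcl e7val 7 →* G} (h : WM eM e7T e7val 8 7 val ψ)
    (hi : Function.Injective ψ) {z y y' r b c : G} (ez : val 4 = z) (ey : wval val yW = y)
    (ey' : wval val y'W = y') (er : wval val rW = r) (eb : wval val bW = b) (ec : wval val cW = c)
    (n1 : ¬ IsConj z (z * (y * y'))) (n2 : ¬ IsConj z (y * y')) (n3 : ¬ IsConj z r)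
    (n4 : ¬ IsConj (z * (y * y')) (y * y')) (n5 : ¬ IsConj (z * (y * y')) r)
    (n6 : ¬ IsConj (y * y') r) : ∃ T f, FF (gcl val 7) T z y y' b c f := by
  haveI : Fact (Nat.Prime 2) := ⟨Nat.prime_two⟩
  have hc : Nat.card (imS ψ (eM.gen 4 t512_s)) = 512 := by
    rw [card_imS hi (Model.gen_le t512_mem), t512_card]
  have hle : imS ψ (eM.gen 4 t512_s) ≤ gcl val 7 := h.range ▸ imS_le _
  have hS : SylIn 2 (imS ψ (eM.gen 4 t512_s)) (gcl val 7) :=
    sylIn_of_not_dvd hle (IsPGroup.of_card (n := 9) hc) (by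
      rw [relIndex_eq_of_mul hle (n := 2835) (by
        rw [hc, ← h.imS_gcl le_rfl, card_imS hi le_rfl, e7_card7'])]
      norm_num)
  have ez' : wval val [8] = z := ez ▸ wval_single val 4
  have em : wval val mW = y * y' := by rw [mW, wval_append, ey, ey']
  have et : wval val tW = z * (y * y') := by rw [← ez', ← em, ← wval_append]; rfl
  have rz := repw h [8] (by decide) ez'
  have ry := repw h yW (by decide) ey
  have ry' := repw h y'W (by decide) ey'
  have rm := repw h mW (by decide) em
  have rt := repw h tW (by decide) et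
  have rb := repw h bW (by decide) eb
  have rc := repw h cW (by decide) ec
  have rb' : Rep eM ψ b⁻¹ (wc (invW bW)) := repw h _ (by decide) (by rw [wval_invW, eb])
  have rc' : Rep eM ψ c⁻¹ (wc (invW cW)) := repw h _ (by decide) (by rw [wval_invW, ec])
  have rf : Rep eM ψ (wval val fW) (wc fW) := h.rep fW (by decide)
  have mT : ∀ {g e} i, Rep eM ψ g e → Nat.beq e (eM.elt t512_lv i) = true →
      g ∈ imS ψ (eM.gen 4 t512_s) := fun i hg e =>
    hg.mem_imS (Nat.eq_of_beq_eq_true e ▸ t512_chain.1 _)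
  have zT := mT 511 rz (by decide +kernel)
  have yT := mT 14 ry (by decide +kernel)
  have y'T := mT 2 ry' (by decide +kernel)
  have k1 := fun {g e} => conj_of_mem h (g := g) (c := e) (by decide) (by decide) l1_eq
  have k2 := fun {g e} => conj_of_mem h (g := g) (c := e) (by decide) (by decide) l2_eq
  have k3' := fun {g e} => conj_of_mem h (g := g) (c := e) (by decide) (by decide) l3_eq
  have k4 := fun {g e} => conj_of_mem h (g := g) (c := e) (by decide) (by decide) l4_eq
  rw [ez'] at k1
  rw [et] at k2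
  rw [em] at k3'
  rw [er] at k4
  have ic : ∀ {p q : G}, (∃ k ∈ gcl val 7, k * p * k⁻¹ = q) → IsConj p q := fun ⟨k, _, e⟩ =>
    isConj_iff.2 ⟨k, e⟩
  have key : ∀ {g e}, g ∈ imS ψ (eM.gen 4 t512_s) → Rep eM ψ g e → ∀ {p}, IsConj p g →
      Rep eM ψ (p * p) eM.one → ¬ IsConj p 1 → memL l1 e = true ∨ memL l2 e = true ∨
        memL l3 e = true ∨ memL l4 e = true := by
    intro g e hg hr p h1 h2 h3
    obtain ⟨e', hx, h4⟩ := rep_of_allC t512_chain chk512 hg
    obtain rfl := Nat.eq_of_beq_eq_true (hr.beq hi hx rfl)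
    obtain ⟨k, rfl⟩ := isConj_iff.1 h1
    rcases bor_iff.1 (bimp_iff.1 (band_iff.1 (band_iff.1 h4).2).2 (hx.o2 hi (by
      rw [conj_mul, h2.eq Rep.one]; simp))) with e | e
    · exact absurd (hx.eq' Rep.one e ▸ h1) h3
    · simpa only [bor_iff] using e
  have o2 : ∀ {p e}, Rep eM ψ p e → eM.o2 e = true → Rep eM ψ (p * p) eM.one := fun hp e =>
    hp.of_o2 e ▸ Rep.one
  have ne1 : ∀ {p e}, Rep eM ψ p e → bnot (Nat.beq e eM.one) = true → ¬ IsConj p 1 := fun hp e e1 =>
    hp.ne hi Rep.one e (isConj_one_left.1 e1)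
  have t1 : ∀ {g e}, g ∈ imS ψ (eM.gen 4 t512_s) → Rep eM ψ g e → IsConj z g → memL l1 e = true :=
    fun hg hr e => by
      rcases key hg hr e (o2 rz (by decide +kernel)) (ne1 rz (by decide +kernel)) with e1 | e1 | e1 | e1
      exacts [e1, absurd (e.trans (ic (k2 hr e1)).symm) n1, absurd (e.trans (ic (k3' hr e1)).symm) n2,
        absurd (e.trans (ic (k4 hr e1)).symm) n3]
  have t2 : ∀ {g e}, g ∈ imS ψ (eM.gen 4 t512_s) → Rep eM ψ g e → IsConj (z * (y * y')) g →
      memL l2 e = true := fun hg hr e => by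
    rcases key hg hr e (o2 rt (by decide +kernel)) (ne1 rt (by decide +kernel)) with e1 | e1 | e1 | e1
    exacts [absurd ((ic (k1 hr e1)).trans e.symm) n1, e1, absurd (e.trans (ic (k3' hr e1)).symm) n4,
      absurd (e.trans (ic (k4 hr e1)).symm) n5]
  have t3 : ∀ {g e}, g ∈ imS ψ (eM.gen 4 t512_s) → Rep eM ψ g e → IsConj (y * y') g →
      memL l3 e = true := fun hg hr e => by
    rcases key hg hr e (o2 rm (by decide +kernel)) (ne1 rm (by decide +kernel)) with e1 | e1 | e1 | e1
    exacts [absurd ((ic (k1 hr e1)).trans e.symm) n2, absurd ((ic (k2 hr e1)).trans e.symm) n4, e1,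
      absurd (e.trans (ic (k4 hr e1)).symm) n6]
  have ex : ∀ {g}, g ∈ imS ψ (eM.gen 4 t512_s) → ∃ e, Rep eM ψ g e ∧ g ∈ C1 z ∧
      g ∈ C1 (z * (y * y')) := fun hg => by
    obtain ⟨e, hx, h4⟩ := rep_of_allC t512_chain chk512 hg
    exact ⟨e, hx, mem_C1.2 (hx.comm rz (band_iff.1 h4).1),
      mem_C1.2 (hx.comm rt (band_iff.1 (band_iff.1 h4).2).1)⟩
  have nc : ∀ {g e}, Rep eM ψ g e → bnot (eM.cm (wc fW) e) = true → wval val fW * g ≠ g * wval val fW :=
    fun hg e e1 => bnot_iff.1 e (rf.cm hi hg e1)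
  have rq : Rep eM ψ (wval val fW * (b * c * wval val fW * (b * c)⁻¹)) _ :=
    _root_.mul_inv_rev b c ▸ rf.mul (((rb.mul rc).mul rf).mul (rc'.mul rb'))
  refine ⟨_, wval val fW, hS, zT, yT, y'T, eb ▸ h.mem _ (by decide), ec ▸ h.mem _ (by decide),
    rz.of_o2 (by decide +kernel), rz.comm ry (by decide +kernel), rz.comm ry' (by decide +kernel),
    ry.comm ry' (by decide +kernel), fun g hg => (ex hg).choose_spec.2.1,
    fun g hg => (ex hg).choose_spec.2.2, rc.conj rz ry (by decide +kernel),
    rc.conj ry ry' (by decide +kernel), rc.conj ry' rz (by decide +kernel),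
    rb.comm rz (by decide +kernel), rf.of_o2 (by decide +kernel),
    ((rf.mul ((rb.mul rf).mul rb')).mul ((rb'.mul rf).mul rb)).eq' Rep.one (by decide +kernel),
    rf.comm rz (by decide +kernel), rf.comm ry (by decide +kernel), rf.comm ry' (by decide +kernel),
    (rq.mul rq).eq' rt (by decide +kernel), nc rb (by decide +kernel), nc rc (by decide +kernel),
    nc (rb.mul rc) (by decide +kernel), nc (rb.mul rc') (by decide +kernel),
    fun i hg e => ?_, fun i hg e => ?_, fun i hg e e' => ?_, fun i hg e e' => ?_,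
    fun i hg e e' e'' => ?_, fun i hg e e' => ?_, fun i hg e => ?_⟩
  all_goals obtain ⟨x, hx, -⟩ := ex hg
  · exact k1 hx (t1 hg hx e)
  · exact k3' hx (t3 hg hx e)
  · simpa [ez', ey, ey', -wval_cons] using h.of_memL _ (by decide) hx (bimp_iff.1 (band_iff.1
      (allL_iff.1 chkF1 x (memL_iff.1 (t1 hg hx e)))).1
      (t3 (mul_mem hg (mul_mem zT (mul_mem yT y'T))) (hx.mul rt) e'))
  · exact hx.eq' rz (bimp_iff.1 (band_iff.1 (band_iff.1 (allL_iff.1 chkF1 x
      (memL_iff.1 (t1 hg hx e)))).2).1 (t2 (mul_mem hg (mul_mem yT y'T)) (hx.mul rm) e'))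
  · obtain ⟨j, h1, rfl⟩ := List.getElem_of_mem (memL_iff.1 (t3 hg hx e))
    rw [← List.getD_eq_getElem _ 0] at hx
    have hk := getD_lt (n := 2 * 7 + 2) (Ws := k3) (by decide) j
    have rk := h.rep _ hk
    obtain ⟨h2, h3⟩ := band_iff.1 ((bor_iff.1 (bimp_iff.1 (allLt_iff.1 chkF3 j h1)
      (t2 (mul_mem hg zT) (hx.mul rz) e'))).resolve_left fun e1 => e'' (hx.eq' rm e1))
    exact ⟨_, h.mem _ hk, mem_C1.2 (rk.comm rz h2), (bor_iff.1 h3).imp (rk.conj rt (rm.mul hx))
      (rk.conj rm (rm.mul hx))⟩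
  · exact k3' (rz.mul hx) ((bor_iff.1 (band_iff.1 (band_iff.1 (allL_iff.1 chkF1 x
      (memL_iff.1 (t1 hg hx e)))).2).2).resolve_left fun e1 => e' (hx.eq' rz e1))
  · have h1 : x ∈ l1 ++ l2 → i = z ∨ i = z * (y * y') := fun h1 => by
      simpa [ez', et, -wval_cons] using h.of_memL _ (by decide) hx (bimp_iff.1 (allL_iff.1 chkF5 x h1)
        (allLt_iff.2 fun a ha => by
          have h5 := h.rep _ (getD_lt (n := 2 * 7 + 2) (Ws := t512_W) (by decide) a)
          exact hx.cm hi h5 (mem_C1.1 (e (h5.mem_imS (t512_gen a ha)))).symm))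
    exact ⟨fun e1 => (h1 (List.mem_append_left _ (memL_iff.1 (t1 hg hx e1)))).resolve_right
      fun e2 => n1 (e2 ▸ e1), fun e1 => (h1 (List.mem_append_right _
        (memL_iff.1 (t2 hg hx e1)))).resolve_left fun e2 => n1 (e2 ▸ e1).symm⟩

end CfsgH9.E7
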