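import Cfsg.Agent.H9.HsQ

/-! Computations in the two extensions of `4³` by `L₃(2)`. -/

set_option autoImplicit false
set_option maxRecDepth 100000

namespace CfsgH9.Hs

open Subgroup CfsgFT CfsgH5 CfsgH3.TC Function

theorem a_ok : MatOK 4 8 8 32 1 3 20203181445841325826244859658495 4294967295 41367660292349381832802403256411037471 1329227995786124798723422788966678529 :=
  ⟨by norm_num, by norm_num, by norm_num, by norm_num, by norm_num, by decide +kernel, by decide +kernel,
    by decide +kernel, by decide +kernel, by norm_num, by decide +kernel⟩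

/-- the group `GL₄(ℤ/8)` -/
abbrev A8 : Type := GL (Fin 4) (ZMod 8)

noncomputable def aM : Model A8 := glModel a_ok

noncomputable def aval (T : NT) (i : ℕ) : A8 := aM.dec (T.get (2 * i))

def WP6 : List (List ℕ) := [[], [2], [4], [6], [10], [12], [9, 9, 12, 8, 11]]

def CA : List (List ℕ) := [[], [8], [9], [8, 8], [11, 8], [9, 9], [11, 9]]

def CB : List (List ℕ) := [[], [4], [5], [6], [7], [10], [11], [4, 4], [6, 4], [7, 4], [10, 4], [11, 4], [10, 5], [11, 5], [10, 6], [11, 6], [10, 7], [11, 7], [8, 8], [4, 10], [9, 10], [6, 11], [8, 11], [10, 4, 4], [11, 4, 4], [10, 7, 4], [11, 7, 4], [8, 8, 4], [9, 10, 4], [8, 11, 4], [8, 8, 5], [9, 10, 5], [8, 11, 5], [8, 8, 6], [9, 10, 6], [8, 11, 6], [8, 8, 7], [9, 10, 7], [8, 11, 7], [2, 8, 8], [8, 8, 8], [10, 8, 8], [8, 11, 8], [9, 4, 10], [6, 9, 10], [8, 6, 11], [2, 8, 11], [8, 8, 4, 4], [9, 10, 4, 4], [8, 11, 4, 4], [8, 8, 6, 4], [8, 8, 8, 4], [10, 8, 8, 4], [8, 11, 8, 4], [8, 12, 9, 4], [12, 9, 10, 4], [8, 8, 8, 5], [10,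 8, 8, 5], [8, 11, 8, 5], [8, 12, 9, 5], [12, 9, 10, 5], [8, 11, 8, 6], [8, 11, 8, 7], [8, 2, 8, 8], [10, 2, 8, 8], [2, 8, 8, 8], [2, 8, 11, 8], [10, 6, 9, 10], [11, 8, 6, 11], [8, 8, 8, 4, 4], [10, 8, 8, 4, 4], [8, 11, 8, 4, 4]]

def CU : List (List ℕ) := [[], [2], [4], [5], [10], [11], [4, 2], [5, 2], [10, 2], [11, 2], [4, 4], [10, 4], [11, 4], [10, 5], [11, 5], [8, 8], [9, 10], [8, 11], [4, 4, 2], [10, 4, 2], [11, 4, 2], [10, 5, 2], [11, 5, 2], [8, 8, 2], [9, 10, 2], [8, 11, 2], [10, 4, 4], [11, 4, 4], [8, 8, 4], [9, 10, 4], [8, 11, 4], [8, 8, 5], [9, 10, 5], [8, 11, 5], [8, 2, 8], [8, 3, 8], [2, 8, 8], [8, 8, 8], [10, 8, 8], [8, 11, 8], [8, 12, 9], [6, 9, 10], [12, 9, 10], [2, 8, 11], [10, 4, 4, 2], [11, 4, 4, 2], [9, 10, 4, 2], [8, 11, 4, 2], [9, 10, 5, 2], [8, 11, 5, 2], [2, 8, 8, 2], [10, 8, 8, 2], [8, 11, 8, 2], [8, 12, 9, 2], [6, 9, 10, 2], [2, 8, 11, 2], [8, 8, 8, 4], [10, 8, 8, 4], [8, 11, 8, 4], [8, 12, 9, 4], [8, 8, 8, 5], [10, 8, 8, 5], [8, 8, 2, 8], [10,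 8, 2, 8], [8, 8, 3, 8], [10, 8, 3, 8], [8, 11, 3, 8], [8, 2, 8, 8], [10, 2, 8, 8], [8, 12, 7, 9], [12, 6, 9, 10], [10, 2, 8, 8, 2]]

def LA : List ℕ := [1329227995786124798723422789033787393, 1329227995786124799011653165118390273, 1329227997024064838008803063932911617, 1329227997024064838008803063865802753, 1329227997024064838297033440017514497, 1329227997024064838297033440084623361, 1329227995786124799011653165185499137]

def LB : List ℕ := [1329227995790970020522390704974006021, 1329227997028910059807770979906684677, 1329227997028910059807770979973793541, 1329227995790970020810621081226381061, 1329227995790970020810621081159272197, 1329227995788542650364347511426188293, 1329227995793406761626986275747923205, 1329227995790970020522390705041114885, 1329227997028910060096001356024841989, 1329227997028910060096001356091950853, 1329227997026482689937958162510578693, 1329227995793406761915216651933189381, 1329227997026482689937958162577687557, 1329227995793406761915216652000298245,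 1329227997026482689649727786425975813, 1329227997031346801200596926899422469, 1329227997026482689649727786358866949, 1329227997031346801200596926832313605, 1329227995786157855288809473553204743, 1329227995788542650652577887577900037, 1329227995793392594527539865835275523, 1329227997031346800912366550647047429, 1329227995793378353643080888852284423, 1329227995788542650364347511493297157, 1329227995793406761626986275815032069, 1329227995788542650652577887645008901, 1329227997031346800912366550714156293, 1329227997643067914505110262053602823, 1329227996412362614170230003385500931, 1329227997031318393072576351827264519, 1329227996405127875219729987154478599, 1329227997650302653455610278217516291, 1329227997031318393360806727978976263, 1329227997643067914505110262120711687, 1329227997650302653455610278284625155, 1329227997031318393072576351894373383, 1329227996405127875219729987221587463, 1329227996412362614170230003318392067, 1329227997031318393360806728046085127, 1329227995786157855288809473620313607,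 1329227995790960502002732344845729795, 1329227995784920595270571404902532103, 1329227995787357410163836552780907779, 1329227995793392594527539865902384387, 1329227997031332633812920140734399747, 1329227995793378353931311265071105031, 1329227995793378353643080888919393287, 1329227997024097894574189748452328967, 1329227997031332633812920140801508611, 1329227995793378353931311265003996167, 1329227997024097894574189748519437831, 1329227995790960502146847533022248963, 1329227997641830654342757005394183175, 1329227997644267469524252529390716163, 1329227996403890615345607106579661831, 1329227995790960502146847532955140099, 1329227995790960502435077909106851843, 1329227996403890615345607106646770695, 1329227996406327429950641878406989059, 1329227997641830654342757005327074311, 1329227995790960502435077909173960707, 1329227996406327429950641878339880195, 1329227997644267469524252529457825027, 1329227995790960502290962720997441539, 1329227995784920595270571404969640967, 1329227995790960502002732344912838659,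 1329227995787357410163836552848016643, 1329227997025297449737447203831743747, 1329227997022860634844182056020476935, 1329227995790960502290962721064550403, 1329227997022860634844182055953368071, 1329227997025297449737447203898852611]

def LU : List ℕ := [1329227995784920595270571405003195399, 1329227995784920595270571404936086535, 1329227997641830654342757005427737607, 1329227996403890615345607106680325127, 1329227995793378353643080888952947719, 1329227995786157855288809473653868039, 1329227997641830654342757005360628743, 1329227996403890615345607106613216263, 1329227995793378353643080888885838855, 1329227995786157855288809473586759175, 1329227997022860634844182056054031367, 1329227997031318393072576351860818951, 1329227997643067914505110262087157255, 1329227997031318393360806728012530695, 1329227996405127875219729987188033031, 1329227997650302653455610278183961859, 1329227997650316820843287064348984581, 1329227995790960502435077909073297411, 1329227997022860634844182055986922503,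 1329227997031318393072576351927927815, 1329227997643067914505110262154266119, 1329227997031318393360806728079639559, 1329227996405127875219729987255141895, 1329227996412362614170230003284837635, 1329227996412376781557906789382751493, 1329227995790960502146847532921585667, 1329227995793378353931311265104659463, 1329227997024097894574189748552992263, 1329227997031332633812920140835063043, 1329227996412376781269676413264594181, 1329227995790960502290962721098104835, 1329227995793392594527539865868829955, 1329227996412376781269676413197485317, 1329227995790960502002732344879284227, 1329227995793392594527539865935938819, 1329227997031332633812920140767954179, 1329227997650302653455610278251070723, 1329227997026482689793842974501831685, 1329227996406327429950641878373434627, 1329227997647880079594576305432102661, 1329227997647880079882806681617368837, 1329227996412376781557906789449860357, 1329227997026482690082073350586434565, 1329227995790960502435077909140406275, 1329227995793378353931311265037550599,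 1329227997024097894574189748485883399, 1329227997650316820555056688096609541, 1329227995790960502002732344946393091, 1329227997650316820555056688163718405, 1329227995790960502290962721030995971, 1329227996412362614170230003351946499, 1329227997644267469524252529424270595, 1329227996409940040597426406751799045, 1329227996409940040309196030566532869, 1329227997650316820843287064281875717, 1329227995790960502146847532988694531, 1329227995788542650508462699569153029, 1329227997025297449737447203932407043, 1329227997647880079882806681550259973, 1329227996409940040597426406684690181, 1329227995788542650508462699502044165, 1329227995787357410163836552814462211, 1329227995788542650796693075653755909, 1329227995787357410163836552881571075, 1329227995788542650796693075720864773, 1329227997025297449737447203865298179, 1329227996409940040309196030499424005, 1329227997026482690082073350653543429, 1329227996406327429950641878306325763, 1329227997647880079594576305499211525, 1329227997026482689793842974434722821,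 1329227997644267469524252529357161731]

def WR : List (List ℕ) := [[], [2], [4, 4, 6, 6], [4, 4], [9, 9, 12, 8, 11], [10, 9, 9, 12, 8, 11, 11]]

def WR' : List (List ℕ) := [[], [3], [9, 9, 12, 8, 11], [10, 9, 9, 12, 8, 11, 11], [4, 4, 6, 6], [4, 4]]

def XR : List (List ℕ) := [[], [10], [8], [8, 10], [6], [6, 10], [6, 8], [6, 8, 10], [4], [4, 10], [4, 8], [4, 8, 10], [4, 6], [4, 6, 10], [4, 6, 8], [4, 6, 8, 10], [2], [2, 10], [2, 8], [2, 8, 10], [2, 6], [2, 6, 10], [2, 6, 8], [2, 6, 8, 10], [2, 4], [2, 4, 10], [2, 4, 8], [2, 4, 8, 10], [2, 4, 6], [2, 4, 6, 10], [2, 4, 6, 8], [2, 4, 6, 8, 10], [2, 2], [2, 2, 10], [2, 2, 8], [2, 2, 8, 10], [2, 2, 6], [2, 2, 6, 10], [2, 2, 6, 8], [2, 2, 6, 8, 10], [2, 2, 4], [2, 2, 4, 10], [2, 2, 4, 8], [2, 2, 4, 8, 10], [2, 2, 4, 6], [2, 2, 4, 6, 10], [2, 2, 4, 6, 8], [2, 2, 4, 6, 8, 10], [2, 2, 2], [2, 2, 2, 10], [2, 2, 2, 8], [2, 2, 2, 8, 10], [2, 2, 2, 6], [2, 2, 2, 6, 10], [2, 2, 2, 6, 8], [2, 2, 2, 6, 8, 10], [2, 2, 2, 4], [2, 2, 2,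 4, 10], [2, 2, 2, 4, 8], [2, 2, 2, 4, 8, 10], [2, 2, 2, 4, 6], [2, 2, 2, 4, 6, 10], [2, 2, 2, 4, 6, 8], [2, 2, 2, 4, 6, 8, 10]]

def WL : List (List ℕ) := [[], [2, 2], [4, 4, 6, 6], [9, 9, 12, 8, 11], [12]]

def WL' : List (List ℕ) := [[], [2, 2], [9, 9, 12, 8, 11], [4, 4, 6, 6], [12, 2, 2]]

def XE : List (List ℕ) := [[], [2], [4], [2, 4], [6], [2, 6], [4, 6], [2, 4, 6], [8], [2, 8], [4, 8], [2, 4, 8], [6, 8], [2, 6, 8], [4, 6, 8], [2, 4, 6, 8]]

def FE : List (List ℕ) := [[], [], [0, 1, 4, 5, 2, 3, 6, 7, 9, 8, 13, 12, 11, 10, 15, 14], [0, 1, 4, 5, 2, 3, 6, 7, 9, 8, 13, 12, 11, 10, 15, 14], [0, 1, 2, 3, 7, 6, 5, 4, 10, 11, 8, 9, 13, 12, 15, 14], [0, 1, 2, 3, 7, 6, 5, 4, 10, 11, 8, 9, 13, 12, 15, 14], [0, 3, 1, 2, 12, 15, 13, 14, 4, 7, 5, 6, 8, 11, 9, 10], [0, 2, 3, 1, 8, 10, 11, 9, 12, 14, 15, 13, 4, 6, 7, 5]]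

variable {G : Type*} [Group G] {val : ℕ → G} {T s : NT} {lv : List (ℕ × NT)}

/-- the intersection of the two 2-local subgroups -/
abbrev PP (val : ℕ → G) : Subgroup G := gcl (sub WP val) 6

/-- an involution -/
abbrev eU (val : ℕ → G) : G := val 2 * val 2 * val 3 * val 3

/-- an involution -/
abbrev eW (val : ℕ → G) : G := (val 4)⁻¹ * (val 4)⁻¹ * val 6 * val 4 * (val 5)⁻¹

/-- an involution -/
abbrev eK (val : ℕ → G) : G := val 6 * val 2 * (val 3)⁻¹

theorem wS (i : ℕ) : wval val [2 * i] = val i := wval_single val i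

theorem wT : wval val [2, 2] = val 1 * val 1 := by simp [sval]

theorem wU : wval val [4, 4, 6, 6] = eU val := by simp [sval, mul_assoc]

theorem wW : wval val [9, 9, 12, 8, 11] = eW val := by simp [sval, mul_assoc]

theorem wK : wval val [12, 4, 7] = eK val := by simp [sval, mul_assoc]

theorem wY : wval val [11] = (val 5)⁻¹ := by simp [sval]

/-- a faithful model -/
structure PM (T : NT) (lv : List (ℕ × NT)) (val : ℕ → G) (ψ : gcl (aval T) 6 →* G) : Prop where
  wm : WM aM T (aval T) 7 6 val ψ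
  inj : Injective ψ
  eqP : PP val = gcl val 6 ⊓ C1 (val 1 * val 1)
  card : Nat.card (PP val) = 1536
  all : ∀ p, aM.allC lv p = true → ∀ g ∈ PP val, ∃ c, Rep aM ψ g c ∧ p c = true

theorem PP_eq : PP val = gcl (sub WP6 val) 6 := gcl_congr fun a _ _ => by interval_cases a <;> rfl

theorem pm_aux [Finite G] {ψ} (h : WM aM T (aval T) 7 6 val ψ) (hψ : Injective ψ)
    (gens : allLt 6 (fun a => Nat.beq (s.get a) (aM.wcode T (WP6.getD (a + 1) []))) = true)
    (card : Nat.card (aM.gen 6 s) = 1536)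
    (cen : allL (WP6.map (aM.wcode T)) (fun c => aM.cm c (aM.wcode T [2, 2])) = true)
    (nd : (l4W.map fun w => aM.wcode T (w ++ [2, 2] ++ invW w)).Nodup) :
    7 * Nat.card ↥(gcl val 6 ⊓ C1 (val 1 * val 1)) ≤ Nat.card (gcl val 6) ∧
      PP val ≤ gcl val 6 ⊓ C1 (val 1 * val 1) ∧ Nat.card (PP val) = 1536 := by
  rw [← wT, PP_eq]
  refine ⟨h.card_step hψ [2, 2] (by decide) (Ws := l4W) (by decide) (fun w hw => h.mem w
    ((by decide : WLt 6 l4W) w hw)) nd, le_inf (gcl_sub_le h.g0 (by decide) 6) (gcl_le fun a _ a2 =>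
      h.mem_cent (by decide) [2, 2] (by decide) cen _ ?_), ?_⟩
  · rw [List.getD_eq_getElem _ _ (show a < WP6.length from Nat.lt_succ_of_le a2)]
    exact List.getElem_mem _
  · have e := (wm_self h.tab h.lt h.k0).imS_gen (W := WP6) (by decide) gens
    have e2 : aM.gen 6 s ≤ gcl (aval T) 6 := Model.gen_le fun a ha => by
      rw [Nat.eq_of_beq_eq_true (allLt_iff.1 gens a ha)]
      exact h.tab.mem_wcode h.k0 h.lt (getD_lt (by decide) _)
    rw [← h.imS_gen (W := WP6) (by decide) gens, card_imS hψ e2, card]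

theorem bd6 {β : List ℕ} (hβ : β = [] ∨ β = [4]) (h0 : val 0 = 1) (hR : RelsHold val (RB ++ RZ [] β)) :
    Bd (gcl val 6) 10752 := by
  rcases hβ with rfl | rfl
  exacts [bd6H h0 hR, bd6O h0 hR]

theorem exists_pm [Finite G] {β : List ℕ} (hβ : β = [] ∨ β = [4]) (tab : aM.Tab T (aval T) (2 * 7))
    (k0 : aval T 0 = 1) (rels : RelsHold (aval T) (RB ++ RZ [] β))
    (gens : allLt 6 (fun a => Nat.beq (s.get a) (aM.wcode T (WP6.getD (a + 1) []))) = true)
    (ch : aM.Chain (aM.gen 6 s) lv) (card : Nat.card (aM.gen 6 s) = 1536)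
    (cen : allL (WP6.map (aM.wcode T)) (fun c => aM.cm c (aM.wcode T [2, 2])) = true)
    (nd : (l4W.map fun w => aM.wcode T (w ++ [2, 2] ++ invW w)).Nodup) (h0 : val 0 = 1)
    (hR : RelsHold val (RB ++ RZ [] β)) (hc : Nat.card (gcl val 6) = 10752) : ∃ ψ, PM T lv val ψ := by
  obtain ⟨a1, a2, a3⟩ := pm_aux (wm_self tab (by norm_num) k0) Subtype.val_injective gens card cen nd
  have a4 := card_le_of_le a2
  obtain ⟨ψ, h⟩ := exists_wm tab (by norm_num) k0 h0 (bd6 hβ (Prod.ext (subVal_zero _ _) h0)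
    ((rels.subVal k0 (by rcases hβ with rfl | rfl <;> decide)).prod hR)) (by omega)
  have hψ := h.injective (hc ▸ (bd6 hβ k0 rels).2)
  obtain ⟨b1, b2, b3⟩ := pm_aux h hψ gens card cen nd
  refine ⟨ψ, h, hψ, eq_of_le_of_card_ge b2 (by omega), b3, fun p hp g hg => rep_of_allC ch hp ?_⟩
  rwa [h.imS_gen (W := WP6) (by decide) gens, ← PP_eq]

/-- facts valid in both extensions -/
structure F1 (val : ℕ → G) (L : List (List ℕ)) : Prop where
  cy : ∀ x ∈ PP val, x * val 5 = val 5 * x → x * val 1 = val 1 * x ∧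
    (x * x * (x * x) = 1 → x ∈ zpowers (val 1)) ∧ (x * val 4 = val 4 * x → x = 1)
  wp : ∀ x ∈ PP val, x ≠ 1 → x * x = 1 → val 6 * x = x * val 6 →
    x * (val 5 * x * (val 5)⁻¹) * ((val 5)⁻¹ * x * val 5) = 1 → x = eU val ∨ ∃ w ∈ L, x = wval val w
  zz : val 6 * val 6 = 1
  zy : val 6 * val 5 * (val 6 * val 5) = 1
  y3 : val 5 ^ 3 = 1
  za : val 6 * val 1 * (val 6)⁻¹ = (val 1)⁻¹
  kk : eK val * eK val = 1
  zk : val 6 * eK val * (val 6 * eK val) = eU val
  yk : (val 6 * val 5 * eK val) ^ 3 = 1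
  uu : eU val * eU val = 1
  zu : val 6 * eU val = eU val * val 6
  yu : eU val * (val 5 * eU val * (val 5)⁻¹) * ((val 5)⁻¹ * eU val * val 5) = 1
  ka : eK val * val 1 * (eK val)⁻¹ = (val 1)⁻¹
  yb : val 5 * eU val * (val 5)⁻¹ = val 2 * val 2
  yd : (val 5)⁻¹ * eU val * val 5 = val 3 * val 3
  y1 : val 5 ≠ 1
  u1 : eU val ≠ 1
  ut : eU val ≠ val 1 * val 1

def EQ1 : List (List ℕ × List ℕ) := [([12, 12], []), ([12, 10, 12, 10], []), ([10, 10, 10], []),
  ([12, 2, 13], [3]), ([12, 4, 7, 12, 4, 7], []), ([12, 12, 4, 7, 12, 12, 4, 7], [4, 4, 6, 6]),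
  ([12, 10, 12, 4, 7, 12, 10, 12, 4, 7, 12, 10, 12, 4, 7], []), ([4, 4, 6, 6, 4, 4, 6, 6], []),
  ([12, 4, 4, 6, 6], [4, 4, 6, 6, 12]), ([4, 4, 6, 6, 10, 4, 4, 6, 6, 11, 11, 4, 4, 6, 6, 10], []),
  ([12, 4, 7, 2, 6, 5, 13], [3]), ([10, 4, 4, 6, 6, 11], [4, 4]), ([11, 4, 4, 6, 6, 10], [6, 6])]

def NE1 : List (List ℕ × List ℕ) := [([10], []), ([4, 4, 6, 6], []), ([4, 4, 6, 6], [2, 2])]

theorem mem_zp {x : G} (h : ∃ w ∈ l1W, x = wval val w) : x ∈ zpowers (val 1) := by
  obtain ⟨w, hw, rfl⟩ := h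
  simp only [l1W, List.mem_cons, List.not_mem_nil, or_false] at hw
  rcases hw with rfl | rfl | rfl | rfl <;> simp [sval, mul_mem]

theorem PM.f1 {ψ} (h : PM T lv val ψ) {L : List (List ℕ)} (hL : WLt 6 ([4, 4, 6, 6] :: L))
    (c1 : aM.allC lv (fun c => bimp (aM.cm c (aM.wcode T [10])) (band (aM.cm c (aM.wcode T [2]))
      (band (bimp (aM.o2 (aM.mul c c)) (memL (l1W.map (aM.wcode T)) c))
        (bimp (aM.cm c (aM.wcode T [8])) (Nat.beq c aM.one))))) = true)
    (c2 : aM.allC lv (fun c => bimp (aM.o2 c) (bimp (bnot (Nat.beq c aM.one))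
      (bimp (aM.cm (aM.wcode T [12]) c) (bimp (Nat.beq (aM.mul (aM.mul c
        (aM.mul (aM.mul (aM.wcode T [10]) c) (aM.wcode T [11])))
        (aM.mul (aM.mul (aM.wcode T [11]) c) (aM.wcode T [10]))) aM.one)
      (memL (([4, 4, 6, 6] :: L).map (aM.wcode T)) c))))) = true)
    (c3 : ∀ e ∈ EQ1, aM.wcode T e.1 = aM.wcode T e.2)
    (c4 : ∀ e ∈ NE1, bnot (Nat.beq (aM.wcode T e.1) (aM.wcode T e.2)) = true) : F1 val L := by
  have e1 : ∀ e ∈ EQ1, wval val e.1 = wval val e.2 := fun e he => h.wm.eq_of _ _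
    ((by decide : ∀ e ∈ EQ1, (∀ c ∈ e.1, c < 2 * 6 + 2) ∧ ∀ c ∈ e.2, c < 2 * 6 + 2) e he)
    (beq_of_eq (c3 e he))
  have e2 : ∀ e ∈ NE1, wval val e.1 ≠ wval val e.2 := fun e he =>
    have k := (by decide : ∀ e ∈ NE1, (∀ c ∈ e.1, c < 2 * 6 + 2) ∧ ∀ c ∈ e.2, c < 2 * 6 + 2) e he
    (h.wm.rep _ k.1).ne h.inj (h.wm.rep _ k.2) (c4 e he)
  simp only [EQ1, NE1, List.forall_mem_cons, wval_cons, wval_nil, sval, Nat.reduceMod, Nat.reduceDiv,
    ↓reduceIte, mul_one, one_ne_zero] at e1 e2
  obtain ⟨a1, a2, a3, a4, a5, a6, a7, a8, a9, a10, a11, a12, a13, -⟩ := e1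
  obtain ⟨b1, b2, b3, -⟩ := e2
  have ra := wS (val := val) 1 ▸ h.wm.rep [2 * 1] (by decide)
  have rs := wS (val := val) 4 ▸ h.wm.rep [2 * 4] (by decide)
  have ry := wS (val := val) 5 ▸ h.wm.rep [2 * 5] (by decide)
  have rz := wS (val := val) 6 ▸ h.wm.rep [2 * 6] (by decide)
  have rY := wY (val := val) ▸ h.wm.rep [11] (by decide)
  refine ⟨fun x hx e => ?_, fun x hx x1 x2 x3 x4 => ?_, a1, ?_, ?_, ?_, ?_, ?_, ?_, ?_, ?_, ?_, ?_, ?_,
    ?_, b1, ?_, ?_⟩
  · obtain ⟨c, r, k⟩ := h.all _ c1 x hx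
    obtain ⟨k1, k2⟩ := band_iff.1 (bimp_iff.1 k (r.cm h.inj ry e))
    obtain ⟨k2, k3⟩ := band_iff.1 k2
    exact ⟨r.comm ra k1, fun e => mem_zp (h.wm.of_memL l1W (by decide) r
      (bimp_iff.1 k2 ((r.mul r).o2 h.inj e))), fun e => r.eq' Rep.one (bimp_iff.1 k3 (r.cm h.inj rs e))⟩
  · obtain ⟨c, r, k⟩ := h.all _ c2 x hx
    simpa only [List.exists_mem_cons_iff, wU] using h.wm.of_memL _ hL r (bimp_iff.1 (bimp_iff.1
      (bimp_iff.1 (bimp_iff.1 k (r.o2 h.inj x2)) (r.bne Rep.one x1)) (rz.cm h.inj r x3))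
      (((r.mul ((ry.mul r).mul rY)).mul ((rY.mul r).mul ry)).beq h.inj Rep.one x4))
  all_goals
    simp only [pow_succ, pow_zero, one_mul, mul_assoc, mul_inv_rev, inv_inv]
    assumption

noncomputable def aHT : NT := (.node (.node (.node (.node (.leaf (nat_lit 1329227995786124798723422788966678529)) (.leaf (nat_lit 1329227995787338446910363617500135424))) (.node (.leaf (nat_lit 1329227995786124798867537977042534401)) (.leaf (nat_lit 1329227995784920595270571404902532103)))) (.node (.node (.leaf (nat_lit 1329227995786124798723422789000232961)) (.leaf (nat_lit 1329227995793383076009562658985607169))) (.leaf (nat_lit 1329227996405094818366112926416240641)))) (.node (.node (.node (.leaf (nat_lit 1329227995786124798723422788966678529)) (.leaf (nat_lit 1329227995784915891350832634736410885))) (.node (.leaf (nat_lit 1329227995786124799155768353194246145)) (.leaf (nat_lit 1329227995784920595270571404902532103)))) (.node (.node (.leaf (nat_lit 1329227995786124798723422789067341825))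 (.leaf (nat_lit 1329227995784948929469476319354946049))) (.leaf (nat_lit 1329227997643034857651493201315364865)))))

theorem aH_tab : aM.Tab aHT (aval aHT) (2 * 7) := gl_tab a_ok (mask := 255) (by decide +kernel)

theorem aH_h0 : aval aHT 0 = 1 := aM.dec_one (by decide +kernel)

noncomputable def aH_s0 : NT := (.node (.node (.node (.leaf (nat_lit 1329227995786124798723422789000232961)) (.leaf (nat_lit 1329227995784920595270571404902532103))) (.leaf (nat_lit 1329227996405094818366112926416240641))) (.node (.node (.leaf (nat_lit 1329227995786124798867537977042534401)) (.leaf (nat_lit 1329227995790970020522390704974006021))) (.leaf (nat_lit 1329227995793383076009562658985607169))))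

noncomputable def aH_t0 : NT := (.node (.node (.node (.node (.node (.leaf (nat_lit 1329227995786124798723422788966678529)) (.leaf (nat_lit 1329227995788571058349935133932716291))) (.leaf (nat_lit 1329227995787357410163836552780907779))) (.node (.node (.leaf (nat_lit 1329227995784948929469476319354946049)) (.leaf (nat_lit 1329227995793406761626986275747923205))) (.leaf (nat_lit 1329227995784939484738195049058403077)))) (.node (.node (.node (.leaf (nat_lit 1329227995784920595270571404902532103)) (.leaf (nat_lit 1329227995788542650364347511426188293))) (.leaf (nat_lit 1329227995787338520697903974688686597))) (.node (.node (.leaf (nat_lit 1329227995786148484343096023699292421)) (.leaf (nat_lit 1329227995790960502002732344845729795))) (.leaf (nat_lit 1329227995788566262196757461606008579))))) (.node (.node (.node (.node (.leaf (nat_lit 1329227995793383076009562658985607169)) (.leaf (nat_lit 1329227995788575780716414705042785285))) (.leaf (nat_lit 1329227995790974669102179854269481733)))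 (.node (.node (.leaf (nat_lit 1329227995793378353643080888852284423)) (.leaf (nat_lit 1329227995793392594527539865835275523))) (.leaf (nat_lit 1329227995790965298155903437282543107)))) (.node (.node (.node (.leaf (nat_lit 1329227995790970020522390704974006021)) (.leaf (nat_lit 1329227995784930040005232608302597891))) (.leaf (nat_lit 1329227995786134317243650713298797315))) (.node (.node (.leaf (nat_lit 1329227995786157855288809473553204743)) (.leaf (nat_lit 1329227995792202558174695642613481475))) (.leaf (nat_lit 1329227995792183668708769661591027973))))))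

noncomputable def aH_P0 : NT := (.node (.node (.node (.node (.node (.leaf (nat_lit 0)) (.leaf (nat_lit 58))) (.leaf (nat_lit 17))) (.node (.node (.leaf (nat_lit 9)) (.leaf (nat_lit 75))) (.leaf (nat_lit 39)))) (.node (.node (.node (.leaf (nat_lit 4)) (.leaf (nat_lit 63))) (.leaf (nat_lit 29))) (.node (.node (.leaf (nat_lit 11)) (.leaf (nat_lit 81))) (.leaf (nat_lit 51))))) (.node (.node (.node (.node (.leaf (nat_lit 3)) (.leaf (nat_lit 59))) (.leaf (nat_lit 21))) (.node (.node (.leaf (nat_lit 10)) (.leaf (nat_lit 76))) (.leaf (nat_lit 47)))) (.node (.node (.node (.leaf (nat_lit 5)) (.leaf (nat_lit 69))) (.leaf (nat_lit 35))) (.node (.node (.leaf (nat_lit 15)) (.leaf (nat_lit 112))) (.leaf (nat_lit 57))))))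

noncomputable def aH_H0 : NT := (.node (.node (.node (.node (.node (.node (.node (.node (.leaf (nat_lit 24)) (.leaf (nat_lit 477))) (.leaf (nat_lit 13))) (.node (.leaf (nat_lit 1493)) (.leaf (nat_lit 256)))) (.node (.node (.leaf (nat_lit 0)) (.leaf (nat_lit 1477))) (.node (.leaf (nat_lit 248)) (.leaf (nat_lit 23))))) (.node (.node (.node (.node (.leaf (nat_lit 49)) (.leaf (nat_lit 17))) (.leaf (nat_lit 36))) (.node (.leaf (nat_lit 11)) (.leaf (nat_lit 401)))) (.node (.node (.leaf (nat_lit 28)) (.leaf (nat_lit 15))) (.node (.leaf (nat_lit 1113)) (.leaf (nat_lit 44)))))) (.node (.node (.node (.node (.node (.leaf (nat_lit 2)) (.leaf (nat_lit 262))) (.leaf (nat_lit 995))) (.node (.leaf (nat_lit 30)) (.leaf (nat_lit 9)))) (.node (.node (.leaf (nat_lit 627)) (.leaf (nat_lit 254))) (.node (.leaf (nat_lit 3)) (.leaf (nat_lit 1243))))) (.node (.node (.node (.node (.leaf (nat_lit 242)) (.leaf (nat_lit 407))) (.leaf (nat_lit 21))) (.node (.leaf (nat_lit 79)) (.leaf (nat_lit 42))))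 (.node (.node (.leaf (nat_lit 7)) (.leaf (nat_lit 567))) (.node (.leaf (nat_lit 34)) (.leaf (nat_lit 19))))))) (.node (.node (.node (.node (.node (.node (.leaf (nat_lit 72)) (.leaf (nat_lit 12))) (.leaf (nat_lit 251))) (.node (.leaf (nat_lit 1)) (.leaf (nat_lit 568)))) (.node (.node (.leaf (nat_lit 27)) (.leaf (nat_lit 10))) (.node (.leaf (nat_lit 1112)) (.leaf (nat_lit 259))))) (.node (.node (.node (.node (.leaf (nat_lit 5)) (.leaf (nat_lit 263))) (.leaf (nat_lit 996))) (.node (.leaf (nat_lit 247)) (.leaf (nat_lit 22)))) (.node (.node (.leaf (nat_lit 1492)) (.leaf (nat_lit 39))) (.node (.leaf (nat_lit 16)) (.leaf (nat_lit 476)))))) (.node (.node (.node (.node (.node (.leaf (nat_lit 25)) (.leaf (nat_lit 1318))) (.leaf (nat_lit 6))) (.node (.leaf (nat_lit 1230)) (.leaf (nat_lit 41)))) (.node (.node (.leaf (nat_lit 8)) (.leaf (nat_lit 638))) (.node (.leaf (nat_lit 33)) (.leaf (nat_lit 20))))) (.node (.node (.node (.node (.leaf (nat_lit 50)) (.leaf (nat_lit 18))) (.leaf (nat_lit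 253))) (.node (.leaf (nat_lit 4)) (.leaf (nat_lit 1482)))) (.node (.node (.leaf (nat_lit 245)) (.leaf (nat_lit 14))) (.node (.leaf (nat_lit 1306)) (.leaf (nat_lit 261)))))))) (.node (.node (.node (.node (.node (.node (.node (.leaf (nat_lit 48)) (.leaf (nat_lit 11))) (.leaf (nat_lit 4))) (.node (.leaf (nat_lit 2)) (.leaf (nat_lit 1120)))) (.node (.node (.leaf (nat_lit 8)) (.leaf (nat_lit 22))) (.node (.leaf (nat_lit 632)) (.leaf (nat_lit 20))))) (.node (.node (.node (.node (.leaf (nat_lit 4)) (.leaf (nat_lit 16))) (.leaf (nat_lit 468))) (.node (.leaf (nat_lit 1)) (.leaf (nat_lit 10)))) (.node (.node (.leaf (nat_lit 76)) (.leaf (nat_lit 21))) (.node (.leaf (nat_lit 15)) (.leaf (nat_lit 1244)))))) (.node (.node (.node (.node (.node (.leaf (nat_lit 3)) (.leaf (nat_lit 406))) (.leaf (nat_lit 19))) (.node (.leaf (nat_lit 990)) (.leaf (nat_lit 22)))) (.node (.node (.leaf (nat_lit 9)) (.leaf (nat_lit 566))) (.node (.leaf (nat_lit 2)) (.leaf (nat_lit 21))))) (.node (.node (.node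 (.node (.leaf (nat_lit 74)) (.leaf (nat_lit 13))) (.leaf (nat_lit 15))) (.node (.leaf (nat_lit 5)) (.leaf (nat_lit 402)))) (.node (.node (.leaf (nat_lit 10)) (.leaf (nat_lit 3))) (.node (.leaf (nat_lit 1474)) (.leaf (nat_lit 18))))))) (.node (.node (.node (.node (.node (.node (.leaf (nat_lit 1)) (.leaf (nat_lit 14))) (.leaf (nat_lit 1235))) (.node (.leaf (nat_lit 11)) (.leaf (nat_lit 8)))) (.node (.node (.leaf (nat_lit 1107)) (.leaf (nat_lit 7))) (.node (.leaf (nat_lit 14)) (.leaf (nat_lit 475))))) (.node (.node (.node (.node (.leaf (nat_lit 6)) (.leaf (nat_lit 1487))) (.leaf (nat_lit 20))) (.node (.leaf (nat_lit 1495)) (.leaf (nat_lit 9)))) (.node (.node (.leaf (nat_lit 0)) (.leaf (nat_lit 639))) (.node (.leaf (nat_lit 17)) (.leaf (nat_lit 6)))))) (.node (.node (.node (.node (.node (.leaf (nat_lit 1489)) (.leaf (nat_lit 23))) (.leaf (nat_lit 5))) (.node (.leaf (nat_lit 12)) (.leaf (nat_lit 1313)))) (.node (.node (.leaf (nat_lit 0)) (.leaf (nat_lit 16))) (.node (.leaf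 (nat_lit 561)) (.leaf (nat_lit 23))))) (.node (.node (.node (.node (.leaf (nat_lit 7)) (.leaf (nat_lit 19))) (.leaf (nat_lit 1309))) (.node (.leaf (nat_lit 13)) (.leaf (nat_lit 17)))) (.node (.node (.leaf (nat_lit 53)) (.leaf (nat_lit 12))) (.node (.leaf (nat_lit 18)) (.leaf (nat_lit 1005)))))))))

noncomputable def aH_s1 : NT := (.node (.node (.leaf (nat_lit 1329227995786124798723422789000232961)) (.leaf (nat_lit 1329227996405094818366112926416240641))) (.leaf (nat_lit 1329227995786124798867537977042534401)))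

noncomputable def aH_t1 : NT := (.node (.node (.node (.node (.node (.node (.leaf (nat_lit 1329227995786124798723422788966678529)) (.leaf (nat_lit 1329227995786124799011653165219053569))) (.node (.leaf (nat_lit 1329227995786124799155768353194246145)) (.leaf (nat_lit 1329227996405094818798458490710917121)))) (.node (.node (.leaf (nat_lit 1329227996405094818510228114492096513)) (.leaf (nat_lit 1329227997024064838297033440051068929))) (.node (.leaf (nat_lit 1329227997024064838008803063932911617)) (.leaf (nat_lit 1329227997643034857795608389491884033))))) (.node (.node (.node (.leaf (nat_lit 1329227995786124798723422789033787393)) (.leaf (nat_lit 1329227996405094818654343302635061249))) (.node (.leaf (nat_lit 1329227995786124798867537977143197697)) (.leaf (nat_lit 1329227997643034857939723577500631041)))) (.node (.node (.leaf (nat_lit 1329227996405094818366112926483349505)) (.leaf (nat_lit 1329227995786124799155768353294909441))) (.node (.leaf (nat_lit 1329227997643034857651493201348919297))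 (.leaf (nat_lit 1329227997024064838441148628194033665)))))) (.node (.node (.node (.node (.leaf (nat_lit 1329227995786124798867537977042534401)) (.leaf (nat_lit 1329227997024064838008803063966466049))) (.node (.leaf (nat_lit 1329227997024064838152918251941658625)) (.leaf (nat_lit 1329227997643034857795608389458329601)))) (.node (.node (.leaf (nat_lit 1329227995786124798723422789067341825)) (.leaf (nat_lit 1329227997024064838441148628093370369))) (.node (.leaf (nat_lit 1329227996405094818654343302601506817)) (.leaf (nat_lit 1329227997643034857939723577534185473))))) (.node (.node (.node (.leaf (nat_lit 1329227996405094818366112926449795073)) (.leaf (nat_lit 1329227997643034857651493201382473729))) (.node (.leaf (nat_lit 1329227995786124799011653165185499137)) (.leaf (nat_lit 1329227996405094818798458490744471553)))) (.node (.node (.leaf (nat_lit 1329227996405094818510228114525650945)) (.leaf (nat_lit 1329227997024064838152918252042321921))) (.node (.leaf (nat_lit 1329227997024064838297033440017514497))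 (.leaf (nat_lit 1329227997643034858083838765610041345))))))) (.node (.node (.node (.node (.node (.leaf (nat_lit 1329227995786124798723422789000232961)) (.leaf (nat_lit 1329227996405094818510228114592759809))) (.node (.leaf (nat_lit 1329227996405094818654343302567952385)) (.leaf (nat_lit 1329227997024064838297033440084623361)))) (.node (.node (.leaf (nat_lit 1329227997024064838008803063865802753)) (.leaf (nat_lit 1329227997643034857795608389424775169))) (.node (.leaf (nat_lit 1329227995786124799155768353227800577)) (.leaf (nat_lit 1329227997024064838441148628160479233))))) (.node (.node (.node (.leaf (nat_lit 1329227995786124798867537977076088833)) (.leaf (nat_lit 1329227997024064838152918252008767489))) (.node (.leaf (nat_lit 1329227996405094818366112926516903937)) (.leaf (nat_lit 1329227997643034858083838765542932481)))) (.node (.node (.leaf (nat_lit 1329227995786124799011653165151944705)) (.leaf (nat_lit 1329227996405094818654343302668615681))) (.node (.leaf (nat_lit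 1329227996405094818798458490643808257)) (.leaf (nat_lit 1329227997643034857939723577567739905)))))) (.node (.node (.node (.node (.leaf (nat_lit 1329227996405094818366112926416240641)) (.leaf (nat_lit 1329227995786124799155768353261355009))) (.node (.leaf (nat_lit 1329227997643034857651493201315364865)) (.leaf (nat_lit 1329227997024064838441148628126924801)))) (.node (.node (.leaf (nat_lit 1329227995786124798867537977109643265)) (.leaf (nat_lit 1329227997643034857939723577467076609))) (.node (.leaf (nat_lit 1329227997024064838152918251975213057)) (.leaf (nat_lit 1329227997643034858083838765576486913))))) (.node (.node (.node (.leaf (nat_lit 1329227995786124799011653165118390273)) (.leaf (nat_lit 1329227996405094818798458490677362689))) (.node (.leaf (nat_lit 1329227996405094818510228114559205377)) (.leaf (nat_lit 1329227997024064838297033440118177793)))) (.node (.node (.leaf (nat_lit 1329227997024064838008803063899357185)) (.leaf (nat_lit 1329227997643034857651493201416028161)))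 (.node (.leaf (nat_lit 1329227997643034857795608389391220737)) (.leaf (nat_lit 1329227997643034858083838765643595777))))))))

noncomputable def aH_P1 : NT := (.node (.node (.node (.node (.node (.node (.leaf (nat_lit 0)) (.leaf (nat_lit 61))) (.node (.leaf (nat_lit 22)) (.leaf (nat_lit 107)))) (.node (.node (.leaf (nat_lit 8)) (.leaf (nat_lit 80))) (.node (.leaf (nat_lit 38)) (.leaf (nat_lit 140))))) (.node (.node (.node (.leaf (nat_lit 3)) (.leaf (nat_lit 68))) (.node (.leaf (nat_lit 31)) (.leaf (nat_lit 122)))) (.node (.node (.leaf (nat_lit 14)) (.leaf (nat_lit 97))) (.node (.leaf (nat_lit 47)) (.leaf (nat_lit 164)))))) (.node (.node (.node (.node (.leaf (nat_lit 1)) (.leaf (nat_lit 65))) (.node (.leaf (nat_lit 26)) (.leaf (nat_lit 113)))) (.node (.node (.leaf (nat_lit 12)) (.leaf (nat_lit 89))) (.node (.leaf (nat_lit 41)) (.leaf (nat_lit 149))))) (.node (.node (.node (.leaf (nat_lit 5)) (.leaf (nat_lit 74))) (.node (.leaf (nat_lit 34)) (.leaf (nat_lit 134)))) (.node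 (.node (.leaf (nat_lit 17)) (.leaf (nat_lit 101))) (.node (.leaf (nat_lit 53)) (.leaf (nat_lit 173))))))) (.node (.node (.node (.node (.node (.leaf (nat_lit 0)) (.leaf (nat_lit 62))) (.node (.leaf (nat_lit 23)) (.leaf (nat_lit 110)))) (.node (.node (.leaf (nat_lit 11)) (.leaf (nat_lit 83))) (.node (.leaf (nat_lit 40)) (.leaf (nat_lit 146))))) (.node (.node (.node (.leaf (nat_lit 4)) (.leaf (nat_lit 71))) (.node (.leaf (nat_lit 32)) (.leaf (nat_lit 128)))) (.node (.node (.leaf (nat_lit 16)) (.leaf (nat_lit 98))) (.node (.leaf (nat_lit 50)) (.leaf (nat_lit 167)))))) (.node (.node (.node (.node (.leaf (nat_lit 2)) (.leaf (nat_lit 67))) (.node (.leaf (nat_lit 29)) (.leaf (nat_lit 119)))) (.node (.node (.leaf (nat_lit 13)) (.leaf (nat_lit 92))) (.node (.leaf (nat_lit 44)) (.leaf (nat_lit 155))))) (.node (.node (.node (.leaf (nat_lit 7)) (.leaf (nat_lit 77))) (.node (.leaf (nat_lit 35)) (.leaf (nat_lit 137)))) (.node (.node (.leaf (nat_lit 20)) (.leaf (nat_lit 104))) (.node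 (.leaf (nat_lit 56)) (.leaf (nat_lit 182))))))))

noncomputable def aH_H1 : NT := (.node (.node (.node (.node (.node (.node (.node (.node (.leaf (nat_lit 1)) (.leaf (nat_lit 53))) (.leaf (nat_lit 33))) (.node (.node (.leaf (nat_lit 21)) (.leaf (nat_lit 19))) (.leaf (nat_lit 7)))) (.node (.node (.node (.leaf (nat_lit 13)) (.leaf (nat_lit 54))) (.leaf (nat_lit 40))) (.node (.node (.leaf (nat_lit 25)) (.leaf (nat_lit 22))) (.leaf (nat_lit 49))))) (.node (.node (.node (.node (.leaf (nat_lit 8)) (.leaf (nat_lit 54))) (.leaf (nat_lit 34))) (.node (.node (.leaf (nat_lit 25)) (.leaf (nat_lit 31))) (.leaf (nat_lit 47)))) (.node (.node (.node (.leaf (nat_lit 14)) (.leaf (nat_lit 11))) (.leaf (nat_lit 3))) (.node (.node (.leaf (nat_lit 31)) (.leaf (nat_lit 63))) (.leaf (nat_lit 49)))))) (.node (.node (.node (.node (.node (.leaf (nat_lit 5)) (.leaf (nat_lit 16))) (.leaf (nat_lit 36))) (.node (.node (.leaf (nat_lit 21)) (.leaf (nat_lit 60))) (.leaf (nat_lit 45)))) (.node (.node (.node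 (.leaf (nat_lit 15)) (.leaf (nat_lit 57))) (.leaf (nat_lit 38))) (.node (.node (.leaf (nat_lit 29)) (.leaf (nat_lit 42))) (.leaf (nat_lit 4))))) (.node (.node (.node (.node (.leaf (nat_lit 10)) (.leaf (nat_lit 56))) (.leaf (nat_lit 1))) (.node (.node (.leaf (nat_lit 27)) (.leaf (nat_lit 24))) (.leaf (nat_lit 45)))) (.node (.node (.node (.leaf (nat_lit 18)) (.leaf (nat_lit 58))) (.leaf (nat_lit 43))) (.node (.node (.leaf (nat_lit 2)) (.leaf (nat_lit 35))) (.leaf (nat_lit 52))))))) (.node (.node (.node (.node (.node (.node (.leaf (nat_lit 3)) (.leaf (nat_lit 53))) (.leaf (nat_lit 32))) (.node (.node (.leaf (nat_lit 22)) (.leaf (nat_lit 29))) (.leaf (nat_lit 45)))) (.node (.node (.node (.leaf (nat_lit 12)) (.leaf (nat_lit 57))) (.leaf (nat_lit 40))) (.node (.node (.leaf (nat_lit 29)) (.leaf (nat_lit 28))) (.leaf (nat_lit 47))))) (.node (.node (.node (.node (.leaf (nat_lit 8)) (.leaf (nat_lit 18))) (.leaf (nat_lit 38))) (.node (.node (.leaf (nat_lit 23)) (.leaf (nat_lit 20)))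 (.leaf (nat_lit 4)))) (.node (.node (.node (.leaf (nat_lit 18)) (.leaf (nat_lit 15))) (.leaf (nat_lit 40))) (.node (.node (.leaf (nat_lit 31)) (.leaf (nat_lit 63))) (.leaf (nat_lit 52)))))) (.node (.node (.node (.node (.node (.leaf (nat_lit 5)) (.leaf (nat_lit 54))) (.leaf (nat_lit 36))) (.node (.node (.leaf (nat_lit 24)) (.leaf (nat_lit 60))) (.leaf (nat_lit 9)))) (.node (.node (.node (.leaf (nat_lit 16)) (.leaf (nat_lit 56))) (.leaf (nat_lit 1))) (.node (.node (.leaf (nat_lit 27)) (.leaf (nat_lit 63))) (.leaf (nat_lit 6))))) (.node (.node (.node (.node (.leaf (nat_lit 12)) (.leaf (nat_lit 56))) (.leaf (nat_lit 36))) (.node (.node (.leaf (nat_lit 27)) (.leaf (nat_lit 61))) (.leaf (nat_lit 49)))) (.node (.node (.node (.leaf (nat_lit 0)) (.leaf (nat_lit 13))) (.leaf (nat_lit 43))) (.node (.node (.leaf (nat_lit 33)) (.leaf (nat_lit 47))) (.leaf (nat_lit 51)))))))) (.node (.node (.node (.node (.node (.node (.node (.leaf (nat_lit 2)) (.leaf (nat_lit 52))) (.leaf (nat_lit 34)))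 (.node (.node (.leaf (nat_lit 20)) (.leaf (nat_lit 16))) (.leaf (nat_lit 44)))) (.node (.node (.node (.leaf (nat_lit 14)) (.leaf (nat_lit 12))) (.leaf (nat_lit 37))) (.node (.node (.leaf (nat_lit 0)) (.leaf (nat_lit 62))) (.leaf (nat_lit 50))))) (.node (.node (.node (.node (.leaf (nat_lit 6)) (.leaf (nat_lit 55))) (.leaf (nat_lit 37))) (.node (.node (.leaf (nat_lit 26)) (.leaf (nat_lit 61))) (.leaf (nat_lit 44)))) (.node (.node (.node (.leaf (nat_lit 17)) (.leaf (nat_lit 57))) (.leaf (nat_lit 42))) (.node (.node (.leaf (nat_lit 28)) (.leaf (nat_lit 32))) (.leaf (nat_lit 51)))))) (.node (.node (.node (.node (.node (.leaf (nat_lit 6)) (.leaf (nat_lit 10))) (.leaf (nat_lit 33))) (.node (.node (.leaf (nat_lit 23)) (.leaf (nat_lit 30))) (.leaf (nat_lit 46)))) (.node (.node (.node (.leaf (nat_lit 13)) (.leaf (nat_lit 58))) (.leaf (nat_lit 41))) (.node (.node (.leaf (nat_lit 30)) (.leaf (nat_lit 34))) (.leaf (nat_lit 48))))) (.node (.node (.node (.node (.leaf (nat_lit 11)) (.leaf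 (nat_lit 19))) (.leaf (nat_lit 39))) (.node (.node (.leaf (nat_lit 24)) (.leaf (nat_lit 62))) (.leaf (nat_lit 48)))) (.node (.node (.node (.leaf (nat_lit 19)) (.leaf (nat_lit 59))) (.leaf (nat_lit 41))) (.node (.node (.leaf (nat_lit 32)) (.leaf (nat_lit 53))) (.leaf (nat_lit 5))))))) (.node (.node (.node (.node (.node (.node (.leaf (nat_lit 4)) (.leaf (nat_lit 7))) (.leaf (nat_lit 35))) (.node (.node (.leaf (nat_lit 23)) (.leaf (nat_lit 21))) (.leaf (nat_lit 8)))) (.node (.node (.node (.leaf (nat_lit 14)) (.leaf (nat_lit 55))) (.leaf (nat_lit 41))) (.node (.node (.leaf (nat_lit 26)) (.leaf (nat_lit 25))) (.leaf (nat_lit 50))))) (.node (.node (.node (.node (.leaf (nat_lit 9)) (.leaf (nat_lit 55))) (.leaf (nat_lit 35))) (.node (.node (.leaf (nat_lit 26)) (.leaf (nat_lit 60))) (.leaf (nat_lit 48)))) (.node (.node (.node (.leaf (nat_lit 15)) (.leaf (nat_lit 59))) (.leaf (nat_lit 42))) (.node (.node (.leaf (nat_lit 0)) (.leaf (nat_lit 38))) (.leaf (nat_lit 50)))))) (.node (.node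 (.node (.node (.node (.leaf (nat_lit 7)) (.leaf (nat_lit 17))) (.leaf (nat_lit 37))) (.node (.node (.leaf (nat_lit 22)) (.leaf (nat_lit 61))) (.leaf (nat_lit 46)))) (.node (.node (.node (.leaf (nat_lit 17)) (.leaf (nat_lit 58))) (.leaf (nat_lit 39))) (.node (.node (.leaf (nat_lit 30)) (.leaf (nat_lit 43))) (.leaf (nat_lit 51))))) (.node (.node (.node (.node (.leaf (nat_lit 11)) (.leaf (nat_lit 10))) (.leaf (nat_lit 39))) (.node (.node (.leaf (nat_lit 28)) (.leaf (nat_lit 62))) (.leaf (nat_lit 46)))) (.node (.node (.node (.leaf (nat_lit 20)) (.leaf (nat_lit 59))) (.leaf (nat_lit 2))) (.node (.node (.leaf (nat_lit 3)) (.leaf (nat_lit 44))) (.leaf (nat_lit 9)))))))))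

noncomputable def aH_lv2 : List (ℕ × NT) := []

noncomputable def aH_lv1 : List (ℕ × NT) := (nat_lit 64, aH_t1) :: aH_lv2

noncomputable def aH_lv0 : List (ℕ × NT) := (nat_lit 24, aH_t0) :: aH_lv1

theorem aH_valid0 : aM.Valid 6 aH_s0 := Model.valid_of_mem (aH_tab.mem_gens aH_h0 (n := 6) (by norm_num) (Ws := WP6.tail) (by decide)
    (by decide +kernel))

noncomputable def aH_W0 : NT := (.node (.node (.leaf (nat_lit 1)) (.leaf (nat_lit 3))) (.leaf (nat_lit 2)))

theorem aH_sub0 : aM.subCheck 6 aH_s0 3 aH_s1 aH_W0 2 = true := by decide +kernel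

theorem aH_mem0 : ∀ a, a < 3 → aM.Mem (aM.gen 6 aH_s0) (aH_s1.get a) :=
  Model.mem_of_subCheck (by norm_num) (fun _ ha => aH_valid0.mem_gen ha) aH_sub0

theorem aH_le0 : aM.gen 3 aH_s1 ≤ aM.gen 6 aH_s0 := Model.gen_le aH_mem0

theorem aH_valid1 : aM.Valid 3 aH_s1 := Model.valid_of_mem aH_mem0

theorem aH_le1 : ⊥ ≤ aM.gen 3 aH_s1 := bot_le

theorem aH_chain2 : aM.Chain ⊥ aH_lv2 := aM.chain_bot

theorem aH_tree1 : allLt 64 (aM.treeF 3 aH_s1 aH_t1 aH_P1) = true := by decide +kernel

theorem aH_sch1 : allLt (64 * 3) (aM.schF 3 aH_s1 64 aH_t1 aH_lv2 aH_H1) = true := by decide +kernel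

theorem aH_chain1 : aM.Chain (aM.gen 3 aH_s1) aH_lv1 :=
  Model.chain_cons (by norm_num) aH_valid1 aH_chain2 aH_le1 (by norm_num) aH_tree1 aH_sch1

theorem aH_tmem1 : ∀ j, j < 64 → aM.Mem (aM.gen 3 aH_s1) (aH_t1.get j) :=
  Model.mem_of_treeF (by norm_num) (fun _ ha => aH_valid1.mem_gen ha) aH_tree1

theorem aH_tree0 : allLt 24 (aM.treeF 6 aH_s0 aH_t0 aH_P0) = true := by decide +kernel

theorem aH_sch0 : allLt (24 * 6) (aM.schF 6 aH_s0 24 aH_t0 aH_lv1 aH_H0) = true := by decide +kernel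

theorem aH_chain0 : aM.Chain (aM.gen 6 aH_s0) aH_lv0 :=
  Model.chain_cons (by norm_num) aH_valid0 aH_chain1 aH_le0 (by norm_num) aH_tree0 aH_sch0

theorem aH_tmem0 : ∀ j, j < 24 → aM.Mem (aM.gen 6 aH_s0) (aH_t0.get j) :=
  Model.mem_of_treeF (by norm_num) (fun _ ha => aH_valid0.mem_gen ha) aH_tree0

noncomputable def aH_I : NT := (.node (.node (.node (.node (.node (.node (.node (.node (.node (.node (.node (.node (.leaf (nat_lit 990)) (.leaf (nat_lit 185))) (.leaf (nat_lit 0))) (.leaf (nat_lit 415))) (.node (.leaf (nat_lit 0)) (.node (.node (.leaf (nat_lit 697)) (.leaf (nat_lit 1439))) (.leaf (nat_lit 0))))) (.node (.node (.leaf (nat_lit 1119)) (.node (.node (.leaf (nat_lit 811)) (.leaf (nat_lit 1189))) (.leaf (nat_lit 0)))) (.node (.leaf (nat_lit 1128)) (.node (.leaf (nat_lit 1214)) (.leaf (nat_lit 891)))))) (.node (.node (.node (.node (.node (.leaf (nat_lit 0)) (.node (.node (.leaf (nat_lit 531)) (.leaf (nat_lit 1277))) (.leaf (nat_lit 0)))) (.leaf (nat_lit 276))) (.leaf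 (nat_lit 744))) (.node (.leaf (nat_lit 1447)) (.node (.leaf (nat_lit 443)) (.leaf (nat_lit 246))))) (.node (.leaf (nat_lit 0)) (.node (.leaf (nat_lit 451)) (.leaf (nat_lit 1441)))))) (.node (.node (.node (.node (.node (.leaf (nat_lit 900)) (.node (.node (.node (.leaf (nat_lit 1302)) (.leaf (nat_lit 3))) (.leaf (nat_lit 0))) (.leaf (nat_lit 0)))) (.leaf (nat_lit 0))) (.leaf (nat_lit 1335))) (.node (.node (.leaf (nat_lit 0)) (.node (.node (.node (.leaf (nat_lit 741)) (.leaf (nat_lit 1025))) (.leaf (nat_lit 0))) (.leaf (nat_lit 0)))) (.node (.leaf (nat_lit 1464)) (.node (.node (.leaf (nat_lit 1011)) (.leaf (nat_lit 1109))) (.leaf (nat_lit 481)))))) (.node (.node (.node (.node (.node (.leaf (nat_lit 328)) (.leaf (nat_lit 913))) (.node (.leaf (nat_lit 0)) (.node (.node (.leaf (nat_lit 749)) (.leaf (nat_lit 135))) (.leaf (nat_lit 0))))) (.leaf (nat_lit 368))) (.node (.leaf (nat_lit 487)) (.node (.node (.leaf (nat_lit 569)) (.leaf (nat_lit 966))) (.leaf (nat_lit 0))))) (.node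 (.leaf (nat_lit 108)) (.node (.node (.leaf (nat_lit 463)) (.node (.leaf (nat_lit 1213)) (.leaf (nat_lit 67)))) (.leaf (nat_lit 539))))))) (.node (.node (.node (.node (.node (.leaf (nat_lit 271)) (.node (.node (.leaf (nat_lit 1182)) (.leaf (nat_lit 809))) (.leaf (nat_lit 0)))) (.leaf (nat_lit 0))) (.node (.node (.node (.leaf (nat_lit 1365)) (.node (.leaf (nat_lit 499)) (.leaf (nat_lit 997)))) (.leaf (nat_lit 0))) (.node (.node (.leaf (nat_lit 315)) (.leaf (nat_lit 182))) (.node (.leaf (nat_lit 1521)) (.leaf (nat_lit 1344)))))) (.node (.node (.node (.node (.node (.leaf (nat_lit 1032)) (.leaf (nat_lit 416))) (.leaf (nat_lit 0))) (.node (.leaf (nat_lit 461)) (.leaf (nat_lit 49)))) (.node (.node (.node (.leaf (nat_lit 785)) (.leaf (nat_lit 750))) (.leaf (nat_lit 0))) (.leaf (nat_lit 631)))) (.node (.node (.node (.leaf (nat_lit 747)) (.leaf (nat_lit 446))) (.leaf (nat_lit 0))) (.node (.leaf (nat_lit 0)) (.node (.node (.node (.leaf (nat_lit 735)) (.leaf (nat_lit 1333))) (.leaf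 (nat_lit 211))) (.leaf (nat_lit 0))))))) (.node (.node (.node (.node (.leaf (nat_lit 456)) (.node (.leaf (nat_lit 564)) (.leaf (nat_lit 1107)))) (.leaf (nat_lit 679))) (.node (.node (.node (.leaf (nat_lit 0)) (.node (.node (.leaf (nat_lit 1481)) (.leaf (nat_lit 957))) (.leaf (nat_lit 1058)))) (.leaf (nat_lit 0))) (.leaf (nat_lit 673)))) (.node (.node (.node (.node (.node (.leaf (nat_lit 1123)) (.leaf (nat_lit 1309))) (.leaf (nat_lit 1400))) (.node (.leaf (nat_lit 1024)) (.leaf (nat_lit 1167)))) (.node (.node (.leaf (nat_lit 230)) (.node (.leaf (nat_lit 377)) (.node (.node (.leaf (nat_lit 1158)) (.leaf (nat_lit 243))) (.leaf (nat_lit 0))))) (.leaf (nat_lit 0)))) (.node (.node (.node (.node (.leaf (nat_lit 577)) (.leaf (nat_lit 287))) (.leaf (nat_lit 0))) (.leaf (nat_lit 924))) (.node (.node (.leaf (nat_lit 1115)) (.leaf (nat_lit 6))) (.leaf (nat_lit 1375)))))))) (.node (.node (.node (.node (.node (.node (.node (.leaf (nat_lit 946)) (.leaf (nat_lit 160))) (.node (.leaf (nat_lit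 825)) (.leaf (nat_lit 1208)))) (.node (.node (.leaf (nat_lit 290)) (.leaf (nat_lit 596))) (.node (.leaf (nat_lit 1030)) (.node (.leaf (nat_lit 597)) (.leaf (nat_lit 870)))))) (.node (.node (.node (.leaf (nat_lit 120)) (.node (.leaf (nat_lit 1031)) (.leaf (nat_lit 1516)))) (.leaf (nat_lit 0))) (.node (.leaf (nat_lit 685)) (.node (.leaf (nat_lit 0)) (.node (.node (.leaf (nat_lit 0)) (.node (.leaf (nat_lit 930)) (.leaf (nat_lit 895)))) (.leaf (nat_lit 0))))))) (.node (.node (.node (.node (.node (.leaf (nat_lit 1530)) (.node (.leaf (nat_lit 1106)) (.leaf (nat_lit 1327)))) (.leaf (nat_lit 1187))) (.node (.leaf (nat_lit 1501)) (.leaf (nat_lit 69)))) (.node (.node (.leaf (nat_lit 1089)) (.leaf (nat_lit 1055))) (.leaf (nat_lit 1131)))) (.node (.node (.node (.leaf (nat_lit 0)) (.node (.leaf (nat_lit 1336)) (.leaf (nat_lit 1147)))) (.node (.leaf (nat_lit 1407)) (.node (.leaf (nat_lit 450)) (.leaf (nat_lit 320))))) (.node (.leaf (nat_lit 0)) (.node (.node (.leaf (nat_lit 214)) (.leaf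 (nat_lit 1036))) (.leaf (nat_lit 408))))))) (.node (.node (.node (.node (.node (.leaf (nat_lit 1096)) (.node (.node (.leaf (nat_lit 1522)) (.leaf (nat_lit 247))) (.leaf (nat_lit 1362)))) (.leaf (nat_lit 200))) (.node (.leaf (nat_lit 740)) (.node (.node (.node (.node (.leaf (nat_lit 462)) (.leaf (nat_lit 1251))) (.leaf (nat_lit 1296))) (.leaf (nat_lit 0))) (.leaf (nat_lit 772))))) (.node (.node (.leaf (nat_lit 396)) (.leaf (nat_lit 423))) (.node (.leaf (nat_lit 1001)) (.node (.leaf (nat_lit 0)) (.node (.leaf (nat_lit 0)) (.node (.leaf (nat_lit 59)) (.leaf (nat_lit 718)))))))) (.node (.node (.node (.node (.node (.leaf (nat_lit 764)) (.leaf (nat_lit 1102))) (.leaf (nat_lit 0))) (.leaf (nat_lit 1389))) (.node (.leaf (nat_lit 392)) (.node (.node (.node (.leaf (nat_lit 466)) (.leaf (nat_lit 1410))) (.leaf (nat_lit 0))) (.node (.leaf (nat_lit 1507)) (.node (.leaf (nat_lit 1000)) (.leaf (nat_lit 591))))))) (.node (.node (.leaf (nat_lit 523)) (.node (.leaf (nat_lit 0)) (.node (.leaf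 (nat_lit 0)) (.node (.node (.leaf (nat_lit 589)) (.leaf (nat_lit 803))) (.leaf (nat_lit 0)))))) (.node (.node (.leaf (nat_lit 23)) (.leaf (nat_lit 777))) (.leaf (nat_lit 412))))))) (.node (.node (.node (.node (.node (.leaf (nat_lit 1064)) (.node (.node (.leaf (nat_lit 58)) (.leaf (nat_lit 1482))) (.node (.leaf (nat_lit 760)) (.leaf (nat_lit 1435))))) (.node (.node (.leaf (nat_lit 1062)) (.leaf (nat_lit 1468))) (.node (.leaf (nat_lit 0)) (.node (.leaf (nat_lit 1286)) (.leaf (nat_lit 1076)))))) (.node (.node (.leaf (nat_lit 0)) (.node (.node (.leaf (nat_lit 873)) (.leaf (nat_lit 312))) (.node (.leaf (nat_lit 815)) (.leaf (nat_lit 708))))) (.node (.node (.leaf (nat_lit 1506)) (.leaf (nat_lit 1331))) (.node (.node (.leaf (nat_lit 1193)) (.leaf (nat_lit 397))) (.leaf (nat_lit 0)))))) (.node (.node (.node (.leaf (nat_lit 1269)) (.node (.node (.leaf (nat_lit 0)) (.node (.leaf (nat_lit 343)) (.leaf (nat_lit 1346)))) (.node (.node (.leaf (nat_lit 491)) (.leaf (nat_lit 1318))) (.leaf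 (nat_lit 0))))) (.node (.node (.leaf (nat_lit 322)) (.leaf (nat_lit 639))) (.node (.leaf (nat_lit 0)) (.node (.node (.leaf (nat_lit 839)) (.leaf (nat_lit 1352))) (.leaf (nat_lit 0)))))) (.node (.node (.leaf (nat_lit 296)) (.node (.leaf (nat_lit 0)) (.node (.leaf (nat_lit 856)) (.leaf (nat_lit 835))))) (.node (.node (.leaf (nat_lit 696)) (.leaf (nat_lit 172))) (.leaf (nat_lit 0)))))) (.node (.node (.node (.node (.node (.leaf (nat_lit 829)) (.leaf (nat_lit 525))) (.node (.leaf (nat_lit 0)) (.node (.node (.leaf (nat_lit 1423)) (.leaf (nat_lit 794))) (.leaf (nat_lit 1146))))) (.node (.node (.leaf (nat_lit 1084)) (.leaf (nat_lit 699))) (.node (.node (.node (.node (.leaf (nat_lit 140)) (.leaf (nat_lit 47))) (.leaf (nat_lit 0))) (.leaf (nat_lit 0))) (.leaf (nat_lit 129))))) (.node (.node (.leaf (nat_lit 375)) (.leaf (nat_lit 259))) (.node (.node (.node (.node (.leaf (nat_lit 371)) (.leaf (nat_lit 430))) (.leaf (nat_lit 0))) (.leaf (nat_lit 0))) (.leaf (nat_lit 0))))) (.node (.node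 (.leaf (nat_lit 24)) (.node (.node (.node (.node (.leaf (nat_lit 424)) (.leaf (nat_lit 1479))) (.leaf (nat_lit 0))) (.leaf (nat_lit 1218))) (.node (.leaf (nat_lit 344)) (.leaf (nat_lit 901))))) (.node (.node (.node (.node (.node (.node (.leaf (nat_lit 1429)) (.leaf (nat_lit 467))) (.leaf (nat_lit 238))) (.leaf (nat_lit 0))) (.leaf (nat_lit 654))) (.node (.leaf (nat_lit 0)) (.node (.leaf (nat_lit 98)) (.leaf (nat_lit 761))))) (.node (.leaf (nat_lit 0)) (.node (.leaf (nat_lit 1487)) (.leaf (nat_lit 945)))))))))) (.node (.node (.node (.node (.node (.node (.node (.node (.leaf (nat_lit 995)) (.leaf (nat_lit 66))) (.leaf (nat_lit 493))) (.node (.leaf (nat_lit 0)) (.node (.leaf (nat_lit 1179)) (.leaf (nat_lit 1380))))) (.node (.node (.node (.node (.node (.leaf (nat_lit 1476)) (.leaf (nat_lit 352))) (.leaf (nat_lit 0))) (.leaf (nat_lit 1181))) (.node (.leaf (nat_lit 896)) (.leaf (nat_lit 201)))) (.node (.leaf (nat_lit 0)) (.node (.leaf (nat_lit 1014)) (.node (.leaf (nat_lit 0))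 (.node (.leaf (nat_lit 635)) (.leaf (nat_lit 334)))))))) (.node (.node (.node (.node (.node (.leaf (nat_lit 0)) (.node (.node (.leaf (nat_lit 70)) (.leaf (nat_lit 28))) (.leaf (nat_lit 0)))) (.leaf (nat_lit 294))) (.leaf (nat_lit 20))) (.node (.leaf (nat_lit 0)) (.node (.leaf (nat_lit 786)) (.leaf (nat_lit 73))))) (.node (.node (.leaf (nat_lit 0)) (.node (.leaf (nat_lit 933)) (.leaf (nat_lit 157)))) (.node (.leaf (nat_lit 393)) (.node (.node (.leaf (nat_lit 1515)) (.leaf (nat_lit 629))) (.leaf (nat_lit 0))))))) (.node (.node (.node (.node (.node (.leaf (nat_lit 0)) (.node (.node (.leaf (nat_lit 406)) (.leaf (nat_lit 1523))) (.leaf (nat_lit 0)))) (.node (.leaf (nat_lit 1237)) (.leaf (nat_lit 1509)))) (.leaf (nat_lit 1033))) (.node (.node (.leaf (nat_lit 1312)) (.node (.leaf (nat_lit 1477)) (.leaf (nat_lit 56)))) (.node (.leaf (nat_lit 1028)) (.leaf (nat_lit 1372))))) (.node (.node (.node (.node (.leaf (nat_lit 627)) (.node (.leaf (nat_lit 0)) (.node (.leaf (nat_lit 364))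 (.leaf (nat_lit 1092))))) (.leaf (nat_lit 0))) (.leaf (nat_lit 515))) (.node (.node (.leaf (nat_lit 1052)) (.node (.leaf (nat_lit 0)) (.node (.leaf (nat_lit 429)) (.leaf (nat_lit 798))))) (.node (.leaf (nat_lit 680)) (.node (.node (.node (.leaf (nat_lit 769)) (.leaf (nat_lit 136))) (.leaf (nat_lit 0))) (.node (.leaf (nat_lit 402)) (.node (.leaf (nat_lit 149)) (.leaf (nat_lit 226)))))))))) (.node (.node (.node (.node (.node (.node (.leaf (nat_lit 301)) (.leaf (nat_lit 333))) (.node (.node (.node (.leaf (nat_lit 299)) (.leaf (nat_lit 22))) (.leaf (nat_lit 0))) (.leaf (nat_lit 1130)))) (.node (.node (.leaf (nat_lit 841)) (.leaf (nat_lit 603))) (.leaf (nat_lit 0)))) (.node (.node (.leaf (nat_lit 1520)) (.leaf (nat_lit 1048))) (.node (.node (.leaf (nat_lit 142)) (.node (.leaf (nat_lit 497)) (.leaf (nat_lit 150)))) (.leaf (nat_lit 260))))) (.node (.node (.node (.leaf (nat_lit 1244)) (.node (.node (.leaf (nat_lit 0)) (.node (.leaf (nat_lit 1332)) (.leaf (nat_lit 148)))) (.leaf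 (nat_lit 0)))) (.node (.leaf (nat_lit 498)) (.node (.leaf (nat_lit 112)) (.leaf (nat_lit 349))))) (.node (.node (.node (.leaf (nat_lit 1021)) (.node (.leaf (nat_lit 1125)) (.leaf (nat_lit 582)))) (.leaf (nat_lit 251))) (.node (.node (.leaf (nat_lit 0)) (.node (.leaf (nat_lit 0)) (.node (.leaf (nat_lit 1258)) (.leaf (nat_lit 941))))) (.leaf (nat_lit 297)))))) (.node (.node (.node (.node (.leaf (nat_lit 0)) (.node (.leaf (nat_lit 1230)) (.node (.node (.leaf (nat_lit 419)) (.leaf (nat_lit 190))) (.leaf (nat_lit 0))))) (.node (.leaf (nat_lit 889)) (.leaf (nat_lit 920)))) (.node (.node (.node (.leaf (nat_lit 944)) (.leaf (nat_lit 277))) (.leaf (nat_lit 928))) (.node (.node (.leaf (nat_lit 411)) (.node (.leaf (nat_lit 0)) (.node (.node (.leaf (nat_lit 1262)) (.leaf (nat_lit 1452))) (.leaf (nat_lit 0))))) (.leaf (nat_lit 1401))))) (.node (.node (.node (.leaf (nat_lit 105)) (.leaf (nat_lit 780))) (.node (.node (.leaf (nat_lit 0)) (.node (.leaf (nat_lit 0)) (.node (.leaf (nat_lit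 622)) (.leaf (nat_lit 1283))))) (.leaf (nat_lit 0)))) (.node (.node (.node (.leaf (nat_lit 483)) (.leaf (nat_lit 1228))) (.leaf (nat_lit 356))) (.node (.node (.node (.leaf (nat_lit 1090)) (.leaf (nat_lit 186))) (.leaf (nat_lit 0))) (.leaf (nat_lit 1045)))))))) (.node (.node (.node (.node (.node (.node (.node (.node (.leaf (nat_lit 892)) (.leaf (nat_lit 719))) (.leaf (nat_lit 720))) (.node (.node (.leaf (nat_lit 1)) (.leaf (nat_lit 806))) (.leaf (nat_lit 269)))) (.node (.leaf (nat_lit 715)) (.node (.node (.leaf (nat_lit 319)) (.leaf (nat_lit 1314))) (.leaf (nat_lit 0))))) (.node (.node (.leaf (nat_lit 1322)) (.leaf (nat_lit 41))) (.node (.leaf (nat_lit 337)) (.node (.leaf (nat_lit 1234)) (.node (.leaf (nat_lit 1483)) (.leaf (nat_lit 567))))))) (.node (.node (.node (.node (.leaf (nat_lit 1195)) (.leaf (nat_lit 730))) (.leaf (nat_lit 0))) (.node (.node (.node (.leaf (nat_lit 308)) (.leaf (nat_lit 1142))) (.leaf (nat_lit 0))) (.node (.leaf (nat_lit 1104)) (.node (.node (.node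 (.leaf (nat_lit 1486)) (.leaf (nat_lit 340))) (.leaf (nat_lit 0))) (.leaf (nat_lit 0)))))) (.node (.leaf (nat_lit 743)) (.node (.leaf (nat_lit 1097)) (.node (.node (.leaf (nat_lit 0)) (.node (.leaf (nat_lit 1274)) (.leaf (nat_lit 1207)))) (.leaf (nat_lit 0))))))) (.node (.node (.node (.node (.leaf (nat_lit 0)) (.node (.node (.leaf (nat_lit 0)) (.node (.leaf (nat_lit 1377)) (.leaf (nat_lit 845)))) (.leaf (nat_lit 721)))) (.node (.leaf (nat_lit 665)) (.leaf (nat_lit 1150)))) (.node (.node (.leaf (nat_lit 551)) (.leaf (nat_lit 14))) (.node (.leaf (nat_lit 0)) (.node (.node (.leaf (nat_lit 759)) (.leaf (nat_lit 1099))) (.node (.node (.leaf (nat_lit 1066)) (.node (.leaf (nat_lit 378)) (.leaf (nat_lit 1159)))) (.leaf (nat_lit 0))))))) (.node (.node (.node (.node (.node (.leaf (nat_lit 1386)) (.node (.leaf (nat_lit 770)) (.leaf (nat_lit 511)))) (.leaf (nat_lit 0))) (.leaf (nat_lit 0))) (.node (.leaf (nat_lit 1417)) (.node (.leaf (nat_lit 988)) (.leaf (nat_lit 1440))))) (.node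 (.node (.leaf (nat_lit 0)) (.node (.leaf (nat_lit 1383)) (.leaf (nat_lit 810)))) (.node (.leaf (nat_lit 689)) (.node (.leaf (nat_lit 1342)) (.leaf (nat_lit 216)))))))) (.node (.node (.node (.node (.node (.node (.leaf (nat_lit 533)) (.leaf (nat_lit 1489))) (.node (.leaf (nat_lit 1204)) (.leaf (nat_lit 1008)))) (.node (.node (.leaf (nat_lit 1366)) (.node (.node (.leaf (nat_lit 1351)) (.leaf (nat_lit 1418))) (.leaf (nat_lit 0)))) (.leaf (nat_lit 881)))) (.node (.leaf (nat_lit 0)) (.node (.node (.node (.leaf (nat_lit 1455)) (.leaf (nat_lit 1339))) (.leaf (nat_lit 202))) (.leaf (nat_lit 0))))) (.node (.node (.node (.leaf (nat_lit 0)) (.node (.leaf (nat_lit 883)) (.leaf (nat_lit 594)))) (.node (.node (.leaf (nat_lit 652)) (.leaf (nat_lit 1320))) (.node (.node (.leaf (nat_lit 1532)) (.leaf (nat_lit 134))) (.leaf (nat_lit 0))))) (.node (.node (.leaf (nat_lit 351)) (.leaf (nat_lit 527))) (.node (.leaf (nat_lit 707)) (.leaf (nat_lit 905)))))) (.node (.node (.node (.node (.node (.leaf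 (nat_lit 553)) (.leaf (nat_lit 159))) (.leaf (nat_lit 1411))) (.node (.leaf (nat_lit 1534)) (.node (.leaf (nat_lit 473)) (.leaf (nat_lit 1238))))) (.node (.node (.leaf (nat_lit 566)) (.node (.leaf (nat_lit 144)) (.leaf (nat_lit 695)))) (.node (.node (.node (.leaf (nat_lit 0)) (.node (.node (.leaf (nat_lit 1242)) (.leaf (nat_lit 175))) (.leaf (nat_lit 0)))) (.leaf (nat_lit 0))) (.leaf (nat_lit 401))))) (.node (.node (.node (.leaf (nat_lit 0)) (.node (.node (.leaf (nat_lit 0)) (.node (.leaf (nat_lit 607)) (.leaf (nat_lit 1082)))) (.leaf (nat_lit 0)))) (.node (.leaf (nat_lit 1210)) (.node (.leaf (nat_lit 0)) (.node (.leaf (nat_lit 623)) (.leaf (nat_lit 1321)))))) (.node (.node (.node (.leaf (nat_lit 522)) (.leaf (nat_lit 1359))) (.leaf (nat_lit 1027))) (.node (.node (.leaf (nat_lit 432)) (.leaf (nat_lit 556))) (.node (.leaf (nat_lit 0)) (.node (.node (.leaf (nat_lit 0)) (.node (.leaf (nat_lit 38)) (.leaf (nat_lit 156)))) (.leaf (nat_lit 0)))))))))))) (.node (.node (.node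 (.node (.node (.node (.node (.node (.leaf (nat_lit 1101)) (.leaf (nat_lit 1451))) (.node (.node (.leaf (nat_lit 77)) (.node (.leaf (nat_lit 433)) (.leaf (nat_lit 902)))) (.leaf (nat_lit 660)))) (.node (.node (.leaf (nat_lit 872)) (.node (.leaf (nat_lit 437)) (.leaf (nat_lit 448)))) (.node (.node (.node (.node (.leaf (nat_lit 0)) (.node (.leaf (nat_lit 1254)) (.leaf (nat_lit 867)))) (.leaf (nat_lit 1457))) (.node (.leaf (nat_lit 580)) (.leaf (nat_lit 1478)))) (.leaf (nat_lit 788))))) (.node (.node (.node (.leaf (nat_lit 9)) (.leaf (nat_lit 756))) (.node (.leaf (nat_lit 584)) (.node (.leaf (nat_lit 63)) (.leaf (nat_lit 544))))) (.node (.leaf (nat_lit 1077)) (.node (.node (.node (.leaf (nat_lit 634)) (.leaf (nat_lit 365))) (.leaf (nat_lit 1345))) (.node (.leaf (nat_lit 1425)) (.leaf (nat_lit 488))))))) (.node (.node (.node (.node (.leaf (nat_lit 0)) (.node (.leaf (nat_lit 659)) (.leaf (nat_lit 102)))) (.node (.leaf (nat_lit 8)) (.leaf (nat_lit 16)))) (.node (.node (.node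 (.node (.leaf (nat_lit 667)) (.leaf (nat_lit 949))) (.leaf (nat_lit 669))) (.leaf (nat_lit 1384))) (.node (.node (.node (.leaf (nat_lit 518)) (.leaf (nat_lit 1044))) (.node (.node (.leaf (nat_lit 0)) (.node (.leaf (nat_lit 75)) (.leaf (nat_lit 965)))) (.leaf (nat_lit 0)))) (.leaf (nat_lit 345))))) (.node (.node (.node (.node (.node (.leaf (nat_lit 145)) (.leaf (nat_lit 729))) (.leaf (nat_lit 0))) (.node (.leaf (nat_lit 204)) (.leaf (nat_lit 1013)))) (.node (.node (.leaf (nat_lit 502)) (.node (.node (.leaf (nat_lit 137)) (.leaf (nat_lit 261))) (.leaf (nat_lit 510)))) (.leaf (nat_lit 0)))) (.node (.node (.node (.leaf (nat_lit 854)) (.leaf (nat_lit 1059))) (.leaf (nat_lit 0))) (.leaf (nat_lit 85)))))) (.node (.node (.node (.node (.node (.leaf (nat_lit 179)) (.node (.node (.leaf (nat_lit 405)) (.leaf (nat_lit 919))) (.leaf (nat_lit 0)))) (.node (.leaf (nat_lit 348)) (.leaf (nat_lit 289)))) (.node (.node (.leaf (nat_lit 784)) (.node (.leaf (nat_lit 824)) (.leaf (nat_lit 109))))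 (.node (.leaf (nat_lit 452)) (.node (.leaf (nat_lit 1419)) (.node (.node (.leaf (nat_lit 916)) (.leaf (nat_lit 180))) (.leaf (nat_lit 614))))))) (.node (.node (.node (.node (.node (.leaf (nat_lit 374)) (.leaf (nat_lit 444))) (.node (.leaf (nat_lit 99)) (.leaf (nat_lit 725)))) (.leaf (nat_lit 561))) (.leaf (nat_lit 1091))) (.node (.leaf (nat_lit 1046)) (.node (.leaf (nat_lit 704)) (.node (.leaf (nat_lit 653)) (.node (.leaf (nat_lit 361)) (.leaf (nat_lit 688)))))))) (.node (.node (.node (.leaf (nat_lit 1350)) (.node (.node (.leaf (nat_lit 1527)) (.leaf (nat_lit 1120))) (.leaf (nat_lit 632)))) (.node (.node (.leaf (nat_lit 0)) (.node (.leaf (nat_lit 733)) (.leaf (nat_lit 885)))) (.node (.leaf (nat_lit 1329)) (.node (.node (.node (.node (.leaf (nat_lit 662)) (.leaf (nat_lit 313))) (.leaf (nat_lit 0))) (.leaf (nat_lit 0))) (.node (.node (.node (.leaf (nat_lit 1347)) (.leaf (nat_lit 1229))) (.leaf (nat_lit 0))) (.leaf (nat_lit 0))))))) (.node (.node (.node (.node (.leaf (nat_lit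 221)) (.leaf (nat_lit 40))) (.node (.leaf (nat_lit 1497)) (.leaf (nat_lit 32)))) (.node (.leaf (nat_lit 1388)) (.node (.leaf (nat_lit 0)) (.node (.node (.leaf (nat_lit 765)) (.leaf (nat_lit 89))) (.leaf (nat_lit 54)))))) (.node (.node (.leaf (nat_lit 996)) (.leaf (nat_lit 86))) (.node (.leaf (nat_lit 1453)) (.leaf (nat_lit 107)))))))) (.node (.node (.node (.node (.node (.leaf (nat_lit 1152)) (.node (.leaf (nat_lit 1438)) (.node (.node (.leaf (nat_lit 929)) (.node (.leaf (nat_lit 7)) (.leaf (nat_lit 50)))) (.leaf (nat_lit 0))))) (.node (.leaf (nat_lit 644)) (.node (.node (.node (.leaf (nat_lit 778)) (.leaf (nat_lit 1458))) (.leaf (nat_lit 1095))) (.leaf (nat_lit 0))))) (.node (.node (.node (.node (.leaf (nat_lit 608)) (.leaf (nat_lit 421))) (.node (.leaf (nat_lit 1266)) (.node (.leaf (nat_lit 1216)) (.leaf (nat_lit 1531))))) (.node (.leaf (nat_lit 484)) (.node (.leaf (nat_lit 1449)) (.node (.node (.node (.leaf (nat_lit 1364)) (.leaf (nat_lit 1079))) (.leaf (nat_lit 0)))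 (.leaf (nat_lit 0)))))) (.node (.node (.node (.leaf (nat_lit 394)) (.leaf (nat_lit 999))) (.leaf (nat_lit 0))) (.node (.node (.leaf (nat_lit 0)) (.node (.node (.leaf (nat_lit 203)) (.leaf (nat_lit 670))) (.leaf (nat_lit 0)))) (.node (.leaf (nat_lit 737)) (.leaf (nat_lit 254))))))) (.node (.node (.node (.node (.leaf (nat_lit 1448)) (.node (.node (.leaf (nat_lit 1288)) (.leaf (nat_lit 1315))) (.leaf (nat_lit 154)))) (.leaf (nat_lit 1436))) (.node (.node (.leaf (nat_lit 0)) (.node (.leaf (nat_lit 167)) (.leaf (nat_lit 240)))) (.node (.node (.leaf (nat_lit 1163)) (.node (.node (.leaf (nat_lit 1399)) (.leaf (nat_lit 1178))) (.leaf (nat_lit 1122)))) (.leaf (nat_lit 113))))) (.node (.node (.node (.node (.node (.node (.leaf (nat_lit 925)) (.leaf (nat_lit 1414))) (.leaf (nat_lit 0))) (.leaf (nat_lit 165))) (.node (.leaf (nat_lit 0)) (.node (.node (.leaf (nat_lit 1519)) (.leaf (nat_lit 338))) (.leaf (nat_lit 0))))) (.node (.leaf (nat_lit 970)) (.node (.leaf (nat_lit 1247)) (.leaf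 (nat_lit 489))))) (.node (.leaf (nat_lit 43)) (.node (.node (.leaf (nat_lit 1180)) (.leaf (nat_lit 552))) (.node (.node (.leaf (nat_lit 380)) (.leaf (nat_lit 1334))) (.leaf (nat_lit 0)))))))) (.node (.node (.node (.node (.node (.node (.leaf (nat_lit 1459)) (.leaf (nat_lit 1186))) (.leaf (nat_lit 321))) (.node (.node (.leaf (nat_lit 92)) (.leaf (nat_lit 194))) (.node (.leaf (nat_lit 93)) (.leaf (nat_lit 1270))))) (.node (.node (.node (.node (.leaf (nat_lit 1220)) (.leaf (nat_lit 1199))) (.leaf (nat_lit 0))) (.leaf (nat_lit 0))) (.node (.leaf (nat_lit 19)) (.node (.node (.node (.leaf (nat_lit 922)) (.leaf (nat_lit 391))) (.leaf (nat_lit 1338))) (.leaf (nat_lit 0)))))) (.node (.node (.node (.node (.leaf (nat_lit 0)) (.node (.node (.leaf (nat_lit 122)) (.leaf (nat_lit 31))) (.leaf (nat_lit 0)))) (.leaf (nat_lit 1117))) (.node (.node (.node (.leaf (nat_lit 793)) (.leaf (nat_lit 1223))) (.leaf (nat_lit 681))) (.leaf (nat_lit 0)))) (.node (.leaf (nat_lit 855)) (.node (.node (.leaf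 (nat_lit 350)) (.leaf (nat_lit 1361))) (.node (.node (.node (.leaf (nat_lit 438)) (.leaf (nat_lit 288))) (.leaf (nat_lit 0))) (.leaf (nat_lit 382))))))) (.node (.node (.node (.node (.node (.leaf (nat_lit 178)) (.node (.leaf (nat_lit 520)) (.leaf (nat_lit 1075)))) (.leaf (nat_lit 752))) (.node (.leaf (nat_lit 884)) (.node (.leaf (nat_lit 1348)) (.leaf (nat_lit 1224))))) (.node (.leaf (nat_lit 0)) (.node (.leaf (nat_lit 953)) (.node (.node (.node (.leaf (nat_lit 982)) (.leaf (nat_lit 1475))) (.leaf (nat_lit 0))) (.node (.node (.leaf (nat_lit 1394)) (.leaf (nat_lit 439))) (.leaf (nat_lit 0))))))) (.node (.node (.node (.node (.leaf (nat_lit 650)) (.leaf (nat_lit 1292))) (.leaf (nat_lit 285))) (.node (.leaf (nat_lit 633)) (.node (.leaf (nat_lit 111)) (.node (.leaf (nat_lit 834)) (.leaf (nat_lit 82)))))) (.node (.leaf (nat_lit 0)) (.node (.leaf (nat_lit 1430)) (.node (.node (.leaf (nat_lit 311)) (.leaf (nat_lit 1396))) (.leaf (nat_lit 864)))))))))) (.node (.node (.node (.node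 (.node (.node (.node (.node (.leaf (nat_lit 373)) (.leaf (nat_lit 1184))) (.node (.node (.leaf (nat_lit 232)) (.leaf (nat_lit 307))) (.node (.node (.leaf (nat_lit 114)) (.leaf (nat_lit 442))) (.leaf (nat_lit 0))))) (.node (.leaf (nat_lit 1155)) (.leaf (nat_lit 500)))) (.node (.node (.leaf (nat_lit 1113)) (.leaf (nat_lit 972))) (.node (.node (.node (.node (.leaf (nat_lit 827)) (.leaf (nat_lit 886))) (.leaf (nat_lit 0))) (.leaf (nat_lit 0))) (.leaf (nat_lit 1245))))) (.node (.node (.node (.node (.leaf (nat_lit 0)) (.node (.leaf (nat_lit 789)) (.leaf (nat_lit 678)))) (.node (.node (.node (.leaf (nat_lit 83)) (.leaf (nat_lit 118))) (.leaf (nat_lit 0))) (.leaf (nat_lit 674)))) (.leaf (nat_lit 1282))) (.node (.node (.leaf (nat_lit 0)) (.node (.leaf (nat_lit 1408)) (.leaf (nat_lit 2)))) (.node (.node (.node (.leaf (nat_lit 0)) (.node (.leaf (nat_lit 612)) (.leaf (nat_lit 700)))) (.node (.node (.leaf (nat_lit 840)) (.leaf (nat_lit 819))) (.leaf (nat_lit 0)))) (.leaf (nat_lit 1484))))))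 (.node (.node (.node (.node (.node (.leaf (nat_lit 381)) (.leaf (nat_lit 781))) (.node (.node (.leaf (nat_lit 146)) (.leaf (nat_lit 546))) (.leaf (nat_lit 0)))) (.node (.leaf (nat_lit 195)) (.node (.leaf (nat_lit 225)) (.leaf (nat_lit 383))))) (.node (.node (.leaf (nat_lit 0)) (.node (.node (.node (.leaf (nat_lit 869)) (.leaf (nat_lit 34))) (.leaf (nat_lit 0))) (.leaf (nat_lit 0)))) (.node (.node (.leaf (nat_lit 1278)) (.node (.node (.leaf (nat_lit 0)) (.node (.leaf (nat_lit 310)) (.leaf (nat_lit 1276)))) (.leaf (nat_lit 0)))) (.leaf (nat_lit 692))))) (.node (.node (.leaf (nat_lit 459)) (.node (.node (.node (.leaf (nat_lit 1112)) (.leaf (nat_lit 1290))) (.leaf (nat_lit 0))) (.leaf (nat_lit 568)))) (.node (.node (.node (.node (.leaf (nat_lit 606)) (.leaf (nat_lit 357))) (.leaf (nat_lit 0))) (.leaf (nat_lit 218))) (.node (.node (.node (.leaf (nat_lit 274)) (.leaf (nat_lit 797))) (.leaf (nat_lit 1236))) (.node (.leaf (nat_lit 1041)) (.leaf (nat_lit 176)))))))) (.node (.node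 (.node (.node (.node (.node (.leaf (nat_lit 858)) (.leaf (nat_lit 496))) (.node (.leaf (nat_lit 1285)) (.leaf (nat_lit 1136)))) (.node (.leaf (nat_lit 1415)) (.leaf (nat_lit 675)))) (.node (.node (.leaf (nat_lit 557)) (.leaf (nat_lit 1257))) (.node (.leaf (nat_lit 0)) (.node (.node (.node (.leaf (nat_lit 574)) (.leaf (nat_lit 395))) (.leaf (nat_lit 0))) (.leaf (nat_lit 774)))))) (.node (.node (.node (.node (.leaf (nat_lit 0)) (.node (.leaf (nat_lit 862)) (.leaf (nat_lit 284)))) (.leaf (nat_lit 1293))) (.node (.leaf (nat_lit 0)) (.node (.leaf (nat_lit 0)) (.node (.leaf (nat_lit 474)) (.leaf (nat_lit 1114)))))) (.node (.node (.leaf (nat_lit 74)) (.node (.leaf (nat_lit 1261)) (.leaf (nat_lit 237)))) (.node (.leaf (nat_lit 897)) (.node (.node (.leaf (nat_lit 0)) (.node (.leaf (nat_lit 1012)) (.leaf (nat_lit 1428)))) (.leaf (nat_lit 267))))))) (.node (.node (.node (.node (.node (.leaf (nat_lit 1355)) (.leaf (nat_lit 362))) (.node (.leaf (nat_lit 573)) (.leaf (nat_lit 565))))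 (.node (.node (.node (.leaf (nat_lit 1188)) (.leaf (nat_lit 431))) (.leaf (nat_lit 1209))) (.leaf (nat_lit 0)))) (.node (.node (.node (.leaf (nat_lit 808)) (.leaf (nat_lit 1042))) (.leaf (nat_lit 440))) (.node (.leaf (nat_lit 1172)) (.node (.node (.node (.leaf (nat_lit 366)) (.leaf (nat_lit 528))) (.leaf (nat_lit 0))) (.node (.node (.leaf (nat_lit 388)) (.leaf (nat_lit 948))) (.leaf (nat_lit 0))))))) (.node (.node (.node (.leaf (nat_lit 244)) (.leaf (nat_lit 795))) (.node (.leaf (nat_lit 0)) (.node (.leaf (nat_lit 199)) (.leaf (nat_lit 275))))) (.node (.node (.node (.leaf (nat_lit 1196)) (.leaf (nat_lit 458))) (.node (.node (.leaf (nat_lit 918)) (.leaf (nat_lit 549))) (.leaf (nat_lit 0)))) (.node (.node (.leaf (nat_lit 152)) (.leaf (nat_lit 849))) (.node (.node (.leaf (nat_lit 1426)) (.leaf (nat_lit 1085))) (.node (.node (.leaf (nat_lit 601)) (.leaf (nat_lit 595))) (.leaf (nat_lit 616)))))))))) (.node (.node (.node (.node (.node (.node (.node (.leaf (nat_lit 0)) (.node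 (.leaf (nat_lit 1140)) (.leaf (nat_lit 422)))) (.leaf (nat_lit 0))) (.leaf (nat_lit 783))) (.node (.leaf (nat_lit 0)) (.node (.leaf (nat_lit 0)) (.node (.node (.leaf (nat_lit 1225)) (.leaf (nat_lit 791))) (.leaf (nat_lit 1469)))))) (.node (.node (.node (.node (.leaf (nat_lit 663)) (.leaf (nat_lit 1273))) (.leaf (nat_lit 0))) (.leaf (nat_lit 1505))) (.node (.node (.leaf (nat_lit 228)) (.leaf (nat_lit 1535))) (.node (.node (.leaf (nat_lit 0)) (.node (.node (.leaf (nat_lit 583)) (.leaf (nat_lit 842))) (.leaf (nat_lit 570)))) (.leaf (nat_lit 0)))))) (.node (.node (.node (.node (.node (.node (.leaf (nat_lit 470)) (.leaf (nat_lit 516))) (.leaf (nat_lit 1205))) (.node (.leaf (nat_lit 888)) (.leaf (nat_lit 1127)))) (.node (.leaf (nat_lit 127)) (.leaf (nat_lit 209)))) (.node (.node (.leaf (nat_lit 12)) (.leaf (nat_lit 782))) (.node (.node (.leaf (nat_lit 754)) (.leaf (nat_lit 283))) (.leaf (nat_lit 0))))) (.node (.node (.leaf (nat_lit 1051)) (.node (.leaf (nat_lit 1248)) (.node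 (.leaf (nat_lit 1371)) (.leaf (nat_lit 710))))) (.node (.node (.node (.leaf (nat_lit 0)) (.node (.leaf (nat_lit 0)) (.node (.node (.leaf (nat_lit 485)) (.leaf (nat_lit 975))) (.leaf (nat_lit 0))))) (.leaf (nat_lit 959))) (.node (.node (.node (.leaf (nat_lit 0)) (.node (.leaf (nat_lit 535)) (.leaf (nat_lit 1370)))) (.leaf (nat_lit 0))) (.leaf (nat_lit 857))))))) (.node (.node (.node (.node (.node (.node (.leaf (nat_lit 576)) (.leaf (nat_lit 1295))) (.node (.leaf (nat_lit 0)) (.node (.leaf (nat_lit 828)) (.leaf (nat_lit 1382))))) (.node (.leaf (nat_lit 0)) (.node (.leaf (nat_lit 87)) (.leaf (nat_lit 1087))))) (.node (.leaf (nat_lit 314)) (.leaf (nat_lit 1081)))) (.node (.node (.node (.node (.leaf (nat_lit 994)) (.leaf (nat_lit 187))) (.leaf (nat_lit 0))) (.node (.node (.leaf (nat_lit 771)) (.leaf (nat_lit 542))) (.leaf (nat_lit 984)))) (.node (.node (.leaf (nat_lit 911)) (.node (.leaf (nat_lit 245)) (.leaf (nat_lit 84)))) (.node (.leaf (nat_lit 0)) (.node (.leaf (nat_lit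 0)) (.node (.node (.leaf (nat_lit 1154)) (.leaf (nat_lit 703))) (.leaf (nat_lit 0)))))))) (.node (.node (.node (.node (.leaf (nat_lit 1175)) (.node (.leaf (nat_lit 97)) (.leaf (nat_lit 1397)))) (.node (.node (.leaf (nat_lit 0)) (.node (.leaf (nat_lit 833)) (.leaf (nat_lit 702)))) (.leaf (nat_lit 0)))) (.node (.node (.node (.node (.leaf (nat_lit 0)) (.node (.leaf (nat_lit 950)) (.leaf (nat_lit 71)))) (.leaf (nat_lit 0))) (.leaf (nat_lit 468))) (.node (.leaf (nat_lit 0)) (.node (.node (.leaf (nat_lit 1450)) (.leaf (nat_lit 882))) (.leaf (nat_lit 1219)))))) (.node (.node (.node (.node (.leaf (nat_lit 739)) (.leaf (nat_lit 1317))) (.leaf (nat_lit 0))) (.node (.node (.leaf (nat_lit 1129)) (.leaf (nat_lit 1349))) (.leaf (nat_lit 1416)))) (.node (.leaf (nat_lit 927)) (.node (.leaf (nat_lit 641)) (.node (.leaf (nat_lit 1490)) (.leaf (nat_lit 766)))))))))))) (.node (.node (.node (.node (.node (.node (.node (.node (.node (.leaf (nat_lit 628)) (.node (.leaf (nat_lit 263)) (.leaf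 (nat_lit 177)))) (.node (.leaf (nat_lit 0)) (.node (.leaf (nat_lit 0)) (.node (.leaf (nat_lit 0)) (.node (.leaf (nat_lit 1126)) (.leaf (nat_lit 563))))))) (.node (.node (.leaf (nat_lit 1004)) (.leaf (nat_lit 124))) (.node (.leaf (nat_lit 877)) (.node (.node (.leaf (nat_lit 682)) (.leaf (nat_lit 1194))) (.leaf (nat_lit 831)))))) (.node (.node (.node (.node (.leaf (nat_lit 880)) (.node (.node (.leaf (nat_lit 103)) (.leaf (nat_lit 266))) (.leaf (nat_lit 762)))) (.node (.leaf (nat_lit 800)) (.leaf (nat_lit 445)))) (.node (.node (.node (.leaf (nat_lit 980)) (.leaf (nat_lit 1367))) (.leaf (nat_lit 465))) (.leaf (nat_lit 1395)))) (.node (.leaf (nat_lit 615)) (.node (.leaf (nat_lit 1217)) (.node (.leaf (nat_lit 1110)) (.node (.node (.leaf (nat_lit 923)) (.leaf (nat_lit 598))) (.leaf (nat_lit 0)))))))) (.node (.node (.node (.node (.node (.leaf (nat_lit 1162)) (.node (.leaf (nat_lit 88)) (.leaf (nat_lit 403)))) (.leaf (nat_lit 992))) (.node (.node (.leaf (nat_lit 0)) (.node (.leaf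 (nat_lit 974)) (.leaf (nat_lit 836)))) (.node (.leaf (nat_lit 1462)) (.leaf (nat_lit 1086))))) (.node (.node (.node (.leaf (nat_lit 264)) (.leaf (nat_lit 1463))) (.leaf (nat_lit 0))) (.node (.node (.node (.leaf (nat_lit 713)) (.leaf (nat_lit 469))) (.leaf (nat_lit 0))) (.node (.node (.node (.leaf (nat_lit 1043)) (.leaf (nat_lit 1198))) (.leaf (nat_lit 0))) (.node (.node (.leaf (nat_lit 655)) (.leaf (nat_lit 1466))) (.leaf (nat_lit 0))))))) (.node (.node (.node (.node (.node (.leaf (nat_lit 0)) (.node (.leaf (nat_lit 1183)) (.leaf (nat_lit 890)))) (.leaf (nat_lit 971))) (.node (.leaf (nat_lit 853)) (.leaf (nat_lit 501)))) (.node (.node (.leaf (nat_lit 417)) (.leaf (nat_lit 359))) (.node (.leaf (nat_lit 39)) (.leaf (nat_lit 514))))) (.node (.node (.node (.leaf (nat_lit 0)) (.node (.leaf (nat_lit 1192)) (.leaf (nat_lit 931)))) (.leaf (nat_lit 666))) (.node (.node (.leaf (nat_lit 0)) (.node (.leaf (nat_lit 620)) (.leaf (nat_lit 1502)))) (.node (.leaf (nat_lit 1252)) (.leaf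 (nat_lit 624)))))))) (.node (.node (.node (.node (.node (.node (.node (.leaf (nat_lit 0)) (.node (.leaf (nat_lit 1161)) (.leaf (nat_lit 399)))) (.leaf (nat_lit 1016))) (.leaf (nat_lit 1432))) (.node (.node (.node (.node (.leaf (nat_lit 838)) (.leaf (nat_lit 1139))) (.leaf (nat_lit 0))) (.leaf (nat_lit 894))) (.leaf (nat_lit 26)))) (.node (.node (.leaf (nat_lit 0)) (.node (.leaf (nat_lit 767)) (.leaf (nat_lit 96)))) (.node (.node (.node (.node (.leaf (nat_lit 1047)) (.leaf (nat_lit 1307))) (.leaf (nat_lit 0))) (.node (.leaf (nat_lit 1471)) (.leaf (nat_lit 906)))) (.leaf (nat_lit 661))))) (.node (.node (.node (.node (.leaf (nat_lit 1141)) (.leaf (nat_lit 309))) (.node (.leaf (nat_lit 0)) (.node (.node (.leaf (nat_lit 554)) (.leaf (nat_lit 1279))) (.leaf (nat_lit 0))))) (.node (.leaf (nat_lit 939)) (.node (.leaf (nat_lit 1391)) (.leaf (nat_lit 273))))) (.node (.node (.leaf (nat_lit 978)) (.node (.leaf (nat_lit 115)) (.leaf (nat_lit 1306)))) (.node (.node (.node (.leaf (nat_lit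 0)) (.node (.node (.leaf (nat_lit 1390)) (.leaf (nat_lit 964))) (.leaf (nat_lit 0)))) (.node (.node (.leaf (nat_lit 414)) (.leaf (nat_lit 336))) (.leaf (nat_lit 0)))) (.node (.node (.leaf (nat_lit 236)) (.leaf (nat_lit 734))) (.leaf (nat_lit 0))))))) (.node (.node (.node (.node (.node (.leaf (nat_lit 848)) (.leaf (nat_lit 637))) (.node (.node (.leaf (nat_lit 130)) (.leaf (nat_lit 1050))) (.node (.leaf (nat_lit 1360)) (.leaf (nat_lit 1291))))) (.node (.node (.leaf (nat_lit 390)) (.leaf (nat_lit 268))) (.node (.leaf (nat_lit 0)) (.node (.node (.leaf (nat_lit 1526)) (.leaf (nat_lit 407))) (.leaf (nat_lit 404)))))) (.node (.leaf (nat_lit 575)) (.node (.node (.leaf (nat_lit 0)) (.node (.node (.leaf (nat_lit 910)) (.leaf (nat_lit 347))) (.leaf (nat_lit 0)))) (.node (.node (.leaf (nat_lit 1337)) (.leaf (nat_lit 1069))) (.leaf (nat_lit 0)))))) (.node (.node (.node (.leaf (nat_lit 1053)) (.node (.leaf (nat_lit 1202)) (.node (.leaf (nat_lit 1174)) (.leaf (nat_lit 428))))) (.node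 (.node (.leaf (nat_lit 538)) (.leaf (nat_lit 879))) (.leaf (nat_lit 0)))) (.node (.leaf (nat_lit 1259)) (.node (.node (.node (.leaf (nat_lit 0)) (.node (.leaf (nat_lit 1467)) (.leaf (nat_lit 936)))) (.leaf (nat_lit 316))) (.leaf (nat_lit 0)))))))) (.node (.node (.node (.node (.node (.node (.leaf (nat_lit 1231)) (.node (.leaf (nat_lit 899)) (.leaf (nat_lit 30)))) (.node (.node (.node (.leaf (nat_lit 817)) (.leaf (nat_lit 143))) (.leaf (nat_lit 0))) (.leaf (nat_lit 1493)))) (.node (.node (.node (.node (.leaf (nat_lit 907)) (.leaf (nat_lit 1165))) (.leaf (nat_lit 1256))) (.node (.leaf (nat_lit 1456)) (.leaf (nat_lit 1311)))) (.node (.node (.leaf (nat_lit 830)) (.leaf (nat_lit 507))) (.leaf (nat_lit 0))))) (.node (.node (.node (.leaf (nat_lit 672)) (.node (.node (.leaf (nat_lit 758)) (.leaf (nat_lit 804))) (.leaf (nat_lit 435)))) (.node (.node (.leaf (nat_lit 0)) (.node (.node (.leaf (nat_lit 21)) (.leaf (nat_lit 65))) (.leaf (nat_lit 0)))) (.leaf (nat_lit 0)))) (.node (.node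 (.node (.leaf (nat_lit 1070)) (.node (.node (.leaf (nat_lit 717)) (.leaf (nat_lit 1049))) (.leaf (nat_lit 0)))) (.leaf (nat_lit 908))) (.leaf (nat_lit 1153))))) (.node (.node (.node (.node (.leaf (nat_lit 0)) (.node (.leaf (nat_lit 1326)) (.leaf (nat_lit 1356)))) (.leaf (nat_lit 495))) (.node (.node (.node (.node (.node (.leaf (nat_lit 1221)) (.leaf (nat_lit 305))) (.leaf (nat_lit 270))) (.leaf (nat_lit 757))) (.leaf (nat_lit 0))) (.node (.node (.leaf (nat_lit 581)) (.leaf (nat_lit 1201))) (.leaf (nat_lit 1281))))) (.node (.node (.node (.leaf (nat_lit 1088)) (.node (.node (.leaf (nat_lit 0)) (.node (.node (.leaf (nat_lit 1133)) (.leaf (nat_lit 1431))) (.leaf (nat_lit 0)))) (.node (.leaf (nat_lit 121)) (.leaf (nat_lit 664))))) (.node (.node (.node (.leaf (nat_lit 1038)) (.node (.leaf (nat_lit 1197)) (.leaf (nat_lit 1385)))) (.leaf (nat_lit 0))) (.leaf (nat_lit 548)))) (.node (.node (.node (.leaf (nat_lit 987)) (.leaf (nat_lit 1118))) (.leaf (nat_lit 0))) (.leaf (nat_lit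 1019)))))) (.node (.node (.node (.node (.node (.node (.node (.leaf (nat_lit 1206)) (.leaf (nat_lit 329))) (.leaf (nat_lit 0))) (.leaf (nat_lit 0))) (.node (.node (.node (.node (.node (.leaf (nat_lit 917)) (.leaf (nat_lit 1503))) (.leaf (nat_lit 0))) (.leaf (nat_lit 0))) (.leaf (nat_lit 0))) (.leaf (nat_lit 937)))) (.node (.node (.leaf (nat_lit 447)) (.node (.node (.leaf (nat_lit 571)) (.leaf (nat_lit 973))) (.leaf (nat_lit 45)))) (.node (.leaf (nat_lit 1185)) (.node (.node (.leaf (nat_lit 169)) (.leaf (nat_lit 998))) (.node (.node (.leaf (nat_lit 0)) (.node (.leaf (nat_lit 1203)) (.leaf (nat_lit 1373)))) (.leaf (nat_lit 0))))))) (.node (.node (.node (.node (.leaf (nat_lit 1517)) (.leaf (nat_lit 492))) (.leaf (nat_lit 104))) (.node (.leaf (nat_lit 0)) (.node (.leaf (nat_lit 0)) (.node (.node (.leaf (nat_lit 521)) (.leaf (nat_lit 1005))) (.leaf (nat_lit 486)))))) (.node (.node (.leaf (nat_lit 0)) (.node (.leaf (nat_lit 158)) (.leaf (nat_lit 291)))) (.leaf (nat_lit 0)))))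 (.node (.node (.node (.node (.node (.node (.leaf (nat_lit 590)) (.leaf (nat_lit 1116))) (.leaf (nat_lit 27))) (.leaf (nat_lit 0))) (.leaf (nat_lit 711))) (.node (.node (.leaf (nat_lit 332)) (.node (.node (.node (.leaf (nat_lit 1241)) (.leaf (nat_lit 1341))) (.leaf (nat_lit 1470))) (.leaf (nat_lit 0)))) (.node (.leaf (nat_lit 0)) (.node (.leaf (nat_lit 893)) (.leaf (nat_lit 217)))))) (.node (.node (.node (.node (.leaf (nat_lit 184)) (.leaf (nat_lit 279))) (.node (.leaf (nat_lit 224)) (.leaf (nat_lit 253)))) (.node (.leaf (nat_lit 1124)) (.node (.node (.leaf (nat_lit 1275)) (.leaf (nat_lit 1265))) (.leaf (nat_lit 676))))) (.node (.node (.leaf (nat_lit 252)) (.leaf (nat_lit 985))) (.node (.node (.node (.leaf (nat_lit 621)) (.leaf (nat_lit 1135))) (.leaf (nat_lit 0))) (.leaf (nat_lit 323))))))))) (.node (.node (.node (.node (.node (.node (.node (.leaf (nat_lit 360)) (.node (.leaf (nat_lit 0)) (.node (.leaf (nat_lit 588)) (.leaf (nat_lit 1454))))) (.node (.leaf (nat_lit 0))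 (.node (.leaf (nat_lit 519)) (.leaf (nat_lit 210))))) (.node (.node (.node (.node (.leaf (nat_lit 1289)) (.node (.leaf (nat_lit 295)) (.leaf (nat_lit 530)))) (.leaf (nat_lit 0))) (.leaf (nat_lit 0))) (.node (.node (.leaf (nat_lit 0)) (.node (.leaf (nat_lit 865)) (.leaf (nat_lit 1151)))) (.leaf (nat_lit 0))))) (.node (.node (.node (.leaf (nat_lit 331)) (.node (.node (.leaf (nat_lit 0)) (.node (.node (.leaf (nat_lit 605)) (.leaf (nat_lit 327))) (.leaf (nat_lit 0)))) (.leaf (nat_lit 961)))) (.node (.leaf (nat_lit 878)) (.leaf (nat_lit 934)))) (.node (.node (.leaf (nat_lit 335)) (.leaf (nat_lit 5))) (.node (.leaf (nat_lit 0)) (.node (.leaf (nat_lit 0)) (.node (.node (.leaf (nat_lit 943)) (.leaf (nat_lit 1298))) (.leaf (nat_lit 162)))))))) (.node (.node (.node (.node (.node (.node (.leaf (nat_lit 1108)) (.leaf (nat_lit 1319))) (.leaf (nat_lit 960))) (.node (.node (.node (.node (.leaf (nat_lit 494)) (.leaf (nat_lit 25))) (.leaf (nat_lit 0))) (.leaf (nat_lit 0))) (.leaf (nat_lit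 125)))) (.node (.leaf (nat_lit 593)) (.leaf (nat_lit 714)))) (.node (.leaf (nat_lit 1166)) (.node (.leaf (nat_lit 0)) (.node (.node (.leaf (nat_lit 1378)) (.leaf (nat_lit 642))) (.node (.leaf (nat_lit 0)) (.node (.node (.leaf (nat_lit 807)) (.leaf (nat_lit 1363))) (.leaf (nat_lit 0)))))))) (.node (.node (.leaf (nat_lit 979)) (.node (.node (.node (.leaf (nat_lit 524)) (.leaf (nat_lit 926))) (.leaf (nat_lit 0))) (.leaf (nat_lit 1272)))) (.node (.node (.leaf (nat_lit 1343)) (.node (.leaf (nat_lit 0)) (.node (.leaf (nat_lit 0)) (.node (.node (.leaf (nat_lit 173)) (.leaf (nat_lit 687))) (.leaf (nat_lit 0)))))) (.node (.leaf (nat_lit 425)) (.node (.node (.leaf (nat_lit 0)) (.node (.leaf (nat_lit 991)) (.leaf (nat_lit 1514)))) (.leaf (nat_lit 1006)))))))) (.node (.node (.node (.node (.node (.node (.node (.leaf (nat_lit 686)) (.leaf (nat_lit 300))) (.leaf (nat_lit 29))) (.node (.leaf (nat_lit 648)) (.node (.leaf (nat_lit 455)) (.leaf (nat_lit 796))))) (.leaf (nat_lit 90))) (.node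 (.leaf (nat_lit 866)) (.leaf (nat_lit 1354)))) (.node (.node (.node (.leaf (nat_lit 303)) (.leaf (nat_lit 1267))) (.node (.leaf (nat_lit 1510)) (.node (.leaf (nat_lit 1227)) (.leaf (nat_lit 1022))))) (.node (.node (.leaf (nat_lit 53)) (.node (.leaf (nat_lit 0)) (.node (.leaf (nat_lit 479)) (.leaf (nat_lit 625))))) (.node (.node (.node (.leaf (nat_lit 954)) (.node (.leaf (nat_lit 1442)) (.leaf (nat_lit 775)))) (.leaf (nat_lit 0))) (.leaf (nat_lit 617)))))) (.node (.node (.node (.node (.node (.node (.leaf (nat_lit 0)) (.node (.leaf (nat_lit 0)) (.node (.leaf (nat_lit 317)) (.leaf (nat_lit 471))))) (.leaf (nat_lit 1513))) (.leaf (nat_lit 0))) (.node (.leaf (nat_lit 1222)) (.leaf (nat_lit 1433)))) (.node (.leaf (nat_lit 1512)) (.node (.node (.leaf (nat_lit 1023)) (.node (.node (.leaf (nat_lit 346)) (.leaf (nat_lit 823))) (.leaf (nat_lit 354)))) (.leaf (nat_lit 0))))) (.node (.node (.leaf (nat_lit 643)) (.node (.leaf (nat_lit 0)) (.node (.node (.leaf (nat_lit 1009)) (.node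 (.leaf (nat_lit 62)) (.leaf (nat_lit 191)))) (.leaf (nat_lit 1037))))) (.node (.node (.node (.node (.node (.node (.leaf (nat_lit 389)) (.leaf (nat_lit 543))) (.leaf (nat_lit 0))) (.leaf (nat_lit 763))) (.leaf (nat_lit 426))) (.leaf (nat_lit 0))) (.node (.leaf (nat_lit 694)) (.node (.leaf (nat_lit 638)) (.leaf (nat_lit 1121))))))))) (.node (.node (.node (.node (.node (.node (.leaf (nat_lit 181)) (.node (.node (.leaf (nat_lit 418)) (.leaf (nat_lit 330))) (.leaf (nat_lit 0)))) (.node (.leaf (nat_lit 51)) (.node (.leaf (nat_lit 0)) (.node (.leaf (nat_lit 599)) (.leaf (nat_lit 572)))))) (.node (.node (.leaf (nat_lit 249)) (.leaf (nat_lit 10))) (.node (.node (.node (.leaf (nat_lit 1518)) (.leaf (nat_lit 477))) (.leaf (nat_lit 526))) (.leaf (nat_lit 476))))) (.node (.node (.node (.leaf (nat_lit 0)) (.node (.leaf (nat_lit 1374)) (.leaf (nat_lit 790)))) (.leaf (nat_lit 1105))) (.node (.node (.node (.leaf (nat_lit 318)) (.node (.leaf (nat_lit 0)) (.node (.node (.leaf (nat_lit 133))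 (.leaf (nat_lit 851))) (.leaf (nat_lit 0))))) (.leaf (nat_lit 0))) (.node (.node (.node (.leaf (nat_lit 0)) (.node (.node (.leaf (nat_lit 723)) (.leaf (nat_lit 197))) (.leaf (nat_lit 0)))) (.leaf (nat_lit 1020))) (.leaf (nat_lit 1473)))))) (.node (.node (.node (.node (.leaf (nat_lit 189)) (.node (.node (.node (.leaf (nat_lit 262)) (.leaf (nat_lit 155))) (.leaf (nat_lit 0))) (.leaf (nat_lit 914)))) (.node (.node (.leaf (nat_lit 1057)) (.leaf (nat_lit 843))) (.leaf (nat_lit 0)))) (.node (.node (.leaf (nat_lit 1496)) (.node (.leaf (nat_lit 1480)) (.leaf (nat_lit 586)))) (.node (.node (.leaf (nat_lit 1300)) (.node (.node (.node (.leaf (nat_lit 342)) (.leaf (nat_lit 579))) (.leaf (nat_lit 600))) (.leaf (nat_lit 0)))) (.leaf (nat_lit 1412))))) (.node (.node (.node (.leaf (nat_lit 0)) (.node (.node (.leaf (nat_lit 887)) (.node (.leaf (nat_lit 292)) (.leaf (nat_lit 732)))) (.leaf (nat_lit 0)))) (.node (.leaf (nat_lit 227)) (.leaf (nat_lit 205)))) (.node (.node (.node (.leaf (nat_lit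 0)) (.node (.leaf (nat_lit 909)) (.leaf (nat_lit 822)))) (.leaf (nat_lit 716))) (.node (.node (.node (.leaf (nat_lit 376)) (.leaf (nat_lit 1393))) (.node (.leaf (nat_lit 42)) (.node (.leaf (nat_lit 701)) (.leaf (nat_lit 1402))))) (.node (.leaf (nat_lit 1328)) (.leaf (nat_lit 513)))))))) (.node (.node (.node (.node (.node (.node (.leaf (nat_lit 755)) (.node (.leaf (nat_lit 578)) (.leaf (nat_lit 138)))) (.node (.leaf (nat_lit 813)) (.leaf (nat_lit 805)))) (.node (.node (.leaf (nat_lit 647)) (.leaf (nat_lit 993))) (.leaf (nat_lit 1323)))) (.node (.node (.node (.leaf (nat_lit 208)) (.leaf (nat_lit 1474))) (.leaf (nat_lit 656))) (.node (.leaf (nat_lit 956)) (.node (.leaf (nat_lit 222)) (.leaf (nat_lit 1060)))))) (.node (.node (.node (.leaf (nat_lit 100)) (.node (.node (.node (.leaf (nat_lit 44)) (.leaf (nat_lit 555))) (.leaf (nat_lit 0))) (.leaf (nat_lit 0)))) (.leaf (nat_lit 325))) (.node (.node (.leaf (nat_lit 1148)) (.node (.node (.leaf (nat_lit 693)) (.leaf (nat_lit 1494)))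 (.leaf (nat_lit 94)))) (.node (.leaf (nat_lit 609)) (.node (.node (.leaf (nat_lit 0)) (.node (.leaf (nat_lit 250)) (.leaf (nat_lit 413)))) (.leaf (nat_lit 385))))))) (.node (.node (.node (.node (.node (.leaf (nat_lit 0)) (.node (.node (.leaf (nat_lit 1499)) (.leaf (nat_lit 1078))) (.leaf (nat_lit 0)))) (.leaf (nat_lit 1437))) (.node (.leaf (nat_lit 0)) (.node (.leaf (nat_lit 1249)) (.leaf (nat_lit 898))))) (.node (.node (.leaf (nat_lit 1168)) (.leaf (nat_lit 1405))) (.node (.node (.leaf (nat_lit 657)) (.leaf (nat_lit 812))) (.node (.node (.leaf (nat_lit 0)) (.node (.leaf (nat_lit 1284)) (.leaf (nat_lit 1444)))) (.leaf (nat_lit 123)))))) (.node (.node (.leaf (nat_lit 420)) (.node (.leaf (nat_lit 0)) (.node (.node (.node (.leaf (nat_lit 611)) (.leaf (nat_lit 814))) (.leaf (nat_lit 0))) (.leaf (nat_lit 534))))) (.node (.node (.leaf (nat_lit 1268)) (.node (.leaf (nat_lit 0)) (.node (.leaf (nat_lit 0)) (.node (.node (.leaf (nat_lit 198)) (.leaf (nat_lit 363))) (.leaf (nat_lit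 0)))))) (.node (.leaf (nat_lit 464)) (.node (.leaf (nat_lit 64)) (.node (.leaf (nat_lit 618)) (.leaf (nat_lit 370)))))))))))) (.node (.node (.node (.node (.node (.node (.node (.node (.node (.leaf (nat_lit 773)) (.leaf (nat_lit 1190))) (.node (.leaf (nat_lit 1324)) (.leaf (nat_lit 792)))) (.node (.leaf (nat_lit 751)) (.leaf (nat_lit 619)))) (.node (.node (.leaf (nat_lit 1313)) (.leaf (nat_lit 1034))) (.node (.leaf (nat_lit 802)) (.leaf (nat_lit 57))))) (.node (.node (.node (.leaf (nat_lit 1376)) (.node (.node (.node (.leaf (nat_lit 15)) (.leaf (nat_lit 1528))) (.leaf (nat_lit 1171))) (.leaf (nat_lit 298)))) (.node (.node (.leaf (nat_lit 436)) (.leaf (nat_lit 1176))) (.node (.node (.leaf (nat_lit 1508)) (.leaf (nat_lit 278))) (.leaf (nat_lit 0))))) (.node (.node (.leaf (nat_lit 207)) (.leaf (nat_lit 95))) (.node (.node (.leaf (nat_lit 947)) (.node (.node (.leaf (nat_lit 962)) (.leaf (nat_lit 1255))) (.leaf (nat_lit 0)))) (.leaf (nat_lit 257)))))) (.node (.node (.node (.leaf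 (nat_lit 1137)) (.node (.leaf (nat_lit 1294)) (.node (.node (.leaf (nat_lit 1145)) (.leaf (nat_lit 482))) (.leaf (nat_lit 0))))) (.node (.node (.leaf (nat_lit 0)) (.node (.leaf (nat_lit 72)) (.leaf (nat_lit 935)))) (.node (.node (.node (.leaf (nat_lit 151)) (.leaf (nat_lit 1026))) (.leaf (nat_lit 0))) (.leaf (nat_lit 0))))) (.node (.node (.node (.leaf (nat_lit 1093)) (.node (.node (.leaf (nat_lit 0)) (.node (.leaf (nat_lit 410)) (.leaf (nat_lit 847)))) (.leaf (nat_lit 0)))) (.node (.leaf (nat_lit 52)) (.node (.leaf (nat_lit 1017)) (.node (.leaf (nat_lit 863)) (.leaf (nat_lit 1177)))))) (.node (.node (.node (.node (.leaf (nat_lit 610)) (.leaf (nat_lit 306))) (.leaf (nat_lit 1215))) (.leaf (nat_lit 1243))) (.node (.leaf (nat_lit 454)) (.node (.leaf (nat_lit 977)) (.leaf (nat_lit 110)))))))) (.node (.node (.node (.node (.node (.leaf (nat_lit 1080)) (.node (.node (.leaf (nat_lit 0)) (.node (.leaf (nat_lit 1061)) (.leaf (nat_lit 1233)))) (.leaf (nat_lit 0)))) (.node (.leaf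 (nat_lit 449)) (.leaf (nat_lit 478)))) (.node (.leaf (nat_lit 0)) (.node (.leaf (nat_lit 0)) (.node (.node (.leaf (nat_lit 0)) (.node (.node (.leaf (nat_lit 255)) (.leaf (nat_lit 427))) (.leaf (nat_lit 0)))) (.node (.node (.leaf (nat_lit 234)) (.leaf (nat_lit 850))) (.leaf (nat_lit 0))))))) (.node (.node (.node (.node (.node (.leaf (nat_lit 0)) (.node (.leaf (nat_lit 79)) (.leaf (nat_lit 170)))) (.node (.leaf (nat_lit 304)) (.leaf (nat_lit 859)))) (.leaf (nat_lit 0))) (.node (.leaf (nat_lit 1100)) (.node (.leaf (nat_lit 748)) (.leaf (nat_lit 1368))))) (.node (.node (.leaf (nat_lit 0)) (.node (.leaf (nat_lit 1239)) (.leaf (nat_lit 562)))) (.node (.leaf (nat_lit 1169)) (.node (.node (.node (.leaf (nat_lit 1403)) (.leaf (nat_lit 742))) (.leaf (nat_lit 0))) (.node (.node (.leaf (nat_lit 1111)) (.leaf (nat_lit 1250))) (.leaf (nat_lit 0)))))))) (.node (.node (.node (.node (.node (.leaf (nat_lit 1387)) (.leaf (nat_lit 1330))) (.leaf (nat_lit 0))) (.node (.leaf (nat_lit 164))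 (.node (.leaf (nat_lit 0)) (.node (.node (.leaf (nat_lit 0)) (.node (.leaf (nat_lit 1054)) (.leaf (nat_lit 196)))) (.leaf (nat_lit 0)))))) (.node (.node (.node (.node (.leaf (nat_lit 724)) (.leaf (nat_lit 983))) (.leaf (nat_lit 192))) (.leaf (nat_lit 0))) (.node (.leaf (nat_lit 0)) (.node (.node (.node (.leaf (nat_lit 1063)) (.leaf (nat_lit 626))) (.leaf (nat_lit 738))) (.leaf (nat_lit 0)))))) (.node (.node (.node (.node (.leaf (nat_lit 0)) (.node (.leaf (nat_lit 0)) (.node (.leaf (nat_lit 1039)) (.leaf (nat_lit 722))))) (.leaf (nat_lit 17))) (.node (.node (.node (.leaf (nat_lit 193)) (.leaf (nat_lit 1007))) (.leaf (nat_lit 921))) (.leaf (nat_lit 1018)))) (.node (.node (.node (.node (.leaf (nat_lit 955)) (.leaf (nat_lit 1504))) (.leaf (nat_lit 0))) (.node (.node (.leaf (nat_lit 1232)) (.leaf (nat_lit 1170))) (.leaf (nat_lit 1071)))) (.node (.leaf (nat_lit 206)) (.leaf (nat_lit 504)))))))) (.node (.node (.node (.node (.node (.node (.leaf (nat_lit 35)) (.node (.leaf (nat_lit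 1381)) (.leaf (nat_lit 1533)))) (.node (.node (.leaf (nat_lit 81)) (.leaf (nat_lit 1212))) (.node (.leaf (nat_lit 1465)) (.leaf (nat_lit 1301))))) (.node (.node (.node (.leaf (nat_lit 821)) (.leaf (nat_lit 712))) (.leaf (nat_lit 128))) (.node (.leaf (nat_lit 1460)) (.node (.leaf (nat_lit 508)) (.node (.leaf (nat_lit 161)) (.leaf (nat_lit 126))))))) (.node (.node (.node (.node (.leaf (nat_lit 0)) (.node (.leaf (nat_lit 0)) (.node (.leaf (nat_lit 876)) (.leaf (nat_lit 220))))) (.leaf (nat_lit 0))) (.node (.node (.leaf (nat_lit 1287)) (.leaf (nat_lit 904))) (.leaf (nat_lit 0)))) (.node (.node (.leaf (nat_lit 1235)) (.node (.leaf (nat_lit 0)) (.node (.leaf (nat_lit 645)) (.leaf (nat_lit 558))))) (.node (.leaf (nat_lit 1424)) (.node (.leaf (nat_lit 529)) (.node (.leaf (nat_lit 0)) (.node (.leaf (nat_lit 826)) (.leaf (nat_lit 293))))))))) (.node (.node (.node (.node (.node (.node (.leaf (nat_lit 779)) (.leaf (nat_lit 4))) (.leaf (nat_lit 0))) (.leaf (nat_lit 0))) (.leaf (nat_lit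 505))) (.node (.node (.leaf (nat_lit 0)) (.node (.leaf (nat_lit 1149)) (.leaf (nat_lit 37)))) (.node (.node (.leaf (nat_lit 668)) (.leaf (nat_lit 1065))) (.node (.leaf (nat_lit 1491)) (.node (.node (.leaf (nat_lit 324)) (.leaf (nat_lit 1132))) (.leaf (nat_lit 398))))))) (.node (.node (.node (.node (.leaf (nat_lit 1404)) (.leaf (nat_lit 1325))) (.leaf (nat_lit 801))) (.node (.leaf (nat_lit 0)) (.node (.leaf (nat_lit 1446)) (.node (.leaf (nat_lit 0)) (.node (.leaf (nat_lit 550)) (.leaf (nat_lit 875))))))) (.node (.leaf (nat_lit 963)) (.node (.node (.leaf (nat_lit 1304)) (.leaf (nat_lit 61))) (.leaf (nat_lit 472))))))) (.node (.node (.node (.node (.leaf (nat_lit 1379)) (.node (.node (.leaf (nat_lit 509)) (.leaf (nat_lit 649))) (.leaf (nat_lit 0)))) (.node (.node (.leaf (nat_lit 1160)) (.leaf (nat_lit 1144))) (.node (.node (.node (.node (.node (.leaf (nat_lit 1398)) (.leaf (nat_lit 1083))) (.leaf (nat_lit 0))) (.leaf (nat_lit 0))) (.node (.node (.leaf (nat_lit 820)) (.leaf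 (nat_lit 636))) (.leaf (nat_lit 1406)))) (.leaf (nat_lit 188))))) (.node (.node (.node (.leaf (nat_lit 33)) (.node (.leaf (nat_lit 0)) (.node (.leaf (nat_lit 0)) (.node (.leaf (nat_lit 460)) (.leaf (nat_lit 540)))))) (.node (.node (.leaf (nat_lit 0)) (.node (.leaf (nat_lit 0)) (.node (.node (.leaf (nat_lit 13)) (.leaf (nat_lit 1427))) (.leaf (nat_lit 0))))) (.leaf (nat_lit 0)))) (.node (.node (.leaf (nat_lit 861)) (.leaf (nat_lit 212))) (.node (.node (.leaf (nat_lit 874)) (.node (.leaf (nat_lit 745)) (.leaf (nat_lit 952)))) (.leaf (nat_lit 272)))))) (.node (.node (.node (.leaf (nat_lit 76)) (.node (.node (.leaf (nat_lit 0)) (.node (.leaf (nat_lit 282)) (.leaf (nat_lit 248)))) (.leaf (nat_lit 256)))) (.node (.node (.node (.leaf (nat_lit 709)) (.leaf (nat_lit 453))) (.leaf (nat_lit 11))) (.node (.node (.node (.leaf (nat_lit 302)) (.leaf (nat_lit 1260))) (.node (.leaf (nat_lit 147)) (.leaf (nat_lit 1157)))) (.leaf (nat_lit 153))))) (.node (.node (.node (.node (.leaf (nat_lit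 969)) (.leaf (nat_lit 1280))) (.node (.leaf (nat_lit 1264)) (.leaf (nat_lit 1445)))) (.node (.node (.leaf (nat_lit 286)) (.node (.node (.leaf (nat_lit 117)) (.leaf (nat_lit 281))) (.leaf (nat_lit 78)))) (.leaf (nat_lit 116)))) (.node (.leaf (nat_lit 387)) (.leaf (nat_lit 517)))))))) (.node (.node (.node (.node (.node (.node (.node (.leaf (nat_lit 1073)) (.leaf (nat_lit 1226))) (.leaf (nat_lit 1191))) (.node (.leaf (nat_lit 981)) (.node (.leaf (nat_lit 1392)) (.node (.leaf (nat_lit 1443)) (.node (.leaf (nat_lit 0)) (.node (.node (.leaf (nat_lit 1310)) (.leaf (nat_lit 265))) (.leaf (nat_lit 0)))))))) (.node (.node (.leaf (nat_lit 989)) (.node (.leaf (nat_lit 55)) (.node (.node (.leaf (nat_lit 353)) (.leaf (nat_lit 726))) (.leaf (nat_lit 0))))) (.node (.leaf (nat_lit 36)) (.node (.node (.leaf (nat_lit 0)) (.node (.leaf (nat_lit 1357)) (.leaf (nat_lit 139)))) (.leaf (nat_lit 0)))))) (.node (.node (.node (.node (.node (.leaf (nat_lit 1421)) (.node (.leaf (nat_lit 0)) (.node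 (.node (.leaf (nat_lit 1094)) (.leaf (nat_lit 132))) (.leaf (nat_lit 0))))) (.leaf (nat_lit 0))) (.node (.node (.leaf (nat_lit 183)) (.leaf (nat_lit 1015))) (.leaf (nat_lit 547)))) (.node (.leaf (nat_lit 698)) (.node (.leaf (nat_lit 1040)) (.leaf (nat_lit 1369))))) (.node (.node (.leaf (nat_lit 903)) (.node (.leaf (nat_lit 912)) (.node (.leaf (nat_lit 1358)) (.node (.leaf (nat_lit 1529)) (.leaf (nat_lit 651)))))) (.node (.node (.leaf (nat_lit 372)) (.node (.node (.leaf (nat_lit 1297)) (.leaf (nat_lit 1511))) (.leaf (nat_lit 0)))) (.node (.node (.leaf (nat_lit 0)) (.node (.node (.leaf (nat_lit 602)) (.leaf (nat_lit 367))) (.leaf (nat_lit 0)))) (.leaf (nat_lit 0))))))) (.node (.node (.node (.leaf (nat_lit 1143)) (.node (.node (.node (.leaf (nat_lit 0)) (.node (.node (.leaf (nat_lit 1173)) (.leaf (nat_lit 1409))) (.node (.leaf (nat_lit 223)) (.leaf (nat_lit 386))))) (.leaf (nat_lit 0))) (.node (.leaf (nat_lit 457)) (.leaf (nat_lit 1488))))) (.node (.node (.node (.leaf (nat_lit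 1472)) (.node (.node (.node (.leaf (nat_lit 241)) (.leaf (nat_lit 1240))) (.leaf (nat_lit 0))) (.node (.leaf (nat_lit 0)) (.node (.node (.leaf (nat_lit 1253)) (.leaf (nat_lit 951))) (.leaf (nat_lit 0)))))) (.node (.node (.leaf (nat_lit 0)) (.node (.leaf (nat_lit 233)) (.leaf (nat_lit 942)))) (.leaf (nat_lit 0)))) (.node (.node (.leaf (nat_lit 503)) (.leaf (nat_lit 684))) (.node (.leaf (nat_lit 0)) (.node (.leaf (nat_lit 1098)) (.leaf (nat_lit 1003))))))) (.node (.node (.node (.node (.leaf (nat_lit 816)) (.leaf (nat_lit 677))) (.node (.leaf (nat_lit 545)) (.leaf (nat_lit 871)))) (.node (.leaf (nat_lit 1010)) (.node (.leaf (nat_lit 409)) (.leaf (nat_lit 355))))) (.node (.node (.leaf (nat_lit 787)) (.node (.node (.leaf (nat_lit 171)) (.node (.leaf (nat_lit 60)) (.leaf (nat_lit 326)))) (.leaf (nat_lit 1200)))) (.node (.node (.leaf (nat_lit 671)) (.leaf (nat_lit 101))) (.node (.leaf (nat_lit 0)) (.node (.leaf (nat_lit 0)) (.node (.node (.leaf (nat_lit 1303)) (.leaf (nat_lit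 938))) (.leaf (nat_lit 0)))))))))) (.node (.node (.node (.node (.node (.node (.node (.node (.leaf (nat_lit 400)) (.leaf (nat_lit 379))) (.leaf (nat_lit 1498))) (.leaf (nat_lit 80))) (.node (.leaf (nat_lit 1340)) (.node (.node (.node (.leaf (nat_lit 0)) (.node (.leaf (nat_lit 1134)) (.leaf (nat_lit 1035)))) (.leaf (nat_lit 0))) (.leaf (nat_lit 532))))) (.node (.node (.node (.node (.node (.leaf (nat_lit 1156)) (.leaf (nat_lit 1068))) (.leaf (nat_lit 0))) (.leaf (nat_lit 384))) (.leaf (nat_lit 0))) (.node (.leaf (nat_lit 1485)) (.node (.node (.node (.leaf (nat_lit 799)) (.leaf (nat_lit 986))) (.leaf (nat_lit 0))) (.node (.leaf (nat_lit 0)) (.node (.leaf (nat_lit 958)) (.leaf (nat_lit 131)))))))) (.node (.node (.node (.leaf (nat_lit 1211)) (.leaf (nat_lit 1461))) (.node (.node (.leaf (nat_lit 1103)) (.leaf (nat_lit 1353))) (.leaf (nat_lit 1138)))) (.node (.node (.node (.node (.leaf (nat_lit 91)) (.leaf (nat_lit 592))) (.leaf (nat_lit 18))) (.leaf (nat_lit 728))) (.node (.node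 (.leaf (nat_lit 1316)) (.leaf (nat_lit 537))) (.node (.leaf (nat_lit 768)) (.node (.node (.leaf (nat_lit 1164)) (.leaf (nat_lit 604))) (.leaf (nat_lit 0)))))))) (.node (.node (.node (.node (.node (.node (.leaf (nat_lit 0)) (.node (.node (.leaf (nat_lit 1074)) (.leaf (nat_lit 727))) (.leaf (nat_lit 434)))) (.leaf (nat_lit 280))) (.node (.leaf (nat_lit 1525)) (.leaf (nat_lit 141)))) (.node (.node (.leaf (nat_lit 1305)) (.leaf (nat_lit 1271))) (.leaf (nat_lit 915)))) (.node (.node (.node (.leaf (nat_lit 341)) (.node (.leaf (nat_lit 736)) (.leaf (nat_lit 475)))) (.node (.leaf (nat_lit 1263)) (.leaf (nat_lit 536)))) (.node (.leaf (nat_lit 0)) (.node (.node (.node (.leaf (nat_lit 1067)) (.leaf (nat_lit 358))) (.leaf (nat_lit 0))) (.leaf (nat_lit 174)))))) (.node (.node (.node (.node (.leaf (nat_lit 48)) (.leaf (nat_lit 1492))) (.leaf (nat_lit 0))) (.leaf (nat_lit 690))) (.node (.node (.leaf (nat_lit 506)) (.node (.leaf (nat_lit 1246)) (.node (.leaf (nat_lit 837)) (.leaf (nat_lit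 630))))) (.node (.leaf (nat_lit 585)) (.node (.leaf (nat_lit 1500)) (.leaf (nat_lit 706)))))))) (.node (.node (.node (.node (.node (.node (.leaf (nat_lit 229)) (.leaf (nat_lit 968))) (.node (.node (.leaf (nat_lit 832)) (.leaf (nat_lit 163))) (.node (.node (.leaf (nat_lit 658)) (.node (.leaf (nat_lit 258)) (.leaf (nat_lit 1495)))) (.leaf (nat_lit 0))))) (.node (.node (.leaf (nat_lit 868)) (.leaf (nat_lit 1299))) (.node (.node (.node (.leaf (nat_lit 0)) (.node (.leaf (nat_lit 68)) (.leaf (nat_lit 119)))) (.leaf (nat_lit 0))) (.leaf (nat_lit 0))))) (.node (.node (.node (.node (.leaf (nat_lit 0)) (.node (.leaf (nat_lit 441)) (.leaf (nat_lit 231)))) (.leaf (nat_lit 0))) (.leaf (nat_lit 1524))) (.node (.node (.node (.node (.leaf (nat_lit 646)) (.leaf (nat_lit 587))) (.leaf (nat_lit 0))) (.leaf (nat_lit 0))) (.leaf (nat_lit 1029))))) (.node (.node (.node (.leaf (nat_lit 0)) (.node (.leaf (nat_lit 46)) (.leaf (nat_lit 0)))) (.node (.node (.leaf (nat_lit 640)) (.leaf (nat_lit 1002)))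 (.leaf (nat_lit 560)))) (.node (.node (.leaf (nat_lit 683)) (.leaf (nat_lit 242))) (.node (.node (.node (.leaf (nat_lit 0)) (.node (.leaf (nat_lit 940)) (.leaf (nat_lit 852)))) (.node (.node (.leaf (nat_lit 219)) (.leaf (nat_lit 1056))) (.leaf (nat_lit 0)))) (.leaf (nat_lit 705)))))) (.node (.node (.node (.node (.node (.leaf (nat_lit 1413)) (.leaf (nat_lit 541))) (.node (.node (.leaf (nat_lit 0)) (.node (.leaf (nat_lit 746)) (.leaf (nat_lit 559)))) (.leaf (nat_lit 0)))) (.node (.leaf (nat_lit 339)) (.node (.leaf (nat_lit 369)) (.leaf (nat_lit 239))))) (.node (.node (.leaf (nat_lit 512)) (.node (.leaf (nat_lit 106)) (.node (.leaf (nat_lit 1072)) (.leaf (nat_lit 235))))) (.node (.node (.node (.node (.leaf (nat_lit 1422)) (.leaf (nat_lit 480))) (.leaf (nat_lit 0))) (.node (.node (.node (.leaf (nat_lit 166)) (.leaf (nat_lit 1420))) (.leaf (nat_lit 0))) (.leaf (nat_lit 0)))) (.leaf (nat_lit 932))))) (.node (.node (.node (.leaf (nat_lit 0)) (.node (.leaf (nat_lit 168)) (.node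 (.leaf (nat_lit 215)) (.node (.leaf (nat_lit 844)) (.leaf (nat_lit 1308)))))) (.node (.node (.node (.leaf (nat_lit 967)) (.leaf (nat_lit 1434))) (.leaf (nat_lit 731))) (.leaf (nat_lit 613)))) (.node (.node (.node (.node (.leaf (nat_lit 846)) (.leaf (nat_lit 213))) (.leaf (nat_lit 0))) (.node (.leaf (nat_lit 818)) (.leaf (nat_lit 860)))) (.node (.node (.leaf (nat_lit 490)) (.node (.leaf (nat_lit 691)) (.leaf (nat_lit 976)))) (.node (.leaf (nat_lit 753)) (.leaf (nat_lit 776)))))))))))))

theorem aH_pm [Finite G] (h0 : val 0 = 1) (hR : RelsHold val (RB ++ RZ [] []))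
    (hc : Nat.card (gcl val 6) = 10752) : ∃ ψ, PM aHT aH_lv0 val ψ :=
  exists_pm (by simp) aH_tab aH_h0 (aH_tab.relsHold (by decide) (by decide +kernel)) (by decide +kernel)
    aH_chain0 (aH_chain0.card_eq_hash (by decide +kernel) 14597 (I := aH_I) (by decide +kernel))
    (by decide +kernel) (by decide +kernel) h0 hR hc

noncomputable def aOT : NT := (.node (.node (.node (.node (.leaf (nat_lit 1329227995786124798723422788966678529)) (.leaf (nat_lit 1329227995787338446910363617500135424))) (.node (.leaf (nat_lit 1329227995786124798867537977042534401)) (.leaf (nat_lit 1329227995784920595270571404919309319)))) (.node (.node (.leaf (nat_lit 1329227995786124798723422789000232961)) (.leaf (nat_lit 1329227995793383076009562658985607169))) (.leaf (nat_lit 1329227996405094818366112926416240641)))) (.node (.node (.node (.leaf (nat_lit 1329227995786124798723422788966678529)) (.leaf (nat_lit 1329227995784915891350832634736410885))) (.node (.leaf (nat_lit 1329227995786124799155768353194246145))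 (.leaf (nat_lit 1329227995784920595270571404919309319)))) (.node (.node (.leaf (nat_lit 1329227995786124798723422789067341825)) (.leaf (nat_lit 1329227995784948929469476319354946049))) (.leaf (nat_lit 1329227997643034857651493201315364865)))))

theorem aO_tab : aM.Tab aOT (aval aOT) (2 * 7) := gl_tab a_ok (mask := 255) (by decide +kernel)

theorem aO_h0 : aval aOT 0 = 1 := aM.dec_one (by decide +kernel)

noncomputable def aO_s0 : NT := (.node (.node (.node (.leaf (nat_lit 1329227995786124798723422789000232961)) (.leaf (nat_lit 1329227995784920595270571404919309319))) (.leaf (nat_lit 1329227996405094818366112926416240641))) (.node (.node (.leaf (nat_lit 1329227995786124798867537977042534401)) (.leaf (nat_lit 1329227997338395070133519206980847365))) (.leaf (nat_lit 1329227995793383076009562658985607169))))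

noncomputable def aO_t0 : NT := (.node (.node (.node (.node (.node (.leaf (nat_lit 1329227995786124798723422788966678529)) (.leaf (nat_lit 1329227996717026087958085528250024195))) (.leaf (nat_lit 1329227996096842420201354403686581507))) (.node (.node (.leaf (nat_lit 1329227995784948929469476319354946049)) (.leaf (nat_lit 1329227996102891771880676908784157957))) (.leaf (nat_lit 1329227996403909504597057968638526213)))) (.node (.node (.node (.leaf (nat_lit 1329227995784920595270571404919309319)) (.leaf (nat_lit 1329227996407512670223210431006311429))) (.leaf (nat_lit 1329227997334763570309032476695527941))) (.node (.node (.leaf (nat_lit 1329227997333573533954224525706133765)) (.leaf (nat_lit 1329227996409930522149825640661450755))) (.leaf (nat_lit 1329227996407536282343850757421729539))))) (.node (.node (.node (.node (.leaf (nat_lit 1329227995793383076009562658985607169)) (.leaf (nat_lit 1329227996098060790970105338045465605))) (.leaf (nat_lit 1329227996409944688961042773849604869)))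 (.node (.node (.leaf (nat_lit 1329227995793378353643080888869061639)) (.leaf (nat_lit 1329227996721847624135690260152583427))) (.leaf (nat_lit 1329227996100450308193421288188216835)))) (.node (.node (.node (.leaf (nat_lit 1329227997338395070133519206980847365)) (.leaf (nat_lit 1329227996403900060152325904118318851))) (.leaf (nat_lit 1329227996095619327281168564204471043))) (.node (.node (.leaf (nat_lit 1329227995786157855288809473569981959)) (.leaf (nat_lit 1329227996720657587782846036930789379))) (.leaf (nat_lit 1329227996101668678962460294627262725))))))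

noncomputable def aO_P0 : NT := (.node (.node (.node (.node (.node (.leaf (nat_lit 0)) (.leaf (nat_lit 58))) (.leaf (nat_lit 17))) (.node (.node (.leaf (nat_lit 9)) (.leaf (nat_lit 75))) (.leaf (nat_lit 39)))) (.node (.node (.node (.leaf (nat_lit 4)) (.leaf (nat_lit 63))) (.leaf (nat_lit 29))) (.node (.node (.leaf (nat_lit 11)) (.leaf (nat_lit 81))) (.leaf (nat_lit 51))))) (.node (.node (.node (.node (.leaf (nat_lit 3)) (.leaf (nat_lit 59))) (.leaf (nat_lit 21))) (.node (.node (.leaf (nat_lit 10)) (.leaf (nat_lit 76))) (.leaf (nat_lit 47)))) (.node (.node (.node (.leaf (nat_lit 5)) (.leaf (nat_lit 69))) (.leaf (nat_lit 35))) (.node (.node (.leaf (nat_lit 15)) (.leaf (nat_lit 112))) (.leaf (nat_lit 57))))))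

noncomputable def aO_H0 : NT := (.node (.node (.node (.node (.node (.node (.node (.node (.leaf (nat_lit 24)) (.leaf (nat_lit 477))) (.leaf (nat_lit 661))) (.node (.leaf (nat_lit 1493)) (.leaf (nat_lit 256)))) (.node (.node (.leaf (nat_lit 0)) (.leaf (nat_lit 1477))) (.node (.leaf (nat_lit 248)) (.leaf (nat_lit 23))))) (.node (.node (.node (.node (.leaf (nat_lit 49)) (.leaf (nat_lit 1025))) (.leaf (nat_lit 36))) (.node (.leaf (nat_lit 1259)) (.leaf (nat_lit 401)))) (.node (.node (.leaf (nat_lit 28)) (.leaf (nat_lit 951))) (.node (.leaf (nat_lit 1113)) (.leaf (nat_lit 44)))))) (.node (.node (.node (.node (.node (.leaf (nat_lit 2)) (.leaf (nat_lit 262))) (.leaf (nat_lit 995))) (.node (.leaf (nat_lit 30)) (.leaf (nat_lit 9)))) (.node (.node (.leaf (nat_lit 627)) (.leaf (nat_lit 254))) (.node (.leaf (nat_lit 939)) (.leaf (nat_lit 1243))))) (.node (.node (.node (.node (.leaf (nat_lit 242)) (.leaf (nat_lit 407))) (.leaf (nat_lit 21))) (.node (.leaf (nat_lit 79)) (.leaf (nat_lit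 42)))) (.node (.node (.leaf (nat_lit 7)) (.leaf (nat_lit 567))) (.node (.leaf (nat_lit 34)) (.leaf (nat_lit 1267))))))) (.node (.node (.node (.node (.node (.node (.leaf (nat_lit 72)) (.leaf (nat_lit 12))) (.leaf (nat_lit 251))) (.node (.leaf (nat_lit 1)) (.leaf (nat_lit 568)))) (.node (.node (.leaf (nat_lit 27)) (.leaf (nat_lit 1450))) (.node (.leaf (nat_lit 1112)) (.leaf (nat_lit 259))))) (.node (.node (.node (.node (.leaf (nat_lit 5)) (.leaf (nat_lit 263))) (.leaf (nat_lit 996))) (.node (.leaf (nat_lit 247)) (.leaf (nat_lit 454)))) (.node (.node (.leaf (nat_lit 1492)) (.leaf (nat_lit 39))) (.node (.leaf (nat_lit 16)) (.leaf (nat_lit 476)))))) (.node (.node (.node (.node (.node (.leaf (nat_lit 25)) (.leaf (nat_lit 1318))) (.leaf (nat_lit 1086))) (.node (.leaf (nat_lit 1230)) (.leaf (nat_lit 41)))) (.node (.node (.leaf (nat_lit 1352)) (.leaf (nat_lit 638))) (.node (.leaf (nat_lit 33)) (.leaf (nat_lit 1100))))) (.node (.node (.node (.node (.leaf (nat_lit 50)) (.leaf (nat_lit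 18))) (.leaf (nat_lit 253))) (.node (.leaf (nat_lit 4)) (.leaf (nat_lit 1482)))) (.node (.node (.leaf (nat_lit 245)) (.leaf (nat_lit 1358))) (.node (.leaf (nat_lit 1306)) (.leaf (nat_lit 261)))))))) (.node (.node (.node (.node (.node (.node (.node (.leaf (nat_lit 48)) (.leaf (nat_lit 1259))) (.leaf (nat_lit 4))) (.node (.leaf (nat_lit 2)) (.leaf (nat_lit 1120)))) (.node (.node (.leaf (nat_lit 8)) (.leaf (nat_lit 22))) (.node (.leaf (nat_lit 632)) (.leaf (nat_lit 260))))) (.node (.node (.node (.node (.leaf (nat_lit 4)) (.leaf (nat_lit 1168))) (.leaf (nat_lit 468))) (.node (.leaf (nat_lit 1)) (.leaf (nat_lit 250)))) (.node (.node (.leaf (nat_lit 76)) (.leaf (nat_lit 429))) (.node (.leaf (nat_lit 15)) (.leaf (nat_lit 1244)))))) (.node (.node (.node (.node (.node (.leaf (nat_lit 3)) (.leaf (nat_lit 406))) (.leaf (nat_lit 19))) (.node (.leaf (nat_lit 990)) (.leaf (nat_lit 1222)))) (.node (.node (.leaf (nat_lit 9)) (.leaf (nat_lit 566))) (.node (.leaf (nat_lit 2)) (.leaf (nat_lit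 1101))))) (.node (.node (.node (.node (.leaf (nat_lit 74)) (.leaf (nat_lit 661))) (.leaf (nat_lit 255))) (.node (.leaf (nat_lit 5)) (.leaf (nat_lit 402)))) (.node (.node (.leaf (nat_lit 10)) (.leaf (nat_lit 3))) (.node (.leaf (nat_lit 1474)) (.leaf (nat_lit 42))))))) (.node (.node (.node (.node (.node (.node (.leaf (nat_lit 1)) (.leaf (nat_lit 1046))) (.leaf (nat_lit 1235))) (.node (.leaf (nat_lit 11)) (.leaf (nat_lit 1352)))) (.node (.node (.leaf (nat_lit 1107)) (.leaf (nat_lit 7))) (.node (.leaf (nat_lit 14)) (.leaf (nat_lit 475))))) (.node (.node (.node (.node (.leaf (nat_lit 6)) (.leaf (nat_lit 1487))) (.leaf (nat_lit 20))) (.node (.leaf (nat_lit 1495)) (.leaf (nat_lit 9)))) (.node (.node (.leaf (nat_lit 0)) (.leaf (nat_lit 639))) (.node (.leaf (nat_lit 17)) (.leaf (nat_lit 6)))))) (.node (.node (.node (.node (.node (.leaf (nat_lit 1489)) (.leaf (nat_lit 1463))) (.leaf (nat_lit 5))) (.node (.leaf (nat_lit 12)) (.leaf (nat_lit 1313)))) (.node (.node (.leaf (nat_lit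 0)) (.leaf (nat_lit 952))) (.node (.leaf (nat_lit 561)) (.leaf (nat_lit 1031))))) (.node (.node (.node (.node (.leaf (nat_lit 7)) (.leaf (nat_lit 451))) (.leaf (nat_lit 1309))) (.node (.leaf (nat_lit 13)) (.leaf (nat_lit 41)))) (.node (.node (.leaf (nat_lit 53)) (.leaf (nat_lit 36))) (.node (.leaf (nat_lit 18)) (.leaf (nat_lit 1005)))))))))

noncomputable def aO_s1 : NT := (.node (.node (.leaf (nat_lit 1329227995786124798723422789000232961)) (.leaf (nat_lit 1329227996405094818366112926416240641))) (.leaf (nat_lit 1329227995786124798867537977042534401)))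

noncomputable def aO_t1 : NT := (.node (.node (.node (.node (.node (.node (.leaf (nat_lit 1329227995786124798723422788966678529)) (.leaf (nat_lit 1329227995786124799011653165219053569))) (.node (.leaf (nat_lit 1329227995786124799155768353194246145)) (.leaf (nat_lit 1329227996405094818798458490710917121)))) (.node (.node (.leaf (nat_lit 1329227996405094818510228114492096513)) (.leaf (nat_lit 1329227997024064838297033440051068929))) (.node (.leaf (nat_lit 1329227997024064838008803063932911617)) (.leaf (nat_lit 1329227997643034857795608389491884033))))) (.node (.node (.node (.leaf (nat_lit 1329227995786124798723422789033787393)) (.leaf (nat_lit 1329227996405094818654343302635061249))) (.node (.leaf (nat_lit 1329227995786124798867537977143197697)) (.leaf (nat_lit 1329227997643034857939723577500631041)))) (.node (.node (.leaf (nat_lit 1329227996405094818366112926483349505)) (.leaf (nat_lit 1329227995786124799155768353294909441))) (.node (.leaf (nat_lit 1329227997643034857651493201348919297))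 (.leaf (nat_lit 1329227997024064838441148628194033665)))))) (.node (.node (.node (.node (.leaf (nat_lit 1329227995786124798867537977042534401)) (.leaf (nat_lit 1329227997024064838008803063966466049))) (.node (.leaf (nat_lit 1329227997024064838152918251941658625)) (.leaf (nat_lit 1329227997643034857795608389458329601)))) (.node (.node (.leaf (nat_lit 1329227995786124798723422789067341825)) (.leaf (nat_lit 1329227997024064838441148628093370369))) (.node (.leaf (nat_lit 1329227996405094818654343302601506817)) (.leaf (nat_lit 1329227997643034857939723577534185473))))) (.node (.node (.node (.leaf (nat_lit 1329227996405094818366112926449795073)) (.leaf (nat_lit 1329227997643034857651493201382473729))) (.node (.leaf (nat_lit 1329227995786124799011653165185499137)) (.leaf (nat_lit 1329227996405094818798458490744471553)))) (.node (.node (.leaf (nat_lit 1329227996405094818510228114525650945)) (.leaf (nat_lit 1329227997024064838152918252042321921))) (.node (.leaf (nat_lit 1329227997024064838297033440017514497))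 (.leaf (nat_lit 1329227997643034858083838765610041345))))))) (.node (.node (.node (.node (.node (.leaf (nat_lit 1329227995786124798723422789000232961)) (.leaf (nat_lit 1329227996405094818510228114592759809))) (.node (.leaf (nat_lit 1329227996405094818654343302567952385)) (.leaf (nat_lit 1329227997024064838297033440084623361)))) (.node (.node (.leaf (nat_lit 1329227997024064838008803063865802753)) (.leaf (nat_lit 1329227997643034857795608389424775169))) (.node (.leaf (nat_lit 1329227995786124799155768353227800577)) (.leaf (nat_lit 1329227997024064838441148628160479233))))) (.node (.node (.node (.leaf (nat_lit 1329227995786124798867537977076088833)) (.leaf (nat_lit 1329227997024064838152918252008767489))) (.node (.leaf (nat_lit 1329227996405094818366112926516903937)) (.leaf (nat_lit 1329227997643034858083838765542932481)))) (.node (.node (.leaf (nat_lit 1329227995786124799011653165151944705)) (.leaf (nat_lit 1329227996405094818654343302668615681))) (.node (.leaf (nat_lit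 1329227996405094818798458490643808257)) (.leaf (nat_lit 1329227997643034857939723577567739905)))))) (.node (.node (.node (.node (.leaf (nat_lit 1329227996405094818366112926416240641)) (.leaf (nat_lit 1329227995786124799155768353261355009))) (.node (.leaf (nat_lit 1329227997643034857651493201315364865)) (.leaf (nat_lit 1329227997024064838441148628126924801)))) (.node (.node (.leaf (nat_lit 1329227995786124798867537977109643265)) (.leaf (nat_lit 1329227997643034857939723577467076609))) (.node (.leaf (nat_lit 1329227997024064838152918251975213057)) (.leaf (nat_lit 1329227997643034858083838765576486913))))) (.node (.node (.node (.leaf (nat_lit 1329227995786124799011653165118390273)) (.leaf (nat_lit 1329227996405094818798458490677362689))) (.node (.leaf (nat_lit 1329227996405094818510228114559205377)) (.leaf (nat_lit 1329227997024064838297033440118177793)))) (.node (.node (.leaf (nat_lit 1329227997024064838008803063899357185)) (.leaf (nat_lit 1329227997643034857651493201416028161)))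 (.node (.leaf (nat_lit 1329227997643034857795608389391220737)) (.leaf (nat_lit 1329227997643034858083838765643595777))))))))

noncomputable def aO_P1 : NT := (.node (.node (.node (.node (.node (.node (.leaf (nat_lit 0)) (.leaf (nat_lit 61))) (.node (.leaf (nat_lit 22)) (.leaf (nat_lit 107)))) (.node (.node (.leaf (nat_lit 8)) (.leaf (nat_lit 80))) (.node (.leaf (nat_lit 38)) (.leaf (nat_lit 140))))) (.node (.node (.node (.leaf (nat_lit 3)) (.leaf (nat_lit 68))) (.node (.leaf (nat_lit 31)) (.leaf (nat_lit 122)))) (.node (.node (.leaf (nat_lit 14)) (.leaf (nat_lit 97))) (.node (.leaf (nat_lit 47)) (.leaf (nat_lit 164)))))) (.node (.node (.node (.node (.leaf (nat_lit 1)) (.leaf (nat_lit 65))) (.node (.leaf (nat_lit 26)) (.leaf (nat_lit 113)))) (.node (.node (.leaf (nat_lit 12)) (.leaf (nat_lit 89))) (.node (.leaf (nat_lit 41)) (.leaf (nat_lit 149))))) (.node (.node (.node (.leaf (nat_lit 5)) (.leaf (nat_lit 74))) (.node (.leaf (nat_lit 34)) (.leaf (nat_lit 134)))) (.node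 (.node (.leaf (nat_lit 17)) (.leaf (nat_lit 101))) (.node (.leaf (nat_lit 53)) (.leaf (nat_lit 173))))))) (.node (.node (.node (.node (.node (.leaf (nat_lit 0)) (.leaf (nat_lit 62))) (.node (.leaf (nat_lit 23)) (.leaf (nat_lit 110)))) (.node (.node (.leaf (nat_lit 11)) (.leaf (nat_lit 83))) (.node (.leaf (nat_lit 40)) (.leaf (nat_lit 146))))) (.node (.node (.node (.leaf (nat_lit 4)) (.leaf (nat_lit 71))) (.node (.leaf (nat_lit 32)) (.leaf (nat_lit 128)))) (.node (.node (.leaf (nat_lit 16)) (.leaf (nat_lit 98))) (.node (.leaf (nat_lit 50)) (.leaf (nat_lit 167)))))) (.node (.node (.node (.node (.leaf (nat_lit 2)) (.leaf (nat_lit 67))) (.node (.leaf (nat_lit 29)) (.leaf (nat_lit 119)))) (.node (.node (.leaf (nat_lit 13)) (.leaf (nat_lit 92))) (.node (.leaf (nat_lit 44)) (.leaf (nat_lit 155))))) (.node (.node (.node (.leaf (nat_lit 7)) (.leaf (nat_lit 77))) (.node (.leaf (nat_lit 35)) (.leaf (nat_lit 137)))) (.node (.node (.leaf (nat_lit 20)) (.leaf (nat_lit 104))) (.node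 (.leaf (nat_lit 56)) (.leaf (nat_lit 182))))))))

noncomputable def aO_H1 : NT := (.node (.node (.node (.node (.node (.node (.node (.node (.leaf (nat_lit 1)) (.leaf (nat_lit 53))) (.leaf (nat_lit 33))) (.node (.node (.leaf (nat_lit 21)) (.leaf (nat_lit 19))) (.leaf (nat_lit 7)))) (.node (.node (.node (.leaf (nat_lit 13)) (.leaf (nat_lit 54))) (.leaf (nat_lit 40))) (.node (.node (.leaf (nat_lit 25)) (.leaf (nat_lit 22))) (.leaf (nat_lit 49))))) (.node (.node (.node (.node (.leaf (nat_lit 8)) (.leaf (nat_lit 54))) (.leaf (nat_lit 34))) (.node (.node (.leaf (nat_lit 25)) (.leaf (nat_lit 31))) (.leaf (nat_lit 47)))) (.node (.node (.node (.leaf (nat_lit 14)) (.leaf (nat_lit 11))) (.leaf (nat_lit 3))) (.node (.node (.leaf (nat_lit 31)) (.leaf (nat_lit 63))) (.leaf (nat_lit 49)))))) (.node (.node (.node (.node (.node (.leaf (nat_lit 5)) (.leaf (nat_lit 16))) (.leaf (nat_lit 36))) (.node (.node (.leaf (nat_lit 21)) (.leaf (nat_lit 60))) (.leaf (nat_lit 45)))) (.node (.node (.node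 (.leaf (nat_lit 15)) (.leaf (nat_lit 57))) (.leaf (nat_lit 38))) (.node (.node (.leaf (nat_lit 29)) (.leaf (nat_lit 42))) (.leaf (nat_lit 4))))) (.node (.node (.node (.node (.leaf (nat_lit 10)) (.leaf (nat_lit 56))) (.leaf (nat_lit 1))) (.node (.node (.leaf (nat_lit 27)) (.leaf (nat_lit 24))) (.leaf (nat_lit 45)))) (.node (.node (.node (.leaf (nat_lit 18)) (.leaf (nat_lit 58))) (.leaf (nat_lit 43))) (.node (.node (.leaf (nat_lit 2)) (.leaf (nat_lit 35))) (.leaf (nat_lit 52))))))) (.node (.node (.node (.node (.node (.node (.leaf (nat_lit 3)) (.leaf (nat_lit 53))) (.leaf (nat_lit 32))) (.node (.node (.leaf (nat_lit 22)) (.leaf (nat_lit 29))) (.leaf (nat_lit 45)))) (.node (.node (.node (.leaf (nat_lit 12)) (.leaf (nat_lit 57))) (.leaf (nat_lit 40))) (.node (.node (.leaf (nat_lit 29)) (.leaf (nat_lit 28))) (.leaf (nat_lit 47))))) (.node (.node (.node (.node (.leaf (nat_lit 8)) (.leaf (nat_lit 18))) (.leaf (nat_lit 38))) (.node (.node (.leaf (nat_lit 23)) (.leaf (nat_lit 20)))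 (.leaf (nat_lit 4)))) (.node (.node (.node (.leaf (nat_lit 18)) (.leaf (nat_lit 15))) (.leaf (nat_lit 40))) (.node (.node (.leaf (nat_lit 31)) (.leaf (nat_lit 63))) (.leaf (nat_lit 52)))))) (.node (.node (.node (.node (.node (.leaf (nat_lit 5)) (.leaf (nat_lit 54))) (.leaf (nat_lit 36))) (.node (.node (.leaf (nat_lit 24)) (.leaf (nat_lit 60))) (.leaf (nat_lit 9)))) (.node (.node (.node (.leaf (nat_lit 16)) (.leaf (nat_lit 56))) (.leaf (nat_lit 1))) (.node (.node (.leaf (nat_lit 27)) (.leaf (nat_lit 63))) (.leaf (nat_lit 6))))) (.node (.node (.node (.node (.leaf (nat_lit 12)) (.leaf (nat_lit 56))) (.leaf (nat_lit 36))) (.node (.node (.leaf (nat_lit 27)) (.leaf (nat_lit 61))) (.leaf (nat_lit 49)))) (.node (.node (.node (.leaf (nat_lit 0)) (.leaf (nat_lit 13))) (.leaf (nat_lit 43))) (.node (.node (.leaf (nat_lit 33)) (.leaf (nat_lit 47))) (.leaf (nat_lit 51)))))))) (.node (.node (.node (.node (.node (.node (.node (.leaf (nat_lit 2)) (.leaf (nat_lit 52))) (.leaf (nat_lit 34)))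 (.node (.node (.leaf (nat_lit 20)) (.leaf (nat_lit 16))) (.leaf (nat_lit 44)))) (.node (.node (.node (.leaf (nat_lit 14)) (.leaf (nat_lit 12))) (.leaf (nat_lit 37))) (.node (.node (.leaf (nat_lit 0)) (.leaf (nat_lit 62))) (.leaf (nat_lit 50))))) (.node (.node (.node (.node (.leaf (nat_lit 6)) (.leaf (nat_lit 55))) (.leaf (nat_lit 37))) (.node (.node (.leaf (nat_lit 26)) (.leaf (nat_lit 61))) (.leaf (nat_lit 44)))) (.node (.node (.node (.leaf (nat_lit 17)) (.leaf (nat_lit 57))) (.leaf (nat_lit 42))) (.node (.node (.leaf (nat_lit 28)) (.leaf (nat_lit 32))) (.leaf (nat_lit 51)))))) (.node (.node (.node (.node (.node (.leaf (nat_lit 6)) (.leaf (nat_lit 10))) (.leaf (nat_lit 33))) (.node (.node (.leaf (nat_lit 23)) (.leaf (nat_lit 30))) (.leaf (nat_lit 46)))) (.node (.node (.node (.leaf (nat_lit 13)) (.leaf (nat_lit 58))) (.leaf (nat_lit 41))) (.node (.node (.leaf (nat_lit 30)) (.leaf (nat_lit 34))) (.leaf (nat_lit 48))))) (.node (.node (.node (.node (.leaf (nat_lit 11)) (.leaf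 (nat_lit 19))) (.leaf (nat_lit 39))) (.node (.node (.leaf (nat_lit 24)) (.leaf (nat_lit 62))) (.leaf (nat_lit 48)))) (.node (.node (.node (.leaf (nat_lit 19)) (.leaf (nat_lit 59))) (.leaf (nat_lit 41))) (.node (.node (.leaf (nat_lit 32)) (.leaf (nat_lit 53))) (.leaf (nat_lit 5))))))) (.node (.node (.node (.node (.node (.node (.leaf (nat_lit 4)) (.leaf (nat_lit 7))) (.leaf (nat_lit 35))) (.node (.node (.leaf (nat_lit 23)) (.leaf (nat_lit 21))) (.leaf (nat_lit 8)))) (.node (.node (.node (.leaf (nat_lit 14)) (.leaf (nat_lit 55))) (.leaf (nat_lit 41))) (.node (.node (.leaf (nat_lit 26)) (.leaf (nat_lit 25))) (.leaf (nat_lit 50))))) (.node (.node (.node (.node (.leaf (nat_lit 9)) (.leaf (nat_lit 55))) (.leaf (nat_lit 35))) (.node (.node (.leaf (nat_lit 26)) (.leaf (nat_lit 60))) (.leaf (nat_lit 48)))) (.node (.node (.node (.leaf (nat_lit 15)) (.leaf (nat_lit 59))) (.leaf (nat_lit 42))) (.node (.node (.leaf (nat_lit 0)) (.leaf (nat_lit 38))) (.leaf (nat_lit 50)))))) (.node (.node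 (.node (.node (.node (.leaf (nat_lit 7)) (.leaf (nat_lit 17))) (.leaf (nat_lit 37))) (.node (.node (.leaf (nat_lit 22)) (.leaf (nat_lit 61))) (.leaf (nat_lit 46)))) (.node (.node (.node (.leaf (nat_lit 17)) (.leaf (nat_lit 58))) (.leaf (nat_lit 39))) (.node (.node (.leaf (nat_lit 30)) (.leaf (nat_lit 43))) (.leaf (nat_lit 51))))) (.node (.node (.node (.node (.leaf (nat_lit 11)) (.leaf (nat_lit 10))) (.leaf (nat_lit 39))) (.node (.node (.leaf (nat_lit 28)) (.leaf (nat_lit 62))) (.leaf (nat_lit 46)))) (.node (.node (.node (.leaf (nat_lit 20)) (.leaf (nat_lit 59))) (.leaf (nat_lit 2))) (.node (.node (.leaf (nat_lit 3)) (.leaf (nat_lit 44))) (.leaf (nat_lit 9)))))))))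

noncomputable def aO_lv2 : List (ℕ × NT) := []

noncomputable def aO_lv1 : List (ℕ × NT) := (nat_lit 64, aO_t1) :: aO_lv2

noncomputable def aO_lv0 : List (ℕ × NT) := (nat_lit 24, aO_t0) :: aO_lv1

theorem aO_valid0 : aM.Valid 6 aO_s0 := Model.valid_of_mem (aO_tab.mem_gens aO_h0 (n := 6) (by norm_num) (Ws := WP6.tail) (by decide)
    (by decide +kernel))

noncomputable def aO_W0 : NT := (.node (.node (.leaf (nat_lit 1)) (.leaf (nat_lit 3))) (.leaf (nat_lit 2)))

theorem aO_sub0 : aM.subCheck 6 aO_s0 3 aO_s1 aO_W0 2 = true := by decide +kernel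

theorem aO_mem0 : ∀ a, a < 3 → aM.Mem (aM.gen 6 aO_s0) (aO_s1.get a) :=
  Model.mem_of_subCheck (by norm_num) (fun _ ha => aO_valid0.mem_gen ha) aO_sub0

theorem aO_le0 : aM.gen 3 aO_s1 ≤ aM.gen 6 aO_s0 := Model.gen_le aO_mem0

theorem aO_valid1 : aM.Valid 3 aO_s1 := Model.valid_of_mem aO_mem0

theorem aO_le1 : ⊥ ≤ aM.gen 3 aO_s1 := bot_le

theorem aO_chain2 : aM.Chain ⊥ aO_lv2 := aM.chain_bot

theorem aO_tree1 : allLt 64 (aM.treeF 3 aO_s1 aO_t1 aO_P1) = true := by decide +kernel

theorem aO_sch1 : allLt (64 * 3) (aM.schF 3 aO_s1 64 aO_t1 aO_lv2 aO_H1) = true := by decide +kernel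

theorem aO_chain1 : aM.Chain (aM.gen 3 aO_s1) aO_lv1 :=
  Model.chain_cons (by norm_num) aO_valid1 aO_chain2 aO_le1 (by norm_num) aO_tree1 aO_sch1

theorem aO_tmem1 : ∀ j, j < 64 → aM.Mem (aM.gen 3 aO_s1) (aO_t1.get j) :=
  Model.mem_of_treeF (by norm_num) (fun _ ha => aO_valid1.mem_gen ha) aO_tree1

theorem aO_tree0 : allLt 24 (aM.treeF 6 aO_s0 aO_t0 aO_P0) = true := by decide +kernel

theorem aO_sch0 : allLt (24 * 6) (aM.schF 6 aO_s0 24 aO_t0 aO_lv1 aO_H0) = true := by decide +kernel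

theorem aO_chain0 : aM.Chain (aM.gen 6 aO_s0) aO_lv0 :=
  Model.chain_cons (by norm_num) aO_valid0 aO_chain1 aO_le0 (by norm_num) aO_tree0 aO_sch0

theorem aO_tmem0 : ∀ j, j < 24 → aM.Mem (aM.gen 6 aO_s0) (aO_t0.get j) :=
  Model.mem_of_treeF (by norm_num) (fun _ ha => aO_valid0.mem_gen ha) aO_tree0

noncomputable def aO_I : NT := (.node (.node (.node (.node (.node (.node (.node (.node (.node (.node (.node (.leaf (nat_lit 1419)) (.leaf (nat_lit 326))) (.leaf (nat_lit 455))) (.node (.node (.leaf (nat_lit 1363)) (.node (.leaf (nat_lit 26)) (.leaf (nat_lit 1197)))) (.leaf (nat_lit 0)))) (.node (.node (.leaf (nat_lit 0)) (.node (.node (.node (.leaf (nat_lit 1466)) (.leaf (nat_lit 1323))) (.leaf (nat_lit 0))) (.leaf (nat_lit 902)))) (.leaf (nat_lit 191)))) (.node (.node (.leaf (nat_lit 285)) (.node (.node (.leaf (nat_lit 195)) (.leaf (nat_lit 14))) (.leaf (nat_lit 0)))) (.node (.leaf (nat_lit 575)) (.node (.leaf (nat_lit 0)) (.node (.node (.leaf (nat_lit 434)) (.leaf (nat_lit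 1509))) (.leaf (nat_lit 0))))))) (.node (.node (.node (.leaf (nat_lit 0)) (.node (.node (.node (.node (.node (.leaf (nat_lit 580)) (.leaf (nat_lit 901))) (.leaf (nat_lit 0))) (.leaf (nat_lit 0))) (.leaf (nat_lit 529))) (.node (.leaf (nat_lit 1336)) (.node (.leaf (nat_lit 296)) (.node (.leaf (nat_lit 659)) (.leaf (nat_lit 903))))))) (.node (.leaf (nat_lit 491)) (.node (.node (.node (.node (.node (.leaf (nat_lit 720)) (.leaf (nat_lit 1383))) (.leaf (nat_lit 0))) (.node (.leaf (nat_lit 1434)) (.leaf (nat_lit 1040)))) (.leaf (nat_lit 1000))) (.leaf (nat_lit 1189))))) (.node (.node (.node (.node (.node (.node (.node (.leaf (nat_lit 1416)) (.leaf (nat_lit 543))) (.leaf (nat_lit 0))) (.node (.leaf (nat_lit 378)) (.leaf (nat_lit 1112)))) (.leaf (nat_lit 1144))) (.node (.leaf (nat_lit 565)) (.leaf (nat_lit 793)))) (.leaf (nat_lit 203))) (.node (.node (.leaf (nat_lit 0)) (.node (.node (.leaf (nat_lit 504)) (.leaf (nat_lit 306))) (.leaf (nat_lit 0)))) (.node (.leaf (nat_lit 1211))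 (.leaf (nat_lit 1249))))))) (.node (.node (.node (.node (.node (.leaf (nat_lit 201)) (.node (.node (.leaf (nat_lit 374)) (.leaf (nat_lit 1474))) (.leaf (nat_lit 1025)))) (.node (.node (.leaf (nat_lit 63)) (.node (.leaf (nat_lit 1312)) (.leaf (nat_lit 1278)))) (.node (.node (.leaf (nat_lit 397)) (.leaf (nat_lit 1044))) (.leaf (nat_lit 475))))) (.node (.node (.node (.leaf (nat_lit 17)) (.node (.leaf (nat_lit 806)) (.leaf (nat_lit 187)))) (.leaf (nat_lit 1158))) (.node (.node (.leaf (nat_lit 0)) (.node (.leaf (nat_lit 13)) (.leaf (nat_lit 1068)))) (.node (.leaf (nat_lit 1407)) (.leaf (nat_lit 1528)))))) (.node (.node (.node (.node (.leaf (nat_lit 0)) (.node (.leaf (nat_lit 133)) (.leaf (nat_lit 372)))) (.node (.leaf (nat_lit 567)) (.leaf (nat_lit 1120)))) (.node (.node (.leaf (nat_lit 1230)) (.leaf (nat_lit 1377))) (.node (.node (.leaf (nat_lit 686)) (.leaf (nat_lit 970))) (.leaf (nat_lit 209))))) (.node (.node (.leaf (nat_lit 658)) (.leaf (nat_lit 849))) (.node (.leaf (nat_lit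 1291)) (.leaf (nat_lit 1062)))))) (.node (.node (.node (.node (.node (.leaf (nat_lit 1029)) (.leaf (nat_lit 1076))) (.node (.node (.node (.leaf (nat_lit 264)) (.leaf (nat_lit 1253))) (.leaf (nat_lit 0))) (.leaf (nat_lit 0)))) (.node (.leaf (nat_lit 0)) (.node (.node (.leaf (nat_lit 1370)) (.leaf (nat_lit 1039))) (.node (.leaf (nat_lit 0)) (.node (.leaf (nat_lit 430)) (.leaf (nat_lit 1276))))))) (.node (.node (.leaf (nat_lit 268)) (.leaf (nat_lit 1055))) (.node (.leaf (nat_lit 50)) (.node (.leaf (nat_lit 0)) (.node (.leaf (nat_lit 1002)) (.leaf (nat_lit 456))))))) (.node (.node (.node (.node (.leaf (nat_lit 1366)) (.node (.leaf (nat_lit 1082)) (.leaf (nat_lit 31)))) (.leaf (nat_lit 978))) (.node (.node (.leaf (nat_lit 1391)) (.leaf (nat_lit 452))) (.leaf (nat_lit 173)))) (.node (.node (.node (.node (.node (.leaf (nat_lit 1080)) (.leaf (nat_lit 197))) (.leaf (nat_lit 0))) (.leaf (nat_lit 0))) (.leaf (nat_lit 644))) (.node (.node (.leaf (nat_lit 991)) (.node (.leaf (nat_lit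 0)) (.node (.leaf (nat_lit 598)) (.leaf (nat_lit 1468))))) (.leaf (nat_lit 287)))))))) (.node (.node (.node (.node (.node (.node (.node (.leaf (nat_lit 1123)) (.leaf (nat_lit 804))) (.leaf (nat_lit 0))) (.node (.leaf (nat_lit 0)) (.node (.node (.leaf (nat_lit 1310)) (.leaf (nat_lit 994))) (.node (.leaf (nat_lit 161)) (.leaf (nat_lit 75)))))) (.node (.leaf (nat_lit 1308)) (.node (.node (.node (.leaf (nat_lit 843)) (.leaf (nat_lit 1001))) (.node (.leaf (nat_lit 1046)) (.leaf (nat_lit 427)))) (.leaf (nat_lit 966))))) (.node (.node (.node (.node (.node (.leaf (nat_lit 1467)) (.leaf (nat_lit 617))) (.node (.leaf (nat_lit 1454)) (.leaf (nat_lit 922)))) (.leaf (nat_lit 1038))) (.leaf (nat_lit 684))) (.node (.node (.leaf (nat_lit 870)) (.leaf (nat_lit 403))) (.leaf (nat_lit 1498))))) (.node (.node (.node (.node (.node (.node (.node (.leaf (nat_lit 46)) (.leaf (nat_lit 916))) (.leaf (nat_lit 0))) (.node (.leaf (nat_lit 745)) (.leaf (nat_lit 847)))) (.node (.leaf (nat_lit 0)) (.node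 (.leaf (nat_lit 1328)) (.leaf (nat_lit 107))))) (.node (.leaf (nat_lit 932)) (.node (.node (.node (.leaf (nat_lit 989)) (.leaf (nat_lit 96))) (.leaf (nat_lit 0))) (.leaf (nat_lit 0))))) (.node (.node (.node (.node (.leaf (nat_lit 1008)) (.leaf (nat_lit 1266))) (.leaf (nat_lit 0))) (.leaf (nat_lit 0))) (.node (.node (.leaf (nat_lit 55)) (.leaf (nat_lit 1204))) (.leaf (nat_lit 227))))) (.node (.node (.node (.leaf (nat_lit 53)) (.leaf (nat_lit 788))) (.node (.node (.leaf (nat_lit 1486)) (.leaf (nat_lit 121))) (.node (.leaf (nat_lit 0)) (.node (.node (.leaf (nat_lit 1280)) (.leaf (nat_lit 1242))) (.leaf (nat_lit 0)))))) (.node (.node (.leaf (nat_lit 515)) (.node (.node (.leaf (nat_lit 1105)) (.leaf (nat_lit 775))) (.leaf (nat_lit 1324)))) (.node (.node (.node (.node (.leaf (nat_lit 893)) (.leaf (nat_lit 792))) (.leaf (nat_lit 138))) (.leaf (nat_lit 0))) (.leaf (nat_lit 1292))))))) (.node (.node (.node (.node (.node (.node (.node (.leaf (nat_lit 951)) (.leaf (nat_lit 320)))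 (.leaf (nat_lit 64))) (.node (.leaf (nat_lit 1093)) (.leaf (nat_lit 409)))) (.node (.leaf (nat_lit 1481)) (.leaf (nat_lit 1185)))) (.node (.node (.leaf (nat_lit 1309)) (.node (.leaf (nat_lit 255)) (.leaf (nat_lit 304)))) (.leaf (nat_lit 1097)))) (.node (.node (.node (.leaf (nat_lit 465)) (.leaf (nat_lit 833))) (.node (.node (.node (.leaf (nat_lit 687)) (.leaf (nat_lit 1160))) (.leaf (nat_lit 544))) (.node (.leaf (nat_lit 85)) (.leaf (nat_lit 961))))) (.node (.node (.leaf (nat_lit 1057)) (.leaf (nat_lit 608))) (.node (.leaf (nat_lit 1353)) (.leaf (nat_lit 706)))))) (.node (.node (.node (.node (.leaf (nat_lit 0)) (.node (.node (.node (.leaf (nat_lit 675)) (.leaf (nat_lit 1490))) (.leaf (nat_lit 0))) (.leaf (nat_lit 214)))) (.node (.leaf (nat_lit 1325)) (.node (.leaf (nat_lit 740)) (.leaf (nat_lit 165))))) (.node (.node (.node (.leaf (nat_lit 0)) (.node (.leaf (nat_lit 194)) (.leaf (nat_lit 645)))) (.leaf (nat_lit 0))) (.leaf (nat_lit 839)))) (.node (.node (.node (.node (.leaf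 (nat_lit 167)) (.leaf (nat_lit 44))) (.leaf (nat_lit 389))) (.node (.leaf (nat_lit 0)) (.node (.node (.node (.leaf (nat_lit 51)) (.leaf (nat_lit 1322))) (.leaf (nat_lit 0))) (.leaf (nat_lit 862))))) (.node (.node (.node (.leaf (nat_lit 27)) (.leaf (nat_lit 1390))) (.leaf (nat_lit 1439))) (.node (.node (.leaf (nat_lit 1220)) (.leaf (nat_lit 1005))) (.leaf (nat_lit 413))))))))) (.node (.node (.node (.node (.node (.node (.node (.leaf (nat_lit 1326)) (.node (.node (.leaf (nat_lit 737)) (.leaf (nat_lit 387))) (.node (.leaf (nat_lit 1195)) (.leaf (nat_lit 1406))))) (.node (.leaf (nat_lit 0)) (.node (.leaf (nat_lit 0)) (.node (.node (.node (.leaf (nat_lit 1236)) (.leaf (nat_lit 695))) (.leaf (nat_lit 0))) (.leaf (nat_lit 0)))))) (.node (.node (.node (.leaf (nat_lit 667)) (.node (.node (.node (.leaf (nat_lit 348)) (.leaf (nat_lit 621))) (.leaf (nat_lit 0))) (.leaf (nat_lit 0)))) (.leaf (nat_lit 0))) (.node (.leaf (nat_lit 0)) (.node (.node (.leaf (nat_lit 1354)) (.leaf (nat_lit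 782))) (.leaf (nat_lit 1515)))))) (.node (.node (.leaf (nat_lit 130)) (.node (.leaf (nat_lit 534)) (.node (.leaf (nat_lit 381)) (.leaf (nat_lit 1171))))) (.node (.node (.node (.node (.leaf (nat_lit 1073)) (.leaf (nat_lit 1251))) (.node (.leaf (nat_lit 466)) (.leaf (nat_lit 1238)))) (.leaf (nat_lit 1398))) (.node (.node (.leaf (nat_lit 0)) (.node (.node (.node (.leaf (nat_lit 252)) (.leaf (nat_lit 69))) (.leaf (nat_lit 0))) (.leaf (nat_lit 0)))) (.leaf (nat_lit 0)))))) (.node (.node (.node (.node (.leaf (nat_lit 587)) (.node (.leaf (nat_lit 271)) (.leaf (nat_lit 436)))) (.node (.node (.node (.node (.leaf (nat_lit 1400)) (.leaf (nat_lit 1482))) (.leaf (nat_lit 1176))) (.leaf (nat_lit 0))) (.leaf (nat_lit 0)))) (.node (.node (.node (.leaf (nat_lit 460)) (.node (.leaf (nat_lit 295)) (.leaf (nat_lit 1201)))) (.node (.leaf (nat_lit 0)) (.node (.node (.leaf (nat_lit 1431)) (.leaf (nat_lit 1115))) (.leaf (nat_lit 968))))) (.leaf (nat_lit 0)))) (.node (.node (.node (.leaf (nat_lit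 0)) (.node (.node (.leaf (nat_lit 90)) (.leaf (nat_lit 336))) (.leaf (nat_lit 0)))) (.node (.leaf (nat_lit 755)) (.node (.node (.leaf (nat_lit 1303)) (.leaf (nat_lit 649))) (.leaf (nat_lit 964))))) (.node (.leaf (nat_lit 0)) (.node (.leaf (nat_lit 337)) (.node (.leaf (nat_lit 0)) (.node (.node (.node (.leaf (nat_lit 1512)) (.leaf (nat_lit 159))) (.leaf (nat_lit 0))) (.node (.leaf (nat_lit 1458)) (.leaf (nat_lit 1496)))))))))) (.node (.node (.node (.node (.node (.node (.leaf (nat_lit 113)) (.leaf (nat_lit 547))) (.leaf (nat_lit 30))) (.node (.node (.leaf (nat_lit 0)) (.node (.leaf (nat_lit 612)) (.leaf (nat_lit 949)))) (.node (.leaf (nat_lit 1047)) (.leaf (nat_lit 1432))))) (.node (.node (.node (.node (.leaf (nat_lit 776)) (.leaf (nat_lit 1311))) (.node (.leaf (nat_lit 1494)) (.leaf (nat_lit 280)))) (.node (.node (.leaf (nat_lit 1188)) (.leaf (nat_lit 853))) (.leaf (nat_lit 595)))) (.node (.node (.leaf (nat_lit 226)) (.leaf (nat_lit 1265))) (.leaf (nat_lit 729))))) (.node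 (.node (.node (.leaf (nat_lit 1114)) (.leaf (nat_lit 993))) (.node (.leaf (nat_lit 1507)) (.leaf (nat_lit 606)))) (.node (.node (.leaf (nat_lit 1017)) (.node (.leaf (nat_lit 1234)) (.leaf (nat_lit 377)))) (.node (.node (.node (.leaf (nat_lit 704)) (.leaf (nat_lit 1143))) (.leaf (nat_lit 184))) (.node (.node (.leaf (nat_lit 828)) (.leaf (nat_lit 301))) (.leaf (nat_lit 571))))))) (.node (.node (.node (.node (.leaf (nat_lit 52)) (.leaf (nat_lit 1415))) (.node (.node (.leaf (nat_lit 0)) (.node (.leaf (nat_lit 1101)) (.leaf (nat_lit 266)))) (.leaf (nat_lit 912)))) (.node (.node (.leaf (nat_lit 0)) (.node (.node (.leaf (nat_lit 1399)) (.leaf (nat_lit 1274))) (.node (.node (.leaf (nat_lit 844)) (.leaf (nat_lit 574))) (.leaf (nat_lit 0))))) (.node (.leaf (nat_lit 1469)) (.node (.leaf (nat_lit 620)) (.leaf (nat_lit 1389)))))) (.node (.node (.node (.leaf (nat_lit 869)) (.node (.leaf (nat_lit 1100)) (.leaf (nat_lit 1365)))) (.node (.node (.leaf (nat_lit 1351)) (.node (.node (.leaf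 (nat_lit 316)) (.leaf (nat_lit 1030))) (.leaf (nat_lit 0)))) (.leaf (nat_lit 71)))) (.node (.node (.node (.leaf (nat_lit 527)) (.leaf (nat_lit 260))) (.leaf (nat_lit 533))) (.node (.leaf (nat_lit 0)) (.node (.node (.leaf (nat_lit 1423)) (.leaf (nat_lit 626))) (.leaf (nat_lit 1006))))))))) (.node (.node (.node (.node (.node (.node (.leaf (nat_lit 880)) (.leaf (nat_lit 948))) (.node (.node (.leaf (nat_lit 1361)) (.node (.leaf (nat_lit 883)) (.leaf (nat_lit 350)))) (.leaf (nat_lit 702)))) (.node (.node (.leaf (nat_lit 561)) (.node (.node (.leaf (nat_lit 1258)) (.leaf (nat_lit 950))) (.node (.leaf (nat_lit 291)) (.leaf (nat_lit 1385))))) (.node (.leaf (nat_lit 0)) (.node (.leaf (nat_lit 1404)) (.leaf (nat_lit 931)))))) (.node (.node (.node (.leaf (nat_lit 414)) (.leaf (nat_lit 859))) (.node (.leaf (nat_lit 1282)) (.leaf (nat_lit 393)))) (.node (.leaf (nat_lit 1140)) (.node (.node (.leaf (nat_lit 1446)) (.leaf (nat_lit 873))) (.node (.node (.leaf (nat_lit 1330)) (.leaf (nat_lit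 1142))) (.node (.leaf (nat_lit 651)) (.leaf (nat_lit 569)))))))) (.node (.node (.node (.node (.node (.node (.leaf (nat_lit 1362)) (.leaf (nat_lit 1368))) (.leaf (nat_lit 0))) (.leaf (nat_lit 0))) (.node (.leaf (nat_lit 748)) (.leaf (nat_lit 467)))) (.node (.node (.leaf (nat_lit 476)) (.node (.node (.leaf (nat_lit 0)) (.node (.leaf (nat_lit 1349)) (.leaf (nat_lit 48)))) (.leaf (nat_lit 0)))) (.node (.leaf (nat_lit 11)) (.node (.leaf (nat_lit 391)) (.node (.node (.leaf (nat_lit 886)) (.leaf (nat_lit 1492))) (.leaf (nat_lit 0))))))) (.node (.node (.node (.leaf (nat_lit 155)) (.node (.leaf (nat_lit 319)) (.node (.node (.leaf (nat_lit 238)) (.leaf (nat_lit 1252))) (.leaf (nat_lit 0))))) (.node (.node (.node (.leaf (nat_lit 498)) (.node (.leaf (nat_lit 557)) (.leaf (nat_lit 624)))) (.leaf (nat_lit 0))) (.leaf (nat_lit 1508)))) (.node (.node (.node (.leaf (nat_lit 1270)) (.leaf (nat_lit 247))) (.leaf (nat_lit 1338))) (.node (.leaf (nat_lit 908)) (.leaf (nat_lit 269))))))) (.node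 (.node (.node (.node (.node (.leaf (nat_lit 733)) (.node (.node (.leaf (nat_lit 1530)) (.leaf (nat_lit 39))) (.leaf (nat_lit 88)))) (.leaf (nat_lit 131))) (.node (.leaf (nat_lit 153)) (.node (.node (.leaf (nat_lit 637)) (.leaf (nat_lit 169))) (.node (.leaf (nat_lit 976)) (.node (.leaf (nat_lit 447)) (.leaf (nat_lit 80))))))) (.node (.node (.node (.leaf (nat_lit 1465)) (.node (.leaf (nat_lit 0)) (.node (.leaf (nat_lit 1091)) (.leaf (nat_lit 1064))))) (.node (.leaf (nat_lit 777)) (.leaf (nat_lit 210)))) (.node (.node (.node (.node (.node (.leaf (nat_lit 834)) (.leaf (nat_lit 656))) (.leaf (nat_lit 183))) (.leaf (nat_lit 688))) (.node (.leaf (nat_lit 205)) (.leaf (nat_lit 1321)))) (.node (.leaf (nat_lit 0)) (.node (.node (.node (.node (.leaf (nat_lit 563)) (.leaf (nat_lit 921))) (.leaf (nat_lit 0))) (.leaf (nat_lit 0))) (.leaf (nat_lit 0))))))) (.node (.node (.node (.node (.node (.leaf (nat_lit 0)) (.node (.leaf (nat_lit 1293)) (.leaf (nat_lit 554)))) (.leaf (nat_lit 0)))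 (.leaf (nat_lit 383))) (.node (.leaf (nat_lit 525)) (.node (.node (.leaf (nat_lit 555)) (.leaf (nat_lit 310))) (.leaf (nat_lit 0))))) (.node (.node (.node (.node (.leaf (nat_lit 243)) (.leaf (nat_lit 742))) (.leaf (nat_lit 1535))) (.node (.node (.leaf (nat_lit 0)) (.node (.leaf (nat_lit 741)) (.leaf (nat_lit 242)))) (.leaf (nat_lit 1157)))) (.node (.node (.leaf (nat_lit 0)) (.node (.node (.leaf (nat_lit 0)) (.node (.leaf (nat_lit 963)) (.leaf (nat_lit 962)))) (.leaf (nat_lit 406)))) (.leaf (nat_lit 551))))))))) (.node (.node (.node (.node (.node (.node (.node (.node (.leaf (nat_lit 0)) (.node (.node (.node (.node (.leaf (nat_lit 108)) (.leaf (nat_lit 141))) (.leaf (nat_lit 0))) (.leaf (nat_lit 0))) (.leaf (nat_lit 0)))) (.node (.node (.node (.leaf (nat_lit 178)) (.leaf (nat_lit 1382))) (.leaf (nat_lit 1035))) (.leaf (nat_lit 0)))) (.node (.leaf (nat_lit 359)) (.node (.leaf (nat_lit 318)) (.node (.leaf (nat_lit 1315)) (.node (.leaf (nat_lit 1106)) (.leaf (nat_lit 597)))))))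 (.node (.node (.node (.leaf (nat_lit 990)) (.node (.node (.leaf (nat_lit 1339)) (.leaf (nat_lit 662))) (.node (.node (.leaf (nat_lit 1394)) (.leaf (nat_lit 723))) (.leaf (nat_lit 0))))) (.node (.leaf (nat_lit 0)) (.node (.node (.node (.node (.leaf (nat_lit 1020)) (.leaf (nat_lit 791))) (.leaf (nat_lit 0))) (.leaf (nat_lit 0))) (.leaf (nat_lit 0))))) (.node (.node (.node (.node (.node (.node (.leaf (nat_lit 444)) (.leaf (nat_lit 981))) (.leaf (nat_lit 0))) (.leaf (nat_lit 0))) (.leaf (nat_lit 907))) (.leaf (nat_lit 0))) (.node (.leaf (nat_lit 1127)) (.node (.leaf (nat_lit 1491)) (.leaf (nat_lit 182))))))) (.node (.node (.node (.node (.node (.leaf (nat_lit 0)) (.node (.node (.node (.leaf (nat_lit 1488)) (.leaf (nat_lit 783))) (.leaf (nat_lit 0))) (.node (.leaf (nat_lit 1386)) (.leaf (nat_lit 896))))) (.node (.leaf (nat_lit 193)) (.leaf (nat_lit 229)))) (.leaf (nat_lit 0))) (.node (.node (.leaf (nat_lit 0)) (.node (.leaf (nat_lit 0)) (.node (.leaf (nat_lit 192)) (.leaf (nat_lit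 522))))) (.node (.leaf (nat_lit 995)) (.node (.leaf (nat_lit 724)) (.leaf (nat_lit 433)))))) (.node (.node (.node (.leaf (nat_lit 275)) (.leaf (nat_lit 1108))) (.node (.node (.leaf (nat_lit 0)) (.node (.node (.node (.leaf (nat_lit 960)) (.leaf (nat_lit 1455))) (.leaf (nat_lit 0))) (.node (.leaf (nat_lit 1506)) (.leaf (nat_lit 1472))))) (.leaf (nat_lit 973)))) (.node (.node (.node (.node (.leaf (nat_lit 511)) (.leaf (nat_lit 769))) (.node (.node (.node (.leaf (nat_lit 820)) (.leaf (nat_lit 661))) (.leaf (nat_lit 0))) (.leaf (nat_lit 0)))) (.node (.node (.node (.leaf (nat_lit 1287)) (.leaf (nat_lit 443))) (.leaf (nat_lit 1184))) (.leaf (nat_lit 616)))) (.leaf (nat_lit 0)))))) (.node (.node (.node (.node (.node (.node (.node (.leaf (nat_lit 588)) (.leaf (nat_lit 517))) (.leaf (nat_lit 0))) (.node (.leaf (nat_lit 904)) (.leaf (nat_lit 807)))) (.node (.leaf (nat_lit 1449)) (.node (.leaf (nat_lit 353)) (.node (.leaf (nat_lit 278)) (.leaf (nat_lit 1186)))))) (.node (.node (.leaf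 (nat_lit 898)) (.leaf (nat_lit 753))) (.node (.leaf (nat_lit 1531)) (.leaf (nat_lit 390))))) (.node (.node (.node (.node (.leaf (nat_lit 787)) (.leaf (nat_lit 41))) (.leaf (nat_lit 1302))) (.node (.node (.node (.leaf (nat_lit 396)) (.leaf (nat_lit 253))) (.leaf (nat_lit 0))) (.node (.leaf (nat_lit 1504)) (.leaf (nat_lit 1479))))) (.node (.node (.node (.node (.leaf (nat_lit 1422)) (.leaf (nat_lit 496))) (.leaf (nat_lit 1167))) (.node (.leaf (nat_lit 835)) (.node (.leaf (nat_lit 1069)) (.leaf (nat_lit 1260))))) (.node (.node (.leaf (nat_lit 1049)) (.node (.leaf (nat_lit 230)) (.leaf (nat_lit 826)))) (.leaf (nat_lit 345)))))) (.node (.node (.node (.node (.node (.node (.leaf (nat_lit 1495)) (.leaf (nat_lit 866))) (.leaf (nat_lit 1222))) (.leaf (nat_lit 0))) (.node (.node (.leaf (nat_lit 116)) (.leaf (nat_lit 1247))) (.leaf (nat_lit 773)))) (.node (.node (.node (.leaf (nat_lit 0)) (.node (.node (.leaf (nat_lit 696)) (.leaf (nat_lit 797))) (.leaf (nat_lit 0)))) (.node (.leaf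 (nat_lit 261)) (.leaf (nat_lit 884)))) (.node (.node (.node (.node (.leaf (nat_lit 172)) (.leaf (nat_lit 1246))) (.leaf (nat_lit 0))) (.leaf (nat_lit 751))) (.leaf (nat_lit 143))))) (.node (.node (.node (.leaf (nat_lit 484)) (.leaf (nat_lit 1487))) (.node (.node (.node (.leaf (nat_lit 429)) (.leaf (nat_lit 482))) (.leaf (nat_lit 0))) (.leaf (nat_lit 672)))) (.node (.node (.leaf (nat_lit 0)) (.node (.node (.node (.leaf (nat_lit 1420)) (.leaf (nat_lit 1102))) (.leaf (nat_lit 0))) (.node (.leaf (nat_lit 1226)) (.leaf (nat_lit 1471))))) (.node (.node (.leaf (nat_lit 0)) (.node (.node (.leaf (nat_lit 480)) (.leaf (nat_lit 1037))) (.leaf (nat_lit 0)))) (.node (.leaf (nat_lit 1461)) (.leaf (nat_lit 404))))))))) (.node (.node (.node (.node (.node (.node (.node (.node (.leaf (nat_lit 1138)) (.leaf (nat_lit 470))) (.node (.leaf (nat_lit 435)) (.leaf (nat_lit 857)))) (.node (.leaf (nat_lit 633)) (.leaf (nat_lit 1374)))) (.leaf (nat_lit 924))) (.node (.node (.leaf (nat_lit 1086))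 (.leaf (nat_lit 1075))) (.leaf (nat_lit 1522)))) (.node (.node (.leaf (nat_lit 708)) (.node (.node (.node (.leaf (nat_lit 1099)) (.leaf (nat_lit 1478))) (.node (.leaf (nat_lit 1059)) (.leaf (nat_lit 1217)))) (.leaf (nat_lit 1182)))) (.node (.node (.leaf (nat_lit 249)) (.node (.node (.leaf (nat_lit 147)) (.leaf (nat_lit 1241))) (.node (.leaf (nat_lit 1166)) (.leaf (nat_lit 1042))))) (.node (.leaf (nat_lit 0)) (.node (.leaf (nat_lit 1147)) (.leaf (nat_lit 204))))))) (.node (.node (.node (.node (.leaf (nat_lit 485)) (.leaf (nat_lit 668))) (.node (.node (.leaf (nat_lit 7)) (.leaf (nat_lit 1414))) (.leaf (nat_lit 1194)))) (.node (.node (.leaf (nat_lit 299)) (.node (.node (.node (.leaf (nat_lit 382)) (.leaf (nat_lit 1036))) (.leaf (nat_lit 0))) (.node (.leaf (nat_lit 289)) (.leaf (nat_lit 535))))) (.node (.node (.leaf (nat_lit 0)) (.node (.node (.leaf (nat_lit 653)) (.leaf (nat_lit 408))) (.leaf (nat_lit 282)))) (.leaf (nat_lit 1436))))) (.node (.node (.node (.node (.leaf (nat_lit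 0)) (.node (.leaf (nat_lit 1224)) (.leaf (nat_lit 1410)))) (.leaf (nat_lit 0))) (.node (.node (.leaf (nat_lit 1348)) (.leaf (nat_lit 487))) (.leaf (nat_lit 827)))) (.node (.node (.leaf (nat_lit 1148)) (.node (.leaf (nat_lit 0)) (.node (.node (.leaf (nat_lit 749)) (.leaf (nat_lit 240))) (.leaf (nat_lit 0))))) (.node (.leaf (nat_lit 35)) (.node (.node (.node (.leaf (nat_lit 22)) (.leaf (nat_lit 1132))) (.leaf (nat_lit 0))) (.node (.leaf (nat_lit 985)) (.leaf (nat_lit 607))))))))) (.node (.node (.node (.node (.node (.node (.node (.node (.node (.leaf (nat_lit 803)) (.leaf (nat_lit 681))) (.leaf (nat_lit 0))) (.leaf (nat_lit 0))) (.leaf (nat_lit 0))) (.leaf (nat_lit 0))) (.node (.node (.leaf (nat_lit 328)) (.node (.leaf (nat_lit 927)) (.leaf (nat_lit 944)))) (.node (.leaf (nat_lit 1177)) (.leaf (nat_lit 349))))) (.node (.node (.leaf (nat_lit 1393)) (.node (.node (.leaf (nat_lit 419)) (.leaf (nat_lit 392))) (.leaf (nat_lit 0)))) (.leaf (nat_lit 537)))) (.node (.node (.node (.leaf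 (nat_lit 1165)) (.node (.leaf (nat_lit 160)) (.leaf (nat_lit 15)))) (.leaf (nat_lit 971))) (.node (.leaf (nat_lit 1329)) (.node (.node (.leaf (nat_lit 625)) (.leaf (nat_lit 877))) (.node (.node (.leaf (nat_lit 1119)) (.leaf (nat_lit 152))) (.leaf (nat_lit 1192))))))) (.node (.node (.node (.node (.leaf (nat_lit 95)) (.leaf (nat_lit 1061))) (.node (.leaf (nat_lit 0)) (.node (.leaf (nat_lit 622)) (.node (.node (.leaf (nat_lit 123)) (.leaf (nat_lit 1178))) (.leaf (nat_lit 0)))))) (.node (.node (.node (.leaf (nat_lit 982)) (.leaf (nat_lit 99))) (.leaf (nat_lit 1295))) (.node (.node (.node (.leaf (nat_lit 765)) (.leaf (nat_lit 2))) (.leaf (nat_lit 1364))) (.leaf (nat_lit 1085))))) (.node (.node (.node (.node (.node (.leaf (nat_lit 1437)) (.leaf (nat_lit 794))) (.leaf (nat_lit 0))) (.leaf (nat_lit 0))) (.leaf (nat_lit 599))) (.node (.node (.leaf (nat_lit 1181)) (.node (.leaf (nat_lit 93)) (.leaf (nat_lit 980)))) (.node (.node (.leaf (nat_lit 814)) (.node (.node (.leaf (nat_lit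 339)) (.leaf (nat_lit 1418))) (.leaf (nat_lit 0)))) (.leaf (nat_lit 0))))))))) (.node (.node (.node (.node (.node (.node (.leaf (nat_lit 274)) (.node (.leaf (nat_lit 630)) (.node (.leaf (nat_lit 955)) (.leaf (nat_lit 237))))) (.node (.node (.node (.node (.leaf (nat_lit 1022)) (.leaf (nat_lit 682))) (.node (.leaf (nat_lit 401)) (.leaf (nat_lit 1395)))) (.leaf (nat_lit 1470))) (.leaf (nat_lit 468)))) (.node (.node (.node (.node (.leaf (nat_lit 564)) (.leaf (nat_lit 451))) (.leaf (nat_lit 0))) (.node (.leaf (nat_lit 0)) (.node (.node (.leaf (nat_lit 89)) (.leaf (nat_lit 1275))) (.node (.leaf (nat_lit 754)) (.leaf (nat_lit 542)))))) (.node (.leaf (nat_lit 1380)) (.node (.node (.node (.leaf (nat_lit 1262)) (.leaf (nat_lit 643))) (.node (.leaf (nat_lit 761)) (.leaf (nat_lit 603)))) (.leaf (nat_lit 726)))))) (.node (.node (.node (.node (.leaf (nat_lit 1532)) (.node (.leaf (nat_lit 0)) (.node (.leaf (nat_lit 66)) (.leaf (nat_lit 552))))) (.node (.leaf (nat_lit 83)) (.node (.leaf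 (nat_lit 1180)) (.node (.leaf (nat_lit 175)) (.leaf (nat_lit 889)))))) (.node (.node (.leaf (nat_lit 29)) (.leaf (nat_lit 548))) (.node (.leaf (nat_lit 49)) (.node (.node (.node (.leaf (nat_lit 1424)) (.leaf (nat_lit 1026))) (.leaf (nat_lit 0))) (.leaf (nat_lit 0)))))) (.node (.node (.node (.node (.node (.leaf (nat_lit 1345)) (.leaf (nat_lit 151))) (.leaf (nat_lit 676))) (.node (.node (.leaf (nat_lit 728)) (.leaf (nat_lit 899))) (.leaf (nat_lit 0)))) (.node (.leaf (nat_lit 212)) (.leaf (nat_lit 24)))) (.node (.node (.node (.leaf (nat_lit 0)) (.node (.node (.leaf (nat_lit 104)) (.leaf (nat_lit 1050))) (.leaf (nat_lit 1320)))) (.leaf (nat_lit 0))) (.node (.node (.leaf (nat_lit 652)) (.leaf (nat_lit 127))) (.leaf (nat_lit 371))))))) (.node (.node (.node (.node (.node (.leaf (nat_lit 442)) (.leaf (nat_lit 1209))) (.node (.leaf (nat_lit 841)) (.node (.leaf (nat_lit 992)) (.leaf (nat_lit 1134))))) (.node (.node (.leaf (nat_lit 1137)) (.node (.leaf (nat_lit 593)) (.leaf (nat_lit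 1378)))) (.node (.node (.leaf (nat_lit 784)) (.node (.leaf (nat_lit 1304)) (.leaf (nat_lit 471)))) (.node (.leaf (nat_lit 721)) (.node (.leaf (nat_lit 132)) (.leaf (nat_lit 157))))))) (.node (.node (.node (.node (.leaf (nat_lit 136)) (.node (.leaf (nat_lit 536)) (.leaf (nat_lit 711)))) (.node (.leaf (nat_lit 1081)) (.node (.leaf (nat_lit 1332)) (.leaf (nat_lit 613))))) (.node (.node (.leaf (nat_lit 1409)) (.leaf (nat_lit 370))) (.leaf (nat_lit 969)))) (.node (.node (.leaf (nat_lit 709)) (.node (.leaf (nat_lit 520)) (.leaf (nat_lit 111)))) (.node (.leaf (nat_lit 102)) (.leaf (nat_lit 881)))))) (.node (.node (.node (.node (.leaf (nat_lit 629)) (.node (.leaf (nat_lit 1221)) (.leaf (nat_lit 1004)))) (.node (.node (.leaf (nat_lit 1462)) (.leaf (nat_lit 463))) (.leaf (nat_lit 503)))) (.node (.node (.node (.leaf (nat_lit 20)) (.leaf (nat_lit 311))) (.leaf (nat_lit 317))) (.node (.leaf (nat_lit 0)) (.node (.leaf (nat_lit 1078)) (.node (.leaf (nat_lit 1279)) (.leaf (nat_lit 722)))))))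 (.node (.node (.node (.leaf (nat_lit 0)) (.node (.leaf (nat_lit 358)) (.node (.leaf (nat_lit 1255)) (.leaf (nat_lit 1514))))) (.node (.leaf (nat_lit 725)) (.node (.leaf (nat_lit 309)) (.leaf (nat_lit 860))))) (.node (.node (.node (.node (.leaf (nat_lit 122)) (.leaf (nat_lit 885))) (.leaf (nat_lit 0))) (.leaf (nat_lit 0))) (.node (.leaf (nat_lit 239)) (.leaf (nat_lit 124)))))))) (.node (.node (.node (.node (.node (.node (.leaf (nat_lit 846)) (.leaf (nat_lit 619))) (.node (.leaf (nat_lit 1426)) (.leaf (nat_lit 609)))) (.node (.node (.node (.node (.leaf (nat_lit 277)) (.leaf (nat_lit 228))) (.leaf (nat_lit 0))) (.leaf (nat_lit 448))) (.node (.node (.leaf (nat_lit 1233)) (.leaf (nat_lit 1014))) (.node (.leaf (nat_lit 809)) (.node (.leaf (nat_lit 730)) (.leaf (nat_lit 926))))))) (.node (.node (.node (.leaf (nat_lit 801)) (.node (.leaf (nat_lit 1457)) (.node (.leaf (nat_lit 1402)) (.leaf (nat_lit 710))))) (.node (.leaf (nat_lit 712)) (.node (.leaf (nat_lit 691)) (.leaf (nat_lit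 1476))))) (.node (.node (.node (.node (.leaf (nat_lit 206)) (.leaf (nat_lit 331))) (.leaf (nat_lit 257))) (.leaf (nat_lit 942))) (.node (.node (.node (.leaf (nat_lit 37)) (.leaf (nat_lit 1164))) (.leaf (nat_lit 0))) (.leaf (nat_lit 1288)))))) (.node (.node (.node (.node (.leaf (nat_lit 719)) (.node (.node (.leaf (nat_lit 0)) (.node (.leaf (nat_lit 838)) (.leaf (nat_lit 1396)))) (.leaf (nat_lit 1207)))) (.node (.node (.leaf (nat_lit 0)) (.node (.leaf (nat_lit 18)) (.node (.leaf (nat_lit 341)) (.leaf (nat_lit 864))))) (.leaf (nat_lit 428)))) (.node (.node (.node (.node (.leaf (nat_lit 410)) (.leaf (nat_lit 103))) (.leaf (nat_lit 766))) (.leaf (nat_lit 738))) (.node (.leaf (nat_lit 1124)) (.leaf (nat_lit 125))))) (.node (.node (.node (.leaf (nat_lit 692)) (.node (.leaf (nat_lit 0)) (.node (.leaf (nat_lit 0)) (.node (.leaf (nat_lit 1397)) (.leaf (nat_lit 120)))))) (.node (.leaf (nat_lit 0)) (.node (.node (.leaf (nat_lit 0)) (.node (.leaf (nat_lit 646)) (.leaf (nat_lit 1516))))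 (.leaf (nat_lit 1063))))) (.node (.node (.leaf (nat_lit 988)) (.leaf (nat_lit 1139))) (.node (.leaf (nat_lit 674)) (.node (.node (.leaf (nat_lit 762)) (.leaf (nat_lit 1440))) (.leaf (nat_lit 0)))))))) (.node (.node (.node (.node (.node (.leaf (nat_lit 1033)) (.node (.node (.leaf (nat_lit 848)) (.leaf (nat_lit 1355))) (.leaf (nat_lit 0)))) (.node (.leaf (nat_lit 177)) (.leaf (nat_lit 162)))) (.node (.node (.node (.leaf (nat_lit 472)) (.node (.node (.leaf (nat_lit 234)) (.leaf (nat_lit 440))) (.leaf (nat_lit 327)))) (.node (.leaf (nat_lit 553)) (.leaf (nat_lit 805)))) (.node (.leaf (nat_lit 0)) (.node (.leaf (nat_lit 0)) (.node (.node (.node (.leaf (nat_lit 347)) (.leaf (nat_lit 129))) (.leaf (nat_lit 0))) (.leaf (nat_lit 0))))))) (.node (.node (.leaf (nat_lit 297)) (.node (.node (.leaf (nat_lit 313)) (.leaf (nat_lit 421))) (.node (.node (.leaf (nat_lit 512)) (.leaf (nat_lit 663))) (.leaf (nat_lit 736))))) (.node (.leaf (nat_lit 59)) (.node (.node (.leaf (nat_lit 1216))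 (.node (.node (.leaf (nat_lit 1290)) (.leaf (nat_lit 1256))) (.leaf (nat_lit 1239)))) (.leaf (nat_lit 1333)))))) (.node (.node (.node (.node (.node (.leaf (nat_lit 758)) (.leaf (nat_lit 3))) (.leaf (nat_lit 1511))) (.node (.node (.node (.leaf (nat_lit 98)) (.leaf (nat_lit 1341))) (.leaf (nat_lit 0))) (.leaf (nat_lit 0)))) (.node (.node (.leaf (nat_lit 0)) (.node (.leaf (nat_lit 1118)) (.node (.leaf (nat_lit 0)) (.node (.leaf (nat_lit 1179)) (.leaf (nat_lit 1034)))))) (.leaf (nat_lit 335)))) (.node (.node (.leaf (nat_lit 501)) (.node (.node (.leaf (nat_lit 38)) (.leaf (nat_lit 795))) (.leaf (nat_lit 0)))) (.node (.leaf (nat_lit 815)) (.node (.leaf (nat_lit 0)) (.node (.leaf (nat_lit 0)) (.node (.leaf (nat_lit 1533)) (.leaf (nat_lit 338))))))))))))) (.node (.node (.node (.node (.node (.node (.node (.node (.leaf (nat_lit 1031)) (.node (.node (.node (.leaf (nat_lit 1435)) (.leaf (nat_lit 398))) (.node (.leaf (nat_lit 314)) (.leaf (nat_lit 549)))) (.leaf (nat_lit 0)))) (.node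 (.node (.leaf (nat_lit 959)) (.node (.leaf (nat_lit 315)) (.leaf (nat_lit 62)))) (.node (.leaf (nat_lit 0)) (.node (.leaf (nat_lit 355)) (.leaf (nat_lit 117)))))) (.node (.node (.node (.leaf (nat_lit 1518)) (.node (.leaf (nat_lit 379)) (.node (.leaf (nat_lit 914)) (.leaf (nat_lit 909))))) (.node (.node (.leaf (nat_lit 1203)) (.leaf (nat_lit 590))) (.leaf (nat_lit 263)))) (.node (.leaf (nat_lit 852)) (.node (.leaf (nat_lit 0)) (.node (.node (.node (.leaf (nat_lit 1010)) (.leaf (nat_lit 699))) (.leaf (nat_lit 0))) (.leaf (nat_lit 1190))))))) (.node (.node (.node (.node (.node (.leaf (nat_lit 0)) (.node (.node (.node (.leaf (nat_lit 1152)) (.leaf (nat_lit 831))) (.leaf (nat_lit 0))) (.leaf (nat_lit 402)))) (.leaf (nat_lit 109))) (.node (.leaf (nat_lit 532)) (.leaf (nat_lit 1067)))) (.node (.leaf (nat_lit 0)) (.node (.node (.node (.leaf (nat_lit 279)) (.leaf (nat_lit 920))) (.leaf (nat_lit 952))) (.node (.node (.node (.node (.leaf (nat_lit 4)) (.leaf (nat_lit 181))) (.leaf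 (nat_lit 0))) (.leaf (nat_lit 0))) (.leaf (nat_lit 1009)))))) (.node (.node (.node (.node (.node (.leaf (nat_lit 1019)) (.leaf (nat_lit 1232))) (.leaf (nat_lit 0))) (.node (.leaf (nat_lit 1060)) (.leaf (nat_lit 1297)))) (.node (.node (.leaf (nat_lit 0)) (.node (.leaf (nat_lit 312)) (.leaf (nat_lit 714)))) (.leaf (nat_lit 0)))) (.node (.node (.node (.leaf (nat_lit 241)) (.leaf (nat_lit 493))) (.node (.node (.node (.node (.leaf (nat_lit 1128)) (.leaf (nat_lit 207))) (.leaf (nat_lit 0))) (.node (.leaf (nat_lit 474)) (.leaf (nat_lit 224)))) (.leaf (nat_lit 664)))) (.leaf (nat_lit 707)))))) (.node (.node (.node (.node (.leaf (nat_lit 1161)) (.node (.leaf (nat_lit 1206)) (.node (.leaf (nat_lit 953)) (.node (.leaf (nat_lit 446)) (.leaf (nat_lit 1411)))))) (.node (.node (.node (.leaf (nat_lit 185)) (.node (.leaf (nat_lit 998)) (.leaf (nat_lit 394)))) (.leaf (nat_lit 1497))) (.node (.node (.leaf (nat_lit 1003)) (.node (.leaf (nat_lit 589)) (.leaf (nat_lit 660)))) (.node (.leaf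 (nat_lit 303)) (.leaf (nat_lit 808)))))) (.node (.node (.node (.node (.leaf (nat_lit 43)) (.node (.leaf (nat_lit 1117)) (.leaf (nat_lit 780)))) (.node (.leaf (nat_lit 1503)) (.node (.leaf (nat_lit 1072)) (.leaf (nat_lit 342))))) (.node (.leaf (nat_lit 441)) (.leaf (nat_lit 250)))) (.node (.node (.node (.leaf (nat_lit 1456)) (.leaf (nat_lit 1215))) (.node (.leaf (nat_lit 0)) (.node (.leaf (nat_lit 1237)) (.leaf (nat_lit 516))))) (.node (.node (.leaf (nat_lit 473)) (.node (.leaf (nat_lit 110)) (.leaf (nat_lit 322)))) (.leaf (nat_lit 126)))))) (.node (.node (.node (.node (.node (.node (.leaf (nat_lit 405)) (.leaf (nat_lit 290))) (.leaf (nat_lit 0))) (.node (.node (.node (.leaf (nat_lit 888)) (.leaf (nat_lit 149))) (.leaf (nat_lit 0))) (.leaf (nat_lit 0)))) (.node (.leaf (nat_lit 671)) (.node (.leaf (nat_lit 415)) (.leaf (nat_lit 196))))) (.node (.node (.leaf (nat_lit 1517)) (.node (.leaf (nat_lit 479)) (.leaf (nat_lit 1412)))) (.node (.node (.node (.node (.leaf (nat_lit 220))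 (.leaf (nat_lit 502))) (.leaf (nat_lit 0))) (.node (.leaf (nat_lit 386)) (.leaf (nat_lit 199)))) (.leaf (nat_lit 0))))) (.node (.node (.node (.node (.node (.node (.leaf (nat_lit 1444)) (.leaf (nat_lit 958))) (.leaf (nat_lit 0))) (.leaf (nat_lit 367))) (.leaf (nat_lit 0))) (.node (.node (.leaf (nat_lit 1053)) (.leaf (nat_lit 68))) (.node (.node (.node (.leaf (nat_lit 144)) (.leaf (nat_lit 221))) (.leaf (nat_lit 0))) (.leaf (nat_lit 0))))) (.node (.node (.leaf (nat_lit 1464)) (.node (.leaf (nat_lit 694)) (.leaf (nat_lit 650)))) (.node (.leaf (nat_lit 0)) (.node (.leaf (nat_lit 863)) (.leaf (nat_lit 1028))))))))) (.node (.node (.node (.node (.node (.node (.node (.node (.leaf (nat_lit 1243)) (.leaf (nat_lit 302))) (.leaf (nat_lit 267))) (.leaf (nat_lit 438))) (.leaf (nat_lit 1306))) (.node (.node (.leaf (nat_lit 0)) (.node (.leaf (nat_lit 139)) (.leaf (nat_lit 996)))) (.node (.node (.node (.leaf (nat_lit 1011)) (.leaf (nat_lit 1433))) (.node (.leaf (nat_lit 878)) (.leaf (nat_lit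 346)))) (.leaf (nat_lit 0))))) (.node (.node (.node (.node (.node (.leaf (nat_lit 627)) (.leaf (nat_lit 137))) (.leaf (nat_lit 418))) (.leaf (nat_lit 0))) (.node (.node (.leaf (nat_lit 163)) (.leaf (nat_lit 1092))) (.leaf (nat_lit 222)))) (.node (.node (.leaf (nat_lit 78)) (.node (.node (.leaf (nat_lit 1131)) (.leaf (nat_lit 665))) (.node (.leaf (nat_lit 1286)) (.leaf (nat_lit 298))))) (.leaf (nat_lit 1500))))) (.node (.node (.node (.node (.node (.node (.node (.leaf (nat_lit 1342)) (.leaf (nat_lit 868))) (.leaf (nat_lit 0))) (.leaf (nat_lit 1375))) (.leaf (nat_lit 731))) (.node (.leaf (nat_lit 308)) (.node (.node (.node (.leaf (nat_lit 941)) (.leaf (nat_lit 576))) (.leaf (nat_lit 186))) (.leaf (nat_lit 0))))) (.node (.node (.leaf (nat_lit 0)) (.node (.node (.node (.leaf (nat_lit 790)) (.leaf (nat_lit 76))) (.leaf (nat_lit 0))) (.node (.leaf (nat_lit 865)) (.leaf (nat_lit 1183))))) (.node (.leaf (nat_lit 605)) (.leaf (nat_lit 956))))) (.node (.node (.node (.node (.leaf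 (nat_lit 0)) (.node (.node (.leaf (nat_lit 1013)) (.leaf (nat_lit 600))) (.leaf (nat_lit 426)))) (.leaf (nat_lit 1340))) (.node (.node (.node (.node (.leaf (nat_lit 166)) (.leaf (nat_lit 1300))) (.leaf (nat_lit 0))) (.node (.leaf (nat_lit 601)) (.leaf (nat_lit 1111)))) (.node (.leaf (nat_lit 0)) (.node (.leaf (nat_lit 1208)) (.leaf (nat_lit 323)))))) (.node (.leaf (nat_lit 1259)) (.node (.node (.node (.leaf (nat_lit 1344)) (.leaf (nat_lit 1122))) (.leaf (nat_lit 0))) (.leaf (nat_lit 1417))))))) (.node (.node (.node (.node (.node (.leaf (nat_lit 1427)) (.leaf (nat_lit 73))) (.node (.leaf (nat_lit 879)) (.node (.leaf (nat_lit 225)) (.leaf (nat_lit 1357))))) (.node (.node (.node (.leaf (nat_lit 913)) (.leaf (nat_lit 1429))) (.node (.node (.leaf (nat_lit 1335)) (.leaf (nat_lit 272))) (.leaf (nat_lit 1408)))) (.node (.leaf (nat_lit 9)) (.leaf (nat_lit 521))))) (.node (.node (.leaf (nat_lit 1401)) (.node (.node (.node (.leaf (nat_lit 251)) (.leaf (nat_lit 200))) (.leaf (nat_lit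 592))) (.node (.leaf (nat_lit 925)) (.leaf (nat_lit 361))))) (.node (.leaf (nat_lit 0)) (.node (.leaf (nat_lit 1045)) (.node (.node (.leaf (nat_lit 1071)) (.leaf (nat_lit 1088))) (.leaf (nat_lit 112))))))) (.node (.node (.node (.node (.leaf (nat_lit 431)) (.leaf (nat_lit 507))) (.node (.leaf (nat_lit 0)) (.node (.leaf (nat_lit 0)) (.node (.leaf (nat_lit 578)) (.leaf (nat_lit 693)))))) (.node (.node (.node (.leaf (nat_lit 262)) (.node (.node (.leaf (nat_lit 219)) (.leaf (nat_lit 698))) (.leaf (nat_lit 0)))) (.leaf (nat_lit 0))) (.node (.node (.leaf (nat_lit 1343)) (.leaf (nat_lit 812))) (.leaf (nat_lit 1133))))) (.node (.node (.node (.node (.leaf (nat_lit 957)) (.leaf (nat_lit 380))) (.leaf (nat_lit 437))) (.node (.leaf (nat_lit 0)) (.node (.leaf (nat_lit 891)) (.leaf (nat_lit 454))))) (.node (.node (.leaf (nat_lit 101)) (.node (.leaf (nat_lit 1007)) (.leaf (nat_lit 332)))) (.node (.node (.leaf (nat_lit 1438)) (.node (.leaf (nat_lit 986)) (.leaf (nat_lit 357)))) (.leaf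 (nat_lit 0))))))))) (.node (.node (.node (.node (.node (.node (.node (.leaf (nat_lit 0)) (.node (.node (.leaf (nat_lit 233)) (.leaf (nat_lit 1371))) (.node (.leaf (nat_lit 1018)) (.leaf (nat_lit 422))))) (.node (.leaf (nat_lit 0)) (.node (.leaf (nat_lit 811)) (.node (.node (.node (.leaf (nat_lit 492)) (.leaf (nat_lit 21))) (.leaf (nat_lit 0))) (.leaf (nat_lit 0)))))) (.node (.node (.node (.node (.leaf (nat_lit 854)) (.leaf (nat_lit 1459))) (.leaf (nat_lit 0))) (.leaf (nat_lit 678))) (.leaf (nat_lit 946)))) (.node (.node (.leaf (nat_lit 1284)) (.node (.leaf (nat_lit 6)) (.node (.node (.leaf (nat_lit 425)) (.leaf (nat_lit 1155))) (.leaf (nat_lit 734))))) (.node (.node (.node (.node (.leaf (nat_lit 497)) (.leaf (nat_lit 1083))) (.leaf (nat_lit 874))) (.leaf (nat_lit 0))) (.node (.node (.leaf (nat_lit 523)) (.node (.node (.node (.leaf (nat_lit 972)) (.leaf (nat_lit 453))) (.leaf (nat_lit 0))) (.leaf (nat_lit 0)))) (.leaf (nat_lit 582)))))) (.node (.node (.node (.leaf (nat_lit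 1316)) (.node (.leaf (nat_lit 464)) (.node (.leaf (nat_lit 100)) (.node (.leaf (nat_lit 727)) (.leaf (nat_lit 1369)))))) (.node (.node (.node (.leaf (nat_lit 412)) (.leaf (nat_lit 919))) (.leaf (nat_lit 611))) (.node (.leaf (nat_lit 0)) (.node (.node (.leaf (nat_lit 858)) (.leaf (nat_lit 216))) (.leaf (nat_lit 0)))))) (.node (.node (.node (.leaf (nat_lit 1513)) (.node (.node (.node (.leaf (nat_lit 584)) (.leaf (nat_lit 930))) (.leaf (nat_lit 984))) (.leaf (nat_lit 0)))) (.leaf (nat_lit 1163))) (.node (.node (.node (.leaf (nat_lit 0)) (.node (.leaf (nat_lit 882)) (.leaf (nat_lit 768)))) (.leaf (nat_lit 0))) (.node (.node (.leaf (nat_lit 604)) (.node (.leaf (nat_lit 655)) (.leaf (nat_lit 937)))) (.node (.leaf (nat_lit 0)) (.node (.leaf (nat_lit 779)) (.leaf (nat_lit 752))))))))) (.node (.node (.node (.node (.node (.node (.leaf (nat_lit 545)) (.leaf (nat_lit 850))) (.leaf (nat_lit 1281))) (.node (.node (.leaf (nat_lit 265)) (.node (.leaf (nat_lit 1116)) (.leaf (nat_lit 1525))))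 (.node (.node (.leaf (nat_lit 1520)) (.leaf (nat_lit 87))) (.leaf (nat_lit 352))))) (.node (.node (.leaf (nat_lit 750)) (.node (.leaf (nat_lit 1193)) (.leaf (nat_lit 739)))) (.node (.leaf (nat_lit 423)) (.node (.leaf (nat_lit 585)) (.leaf (nat_lit 1452)))))) (.node (.node (.node (.node (.leaf (nat_lit 1240)) (.node (.leaf (nat_lit 8)) (.leaf (nat_lit 759)))) (.node (.leaf (nat_lit 0)) (.node (.leaf (nat_lit 36)) (.leaf (nat_lit 1453))))) (.node (.node (.leaf (nat_lit 929)) (.leaf (nat_lit 778))) (.leaf (nat_lit 486)))) (.node (.node (.leaf (nat_lit 897)) (.leaf (nat_lit 490))) (.node (.node (.leaf (nat_lit 560)) (.node (.leaf (nat_lit 174)) (.leaf (nat_lit 232)))) (.node (.node (.leaf (nat_lit 324)) (.leaf (nat_lit 469))) (.leaf (nat_lit 715))))))) (.node (.node (.node (.node (.leaf (nat_lit 677)) (.node (.leaf (nat_lit 935)) (.leaf (nat_lit 356)))) (.node (.node (.leaf (nat_lit 142)) (.node (.leaf (nat_lit 79)) (.leaf (nat_lit 842)))) (.leaf (nat_lit 0)))) (.node (.node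 (.leaf (nat_lit 887)) (.node (.leaf (nat_lit 871)) (.leaf (nat_lit 892)))) (.node (.leaf (nat_lit 509)) (.node (.leaf (nat_lit 0)) (.node (.leaf (nat_lit 861)) (.leaf (nat_lit 218))))))) (.node (.node (.node (.leaf (nat_lit 0)) (.node (.leaf (nat_lit 1534)) (.node (.leaf (nat_lit 813)) (.leaf (nat_lit 1346))))) (.node (.leaf (nat_lit 5)) (.node (.leaf (nat_lit 407)) (.leaf (nat_lit 1388))))) (.node (.node (.node (.leaf (nat_lit 1413)) (.leaf (nat_lit 836))) (.leaf (nat_lit 581))) (.node (.leaf (nat_lit 0)) (.node (.leaf (nat_lit 943)) (.node (.node (.leaf (nat_lit 1228)) (.leaf (nat_lit 1318))) (.leaf (nat_lit 0)))))))))) (.node (.node (.node (.node (.node (.node (.leaf (nat_lit 928)) (.node (.leaf (nat_lit 499)) (.leaf (nat_lit 1356)))) (.node (.node (.leaf (nat_lit 1529)) (.node (.leaf (nat_lit 802)) (.leaf (nat_lit 1358)))) (.leaf (nat_lit 489)))) (.node (.leaf (nat_lit 705)) (.node (.leaf (nat_lit 894)) (.node (.leaf (nat_lit 1313)) (.node (.leaf (nat_lit 1051)) (.leaf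 (nat_lit 86))))))) (.node (.node (.node (.leaf (nat_lit 294)) (.node (.leaf (nat_lit 1121)) (.node (.leaf (nat_lit 82)) (.leaf (nat_lit 1502))))) (.node (.leaf (nat_lit 760)) (.leaf (nat_lit 156)))) (.node (.node (.node (.leaf (nat_lit 259)) (.leaf (nat_lit 636))) (.leaf (nat_lit 798))) (.node (.leaf (nat_lit 81)) (.leaf (nat_lit 34)))))) (.node (.node (.node (.node (.leaf (nat_lit 0)) (.node (.node (.leaf (nat_lit 0)) (.node (.leaf (nat_lit 334)) (.leaf (nat_lit 292)))) (.leaf (nat_lit 559)))) (.node (.leaf (nat_lit 1421)) (.leaf (nat_lit 1052)))) (.node (.node (.node (.leaf (nat_lit 74)) (.leaf (nat_lit 92))) (.node (.node (.leaf (nat_lit 546)) (.node (.leaf (nat_lit 1301)) (.leaf (nat_lit 432)))) (.leaf (nat_lit 0)))) (.node (.leaf (nat_lit 1187)) (.node (.leaf (nat_lit 1015)) (.leaf (nat_lit 556)))))) (.node (.node (.leaf (nat_lit 1475)) (.node (.node (.node (.leaf (nat_lit 666)) (.leaf (nat_lit 1248))) (.leaf (nat_lit 0))) (.leaf (nat_lit 1150)))) (.node (.node (.node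 (.node (.leaf (nat_lit 0)) (.node (.leaf (nat_lit 526)) (.leaf (nat_lit 940)))) (.leaf (nat_lit 823))) (.leaf (nat_lit 635))) (.node (.leaf (nat_lit 284)) (.node (.node (.leaf (nat_lit 570)) (.node (.leaf (nat_lit 1373)) (.leaf (nat_lit 1056)))) (.leaf (nat_lit 0)))))))) (.node (.node (.node (.node (.node (.node (.leaf (nat_lit 457)) (.leaf (nat_lit 541))) (.node (.node (.leaf (nat_lit 56)) (.leaf (nat_lit 975))) (.leaf (nat_lit 1048)))) (.leaf (nat_lit 105))) (.node (.node (.node (.leaf (nat_lit 424)) (.node (.leaf (nat_lit 114)) (.leaf (nat_lit 375)))) (.leaf (nat_lit 997))) (.leaf (nat_lit 1523)))) (.node (.node (.node (.leaf (nat_lit 0)) (.node (.leaf (nat_lit 0)) (.node (.node (.node (.leaf (nat_lit 683)) (.leaf (nat_lit 417))) (.leaf (nat_lit 0))) (.leaf (nat_lit 0))))) (.node (.node (.leaf (nat_lit 25)) (.leaf (nat_lit 1405))) (.node (.node (.node (.leaf (nat_lit 1218)) (.leaf (nat_lit 632))) (.leaf (nat_lit 615))) (.leaf (nat_lit 16))))) (.node (.node (.node (.node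 (.leaf (nat_lit 1448)) (.leaf (nat_lit 1379))) (.leaf (nat_lit 0))) (.leaf (nat_lit 817))) (.node (.leaf (nat_lit 1170)) (.leaf (nat_lit 1041)))))) (.node (.node (.node (.node (.node (.leaf (nat_lit 566)) (.node (.leaf (nat_lit 0)) (.node (.leaf (nat_lit 579)) (.leaf (nat_lit 1154))))) (.leaf (nat_lit 0))) (.leaf (nat_lit 983))) (.node (.node (.leaf (nat_lit 0)) (.node (.leaf (nat_lit 0)) (.node (.leaf (nat_lit 1149)) (.leaf (nat_lit 458))))) (.node (.leaf (nat_lit 747)) (.leaf (nat_lit 47))))) (.node (.node (.leaf (nat_lit 1367)) (.node (.node (.leaf (nat_lit 0)) (.node (.leaf (nat_lit 189)) (.leaf (nat_lit 770)))) (.leaf (nat_lit 0)))) (.node (.node (.leaf (nat_lit 1319)) (.node (.leaf (nat_lit 771)) (.leaf (nat_lit 910)))) (.leaf (nat_lit 1317))))))))) (.node (.node (.node (.node (.node (.node (.node (.node (.leaf (nat_lit 366)) (.node (.node (.node (.node (.leaf (nat_lit 732)) (.leaf (nat_lit 669))) (.leaf (nat_lit 0))) (.leaf (nat_lit 0))) (.leaf (nat_lit 235))))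 (.node (.node (.leaf (nat_lit 586)) (.leaf (nat_lit 867))) (.leaf (nat_lit 1271)))) (.node (.node (.node (.leaf (nat_lit 0)) (.node (.node (.node (.leaf (nat_lit 1524)) (.leaf (nat_lit 1245))) (.leaf (nat_lit 0))) (.leaf (nat_lit 0)))) (.leaf (nat_lit 0))) (.node (.leaf (nat_lit 246)) (.node (.leaf (nat_lit 974)) (.node (.node (.leaf (nat_lit 1442)) (.leaf (nat_lit 939))) (.leaf (nat_lit 0))))))) (.node (.node (.node (.leaf (nat_lit 0)) (.node (.node (.leaf (nat_lit 1450)) (.leaf (nat_lit 494))) (.leaf (nat_lit 531)))) (.node (.leaf (nat_lit 0)) (.node (.node (.node (.node (.leaf (nat_lit 276)) (.leaf (nat_lit 45))) (.leaf (nat_lit 0))) (.leaf (nat_lit 0))) (.leaf (nat_lit 211))))) (.node (.node (.node (.leaf (nat_lit 333)) (.node (.leaf (nat_lit 1027)) (.leaf (nat_lit 1070)))) (.leaf (nat_lit 462))) (.leaf (nat_lit 1463))))) (.node (.node (.node (.node (.node (.leaf (nat_lit 0)) (.node (.leaf (nat_lit 179)) (.leaf (nat_lit 1016)))) (.node (.node (.leaf (nat_lit 895))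 (.leaf (nat_lit 697))) (.leaf (nat_lit 388)))) (.node (.node (.node (.leaf (nat_lit 642)) (.leaf (nat_lit 528))) (.leaf (nat_lit 0))) (.leaf (nat_lit 0)))) (.node (.node (.leaf (nat_lit 1489)) (.node (.leaf (nat_lit 0)) (.node (.node (.node (.leaf (nat_lit 744)) (.leaf (nat_lit 351))) (.leaf (nat_lit 0))) (.node (.leaf (nat_lit 690)) (.leaf (nat_lit 824)))))) (.leaf (nat_lit 1307)))) (.node (.node (.leaf (nat_lit 0)) (.node (.node (.leaf (nat_lit 0)) (.node (.leaf (nat_lit 495)) (.leaf (nat_lit 680)))) (.node (.node (.leaf (nat_lit 1519)) (.leaf (nat_lit 1225))) (.node (.node (.node (.leaf (nat_lit 28)) (.leaf (nat_lit 781))) (.leaf (nat_lit 0))) (.leaf (nat_lit 0)))))) (.node (.node (.node (.leaf (nat_lit 1135)) (.leaf (nat_lit 772))) (.leaf (nat_lit 851))) (.node (.leaf (nat_lit 0)) (.node (.leaf (nat_lit 0)) (.node (.node (.node (.leaf (nat_lit 1296)) (.leaf (nat_lit 1263))) (.leaf (nat_lit 0))) (.leaf (nat_lit 618))))))))) (.node (.node (.node (.node (.node (.node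 (.node (.leaf (nat_lit 180)) (.leaf (nat_lit 685))) (.leaf (nat_lit 19))) (.node (.node (.leaf (nat_lit 774)) (.leaf (nat_lit 856))) (.leaf (nat_lit 1527)))) (.node (.leaf (nat_lit 657)) (.leaf (nat_lit 10)))) (.node (.node (.node (.node (.leaf (nat_lit 32)) (.leaf (nat_lit 1359))) (.leaf (nat_lit 1384))) (.node (.node (.leaf (nat_lit 12)) (.leaf (nat_lit 1021))) (.leaf (nat_lit 0)))) (.node (.node (.leaf (nat_lit 538)) (.leaf (nat_lit 689))) (.leaf (nat_lit 270))))) (.node (.node (.node (.node (.leaf (nat_lit 610)) (.leaf (nat_lit 329))) (.leaf (nat_lit 1521))) (.node (.node (.node (.leaf (nat_lit 900)) (.leaf (nat_lit 373))) (.leaf (nat_lit 763))) (.node (.leaf (nat_lit 568)) (.leaf (nat_lit 519))))) (.node (.node (.leaf (nat_lit 1350)) (.node (.leaf (nat_lit 979)) (.leaf (nat_lit 977)))) (.node (.leaf (nat_lit 1095)) (.leaf (nat_lit 1305)))))) (.node (.node (.node (.node (.node (.leaf (nat_lit 1159)) (.node (.node (.leaf (nat_lit 1012)) (.leaf (nat_lit 718))) (.leaf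 (nat_lit 0)))) (.leaf (nat_lit 0))) (.node (.node (.leaf (nat_lit 596)) (.leaf (nat_lit 1485))) (.node (.leaf (nat_lit 0)) (.node (.node (.leaf (nat_lit 288)) (.leaf (nat_lit 821))) (.leaf (nat_lit 0)))))) (.node (.node (.leaf (nat_lit 1272)) (.node (.node (.leaf (nat_lit 837)) (.leaf (nat_lit 746))) (.leaf (nat_lit 1294)))) (.node (.leaf (nat_lit 0)) (.node (.leaf (nat_lit 1244)) (.leaf (nat_lit 623)))))) (.node (.node (.node (.leaf (nat_lit 917)) (.node (.leaf (nat_lit 1484)) (.leaf (nat_lit 1151)))) (.node (.node (.node (.leaf (nat_lit 799)) (.leaf (nat_lit 1058))) (.node (.node (.leaf (nat_lit 364)) (.leaf (nat_lit 286))) (.leaf (nat_lit 0)))) (.leaf (nat_lit 0)))) (.node (.node (.leaf (nat_lit 1103)) (.node (.leaf (nat_lit 340)) (.leaf (nat_lit 1087)))) (.node (.node (.leaf (nat_lit 0)) (.node (.node (.leaf (nat_lit 1104)) (.leaf (nat_lit 77))) (.leaf (nat_lit 0)))) (.node (.node (.leaf (nat_lit 1077)) (.leaf (nat_lit 146))) (.leaf (nat_lit 0))))))))) (.node (.node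 (.node (.node (.node (.node (.node (.leaf (nat_lit 634)) (.leaf (nat_lit 281))) (.leaf (nat_lit 513))) (.node (.node (.leaf (nat_lit 420)) (.leaf (nat_lit 91))) (.leaf (nat_lit 558)))) (.node (.node (.leaf (nat_lit 150)) (.node (.node (.leaf (nat_lit 514)) (.leaf (nat_lit 1526))) (.node (.leaf (nat_lit 459)) (.leaf (nat_lit 905))))) (.leaf (nat_lit 84)))) (.node (.node (.node (.leaf (nat_lit 0)) (.node (.leaf (nat_lit 1212)) (.leaf (nat_lit 67)))) (.node (.node (.node (.leaf (nat_lit 562)) (.leaf (nat_lit 638))) (.node (.leaf (nat_lit 1227)) (.leaf (nat_lit 1505)))) (.leaf (nat_lit 273)))) (.node (.leaf (nat_lit 321)) (.node (.leaf (nat_lit 654)) (.node (.node (.leaf (nat_lit 1267)) (.leaf (nat_lit 158))) (.node (.leaf (nat_lit 483)) (.leaf (nat_lit 1169)))))))) (.node (.node (.node (.node (.node (.node (.leaf (nat_lit 354)) (.node (.leaf (nat_lit 1445)) (.leaf (nat_lit 840)))) (.leaf (nat_lit 0))) (.leaf (nat_lit 140))) (.node (.node (.leaf (nat_lit 223)) (.node (.node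 (.leaf (nat_lit 94)) (.leaf (nat_lit 700))) (.leaf (nat_lit 0)))) (.leaf (nat_lit 875)))) (.node (.leaf (nat_lit 1043)) (.node (.node (.leaf (nat_lit 0)) (.node (.leaf (nat_lit 1032)) (.leaf (nat_lit 450)))) (.leaf (nat_lit 478))))) (.node (.node (.node (.leaf (nat_lit 0)) (.node (.leaf (nat_lit 967)) (.node (.node (.leaf (nat_lit 550)) (.leaf (nat_lit 148))) (.leaf (nat_lit 0))))) (.node (.leaf (nat_lit 1493)) (.leaf (nat_lit 1172)))) (.node (.node (.leaf (nat_lit 524)) (.node (.leaf (nat_lit 0)) (.node (.node (.leaf (nat_lit 701)) (.leaf (nat_lit 816))) (.leaf (nat_lit 330))))) (.node (.leaf (nat_lit 1331)) (.node (.node (.node (.leaf (nat_lit 1198)) (.leaf (nat_lit 1084))) (.leaf (nat_lit 0))) (.leaf (nat_lit 1231)))))))) (.node (.node (.node (.node (.node (.leaf (nat_lit 1473)) (.leaf (nat_lit 954))) (.node (.node (.leaf (nat_lit 376)) (.node (.leaf (nat_lit 1451)) (.leaf (nat_lit 800)))) (.leaf (nat_lit 577)))) (.node (.node (.leaf (nat_lit 0)) (.node (.node (.node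 (.node (.leaf (nat_lit 923)) (.leaf (nat_lit 1089))) (.leaf (nat_lit 0))) (.leaf (nat_lit 0))) (.leaf (nat_lit 0)))) (.node (.node (.leaf (nat_lit 1477)) (.leaf (nat_lit 1))) (.node (.leaf (nat_lit 40)) (.node (.leaf (nat_lit 399)) (.leaf (nat_lit 872))))))) (.node (.node (.node (.node (.leaf (nat_lit 1285)) (.leaf (nat_lit 1129))) (.node (.leaf (nat_lit 1264)) (.node (.leaf (nat_lit 735)) (.leaf (nat_lit 128))))) (.leaf (nat_lit 33))) (.node (.node (.node (.node (.leaf (nat_lit 42)) (.leaf (nat_lit 231))) (.leaf (nat_lit 640))) (.node (.leaf (nat_lit 1213)) (.leaf (nat_lit 369)))) (.node (.leaf (nat_lit 145)) (.leaf (nat_lit 1283)))))) (.node (.node (.node (.node (.leaf (nat_lit 717)) (.leaf (nat_lit 1109))) (.node (.leaf (nat_lit 0)) (.node (.leaf (nat_lit 1126)) (.leaf (nat_lit 1107))))) (.node (.leaf (nat_lit 767)) (.node (.node (.node (.leaf (nat_lit 213)) (.leaf (nat_lit 170))) (.leaf (nat_lit 1054))) (.leaf (nat_lit 0))))) (.node (.node (.node (.node (.node (.leaf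 (nat_lit 0)) (.node (.leaf (nat_lit 363)) (.leaf (nat_lit 1298)))) (.leaf (nat_lit 118))) (.leaf (nat_lit 0))) (.node (.leaf (nat_lit 1199)) (.leaf (nat_lit 1205)))) (.node (.node (.leaf (nat_lit 0)) (.node (.node (.leaf (nat_lit 477)) (.leaf (nat_lit 362))) (.leaf (nat_lit 0)))) (.node (.leaf (nat_lit 1347)) (.leaf (nat_lit 119))))))))) (.node (.node (.node (.node (.node (.node (.leaf (nat_lit 1428)) (.node (.leaf (nat_lit 510)) (.node (.leaf (nat_lit 1430)) (.node (.leaf (nat_lit 641)) (.leaf (nat_lit 915)))))) (.node (.node (.node (.leaf (nat_lit 1090)) (.node (.leaf (nat_lit 65)) (.leaf (nat_lit 411)))) (.leaf (nat_lit 0))) (.node (.node (.leaf (nat_lit 876)) (.leaf (nat_lit 307))) (.leaf (nat_lit 822))))) (.node (.node (.node (.node (.leaf (nat_lit 0)) (.node (.leaf (nat_lit 614)) (.leaf (nat_lit 1387)))) (.leaf (nat_lit 918))) (.leaf (nat_lit 1162))) (.node (.node (.leaf (nat_lit 0)) (.node (.leaf (nat_lit 60)) (.leaf (nat_lit 283)))) (.node (.node (.node (.leaf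 (nat_lit 1094)) (.leaf (nat_lit 202))) (.node (.leaf (nat_lit 1289)) (.leaf (nat_lit 1443)))) (.leaf (nat_lit 0)))))) (.node (.node (.node (.node (.leaf (nat_lit 1273)) (.node (.leaf (nat_lit 0)) (.node (.node (.leaf (nat_lit 368)) (.leaf (nat_lit 906))) (.leaf (nat_lit 1200))))) (.leaf (nat_lit 1403))) (.node (.node (.node (.node (.node (.leaf (nat_lit 965)) (.leaf (nat_lit 384))) (.leaf (nat_lit 1098))) (.leaf (nat_lit 0))) (.leaf (nat_lit 1196))) (.node (.node (.node (.leaf (nat_lit 385)) (.leaf (nat_lit 439))) (.leaf (nat_lit 1156))) (.node (.node (.leaf (nat_lit 1352)) (.leaf (nat_lit 539))) (.leaf (nat_lit 0)))))) (.node (.node (.node (.node (.leaf (nat_lit 679)) (.leaf (nat_lit 628))) (.leaf (nat_lit 395))) (.node (.leaf (nat_lit 764)) (.node (.leaf (nat_lit 0)) (.node (.leaf (nat_lit 1074)) (.leaf (nat_lit 360)))))) (.node (.node (.leaf (nat_lit 176)) (.node (.node (.leaf (nat_lit 1441)) (.leaf (nat_lit 1327))) (.leaf (nat_lit 244)))) (.node (.leaf (nat_lit 845))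 (.leaf (nat_lit 716))))))) (.node (.node (.node (.node (.node (.node (.node (.leaf (nat_lit 999)) (.leaf (nat_lit 248))) (.leaf (nat_lit 1024))) (.leaf (nat_lit 1261))) (.node (.leaf (nat_lit 1145)) (.leaf (nat_lit 1254)))) (.node (.node (.leaf (nat_lit 1257)) (.leaf (nat_lit 58))) (.node (.node (.leaf (nat_lit 832)) (.leaf (nat_lit 344))) (.node (.leaf (nat_lit 217)) (.leaf (nat_lit 1141)))))) (.node (.node (.node (.leaf (nat_lit 0)) (.node (.leaf (nat_lit 505)) (.leaf (nat_lit 1337)))) (.node (.leaf (nat_lit 639)) (.leaf (nat_lit 825)))) (.node (.node (.node (.leaf (nat_lit 1501)) (.leaf (nat_lit 481))) (.node (.leaf (nat_lit 1480)) (.node (.leaf (nat_lit 488)) (.leaf (nat_lit 1191))))) (.node (.leaf (nat_lit 1425)) (.node (.leaf (nat_lit 305)) (.leaf (nat_lit 1210))))))) (.node (.node (.node (.node (.leaf (nat_lit 0)) (.node (.node (.leaf (nat_lit 1202)) (.leaf (nat_lit 573))) (.leaf (nat_lit 1510)))) (.node (.leaf (nat_lit 245)) (.node (.leaf (nat_lit 188)) (.leaf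 (nat_lit 1079))))) (.node (.node (.node (.leaf (nat_lit 236)) (.leaf (nat_lit 1269))) (.leaf (nat_lit 365))) (.node (.leaf (nat_lit 0)) (.node (.leaf (nat_lit 670)) (.leaf (nat_lit 703)))))) (.node (.node (.node (.leaf (nat_lit 647)) (.leaf (nat_lit 631))) (.node (.leaf (nat_lit 0)) (.node (.node (.leaf (nat_lit 818)) (.leaf (nat_lit 933))) (.leaf (nat_lit 0))))) (.node (.node (.node (.node (.node (.leaf (nat_lit 819)) (.leaf (nat_lit 602))) (.leaf (nat_lit 0))) (.leaf (nat_lit 70))) (.leaf (nat_lit 0))) (.node (.node (.leaf (nat_lit 572)) (.leaf (nat_lit 743))) (.leaf (nat_lit 461)))))))) (.node (.node (.node (.node (.node (.node (.leaf (nat_lit 54)) (.node (.node (.leaf (nat_lit 254)) (.leaf (nat_lit 154))) (.leaf (nat_lit 449)))) (.node (.node (.leaf (nat_lit 1023)) (.leaf (nat_lit 1360))) (.node (.node (.leaf (nat_lit 1381)) (.leaf (nat_lit 300))) (.leaf (nat_lit 0))))) (.node (.node (.node (.node (.leaf (nat_lit 445)) (.leaf (nat_lit 540))) (.leaf (nat_lit 115)))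 (.node (.node (.leaf (nat_lit 400)) (.leaf (nat_lit 198))) (.leaf (nat_lit 0)))) (.node (.leaf (nat_lit 1113)) (.leaf (nat_lit 106))))) (.node (.node (.leaf (nat_lit 945)) (.node (.leaf (nat_lit 1110)) (.node (.node (.leaf (nat_lit 518)) (.leaf (nat_lit 1483))) (.leaf (nat_lit 713))))) (.node (.node (.node (.node (.leaf (nat_lit 1214)) (.leaf (nat_lit 1066))) (.leaf (nat_lit 785))) (.leaf (nat_lit 57))) (.node (.node (.node (.leaf (nat_lit 829)) (.leaf (nat_lit 756))) (.leaf (nat_lit 1219))) (.leaf (nat_lit 208)))))) (.node (.node (.node (.node (.node (.leaf (nat_lit 215)) (.leaf (nat_lit 1460))) (.leaf (nat_lit 0))) (.node (.node (.leaf (nat_lit 0)) (.node (.leaf (nat_lit 594)) (.leaf (nat_lit 1392)))) (.node (.leaf (nat_lit 890)) (.leaf (nat_lit 934))))) (.node (.node (.node (.leaf (nat_lit 583)) (.node (.leaf (nat_lit 0)) (.node (.leaf (nat_lit 1174)) (.leaf (nat_lit 1372))))) (.leaf (nat_lit 0))) (.node (.leaf (nat_lit 500)) (.node (.leaf (nat_lit 0)) (.node (.leaf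 (nat_lit 810)) (.node (.leaf (nat_lit 1229)) (.leaf (nat_lit 72)))))))) (.node (.node (.node (.node (.leaf (nat_lit 164)) (.leaf (nat_lit 506))) (.node (.leaf (nat_lit 0)) (.node (.leaf (nat_lit 786)) (.node (.leaf (nat_lit 293)) (.leaf (nat_lit 648)))))) (.node (.leaf (nat_lit 911)) (.node (.leaf (nat_lit 796)) (.leaf (nat_lit 1447))))) (.node (.node (.leaf (nat_lit 1277)) (.leaf (nat_lit 1268))) (.node (.node (.node (.leaf (nat_lit 1250)) (.leaf (nat_lit 343))) (.node (.leaf (nat_lit 0)) (.node (.leaf (nat_lit 190)) (.leaf (nat_lit 508))))) (.leaf (nat_lit 0))))))) (.node (.node (.node (.node (.leaf (nat_lit 947)) (.node (.node (.leaf (nat_lit 61)) (.leaf (nat_lit 97))) (.node (.leaf (nat_lit 256)) (.node (.node (.leaf (nat_lit 1146)) (.leaf (nat_lit 416))) (.leaf (nat_lit 855)))))) (.node (.node (.node (.leaf (nat_lit 0)) (.node (.leaf (nat_lit 1376)) (.leaf (nat_lit 1235)))) (.leaf (nat_lit 1153))) (.node (.node (.node (.leaf (nat_lit 168)) (.leaf (nat_lit 1314)))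 (.leaf (nat_lit 0))) (.leaf (nat_lit 1065))))) (.node (.node (.node (.node (.node (.node (.node (.leaf (nat_lit 936)) (.leaf (nat_lit 591))) (.leaf (nat_lit 0))) (.leaf (nat_lit 258))) (.leaf (nat_lit 1096))) (.leaf (nat_lit 757))) (.leaf (nat_lit 1499))) (.node (.leaf (nat_lit 0)) (.node (.node (.leaf (nat_lit 1168)) (.node (.leaf (nat_lit 1136)) (.leaf (nat_lit 135)))) (.node (.leaf (nat_lit 673)) (.leaf (nat_lit 325))))))) (.node (.node (.node (.leaf (nat_lit 1223)) (.node (.node (.node (.leaf (nat_lit 530)) (.leaf (nat_lit 789))) (.leaf (nat_lit 0))) (.leaf (nat_lit 0)))) (.node (.node (.leaf (nat_lit 1175)) (.node (.leaf (nat_lit 134)) (.leaf (nat_lit 171)))) (.leaf (nat_lit 1173)))) (.node (.node (.node (.leaf (nat_lit 0)) (.node (.node (.leaf (nat_lit 1130)) (.leaf (nat_lit 1125))) (.leaf (nat_lit 0)))) (.node (.node (.leaf (nat_lit 830)) (.leaf (nat_lit 987))) (.leaf (nat_lit 23)))) (.node (.leaf (nat_lit 0)) (.node (.leaf (nat_lit 0)) (.node (.leaf (nat_lit 1334))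 (.node (.leaf (nat_lit 0)) (.node (.leaf (nat_lit 1299)) (.leaf (nat_lit 938)))))))))))))))

theorem aO_pm [Finite G] (h0 : val 0 = 1) (hR : RelsHold val (RB ++ RZ [] [4]))
    (hc : Nat.card (gcl val 6) = 10752) : ∃ ψ, PM aOT aO_lv0 val ψ :=
  exists_pm (by simp) aO_tab aO_h0 (aO_tab.relsHold (by decide) (by decide +kernel)) (by decide +kernel)
    aO_chain0 (aO_chain0.card_eq_hash (by decide +kernel) 10261 (I := aO_I) (by decide +kernel))
    (by decide +kernel) (by decide +kernel) h0 hR hc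

theorem aH_f1 {ψ} (h : PM aHT aH_lv0 val ψ) : F1 val [[9, 9, 12, 8, 11], [9, 9, 12, 8, 11, 4, 4, 6, 6, 2, 2]] :=
  h.f1 (by decide) (by decide +kernel) (by decide +kernel) (by decide +kernel) (by decide +kernel)

theorem aO_f1 {ψ} (h : PM aOT aO_lv0 val ψ) : F1 val [] :=
  h.f1 (by decide) (by decide +kernel) (by decide +kernel) (by decide +kernel) (by decide +kernel)

theorem _root_.CfsgH9.WM.conj_of_memL {K : Type*} [Group K] {M : Model K} {vK : ℕ → K} {m n : ℕ}
    {ψ : gcl vK n →* G} (h : WM M T vK m n val ψ) (r : List ℕ) (hr : ∀ c ∈ r, c < 2 * n + 2)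
    {Cs : List (List ℕ)} (hC : WLt n Cs) {L : List ℕ}
    (e : Cs.map (fun w => M.wcode T (w ++ r ++ invW w)) = L) {g : G} {c : ℕ} (hg : Rep M ψ g c)
    (hc : memL L c = true) : ∃ k ∈ gcl val n, g = k * wval val r * k⁻¹ := by
  obtain ⟨w, hw, rfl⟩ := List.mem_map.1 (e ▸ memL_iff.1 hc)
  exact ⟨_, h.mem w (hC w hw), hg.eq (h.rep_conj w r (hC w hw) hr)⟩

theorem map_sub (φ : G →* G) {W W' : List (List ℕ)} {n : ℕ} (h0 : sub W val 0 = 1)
    (h0' : sub W' val 0 = 1) (h : ∀ i, 1 ≤ i → i ≤ n → φ (sub W val i) = sub W' val i) {x : List ℕ}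
    (hx : ∀ c ∈ x, c < 2 * n + 2) : φ (wval val (subW W x)) = wval val (subW W' x) := by
  rw [← wval_sub, ← wval_sub]
  exact map_wval_eq h0 h0' h hx

/-- the elements of an elementary abelian subgroup of order 16 -/
def EW (i : ℕ) : List ℕ := subW WL (XE.getD i [])

/-- the action of a word -/
def actW (g : List ℕ) (i : ℕ) : ℕ := g.foldr (fun c j => (FE.getD c []).getD j 0) i

/-- facts valid in the first extension -/
structure F2 (val : ℕ → G) : Prop where
  th : ∀ L : Subgroup G, Nat.card L = 64 → (∀ w ∈ WR, wval val w ∈ L) → ∀ φ : G →* G,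
    (∀ i, 1 ≤ i → i ≤ 5 → φ (sub WR val i) = sub WR' val i) → ∀ x ∈ L,
    eK val * x * (eK val)⁻¹ = φ x → x ∈ zpowers (val 1)
  ce : ∀ x ∈ PP val, x * eU val = eU val * x → x * eW val = eW val * x → x * val 6 = val 6 * x →
    ∃ i < 16, x = wval val (EW i)
  uw : ∀ x ∈ PP val, eU val * x ≠ x * eW val
  iv : ∀ x ∈ PP val, x * x = 1 → x ≠ 1 →
    (∃ k ∈ gcl val 6, x = k * (val 1 * val 1) * k⁻¹ ∨ x = k * eW val * k⁻¹) ∨
    (∃ k ∈ gcl val 6, x = k * wval val [12, 2] * k⁻¹) ∧
      ∃ k ∈ gcl val 6, val 1 * val 1 * x = k * wval val [12, 2] * k⁻¹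
  ei : ∀ i < 16, ∀ j < 16, wval val (EW i) = wval val (EW j) → i = j
  ac : ∀ c < 8, 4 ≤ c → ∀ i < 16, sval (sub WE val) c * wval val (EW i) * (sval (sub WE val) c)⁻¹ =
    wval val (EW (actW [c] i))
  ah : ∀ i < 16, wval val (subW WL' (XE.getD i [])) = wval val (EW (actW [2] i))
  r7 : RelsHold val R7m
  rp : RelsHold val (RPm.map (subW WP))
  t4 : wval val [8, 8, 8, 8, 2, 2, 9, 9, 9, 9] = wval val [4, 4, 6, 6]
  ka : eK val * eW val * (eK val)⁻¹ * eU val * eW val = val 1 * val 1
  de : wval val [9, 9, 12, 2, 2, 8, 11] = wval val [9, 9, 12, 8, 11, 4, 4, 6, 6, 2, 2]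
  dr : RelsHold val ((RB ++ RZ [] []).map (subW [[], [2], [4], [6], [8], [10], [12, 2, 2]]))

theorem aH_f2 [Finite G] {ψ} (h : PM aHT aH_lv0 val ψ) : F2 val := by
  have ru := wU (val := val) ▸ h.wm.rep [4, 4, 6, 6] (by decide)
  have rw' := wW (val := val) ▸ h.wm.rep [9, 9, 12, 8, 11] (by decide)
  have rz := wS (val := val) 6 ▸ h.wm.rep [2 * 6] (by decide)
  have rt := wT (val := val) ▸ h.wm.rep [2, 2] (by decide)
  have hE : ∀ i < 16, ∀ c ∈ EW i, c < 2 * 6 + 2 := by decide +kernel
  have hA : ∀ c < 8, ∀ i < 16, actW [c] i < 16 := by decide +kernel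
  refine ⟨fun L l1 l2 φ l3 x hx e => ?_, fun x hx e1 e2 e3 => ?_, fun x hx e => ?_,
    fun x hx e1 e2 => ?_, fun i hi j hj e => ?_, fun c c1 c2 i hi => ?_, fun i hi => ?_,
    h.wm.rels (by decide) (by decide +kernel), h.wm.rels (by decide +kernel) (by decide +kernel),
    h.wm.eq_of _ _ (by decide) (by decide +kernel), ?_, h.wm.eq_of _ _ (by decide) (by decide +kernel),
    h.wm.rels (by decide +kernel) (by decide +kernel)⟩
  · have k1 : ∀ w ∈ XR, WLt 6 [subW WR w, subW WR' w] ∧ ∀ c ∈ w, c < 2 * 5 + 2 := by decide +kernel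
    have k2 : ∀ w ∈ XR, wval val (subW WR w) ∈ L := fun w hw => by
      rw [← wval_sub]
      refine (gcl_le fun a _ a2 => l2 _ ?_ : gcl (sub WR val) 5 ≤ L) (wval_mem_gcl rfl (k1 w hw).2)
      rw [List.getD_eq_getElem _ _ (show a < WR.length from Nat.lt_succ_of_le a2)]
      exact List.getElem_mem _
    have k3 := fun w hw => h.wm.rep (subW WR w) ((k1 w hw).1 _ List.mem_cons_self)
    obtain ⟨i, hi⟩ := ((Nat.bijective_iff_injective_and_card (fun i : Fin XR.length =>
      (⟨_, k2 _ (List.getElem_mem i.2)⟩ : L))).2 ⟨fun i j e => Fin.ext (((by decide +kernel :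
        (XR.map fun w => aM.wcode aHT (subW WR w)).Nodup).getElem_inj_iff (i := i) (j := j)
        (hi := by simp) (hj := by simp)).1 (by
          simpa using Nat.eq_of_beq_eq_true ((k3 _ (List.getElem_mem i.2)).beq h.inj
            (k3 _ (List.getElem_mem j.2)) (congrArg Subtype.val e)))),
      by rw [l1, Nat.card_fin]; rfl⟩).2 ⟨x, hx⟩
    obtain rfl : wval val (subW WR XR[i.1]) = x := congrArg Subtype.val hi
    have hi := List.getElem_mem i.2
    rw [← wK, map_sub φ rfl rfl l3 (k1 _ hi).2] at e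
    exact mem_zp (h.wm.of_memL l1W (by decide) (k3 _ hi) ((by decide +kernel : ∀ w ∈ XR,
      Nat.beq (aM.wcode aHT ([12, 4, 7] ++ subW WR w ++ invW [12, 4, 7])) (aM.wcode aHT (subW WR' w)) =
      true → memL (l1W.map (aM.wcode aHT)) (aM.wcode aHT (subW WR w)) = true) _ hi
      ((h.wm.rep_conj _ _ (by decide) ((k1 _ hi).1 _ List.mem_cons_self)).beq h.inj
        (h.wm.rep _ ((k1 _ hi).1 _ (by simp))) e)))
  · obtain ⟨c, r, k⟩ := h.all (fun c => bimp (aM.cm c (aM.wcode aHT [4, 4, 6, 6]))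
      (bimp (aM.cm c (aM.wcode aHT [9, 9, 12, 8, 11])) (bimp (aM.cm c (aM.wcode aHT [12]))
      (memL (((List.range 16).map EW).map (aM.wcode aHT)) c)))) (by decide +kernel) x hx
    obtain ⟨w, hw, e⟩ := h.wm.of_memL _ (by decide +kernel) r (bimp_iff.1 (bimp_iff.1 (bimp_iff.1 k
      (r.cm h.inj ru e1)) (r.cm h.inj rw' e2)) (r.cm h.inj rz e3))
    obtain ⟨i, hi, rfl⟩ := List.mem_map.1 hw
    exact ⟨i, List.mem_range.1 hi, e⟩
  · obtain ⟨c, r, k⟩ := h.all (fun c => bnot (Nat.beq (aM.mul (aM.wcode aHT [4, 4, 6, 6]) c)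
      (aM.mul c (aM.wcode aHT [9, 9, 12, 8, 11])))) (by decide +kernel) x hx
    exact (ru.mul r).ne h.inj (r.mul rw') k e
  · obtain ⟨c, r, k⟩ := h.all (fun c => bimp (aM.o2 c) (bimp (bnot (Nat.beq c aM.one))
      (bor (bor (memL LA c) (memL LB c)) (band (memL LU c) (memL LU (aM.mul (aM.wcode aHT [2, 2]) c))))))
      (by decide +kernel) x hx
    have hU : CU.map (fun w => aM.wcode aHT (w ++ [12, 2] ++ invW w)) = LU := by decide +kernel
    rcases bor_iff.1 (bimp_iff.1 (bimp_iff.1 k (r.o2 h.inj e1)) (r.bne Rep.one e2)) with k | k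
    · rcases bor_iff.1 k with k | k
      · obtain ⟨g, hg, e⟩ := h.wm.conj_of_memL [2, 2] (by decide) (Cs := CA) (by decide +kernel)
          (by decide +kernel) r k
        exact Or.inl ⟨g, hg, Or.inl (wT (val := val) ▸ e)⟩
      · obtain ⟨g, hg, e⟩ := h.wm.conj_of_memL [9, 9, 12, 8, 11] (by decide) (Cs := CB)
          (by decide +kernel) (by decide +kernel) r k
        exact Or.inl ⟨g, hg, Or.inr (wW (val := val) ▸ e)⟩
    · exact Or.inr ⟨h.wm.conj_of_memL _ (by decide) (by decide +kernel) hU r (band_iff.1 k).1,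
        h.wm.conj_of_memL _ (by decide) (by decide +kernel) hU (rt.mul r) (band_iff.1 k).2⟩
  · exact (by decide +kernel : ∀ i < 16, ∀ j < 16, Nat.beq (aM.wcode aHT (EW i))
      (aM.wcode aHT (EW j)) = true → i = j) i hi j hj
      ((h.wm.rep _ (hE i hi)).beq h.inj (h.wm.rep _ (hE j hj)) e)
  · rw [show sval (sub WE val) c = wval val (subW WE [c]) by rw [← wval_sub]; simp]
    exact (h.wm.rep_conj _ _ ((by decide +kernel : ∀ c < 8, 4 ≤ c → ∀ d ∈ subW WE [c], d < 2 * 6 + 2)
      c c1 c2) (hE i hi)).eq' (h.wm.rep _ (hE _ (hA c c1 i hi))) ((by decide +kernel : ∀ c < 8, 4 ≤ c →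
      ∀ i < 16, Nat.beq (aM.wcode aHT (subW WE [c] ++ EW i ++ invW (subW WE [c])))
        (aM.wcode aHT (EW (actW [c] i))) = true) c c1 c2 i hi)
  · exact h.wm.eq_of _ _ ⟨(by decide +kernel : ∀ i < 16, ∀ c ∈ subW WL' (XE.getD i []), c < 2 * 6 + 2)
      i hi, hE _ (hA 2 (by norm_num) i hi)⟩ ((by decide +kernel : ∀ i < 16, Nat.beq
      (aM.wcode aHT (subW WL' (XE.getD i []))) (aM.wcode aHT (EW (actW [2] i))) = true) i hi)
  · have := h.wm.eq_of ([12, 4, 7] ++ [9, 9, 12, 8, 11] ++ invW [12, 4, 7] ++ [4, 4, 6, 6] ++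
      [9, 9, 12, 8, 11]) [2, 2] (by decide) (by decide +kernel)
    rwa [wval_append, wval_append, wval_append, wval_append, wval_invW, wK, wW, wU, wT] at this

end CfsgH9.Hs
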