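import Cfsg.Agent.H9.HsH
import Cfsg.Agent.H8.M24Nse
import Cfsg.Agent.FT.BG45_a

/-! The recognition of the Higman–Sims group. -/

set_option autoImplicit false
set_option maxRecDepth 100000

namespace CfsgH9.Hs

open Cfsg Subgroup CfsgFT CfsgH5 CfsgH3.TC CfsgH9.Golay CfsgWitt CfsgLch Spor MulAction

section

variable {G : Type*} [Group G]

theorem dih_pow {a b : G} (ha : a * a = 1) (hb : b * b = 1) (k : ℕ) :
    (b * (a * b) ^ k = ((a * b) ^ k)⁻¹ * b) ∧ a * (a * b) ^ k = ((a * b) ^ k)⁻¹ * a := by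
  have ea := inv_eq_of_mul_eq_one_right ha
  have eb := inv_eq_of_mul_eq_one_right hb
  constructor
  · rw [← mul_inv_eq_iff_eq_mul, ← conj_pow, ← inv_pow, mul_inv_rev, ea, eb, mul_assoc, mul_assoc,
      hb, mul_one]
  · rw [← mul_inv_eq_iff_eq_mul, ← conj_pow, ← inv_pow, mul_inv_rev, ea, eb, ← mul_assoc, ha,
      one_mul]

theorem dih_odd {a b : G} (ha : a * a = 1) (hb : b * b = 1) (h : ¬ 2 ∣ orderOf (a * b)) :
    ∃ j, j * j = 1 ∧ j * b * j⁻¹ = a := by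
  obtain ⟨m, hm⟩ := Nat.not_even_iff_odd.mp (by rwa [even_iff_two_dvd])
  have h1 := (dih_pow ha hb (m + 1)).1
  have h2 : b * ((a * b) ^ (m + 1))⁻¹ = (a * b) ^ (m + 1) * b := by
    rw [mul_inv_eq_iff_eq_mul, mul_assoc, h1, mul_inv_cancel_left]
  refine ⟨(a * b) ^ (m + 1) * b, by rw [mul_assoc, ← mul_assoc b, h1, mul_assoc, hb]; group, ?_⟩
  rw [mul_inv_rev, ← mul_assoc, mul_inv_cancel_right, mul_assoc, h2, ← mul_assoc, ← pow_add,
    show m + 1 + (m + 1) = 2 * m + 1 + 1 by ring, ← hm, pow_succ, pow_orderOf_eq_one, one_mul,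
    mul_assoc, hb, mul_one]

theorem dih_cj {a b : G} (ha : a * a = 1) (hb : b * b = 1) (k : ℕ) :
    IsConj b (b * (a * b) ^ k) ∨ IsConj a (b * (a * b) ^ k) := by
  obtain ⟨m, rfl | rfl⟩ := Nat.even_or_odd' k <;> obtain ⟨e1, e2⟩ := dih_pow ha hb m
  · exact Or.inl (isConj_iff.2 ⟨((a * b) ^ m)⁻¹, by rw [← e1, two_mul, pow_add]; group⟩)
  refine Or.inr (isConj_iff.2 ⟨((a * b) ^ m)⁻¹ * b, ?_⟩)
  rw [pow_succ', two_mul, pow_add, mul_inv_rev, inv_inv, inv_eq_of_mul_eq_one_right hb]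
  generalize (a * b) ^ m = c at e1 e2
  calc _ = b * c * (a * c) * c⁻¹ * (b * c) := by rw [← e1]; group
    _ = b * (a * (c⁻¹ * b * c)) := by rw [e2]; group
    _ = _ := by rw [← e1]; group

theorem cj_sq {u : G} (h : u * u = 1) (g : G) : g * u * g⁻¹ * (g * u * g⁻¹) = 1 := by
  rw [conj_mul, h, mul_one, mul_inv_cancel]

theorem cj_of (g u : G) : IsConj u (g * u * g⁻¹) := isConj_iff.2 ⟨g, rfl⟩

variable [Finite G]

theorem exists_trans {H : Subgroup G} {t : G} (t2 : t * t = 1)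
    (h1 : ∀ s ∈ H, IsConj t s → ∃ k ∈ H, k * t * k⁻¹ = s) (h2 : C1 t ≤ H)
    (h0 : ∀ z ∈ C1 t, z * z = 1 → z ≠ 1 → IsConj t (t * z) → IsConj t z) (h3 : H ≠ ⊤) :
    ∃ D ≤ H, (∀ s ∈ D, ¬ IsConj t s) ∧ (C1 t).relIndex H ∣ Nat.card D := by
  have ht := h2 (self_mem_C1 t)
  have key : ∀ g, ∀ s ∈ H, IsConj t s → g * s * g⁻¹ ∈ H → g ∈ H := fun g s a b d => by
    obtain ⟨k, hk, rfl⟩ := h1 s a b
    obtain ⟨l, hl, e⟩ := h1 _ d (b.trans (cj_of _ _))
    have : l⁻¹ * g * k ∈ H := h2 (mem_C1.2 (by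
      calc _ = l⁻¹ * (g * (k * t * k⁻¹) * g⁻¹) * g * k := by group
        _ = _ := by rw [← e]; group))
    simpa [mul_assoc] using mul_mem (mul_mem hl this) (inv_mem hk)
  obtain ⟨g, hg⟩ : ∃ g, g ∉ H := not_forall.1 (mt (eq_top_iff' H).2 h3)
  have w1 : g * t * g⁻¹ ∉ H := mt (key g t ht (IsConj.refl t)) hg
  have w2 := cj_sq t2 g
  have w3 := cj_of g t
  generalize g * t * g⁻¹ = w at w1 w2 w3
  have h4 : ∀ s ∈ H, IsConj t s → ∃ j, j * j = 1 ∧ j * s * j⁻¹ = w := fun s a b => by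
    obtain ⟨l, -, rfl⟩ := h1 s a b
    have c := cj_sq t2 l
    refine dih_odd w2 c fun h => ?_
    obtain ⟨z, hz⟩ := exists_prime_orderOf_dvd_card' 2 (h.trans (Nat.card_zpowers _).symm.dvd)
    obtain ⟨k, e⟩ := (mem_powers_iff_mem_zpowers.2 z.2 :)
    simp only at e
    rw [← Subgroup.orderOf_coe, orderOf_eq_prime_iff, pow_two, ← e] at hz
    obtain ⟨e1, e2⟩ := dih_pow w2 c k
    have e3 := (dih_cj w2 c k).elim b.trans w3.trans
    rw [inv_eq_of_mul_eq_one_right hz.1] at e1 e2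
    generalize (w * (l * t * l⁻¹)) ^ k = z at hz e1 e2 e3
    have e4 := key _ _ a b (by rwa [← e1, mul_inv_cancel_right])
    refine w1 (key w _ e4 ((h0 (l⁻¹ * z * l⁻¹⁻¹) (mem_C1.2 ?_) (cj_sq hz.1 _) (mt conj_eq_one_iff.1 hz.2)
      (e3.trans (isConj_iff.2 ⟨l⁻¹, by group⟩))).trans (cj_of _ _).symm)
      (by rwa [e2, mul_inv_cancel_right]))
    calc _ = l⁻¹ * (z * (l * t * l⁻¹)) * l := by group
      _ = _ := by rw [← e1]; group
  obtain ⟨j, j1, j2⟩ := h4 t ht (IsConj.refl t)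
  refine ⟨H ⊓ H.comap (MulAut.conj j).toMonoidHom, inf_le_left, fun a ha e => ?_, ?_⟩
  · have := key j a ha.1 e ha.2
    exact w1 (j2 ▸ mul_mem (mul_mem this ht) (inv_mem this))
  have h5 : ∀ L : Subgroup G, (C1 t).relIndex L = (orbit L ((1 : G) : G ⧸ C1 t)).ncard := fun L => by
    rw [← index_stabilizer, relIndex]
    congr 1
    ext x
    exact (SetLike.ext_iff.1 (stabilizer_quotient (C1 t)) x.1).symm
  refine (dvd_of_eq ?_).trans (relIndex_dvd_card (C1 t) _)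
  rw [h5, h5]
  congr 1
  refine Set.Subset.antisymm ?_ fun _ ⟨a, e⟩ => ⟨⟨a, a.2.1⟩, e⟩
  rintro _ ⟨⟨k, hk⟩, rfl⟩
  have k1 := mul_mem (mul_mem hk ht) (inv_mem hk)
  obtain ⟨i, i1, i2⟩ := h4 _ k1 (cj_of k t)
  have k2 : i * j * t * (i * j)⁻¹ = k * t * k⁻¹ :=
    calc _ = i * (j * t * j⁻¹) * i⁻¹ := by group
      _ = i * i * (k * t * k⁻¹) * (i * i)⁻¹ := by rw [j2, ← i2]; group
      _ = _ := by rw [i1]; group
  have k3 := key _ t ht (IsConj.refl t) (k2 ▸ k1)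
  refine ⟨⟨i * j, k3, ?_⟩, QuotientGroup.eq.2 (mem_C1.2 ?_)⟩
  · change j * (i * j) * j⁻¹ ∈ H
    rw [← inv_mem_iff, show (j * (i * j) * j⁻¹)⁻¹ = i⁻¹ * j⁻¹ by group,
      inv_eq_of_mul_eq_one_right i1, inv_eq_of_mul_eq_one_right j1]
    exact k3
  · change (i * j * 1)⁻¹ * (k * 1) * t = t * ((i * j * 1)⁻¹ * (k * 1))
    calc _ = (i * j)⁻¹ * (k * t * k⁻¹) * k := by group
      _ = _ := by rw [← k2]; group

theorem exists_cj_mem {P L : Subgroup G} (h : ¬ 2 ∣ P.relIndex L) {x : G} (hx : x ∈ L)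
    (x2 : x * x = 1) (x1 : x ≠ 1) : ∃ k ∈ L, k * x * k⁻¹ ∈ P := by
  obtain ⟨q, hq⟩ := (IsPGroup.of_card (p := 2) (n := 1) ((Nat.card_zpowers (⟨x, hx⟩ : L)).trans
    (orderOf_eq_prime (p := 2) (Subtype.ext ((pow_two x).trans x2)) fun e =>
      x1 (congrArg Subtype.val e)))).nonempty_fixed_point_of_prime_not_dvd_card
    (L ⧸ P.subgroupOf L) h
  obtain ⟨g, rfl⟩ := QuotientGroup.mk_surjective q
  exact ⟨_, inv_mem g.2, by
    simpa [mul_assoc, mem_subgroupOf] using QuotientGroup.eq.1 (hq ⟨_, mem_zpowers _⟩).symm⟩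

theorem card_p2 {p : ℕ} [Fact p.Prime] {a b g : G} (a1 : a ≠ 1) (ap : a ^ p = 1) (bp : b ^ p = 1)
    (ab : b * a = a * b) (ga : g * a = a * g) (gb : g * b ≠ b * g) :
    Nat.card (zpowers a ⊔ zpowers b :) = p * p := by
  rw [B45.card_sup_zpowers (p := p) (C_le_N _ (mem_C.2 fun x hx => (zp_cm ab hx).symm))
    (bp ▸ one_mem _) fun e => gb (zp_cm ga e), Nat.card_zpowers, orderOf_eq_prime ap a1]

theorem card_p3 {p : ℕ} [Fact p.Prime] {a b c : G} (hc : a * b * a⁻¹ * b⁻¹ = c) (c1 : c ≠ 1)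
    (ap : a ^ p = 1) (bp : b ^ p = 1) (cp : c ^ p = 1) (ac : a * c = c * a) (bc : b * c = c * b) :
    Nat.card (zpowers c ⊔ zpowers a ⊔ zpowers b :) = p * p * p := by
  have ab : b * a ≠ a * b := fun e => c1 (by rw [← hc, ← e]; group)
  have e1 : zpowers c ⊔ zpowers a ≤ (zpowers c ⊔ zpowers a).comap (MulAut.conj b).toMonoidHom :=
    sup_le (zpowers_le.2 (by
      change b * c * b⁻¹ ∈ zpowers c ⊔ zpowers a
      rw [bc, mul_inv_cancel_right]; exact mem_sup_left (mem_zpowers c))) (zpowers_le.2 (by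
      change b * a * b⁻¹ ∈ zpowers c ⊔ zpowers a
      rw [show b * a * b⁻¹ = c⁻¹ * a by rw [← hc]; group]
      exact mul_mem_sup (inv_mem (mem_zpowers c)) (mem_zpowers a)))
  rw [B45.card_sup_zpowers (p := p) (mem_N_of_conj e1) (bp ▸ one_mem _) fun e => ab (mem_C1.1
    (sup_le (zpowers_le.2 (mem_C1.2 ac.symm)) (zpowers_le.2 (self_mem_C1 a)) e)),
    card_p2 c1 cp ap ac bc ab]

theorem exists_pq {p q : ℕ} [hp : Fact p.Prime] [hq : Fact q.Prime] {P : Subgroup G}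
    (h1 : Nat.card P = p) (h2 : q ∣ Nat.card (normalizer (P : Set G))) (h3 : ¬ q ∣ p - 1)
    (h4 : p ≠ q) : ∃ g : G, orderOf g = p * q := by
  haveI := isCyclic_of_prime_card h1
  obtain ⟨y, hy⟩ := exists_prime_orderOf_dvd_card' q h2
  obtain ⟨x, hx⟩ := exists_prime_orderOf_dvd_card' p h1.symm.dvd
  have e1 := orderOf_dvd_natCard (P.normalizerMonoidHom y)
  rw [IsCyclic.card_mulAut, h1, Nat.totient_prime hp.out] at e1
  have e2 : P.normalizerMonoidHom y = 1 := orderOf_eq_one_iff.1 (((Nat.dvd_prime hq.out).1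
    (hy ▸ orderOf_map_dvd _ y)).resolve_right fun e => h3 (e ▸ e1))
  have e3 : Commute (y : G) x :=
    mul_inv_eq_iff_eq_mul.1 (congrArg (fun f : MulAut P => (f x : G)) e2)
  rw [← Subgroup.orderOf_coe] at hx hy
  exact ⟨x * y, by rw [e3.symm.orderOf_mul_eq_mul_orderOf_of_coprime
    (by rw [hx, hy]; exact (Nat.coprime_primes hp.out hq.out).2 h4), hx, hy]⟩

theorem sylow_pq (p : ℕ) [hp : Fact p.Prime] (h1 : p ∣ Nat.card G) (h2 : ¬ p ^ 2 ∣ Nat.card G) :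
    ∃ a b, Nat.card G = a * b ∧ b ≡ 1 [MOD p] ∧
      ∀ q : ℕ, q.Prime → ¬ q ∣ p - 1 → p ≠ q → (∀ g : G, orderOf g ≠ p * q) → ¬ q ∣ a := by
  obtain ⟨P⟩ : Nonempty (Sylow p G) := inferInstance
  have e : Nat.card P = p := by
    rw [P.card_eq_multiplicity, le_antisymm (Nat.lt_succ_iff.1 (lt_of_not_ge
      (mt (hp.out.pow_dvd_iff_le_factorization Nat.card_pos.ne').2 h2)))
      ((hp.out.dvd_iff_one_le_factorization Nat.card_pos.ne').1 h1), pow_one]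
  refine ⟨_, _, (normalizer (P : Set G)).card_mul_index.symm,
    P.card_eq_index_normalizer ▸ card_sylow_modEq_one p G, fun q hq e1 e2 e3 e4 => ?_⟩
  haveI := Fact.mk hq
  obtain ⟨g, hg⟩ := exists_pq e e4 e1 e2
  exact e3 g hg

theorem odd_m22 (f : G →* Spor.M22) (hf : Function.Injective f) (h1 : Nat.card G ∣ 3465)
    (h2 : 11 ∣ Nat.card G) : Nat.card G ∣ 55 := by
  have no : ∀ d, CfsgH8.nord Spor.M22 d = 0 → ∀ g : G, orderOf g ≠ d := fun d e g hg => by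
    haveI : Nonempty {g : Spor.M22 // orderOf g = d} := ⟨⟨f g, (orderOf_injective f hf g).trans hg⟩⟩
    exact Nat.card_pos.ne' e
  haveI : Fact (Nat.Prime 11) := ⟨by norm_num⟩
  haveI : Fact (Nat.Prime 5) := ⟨by norm_num⟩
  obtain ⟨a, b, e, b1, k⟩ := sylow_pq 11 h2 fun e => absurd (e.trans h1) (by norm_num)
  refine ((by decide +kernel : ∀ a ∈ Nat.divisors 3465, ∀ b ∈ Nat.divisors 3465, a * b ∣ 3465 →
    11 ∣ a * b → b ≡ 1 [MOD 11] → ¬ 3 ∣ a → ¬ 7 ∣ a → a * b = 495 ∨ a * b ∣ 55) a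
    (Nat.mem_divisors.2 ⟨(Dvd.intro _ e.symm).trans h1, by norm_num⟩) b
    (Nat.mem_divisors.2 ⟨(Dvd.intro_left _ e.symm).trans h1, by norm_num⟩) (e ▸ h1) (e ▸ h2) b1
    (k 3 (by norm_num) (by norm_num) (by norm_num) (no _ (CfsgH8.M24.nord22 _)))
    (k 7 (by norm_num) (by norm_num) (by norm_num) (no _ (CfsgH8.M24.nord22 _)))).elim
    (fun e1 => ?_) (e ▸ ·)
  rw [← e] at e1
  obtain ⟨a, b, e, b1, k⟩ := sylow_pq (G := G) 5 (by rw [e1]; norm_num) (by rw [e1]; norm_num)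
  rw [e1] at e
  exact absurd ((by decide +kernel : ∀ a ∈ Nat.divisors 495, ∀ b ∈ Nat.divisors 495, 495 = a * b →
    b ≡ 1 [MOD 5] → 3 ∣ a) a (Nat.mem_divisors.2 ⟨Dvd.intro _ e.symm, by norm_num⟩) b
    (Nat.mem_divisors.2 ⟨Dvd.intro_left _ e.symm, by norm_num⟩) e b1)
    (k 3 (by norm_num) (by norm_num) (by norm_num) (no _ (CfsgH8.M24.nord22 _)))

end

theorem u_nofix (g : HS) : (wval hval [12, 2] * g).1 leechU ≠ g.1 leechU := fun e => by
  obtain ⟨x, e1, e2⟩ := exists_of_coF (c := hM.wcode hT [12, 2]) (by decide +kernel)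
  rw [← h_tab.enc_wval (by decide), hM_enc] at e1
  obtain rfl := mat_inj (encMat_inj (by norm_num) e1)
  obtain ⟨a, b, c⟩ := orbit_cond g
  obtain ⟨i, hi, e3⟩ := (by decide +kernel : ∀ v ∈ vecL, ∃ i < 24,
    img (hM.wcode hT [12, 2]) (fun j => v (pt (Fin.ofNat 24 j))) i ≠ 8 * v (pt (Fin.ofNat 24 i))) _
    (shape a b c)
  have e4 := eight_mul (toCo (wval hval [12, 2])) (g.1 leechU) (pt ⟨i, hi⟩)
  have e5 := img_eq (hM.wcode hT [12, 2]) (fun j => (g.1 leechU).1 (pt (Fin.ofNat 24 j))) (pt ⟨i, hi⟩)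
  simp only [ix_pt, Fin.ofNat_val_eq_self, pt_ix, e2] at e4 e5
  rw [show (toCo (wval hval [12, 2])).1 (g.1 leechU) = g.1 leechU from e] at e4
  exact e3 (by rw [e5, ← e4, ← Fin.ofNat_val_eq_self ⟨i, hi⟩])

theorem no_D (D : Subgroup HS) (h1 : 5775 ∣ Nat.card D)
    (h2 : ∀ s ∈ D, s * s = 1 → s ≠ 1 → IsConj (wval hval [12, 2]) s) : False := by
  obtain ⟨f, hf⟩ : ∃ f : stabilizer HS leechU →* Spor.M22, Function.Injective f :=
    exists_m22 (toCo.comp (Subgroup.subtype _)) (toCo_inj.comp Subtype.val_injective)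
      fun g => ⟨g.2, g.1.2.2, g.1.2.1.2⟩
  have a1 := (Nat.card_le_card_of_injective f hf).trans card_M22_le
  have a2 : (stabilizer HS leechU).index ≤ 100 := by
    rw [index_stabilizer, ← Nat.card_coe_set_eq, ← vecL_len]
    classical
    refine le_trans ?_ (List.toFinset_card_le vecL)
    rw [← Nat.card_eq_finsetCard]
    refine Nat.card_le_card_of_injective (fun w => ⟨w.1.1, ?_⟩) fun a b e =>
      Subtype.ext (Subtype.ext (Subtype.mk.inj e))
    obtain ⟨w, g, rfl⟩ := w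
    obtain ⟨a, b, c⟩ := orbit_cond g
    exact List.mem_toFinset.2 (shape a b c)
  have a3 := (stabilizer HS leechU).index_mul_card
  rw [card_HS] at a3
  have a4 : (stabilizer HS leechU).index = 100 := by nlinarith
  have a5 : Nat.card (stabilizer HS leechU) = 443520 := by rw [a4] at a3; omega
  haveI : Fact (Nat.Prime 11) := ⟨by norm_num⟩
  obtain ⟨x, hx, ox⟩ := exists_mem_orderOf_eq (p := 11) (by norm_num) (dvd_trans (by norm_num) h1)
  obtain ⟨q, hq⟩ := (IsPGroup.of_card (p := 11) (n := 1) ((Nat.card_zpowers x).trans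
    ox)).nonempty_fixed_point_of_prime_not_dvd_card (HS ⧸ stabilizer HS leechU)
    (by rw [← index_eq_card, a4]; norm_num)
  obtain ⟨g, rfl⟩ := QuotientGroup.mk_surjective q
  have b1 : g⁻¹ * (x * g) ∈ stabilizer HS leechU := QuotientGroup.eq.1 (hq ⟨x, mem_zpowers x⟩).symm
  obtain ⟨E, hE⟩ : ∃ E, E = cj g⁻¹ D ⊓ stabilizer HS leechU := ⟨_, rfl⟩
  have b2 : E ≤ stabilizer HS leechU := hE.le.trans inf_le_right
  have b3 : Nat.card E ∣ 55 := odd_m22 (f.comp (inclusion b2)) (hf.comp (inclusion_injective _))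
    (Nat.Coprime.dvd_of_dvd_mul_left (m := 2 ^ 7) (Nat.Coprime.pow_right _ (Nat.Coprime.symm
      ((Nat.Prime.coprime_iff_not_dvd Nat.prime_two).2 fun e => by
        obtain ⟨s, hs, os⟩ := exists_mem_orderOf_eq Nat.prime_two e
        rw [orderOf_eq_prime_iff, pow_two] at os
        obtain ⟨k, hk⟩ := isConj_iff.1 ((h2 _ (by simpa using mem_cj.1 (hE.le hs).1) (cj_sq os.1 g)
          (mt conj_eq_one_iff.1 os.2)).trans (cj_of _ _).symm)
        refine u_nofix k⁻¹ ?_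
        rw [show wval hval [12, 2] * k⁻¹ = k⁻¹ * s by rw [← hk]; group]
        exact congrArg k⁻¹.1 (b2 hs)))) (a5 ▸ card_dvd_of_le b2 :)) (by
    rw [← ox, ← orderOf_injective (MulAut.conj g⁻¹).toMonoidHom (MulAut.conj g⁻¹).injective x]
    exact orderOf_dvd_card' (hE.ge ⟨conj_mem_cj.2 hx, by simpa [mul_assoc] using b1⟩))
  have b4 := card_inf_mul_relIndex (stabilizer HS leechU) (cj g⁻¹ D)
  have b5 := relIndex_le_of_le_right (H := stabilizer HS leechU) (le_top (a := cj g⁻¹ D))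
    (by rw [relIndex_top_right, a4]; norm_num)
  rw [inf_comm, ← hE, card_cj] at b4
  rw [relIndex_top_right, a4] at b5
  have b6 := Nat.le_of_dvd Nat.card_pos h1
  have b7 := Nat.le_of_dvd (by norm_num) b3
  nlinarith

namespace EG

variable {G : Type*} [Group G] [Finite G] {t : G} {val : ℕ → G} {ψ : gcl hval 7 →* G}
  (h : EG t val ψ)
include h

omit [Finite G] in
theorem ne (W : List ℕ) (us : List (List ℕ)) (hW : ∀ c ∈ ncw W us, c < 2 * 7 + 2)
    (e : Nat.beq (hM.wcode hT (ncw W us)) (hM.wcode hT [2, 2]) = true) : wval val W ≠ 1 := fun e1 =>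
  h.t1 (by
    have := wval_ncw_mem (K := ⊥) (mem_bot.2 e1) (us := us) fun u _ k hk => by simp [mem_bot.1 hk]
    rw [h.wm.eq_of _ [2, 2] ⟨hW, by decide⟩ e] at this
    simpa [sval, h.aa] using this)

omit [Finite G] in
theorem cm (a b : List ℕ) (hW : (∀ c ∈ a, c < 2 * 7 + 2) ∧ ∀ c ∈ b, c < 2 * 7 + 2)
    (e : hM.cm (hM.wcode hT a) (hM.wcode hT b) = true) :
    wval val a * wval val b = wval val b * wval val a := (h.wm.rep a hW.1).comm (h.wm.rep b hW.2) e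

omit [Finite G] in
theorem pw (a : List ℕ) (k : ℕ) (hW : (∀ c ∈ a, c < 2 * 7 + 2) ∧ 0 < k ∧ k < 2 ^ 4)
    (e : Nat.beq (hM.pow 4 (hM.wcode hT a) k) hM.one = true) : wval val a ^ k = 1 :=
  ((h.wm.rep a hW.1).pow 4 k hW.2.1 hW.2.2).eq' Rep.one e

theorem nine : ∃ X ≤ gcl val 7 ⊓ C1 (wval val [12, 2]), Nat.card X = 3 * 3 :=
  haveI : Fact (Nat.Prime 3) := ⟨by norm_num⟩
  ⟨_, sup_le (zpowers_le.2 ⟨h.wm.mem _ (by decide), mem_C1.2 (h.cm _ _ (by decide) (by decide +kernel))⟩)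
    (zpowers_le.2 ⟨h.wm.mem _ (by decide), mem_C1.2 (h.cm _ _ (by decide) (by decide +kernel))⟩),
    card_p2 (h.ne [2, 5, 7, 12, 14] [[9, 10], [9, 10, 14]] (by decide) (by decide +kernel))
      (h.pw _ 3 (by decide) (by decide +kernel))
      (h.pw [7, 14, 6, 8, 14, 8, 14, 7, 12, 9, 14, 6] 3 (by decide) (by decide +kernel))
      (h.cm _ _ (by decide) (by decide +kernel)) (h.cm [2] _ (by decide) (by decide +kernel))
      fun e => h.ne ([7, 14, 6, 8, 14, 8, 14, 7, 12, 9, 14, 6] ++ [2] ++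
        invW [7, 14, 6, 8, 14, 8, 14, 7, 12, 9, 14, 6] ++ invW [2])
        [[9, 10, 15, 5, 8, 15, 8], [9, 10, 15, 5, 8, 15, 8, 4, 6]] (by decide) (by decide +kernel)
        (by simp only [wval_append, wval_invW, ← e]; group)⟩

theorem inj : Function.Injective ψ := by
  haveI : Fact (Nat.Prime 5) := ⟨by norm_num⟩
  haveI : Fact (Nat.Prime 11) := ⟨by norm_num⟩
  obtain ⟨X, x1, x2⟩ := h.nine
  have a1 := x2 ▸ card_dvd_of_le (x1.trans inf_le_left)
  have a2 := orderOf_eq_prime (h.pw _ 11 (by decide) (by decide +kernel))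
    (h.ne [4, 9, 14] [[9, 15], [9, 15, 6, 6, 12, 14]] (by decide) (by decide +kernel)) ▸
    orderOf_dvd_card' (h.wm.mem [4, 9, 14] (by decide))
  have a3 := card_p3 (p := 5) (by simp only [wval_append, wval_invW])
    (h.ne ([9, 14, 9, 10] ++ [3, 8, 12, 14, 5] ++ invW [9, 14, 9, 10] ++ invW [3, 8, 12, 14, 5])
      [[8, 15, 7, 8, 13], [8, 15, 7, 8, 13, 8, 7, 9]] (by decide) (by decide +kernel))
    (h.pw [9, 14, 9, 10] 5 (by decide) (by decide +kernel))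
    (h.pw [3, 8, 12, 14, 5] 5 (by decide) (by decide +kernel))
    (h.pw _ 5 (by decide) (by decide +kernel)) (h.cm _ _ (by decide) (by decide +kernel))
    (h.cm _ _ (by decide) (by decide +kernel)) ▸ card_dvd_of_le (sup_le (sup_le (zpowers_le.2
      (h.wm.mem _ (by decide))) (zpowers_le.2 (h.wm.mem _ (by decide))))
      (zpowers_le.2 (h.wm.mem _ (by decide))))
  refine h.wm.injective ?_
  rw [gcl_hval, card_top, card_HS]
  exact Nat.le_of_dvd Nat.card_pos (Nat.Coprime.mul_dvd_of_dvd_of_dvd (by norm_num)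
    (Nat.Coprime.mul_dvd_of_dvd_of_dvd (by norm_num) (Nat.Coprime.mul_dvd_of_dvd_of_dvd (by norm_num)
      ((by norm_num : 3584 ∣ 10752).trans h.dvd) a1) a2) a3 :)

theorem nc : ¬ IsConj t (wval val [12, 2]) := fun e => by
  obtain ⟨g, e⟩ := isConj_iff.1 e
  obtain ⟨X, x1, x2⟩ := h.nine
  have := card_dvd_of_le (x1.trans inf_le_right)
  rw [x2, ← e, ← cj_C1, card_cj, h.cardH] at this
  norm_num at this

theorem iso : Nonempty (G ≃* HS) := by
  obtain ⟨φ, p1, p2⟩ : ∃ φ : HS →* G, Function.Injective φ ∧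
      ∀ a, 1 ≤ a → a ≤ 7 → φ (hval a) = val a :=
    ⟨ψ.comp ((MonoidHom.id HS).codRestrict _ fun x => gcl_hval.ge (mem_top x)),
      h.inj.comp fun _ _ => congrArg Subtype.val, fun a a1 a2 =>
        (congrArg ψ (Subtype.ext (coe_subVal (val := hval) a1 a2).symm)).trans (h.wm.hv a a1 a2)⟩
  have p3 : φ.range = gcl val 7 := by
    rw [← range_eq_gcl p2 le_rfl, gcl_hval, MonoidHom.range_eq_map]
  have p4 : Nat.card (gcl val 7) = 44352000 := by
    rw [← p3, ← Nat.card_congr (MonoidHom.ofInjective p1).toEquiv, card_HS]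
  have uH := h.wm.mem [12, 2] (by decide)
  have p5 : ∀ s ∈ gcl val 7, s * s = 1 → s ≠ 1 → ∃ k ∈ gcl val 7, k * t * k⁻¹ = s ∨
      k * wval val [12, 2] * k⁻¹ = s := fun s hs s2 s1 => by
    obtain ⟨k, hk, e⟩ := exists_cj_mem (by
      rw [relIndex_eq_of_mul (h.PH.trans h.le) (n := 28875) (by rw [h.cardP, p4])]; norm_num) hs s2 s1
    rcases h.iv _ e (cj_sq s2 k) (mt conj_eq_one_iff.1 s1) with ⟨l, hl, e⟩ | ⟨⟨l, hl, e⟩, -⟩
    · exact ⟨_, mul_mem (inv_mem hk) hl, Or.inl (conj_injective.eq_iff.1 (e ▸ by group :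
        k * _ * k⁻¹ = k * s * k⁻¹))⟩
    · exact ⟨_, mul_mem (inv_mem hk) hl, Or.inr (conj_injective.eq_iff.1 (e ▸ by group :
        k * _ * k⁻¹ = k * s * k⁻¹))⟩
  refine ⟨(MulEquiv.ofBijective φ ⟨p1, MonoidHom.range_eq_top.1 (p3.trans (by_contra fun hn => ?_))⟩).symm⟩
  obtain ⟨D, d1, d2, d3⟩ := exists_trans h.tt (fun s hs e => by
    obtain ⟨g, rfl⟩ := isConj_iff.1 e
    obtain ⟨k, hk, e1 | e1⟩ := p5 _ hs (cj_sq h.tt g) (mt conj_eq_one_iff.1 h.t1)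
    exacts [⟨k, hk, e1⟩, absurd (e.trans (e1 ▸ cj_of _ _).symm) h.nc]) h.le (fun z hz z2 z1 e => by
    obtain ⟨k, hk, e1⟩ := exists_cj_mem (by
      rw [relIndex_eq_of_mul h.PH (n := 5) (by rw [h.cardP, h.cardH])]; norm_num) hz z2 z1
    rcases h.iv _ e1 (cj_sq z2 k) (mt conj_eq_one_iff.1 z1) with ⟨l, -, e2⟩ | ⟨-, l, -, e2⟩
    · exact (e2 ▸ cj_of l t).trans (cj_of k z).symm
    · rw [← mem_C1_iff_conj.1 hk, conj_mul] at e2
      exact absurd ((e.trans (cj_of k _)).trans (e2 ▸ cj_of l _).symm) h.nc) hn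
  rw [relIndex_eq_of_mul h.le (n := 5775) (by rw [h.cardH, p4])] at d3
  have e := card_map_of_injective (K := D.comap φ) p1
  rw [map_comap_eq_self (p3 ▸ d1)] at e
  refine no_D (D.comap φ) (e ▸ d3) fun s hs s2 s1 => ?_
  obtain ⟨k, hk, e1 | e1⟩ := p5 _ (d1 hs) (by rw [← map_mul, s2, map_one])
    fun e => s1 (p1 (e.trans (map_one φ).symm))
  · exact absurd (e1 ▸ cj_of k t) (d2 _ hs)
  obtain ⟨k, rfl⟩ := p3.ge hk
  exact isConj_iff.2 ⟨k, p1 (by
    rw [← e1, map_mul, map_mul, map_inv, map_wval_eq h_h0 h.wm.g0 p2 (by decide)])⟩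

end EG

end CfsgH9.Hs
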