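import Cfsg.Agent.H9.Icos
import Cfsg.Agent.H9.J2Chain

/-! The minimal vectors of the icosian Leech lattice. -/

set_option autoImplicit false
set_option maxRecDepth 100000

namespace CfsgH9.J2C

open Cfsg Cfsg.Spor Quaternion Ic

noncomputable def r_R : NT := (.node (.node (.node (.node (.node (.node (.node (.node (.node (.leaf (nat_lit 1349247566534184346774)) (.leaf (nat_lit 1948908643593002493076))) (.leaf (nat_lit 1496821519123894579409))) (.node (.leaf (nat_lit 1349211542202605970580)) (.leaf (nat_lit 2457223428336997966996)))) (.node (.node (.node (.leaf (nat_lit 1349247003584264738897)) (.leaf (nat_lit 1349248159796827890330))) (.leaf (nat_lit 1351553413873547158676))) (.node (.leaf (nat_lit 1258185063406290674836)) (.leaf (nat_lit 1349248164110028027481))))) (.node (.node (.node (.node (.leaf (nat_lit 1424201256607488488643)) (.leaf (nat_lit 1349248093741556012633))) (.leaf (nat_lit 1440346670067704472724))) (.node (.leaf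 (nat_lit 1346941723525003940049)) (.leaf (nat_lit 1349248125016046380180)))) (.node (.node (.node (.leaf (nat_lit 241308296480457041044)) (.leaf (nat_lit 768321463940494730388))) (.leaf (nat_lit 1349283595331236608081))) (.node (.leaf (nat_lit 1201673609616002983060)) (.leaf (nat_lit 1349248099186245214858)))))) (.node (.node (.node (.node (.node (.leaf (nat_lit 1276343018758922118290)) (.leaf (nat_lit 1349248098209144350346))) (.leaf (nat_lit 1496821514795355808916))) (.node (.leaf (nat_lit 2457223428332702999700)) (.leaf (nat_lit 1349248129484171581521)))) (.node (.node (.node (.leaf (nat_lit 1349246999116139537556)) (.leaf (nat_lit 1349248164127480001241))) (.leaf (nat_lit 1258185063681168581780))) (.node (.leaf (nat_lit 1201673613944541753553)) (.leaf (nat_lit 768028791522334418068))))) (.node (.node (.node (.node (.leaf (nat_lit 1349247563168020772035)) (.leaf (nat_lit 1948624855228794610836))) (.leaf (nat_lit 1351553409543431327953)))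 (.node (.leaf (nat_lit 1346941727855119770772)) (.leaf (nat_lit 241308296480524149908)))) (.node (.node (.node (.leaf (nat_lit 1349211537737198680145)) (.leaf (nat_lit 1349248160743863985818))) (.leaf (nat_lit 1349283599796643898516))) (.node (.leaf (nat_lit 1440346652475518428308)) (.leaf (nat_lit 1349248093758463775449))))))) (.node (.node (.node (.node (.node (.node (.leaf (nat_lit 1405722424386433922243)) (.leaf (nat_lit 1349248165226723251801))) (.leaf (nat_lit 1421867837846649906324))) (.node (.leaf (nat_lit 1349211537737198736467)) (.leaf (nat_lit 1349248195522464392340)))) (.node (.node (.node (.leaf (nat_lit 1424209700856755987604)) (.leaf (nat_lit 1930466402141815252116))) (.leaf (nat_lit 1351553409543435523155))) (.node (.leaf (nat_lit 1201673608514578752660)) (.leaf (nat_lit 1349248160743868113546))))) (.node (.node (.node (.node (.leaf (nat_lit 2457187404005419590802)) (.leaf (nat_lit 1349248098209140089498))) (.leaf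 (nat_lit 1351553414971146183828))) (.node (.leaf (nat_lit 1276599719332655211668)) (.leaf (nat_lit 1349248129484171523155)))) (.node (.node (.node (.leaf (nat_lit 1349211471696657720468)) (.leaf (nat_lit 1349248094858243782233))) (.leaf (nat_lit 1274329905260046918804))) (.node (.leaf (nat_lit 1201673613944537560147)) (.leaf (nat_lit 749870217214198097044)))))) (.node (.node (.node (.node (.node (.leaf (nat_lit 1349247562066596541635)) (.leaf (nat_lit 749586552025357296788))) (.leaf (nat_lit 1496821519123890386003))) (.node (.leaf (nat_lit 1346941728952718795924)) (.leaf (nat_lit 1424209700856823096468)))) (.node (.node (.node (.leaf (nat_lit 1349247003584264680531)) (.leaf (nat_lit 1349248099186249344666))) (.leaf (nat_lit 1349283529290695648404))) (.node (.leaf (nat_lit 1421867820254463861908)) (.leaf (nat_lit 1349248094840799146713))))) (.node (.node (.node (.node (.leaf (nat_lit 1349247069622557549716)) (.leaf (nat_lit 1349248165209808147161)))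 (.leaf (nat_lit 1276599719607533118612))) (.node (.leaf (nat_lit 1346941723525008135251)) (.leaf (nat_lit 1930173606608417399956)))) (.node (.node (.leaf (nat_lit 1274329905255751951508)) (.leaf (nat_lit 1349283595331236664403))) (.node (.leaf (nat_lit 1496821513693931578516)) (.leaf (nat_lit 1349248159796823631498)))))))) (.node (.node (.node (.node (.node (.node (.node (.leaf (nat_lit 1349248692434091189394)) (.leaf (nat_lit 1349248160759135446666))) (.leaf (nat_lit 1496821585026895914132))) (.node (.leaf (nat_lit 1292736679882768589972)) (.leaf (nat_lit 1349283595331240801491)))) (.node (.node (.node (.leaf (nat_lit 1349247000218033530004)) (.leaf (nat_lit 1349248165209811760715))) (.leaf (nat_lit 2454881556666056778900))) (.node (.leaf (nat_lit 1346941723525003883731)) (.leaf (nat_lit 1930173669127873963156))))) (.node (.node (.node (.node (.leaf (nat_lit 1349247632572544791747)) (.leaf (nat_lit 749586489475366200468))) (.leaf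 (nat_lit 1496821519123894637779))) (.node (.leaf (nat_lit 1346941657624049427604)) (.leaf (nat_lit 1405722987336420631700)))) (.node (.node (.node (.leaf (nat_lit 1349247003584260543699)) (.leaf (nat_lit 1349248098224407422618))) (.leaf (nat_lit 1349283598699514635412))) (.node (.leaf (nat_lit 243578101896592303252)) (.leaf (nat_lit 1349248094840795534923)))))) (.node (.node (.node (.node (.node (.leaf (nat_lit 241307733530537440451)) (.leaf (nat_lit 1349248165226719523531))) (.leaf (nat_lit 243578119488778347668))) (.node (.leaf (nat_lit 1349211537737202873555)) (.leaf (nat_lit 1349248126117940372628)))) (.node (.node (.node (.leaf (nat_lit 1405722987336353522836)) (.leaf (nat_lit 1930466341546034275476))) (.leaf (nat_lit 1351553409543431271635))) (.node (.leaf (nat_lit 1201673679847543088276)) (.leaf (nat_lit 1349248159782026191498))))) (.node (.node (.node (.node (.leaf (nat_lit 1292772713149523109010)) (.leaf (nat_lit 1349248099171451904666)))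 (.leaf (nat_lit 1351553343642476815508))) (.node (.leaf (nat_lit 2454881556391178871956)) (.leaf (nat_lit 1349248129484167386323)))) (.node (.node (.node (.leaf (nat_lit 1349211541105476707476)) (.leaf (nat_lit 1349248094858247508683))) (.leaf (nat_lit 1292736679887063557268))) (.node (.leaf (nat_lit 1201673613944541811923)) (.leaf (nat_lit 749870277839574082708))))))) (.node (.node (.node (.node (.node (.node (.leaf (nat_lit 1349247562188734674115)) (.leaf (nat_lit 1948908581043011396756))) (.leaf (nat_lit 1496821519123894572129))) (.node (.leaf (nat_lit 1349211542050403067028)) (.leaf (nat_lit 1422151555827114779796)))) (.node (.node (.node (.leaf (nat_lit 1349247003584264746209)) (.leaf (nat_lit 1349248159782030321306))) (.leaf (nat_lit 1351553414026286933140))) (.node (.leaf (nat_lit 1423916958084917437588)) (.leaf (nat_lit 1349248164110031753931))))) (.node (.node (.node (.node (.leaf (nat_lit 1422152118777034912963)) (.leaf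 (nat_lit 1349248093741552284363))) (.leaf (nat_lit 1274037171419559306388))) (.node (.leaf (nat_lit 1346941723525003949153)) (.leaf (nat_lit 1349248125138721383572)))) (.node (.node (.node (.leaf (nat_lit 1276883446244471022740)) (.leaf (nat_lit 768321526459951293588))) (.leaf (nat_lit 1349283595331236599009))) (.node (.leaf (nat_lit 1201673609493864850580)) (.leaf (nat_lit 1349248099171447645834)))))) (.node (.node (.node (.node (.node (.leaf (nat_lit 1274293880928468542610)) (.leaf (nat_lit 1349248160759131185818))) (.leaf (nat_lit 1496821514673217676436))) (.node (.leaf (nat_lit 1274037171144681399444)) (.leaf (nat_lit 1349248129484171588833)))) (.node (.node (.node (.leaf (nat_lit 1349246999238814540948)) (.leaf (nat_lit 1349248164127476389451))) (.leaf (nat_lit 1276883446248765990036))) (.node (.leaf (nat_lit 1201673613944541746273)) (.leaf (nat_lit 768028730926553441428))))) (.node (.node (.node (.node (.leaf (nat_lit 1422151555827047670932))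 (.leaf (nat_lit 1948624915854170596500))) (.leaf (nat_lit 1351553409543431337057))) (.node (.leaf (nat_lit 1346941728007859545236)) (.leaf (nat_lit 1349248098224411550346)))) (.node (.node (.leaf (nat_lit 1349211537737198671073)) (.leaf (nat_lit 1349283599644440994964))) (.node (.leaf (nat_lit 1423916975677103482004)) (.leaf (nat_lit 1349248093758467389003))))))))) (.node (.node (.node (.node (.node (.node (.node (.node (.leaf (nat_lit 1349247566534251455634)) (.leaf (nat_lit 1873954922244738754186))) (.leaf (nat_lit 2454917031171776390292))) (.node (.leaf (nat_lit 1349211537737199203395)) (.leaf (nat_lit 1349283661371710973076)))) (.node (.node (.node (.leaf (nat_lit 1292772145731948061844)) (.leaf (nat_lit 1948624885541517964875))) (.leaf (nat_lit 1351553409543431853251))) (.node (.leaf (nat_lit 1346941718097222509716)) (.leaf (nat_lit 1873698814641788494996))))) (.node (.node (.node (.node (.leaf (nat_lit 1424201261075076293778))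 (.leaf (nat_lit 824540175081082004628))) (.leaf (nat_lit 1496821524553789940884))) (.node (.leaf (nat_lit 243613576402311914644)) (.leaf (nat_lit 1349248129484171056195)))) (.node (.node (.node (.leaf (nat_lit 1349246937545904301204)) (.leaf (nat_lit 824796353052503811738))) (.leaf (nat_lit 1405758453185600103572))) (.node (.leaf (nat_lit 1201673613944541230275)) (.leaf (nat_lit 768028761224475678283)))))) (.node (.node (.node (.node (.node (.leaf (nat_lit 1349247500495824434371)) (.leaf (nat_lit 1948908612318038635211))) (.leaf (nat_lit 1496821519123894056131))) (.node (.leaf (nat_lit 1349211603777673045140)) (.leaf (nat_lit 1292772145732015170708)))) (.node (.node (.node (.leaf (nat_lit 1349247003584264213571)) (.leaf (nat_lit 840933348110634656916))) (.leaf (nat_lit 1351553404115649897620))) (.node (.leaf (nat_lit 2454917013579590345876)) (.leaf (nat_lit 1857561819601105953418))))) (.node (.node (.node (.node (.leaf (nat_lit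 1292772708681935303875)) (.leaf (nat_lit 840685052537871114906))) (.leaf (nat_lit 243613576677189821588))) (.node (.leaf (nat_lit 1346941723525004465347)) (.leaf (nat_lit 1349248063445811143828)))) (.node (.node (.node (.leaf (nat_lit 1405758453181305136276)) (.leaf (nat_lit 768321495200258429643))) (.leaf (nat_lit 1349283595331237131331))) (.node (.leaf (nat_lit 1201673619374437115028)) (.leaf (nat_lit 1857810044804861076628))))))) (.node (.node (.node (.node (.node (.node (.leaf (nat_lit 1405722428854021727378)) (.leaf (nat_lit 824540246566249243796))) (.leaf (nat_lit 1496821523452365710484))) (.node (.leaf (nat_lit 1421611686819602703508)) (.leaf (nat_lit 1349248129484175258705)))) (.node (.node (.node (.leaf (nat_lit 1349247008052322313364)) (.leaf (nat_lit 1857561819601110083226))) (.leaf (nat_lit 1424457961923687294100))) (.node (.leaf (nat_lit 1201673613944541164625)) (.leaf (nat_lit 1930173637868181099211))))) (.node (.node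 (.node (.node (.leaf (nat_lit 1349247570879634552003)) (.leaf (nat_lit 749586520750393438923))) (.leaf (nat_lit 1351553409543431918673))) (.node (.leaf (nat_lit 1346941719194821534868)) (.leaf (nat_lit 1276343577241321022612)))) (.node (.node (.node (.leaf (nat_lit 1349211537737195000913)) (.leaf (nat_lit 1873698745390004249748))) (.leaf (nat_lit 1349283590865762722964))) (.node (.leaf (nat_lit 1274578157391265211540)) (.leaf (nat_lit 840685052537866856074)))))) (.node (.node (.node (.node (.node (.leaf (nat_lit 1274293876460880737475)) (.leaf (nat_lit 1873954922244734493338))) (.leaf (nat_lit 1274578174983451255956))) (.node (.leaf (nat_lit 1346941723525004530769)) (.leaf (nat_lit 1349248133952229155988)))) (.node (.node (.node (.leaf (nat_lit 1276343577241253913748)) (.leaf (nat_lit 1930466371843956512331))) (.leaf (nat_lit 1349283595331232928849))) (.node (.leaf (nat_lit 1201673618273012884628)) (.leaf (nat_lit 840933278823953802388)))))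 (.node (.node (.node (.node (.leaf (nat_lit 1349247003584268416081)) (.leaf (nat_lit 1857810116256205448340))) (.leaf (nat_lit 1351553405213248922772))) (.node (.leaf (nat_lit 1424457961648809387156)) (.leaf (nat_lit 824796353052507939466)))) (.node (.node (.leaf (nat_lit 1349211533271724795028)) (.leaf (nat_lit 1421611686823897670804))) (.node (.leaf (nat_lit 1496821519123893990481)) (.leaf (nat_lit 749870247526921451083)))))))) (.node (.node (.node (.node (.node (.node (.node (.leaf (nat_lit 1349247569900348454083)) (.leaf (nat_lit 1948908612318042363481))) (.leaf (nat_lit 1496821519123898242257))) (.node (.leaf (nat_lit 1349211534368854058132)) (.leaf (nat_lit 2457186836587911652500)))) (.node (.node (.node (.leaf (nat_lit 1349247003584264279249)) (.leaf (nat_lit 1857561854244414891156))) (.leaf (nat_lit 1351553475444319265940))) (.node (.leaf (nat_lit 1258148463000664220820)) (.leaf (nat_lit 1873698780015931990666))))) (.node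 (.node (.node (.node (.leaf (nat_lit 2457187399537831785667)) (.leaf (nat_lit 824540210823697048218))) (.leaf (nat_lit 1440310069662078018708))) (.node (.leaf (nat_lit 1346941723525000279249)) (.leaf (nat_lit 1349248132850335163540)))) (.node (.node (.node (.leaf (nat_lit 241271704731370726548)) (.leaf (nat_lit 768321495200254703193))) (.leaf (nat_lit 1349283595331237065937))) (.node (.leaf (nat_lit 1201673548041472779412)) (.leaf (nat_lit 840685016812163245204)))))) (.node (.node (.node (.node (.node (.leaf (nat_lit 241307737998125245586)) (.leaf (nat_lit 1873954886502119449748))) (.leaf (nat_lit 1496821453220825605268))) (.node (.leaf (nat_lit 1440310069387200111764)) (.leaf (nat_lit 1349248129484171121873)))) (.node (.node (.node (.leaf (nat_lit 1349247006950428320916)) (.leaf (nat_lit 840933313467329848986))) (.leaf (nat_lit 241271704735665693844))) (.node (.leaf (nat_lit 1201673613944545416401)) (.leaf (nat_lit 768028761224479290073)))))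 (.node (.node (.node (.node (.leaf (nat_lit 2457186836587844543636)) (.leaf (nat_lit 1948624885541514351321))) (.leaf (nat_lit 1351553409543427667153))) (.node (.leaf (nat_lit 1346941789425891878036)) (.leaf (nat_lit 824796387678364443796)))) (.node (.node (.leaf (nat_lit 1349211537737199138001)) (.leaf (nat_lit 1349283591962891986068))) (.node (.leaf (nat_lit 1258148480592850265236)) (.leaf (nat_lit 1857810080530564687498))))))) (.node (.node (.node (.node (.node (.node (.leaf (nat_lit 1276343014291334313155)) (.leaf (nat_lit 824540210823701309066))) (.leaf (nat_lit 1276627312813904831636))) (.node (.leaf (nat_lit 1349211537737199194323)) (.leaf (nat_lit 1349248133829554152596)))) (.node (.node (.node (.leaf (nat_lit 1274285432211545597076)) (.leaf (nat_lit 1930466371843960124121))) (.leaf (nat_lit 1351553409543431862355))) (.node (.leaf (nat_lit 1201673618395151017108)) (.leaf (nat_lit 1857561784957734036628))))) (.node (.node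 (.node (.node (.leaf (nat_lit 1422152123244622718098)) (.leaf (nat_lit 840685088263507616916))) (.leaf (nat_lit 1351553405060509148308))) (.node (.leaf (nat_lit 1421895413460835574932)) (.leaf (nat_lit 1349248129484171063507)))) (.node (.node (.node (.leaf (nat_lit 1349211533423927698580)) (.leaf (nat_lit 1873698780015927862938))) (.leaf (nat_lit 1424165227812616742036))) (.node (.leaf (nat_lit 1201673613944541222995)) (.leaf (nat_lit 749870247526917837529)))))) (.node (.node (.node (.node (.node (.leaf (nat_lit 1349247571001772684483)) (.leaf (nat_lit 749586520750397167193))) (.leaf (nat_lit 1496821519123894048851))) (.node (.leaf (nat_lit 1346941719042081760404)) (.leaf (nat_lit 1274285432211612705940)))) (.node (.node (.node (.leaf (nat_lit 1349247003584264220883)) (.leaf (nat_lit 824796318426580198548))) (.leaf (nat_lit 1349283591017965626516))) (.node (.leaf (nat_lit 1276627295221718787220)) (.leaf (nat_lit 840933313467325719178)))))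 (.node (.node (.node (.node (.leaf (nat_lit 1349247007929647309972)) (.leaf (nat_lit 1857810080530568946330))) (.leaf (nat_lit 1421895413735713481876))) (.node (.leaf (nat_lit 1346941723525004474451)) (.leaf (nat_lit 1930173637868177372761)))) (.node (.node (.leaf (nat_lit 1424165227808321774740)) (.leaf (nat_lit 1349283595331237122259))) (.node (.leaf (nat_lit 1496821523574503842964)) (.leaf (nat_lit 1873954957987286688916))))))))))

noncomputable def r_J : NT := (.node (.node (.node (.leaf (nat_lit 0)) (.node (.node (.leaf (nat_lit 0)) (.node (.node (.node (.leaf (nat_lit 0)) (.node (.node (.node (.leaf (nat_lit 0)) (.node (.node (.node (.leaf (nat_lit 0)) (.node (.node (.node (.leaf (nat_lit 0)) (.node (.node (.node (.leaf (nat_lit 0)) (.node (.node (.node (.leaf (nat_lit 0)) (.node (.node (.node (.node (.node (.node (.leaf (nat_lit 0)) (.node (.node (.node (.leaf (nat_lit 0)) (.node (.node (.node (.leaf (nat_lit 0)) (.node (.node (.node (.leaf (nat_lit 0)) (.node (.node (.node (.leaf (nat_lit 0)) (.node (.node (.node (.leaf (nat_lit 0)) (.node (.node (.node (.leaf (nat_lit 0)) (.node (.node (.leaf (nat_lit 0)) (.node (.node (.node (.node (.leaf (nat_lit 36)) (.node (.node (.leaf (nat_lit 0)) (.node (.node (.node (.node (.leaf (nat_lit 30)) (.leaf (nat_lit 27))) (.leaf (nat_lit 0))) (.leaf (nat_lit 0))) (.leaf (nat_lit 33)))) (.leaf (nat_lit 0)))) (.leaf (nat_lit 0))) (.leaf (nat_lit 0))) (.node (.node (.node (.leaf (nat_lit 39)) (.node (.node (.leaf (nat_lit 0)) (.node (.leaf (nat_lit 42)) (.node (.node (.node (.leaf (nat_lit 45)) (.leaf (nat_lit 48))) (.leaf (nat_lit 0))) (.leaf (nat_lit 0))))) (.leaf (nat_lit 0)))) (.leaf (nat_lit 0))) (.leaf (nat_lit 0))))) (.leaf (nat_lit 0)))) (.leaf (nat_lit 0))) (.leaf (nat_lit 0)))) (.leaf (nat_lit 0))) (.leaf (nat_lit 0)))) (.leaf (nat_lit 0))) (.leaf (nat_lit 0)))) (.leaf (nat_lit 0))) (.leaf (nat_lit 0)))) (.leaf (nat_lit 0))) (.leaf (nat_lit 0)))) (.leaf (nat_lit 0))) (.leaf (nat_lit 0)))) (.leaf (nat_lit 0))) (.node (.node (.leaf (nat_lit 0)) (.node (.node (.node (.leaf (nat_lit 0)) (.node (.node (.node (.leaf (nat_lit 0)) (.node (.node (.node (.leaf (nat_lit 0)) (.node (.node (.node (.leaf (nat_lit 0)) (.node (.node (.node (.leaf (nat_lit 0)) (.node (.node (.node (.leaf (nat_lit 0)) (.node (.node (.leaf (nat_lit 0)) (.node (.node (.node (.node (.leaf (nat_lit 204)) (.node (.node (.leaf (nat_lit 0)) (.node (.node (.node (.node (.leaf (nat_lit 198)) (.leaf (nat_lit 195))) (.leaf (nat_lit 0))) (.leaf (nat_lit 0))) (.leaf (nat_lit 201)))) (.leaf (nat_lit 0)))) (.leaf (nat_lit 0))) (.leaf (nat_lit 0))) (.node (.node (.node (.leaf (nat_lit 207)) (.node (.node (.leaf (nat_lit 0)) (.node (.leaf (nat_lit 210)) (.node (.node (.node (.leaf (nat_lit 213)) (.leaf (nat_lit 216))) (.leaf (nat_lit 0))) (.leaf (nat_lit 0))))) (.leaf (nat_lit 0)))) (.leaf (nat_lit 0))) (.leaf (nat_lit 0))))) (.leaf (nat_lit 0)))) (.leaf (nat_lit 0))) (.leaf (nat_lit 0)))) (.leaf (nat_lit 0))) (.leaf (nat_lit 0)))) (.leaf (nat_lit 0))) (.leaf (nat_lit 0)))) (.leaf (nat_lit 0))) (.leaf (nat_lit 0)))) (.leaf (nat_lit 0))) (.leaf (nat_lit 0)))) (.leaf (nat_lit 0))) (.leaf (nat_lit 0)))) (.leaf (nat_lit 0)))) (.node (.node (.node (.leaf (nat_lit 0)) (.node (.node (.node (.node (.node (.node (.leaf (nat_lit 0)) (.node (.node (.node (.leaf (nat_lit 0)) (.node (.node (.node (.leaf (nat_lit 0)) (.node (.node (.node (.leaf (nat_lit 0)) (.node (.node (.node (.leaf (nat_lit 0)) (.node (.node (.leaf (nat_lit 0)) (.node (.node (.node (.node (.leaf (nat_lit 60)) (.node (.node (.leaf (nat_lit 0)) (.node (.node (.node (.node (.leaf (nat_lit 54)) (.leaf (nat_lit 51))) (.leaf (nat_lit 0))) (.leaf (nat_lit 0))) (.leaf (nat_lit 57)))) (.leaf (nat_lit 0)))) (.leaf (nat_lit 0))) (.leaf (nat_lit 0))) (.node (.node (.node (.leaf (nat_lit 63)) (.node (.node (.leaf (nat_lit 0)) (.node (.leaf (nat_lit 66)) (.node (.node (.node (.leaf (nat_lit 69)) (.leaf (nat_lit 72))) (.leaf (nat_lit 0))) (.leaf (nat_lit 0))))) (.leaf (nat_lit 0)))) (.leaf (nat_lit 0))) (.leaf (nat_lit 0))))) (.leaf (nat_lit 0)))) (.leaf (nat_lit 0))) (.leaf (nat_lit 0)))) (.leaf (nat_lit 0))) (.leaf (nat_lit 0)))) (.leaf (nat_lit 0))) (.leaf (nat_lit 0)))) (.leaf (nat_lit 0))) (.leaf (nat_lit 0)))) (.leaf (nat_lit 0))) (.node (.node (.leaf (nat_lit 0)) (.node (.node (.node (.leaf (nat_lit 0)) (.node (.node (.node (.leaf (nat_lit 0)) (.node (.node (.node (.leaf (nat_lit 0)) (.node (.node (.node (.leaf (nat_lit 0)) (.node (.node (.leaf (nat_lit 0)) (.node (.node (.node (.node (.leaf (nat_lit 180)) (.node (.node (.leaf (nat_lit 0)) (.node (.node (.node (.node (.leaf (nat_lit 174)) (.leaf (nat_lit 171))) (.leaf (nat_lit 0))) (.leaf (nat_lit 0))) (.leaf (nat_lit 177)))) (.leaf (nat_lit 0)))) (.leaf (nat_lit 0))) (.leaf (nat_lit 0))) (.node (.node (.node (.leaf (nat_lit 183)) (.node (.node (.leaf (nat_lit 0)) (.node (.leaf (nat_lit 186)) (.node (.node (.node (.leaf (nat_lit 189)) (.leaf (nat_lit 192))) (.leaf (nat_lit 0))) (.leaf (nat_lit 0))))) (.leaf (nat_lit 0)))) (.leaf (nat_lit 0))) (.leaf (nat_lit 0))))) (.leaf (nat_lit 0)))) (.leaf (nat_lit 0))) (.leaf (nat_lit 0)))) (.leaf (nat_lit 0))) (.leaf (nat_lit 0)))) (.leaf (nat_lit 0))) (.leaf (nat_lit 0)))) (.leaf (nat_lit 0))) (.leaf (nat_lit 0)))) (.leaf (nat_lit 0)))) (.node (.node (.node (.leaf (nat_lit 0)) (.node (.node (.node (.node (.node (.node (.leaf (nat_lit 0)) (.node (.node (.node (.leaf (nat_lit 0)) (.node (.node (.node (.leaf (nat_lit 0)) (.node (.node (.leaf (nat_lit 0)) (.node (.node (.node (.node (.leaf (nat_lit 84)) (.node (.node (.leaf (nat_lit 0)) (.node (.leaf (nat_lit 75)) (.node (.node (.node (.leaf (nat_lit 78)) (.leaf (nat_lit 81))) (.leaf (nat_lit 0))) (.leaf (nat_lit 0))))) (.leaf (nat_lit 0)))) (.leaf (nat_lit 0))) (.leaf (nat_lit 0))) (.node (.node (.node (.leaf (nat_lit 87)) (.node (.node (.leaf (nat_lit 0)) (.node (.node (.node (.node (.leaf (nat_lit 93)) (.leaf (nat_lit 90))) (.leaf (nat_lit 0))) (.leaf (nat_lit 0))) (.leaf (nat_lit 96)))) (.leaf (nat_lit 0)))) (.leaf (nat_lit 0))) (.leaf (nat_lit 0))))) (.leaf (nat_lit 0)))) (.leaf (nat_lit 0))) (.leaf (nat_lit 0)))) (.leaf (nat_lit 0))) (.leaf (nat_lit 0)))) (.leaf (nat_lit 0))) (.node (.node (.leaf (nat_lit 0)) (.node (.node (.node (.leaf (nat_lit 0)) (.node (.node (.node (.leaf (nat_lit 0)) (.node (.node (.leaf (nat_lit 0)) (.node (.node (.node (.node (.leaf (nat_lit 156)) (.node (.node (.leaf (nat_lit 0)) (.node (.leaf (nat_lit 147)) (.node (.node (.node (.leaf (nat_lit 150)) (.leaf (nat_lit 153))) (.leaf (nat_lit 0))) (.leaf (nat_lit 0))))) (.leaf (nat_lit 0)))) (.leaf (nat_lit 0))) (.leaf (nat_lit 0))) (.node (.node (.node (.leaf (nat_lit 159)) (.node (.node (.leaf (nat_lit 0)) (.node (.node (.node (.node (.leaf (nat_lit 165)) (.leaf (nat_lit 162))) (.leaf (nat_lit 0))) (.leaf (nat_lit 0))) (.leaf (nat_lit 168)))) (.leaf (nat_lit 0)))) (.leaf (nat_lit 0))) (.leaf (nat_lit 0))))) (.leaf (nat_lit 0)))) (.leaf (nat_lit 0))) (.leaf (nat_lit 0)))) (.leaf (nat_lit 0))) (.leaf (nat_lit 0)))) (.leaf (nat_lit 0)))) (.node (.node (.node (.leaf (nat_lit 0)) (.node (.node (.node (.node (.node (.node (.leaf (nat_lit 0)) (.node (.node (.leaf (nat_lit 0)) (.node (.node (.node (.node (.leaf (nat_lit 108)) (.node (.node (.leaf (nat_lit 0)) (.node (.leaf (nat_lit 99)) (.node (.node (.node (.leaf (nat_lit 102)) (.leaf (nat_lit 105))) (.leaf (nat_lit 0))) (.leaf (nat_lit 0))))) (.leaf (nat_lit 0)))) (.leaf (nat_lit 0))) (.leaf (nat_lit 0))) (.node (.node (.node (.leaf (nat_lit 111)) (.node (.node (.leaf (nat_lit 0)) (.node (.node (.node (.node (.leaf (nat_lit 117)) (.leaf (nat_lit 114))) (.leaf (nat_lit 0))) (.leaf (nat_lit 0))) (.leaf (nat_lit 120)))) (.leaf (nat_lit 0)))) (.leaf (nat_lit 0))) (.leaf (nat_lit 0))))) (.leaf (nat_lit 0)))) (.leaf (nat_lit 0))) (.node (.node (.leaf (nat_lit 0)) (.node (.node (.leaf (nat_lit 0)) (.node (.node (.node (.node (.leaf (nat_lit 132)) (.node (.node (.leaf (nat_lit 0)) (.node (.leaf (nat_lit 123)) (.node (.node (.node (.leaf (nat_lit 126)) (.leaf (nat_lit 129))) (.leaf (nat_lit 0))) (.leaf (nat_lit 0))))) (.leaf (nat_lit 0)))) (.leaf (nat_lit 0))) (.leaf (nat_lit 0))) (.node (.node (.node (.leaf (nat_lit 135)) (.node (.node (.leaf (nat_lit 0)) (.node (.node (.node (.node (.leaf (nat_lit 141)) (.leaf (nat_lit 138))) (.leaf (nat_lit 0))) (.leaf (nat_lit 0))) (.leaf (nat_lit 144)))) (.leaf (nat_lit 0)))) (.leaf (nat_lit 0))) (.leaf (nat_lit 0))))) (.leaf (nat_lit 0)))) (.leaf (nat_lit 0)))) (.leaf (nat_lit 0))) (.leaf (nat_lit 0))) (.leaf (nat_lit 0)))) (.leaf (nat_lit 0))) (.leaf (nat_lit 0)))) (.leaf (nat_lit 0))) (.leaf (nat_lit 0)))) (.leaf (nat_lit 0))) (.leaf (nat_lit 0)))) (.leaf (nat_lit 0))) (.leaf (nat_lit 0)))) (.node (.node (.node (.node (.leaf (nat_lit 0)) (.node (.node (.leaf (nat_lit 0)) (.node (.node (.node (.node (.leaf (nat_lit 0)) (.node (.node (.leaf (nat_lit 0)) (.node (.node (.node (.node (.leaf (nat_lit 0)) (.node (.node (.leaf (nat_lit 0)) (.node (.leaf (nat_lit 0)) (.node (.node (.leaf (nat_lit 0)) (.node (.leaf (nat_lit 219)) (.leaf (nat_lit 225)))) (.leaf (nat_lit 0))))) (.leaf (nat_lit 0)))) (.leaf (nat_lit 0))) (.leaf (nat_lit 0))) (.node (.node (.node (.leaf (nat_lit 0)) (.node (.node (.leaf (nat_lit 0)) (.node (.node (.node (.leaf (nat_lit 0)) (.node (.leaf (nat_lit 231)) (.leaf (nat_lit 237)))) (.leaf (nat_lit 0))) (.leaf (nat_lit 0)))) (.leaf (nat_lit 0)))) (.leaf (nat_lit 0))) (.leaf (nat_lit 0))))) (.leaf (nat_lit 0)))) (.leaf (nat_lit 0))) (.leaf (nat_lit 0))) (.node (.node (.node (.leaf (nat_lit 0)) (.node (.node (.leaf (nat_lit 0)) (.node (.node (.node (.node (.leaf (nat_lit 0)) (.node (.node (.leaf (nat_lit 0)) (.node (.node (.node (.leaf (nat_lit 0)) (.node (.leaf (nat_lit 243)) (.leaf (nat_lit 249)))) (.leaf (nat_lit 0))) (.leaf (nat_lit 0)))) (.leaf (nat_lit 0)))) (.leaf (nat_lit 0))) (.leaf (nat_lit 0))) (.node (.node (.node (.leaf (nat_lit 0)) (.node (.node (.leaf (nat_lit 0)) (.node (.leaf (nat_lit 0)) (.node (.node (.leaf (nat_lit 0)) (.node (.leaf (nat_lit 255)) (.leaf (nat_lit 261)))) (.leaf (nat_lit 0))))) (.leaf (nat_lit 0)))) (.leaf (nat_lit 0))) (.leaf (nat_lit 0))))) (.leaf (nat_lit 0)))) (.leaf (nat_lit 0))) (.leaf (nat_lit 0))))) (.leaf (nat_lit 0)))) (.leaf (nat_lit 0))) (.leaf (nat_lit 0))) (.node (.node (.node (.leaf (nat_lit 0)) (.node (.node (.leaf (nat_lit 0)) (.node (.node (.node (.node (.leaf (nat_lit 0)) (.node (.node (.leaf (nat_lit 0)) (.node (.node (.node (.node (.leaf (nat_lit 0)) (.node (.node (.leaf (nat_lit 0)) (.node (.node (.node (.leaf (nat_lit 0)) (.node (.leaf (nat_lit 267)) (.leaf (nat_lit 273)))) (.leaf (nat_lit 0))) (.leaf (nat_lit 0)))) (.leaf (nat_lit 0)))) (.leaf (nat_lit 0))) (.leaf (nat_lit 0))) (.node (.node (.node (.leaf (nat_lit 0)) (.node (.node (.leaf (nat_lit 0)) (.node (.leaf (nat_lit 0)) (.node (.node (.leaf (nat_lit 0)) (.node (.leaf (nat_lit 279)) (.leaf (nat_lit 285)))) (.leaf (nat_lit 0))))) (.leaf (nat_lit 0)))) (.leaf (nat_lit 0))) (.leaf (nat_lit 0))))) (.leaf (nat_lit 0)))) (.leaf (nat_lit 0))) (.leaf (nat_lit 0))) (.node (.node (.node (.leaf (nat_lit 0)) (.node (.node (.leaf (nat_lit 0)) (.node (.node (.node (.node (.leaf (nat_lit 0)) (.node (.node (.leaf (nat_lit 0)) (.node (.leaf (nat_lit 0)) (.node (.node (.leaf (nat_lit 0)) (.node (.leaf (nat_lit 291)) (.leaf (nat_lit 297)))) (.leaf (nat_lit 0))))) (.leaf (nat_lit 0)))) (.leaf (nat_lit 0))) (.leaf (nat_lit 0))) (.node (.node (.node (.leaf (nat_lit 0)) (.node (.node (.leaf (nat_lit 0)) (.node (.node (.node (.leaf (nat_lit 0)) (.node (.leaf (nat_lit 303)) (.leaf (nat_lit 309)))) (.leaf (nat_lit 0))) (.leaf (nat_lit 0)))) (.leaf (nat_lit 0)))) (.leaf (nat_lit 0))) (.leaf (nat_lit 0))))) (.leaf (nat_lit 0)))) (.leaf (nat_lit 0))) (.leaf (nat_lit 0))))) (.leaf (nat_lit 0)))) (.leaf (nat_lit 0))) (.leaf (nat_lit 0))))) (.leaf (nat_lit 0)))) (.node (.node (.node (.node (.node (.leaf (nat_lit 0)) (.node (.leaf (nat_lit 0)) (.node (.node (.node (.node (.leaf (nat_lit 0)) (.node (.node (.leaf (nat_lit 0)) (.node (.node (.node (.node (.leaf (nat_lit 0)) (.node (.node (.leaf (nat_lit 0)) (.node (.leaf (nat_lit 0)) (.node (.node (.node (.leaf (nat_lit 0)) (.node (.node (.node (.leaf (nat_lit 0)) (.node (.node (.node (.leaf (nat_lit 0)) (.node (.node (.node (.leaf (nat_lit 0)) (.node (.node (.node (.leaf (nat_lit 0)) (.node (.node (.node (.leaf (nat_lit 0)) (.node (.node (.node (.leaf (nat_lit 0)) (.node (.node (.node (.node (.leaf (nat_lit 109)) (.leaf (nat_lit 133))) (.leaf (nat_lit 0))) (.leaf (nat_lit 0))) (.leaf (nat_lit 0)))) (.leaf (nat_lit 0))) (.leaf (nat_lit 0)))) (.leaf (nat_lit 0))) (.leaf (nat_lit 0)))) (.leaf (nat_lit 0))) (.leaf (nat_lit 0)))) (.leaf (nat_lit 0))) (.leaf (nat_lit 0)))) (.leaf (nat_lit 0))) (.leaf (nat_lit 0)))) (.leaf (nat_lit 0))) (.leaf (nat_lit 0)))) (.leaf (nat_lit 0))) (.leaf (nat_lit 0))))) (.leaf (nat_lit 0)))) (.leaf (nat_lit 0))) (.leaf (nat_lit 0))) (.node (.node (.node (.leaf (nat_lit 0)) (.node (.node (.leaf (nat_lit 0)) (.node (.node (.node (.node (.leaf (nat_lit 0)) (.node (.node (.node (.leaf (nat_lit 0)) (.node (.node (.node (.leaf (nat_lit 0)) (.node (.node (.node (.leaf (nat_lit 0)) (.node (.node (.node (.leaf (nat_lit 0)) (.node (.node (.node (.node (.leaf (nat_lit 85)) (.leaf (nat_lit 157))) (.leaf (nat_lit 0))) (.leaf (nat_lit 0))) (.leaf (nat_lit 0)))) (.leaf (nat_lit 0))) (.leaf (nat_lit 0)))) (.leaf (nat_lit 0))) (.leaf (nat_lit 0)))) (.leaf (nat_lit 0))) (.leaf (nat_lit 0)))) (.leaf (nat_lit 0))) (.leaf (nat_lit 0)))) (.leaf (nat_lit 0))) (.leaf (nat_lit 0))) (.leaf (nat_lit 0)))) (.leaf (nat_lit 0)))) (.leaf (nat_lit 0))) (.leaf (nat_lit 0))))) (.leaf (nat_lit 0)))) (.leaf (nat_lit 0))) (.leaf (nat_lit 0))) (.node (.node (.node (.leaf (nat_lit 0)) (.node (.node (.leaf (nat_lit 0)) (.node (.node (.node (.node (.leaf (nat_lit 0)) (.node (.node (.leaf (nat_lit 0)) (.node (.node (.node (.node (.leaf (nat_lit 0)) (.node (.node (.node (.leaf (nat_lit 0)) (.node (.node (.node (.leaf (nat_lit 0)) (.node (.node (.node (.node (.leaf (nat_lit 61)) (.leaf (nat_lit 181))) (.leaf (nat_lit 0))) (.leaf (nat_lit 0))) (.leaf (nat_lit 0)))) (.leaf (nat_lit 0))) (.leaf (nat_lit 0)))) (.leaf (nat_lit 0))) (.leaf (nat_lit 0)))) (.leaf (nat_lit 0))) (.leaf (nat_lit 0))) (.leaf (nat_lit 0)))) (.leaf (nat_lit 0)))) (.leaf (nat_lit 0))) (.leaf (nat_lit 0))) (.node (.node (.node (.leaf (nat_lit 0)) (.node (.node (.leaf (nat_lit 0)) (.node (.leaf (nat_lit 0)) (.node (.node (.node (.leaf (nat_lit 0)) (.node (.node (.node (.node (.leaf (nat_lit 37)) (.leaf (nat_lit 205))) (.leaf (nat_lit 0))) (.leaf (nat_lit 0))) (.leaf (nat_lit 0)))) (.leaf (nat_lit 0))) (.leaf (nat_lit 0))))) (.leaf (nat_lit 0)))) (.leaf (nat_lit 0))) (.leaf (nat_lit 0))))) (.leaf (nat_lit 0)))) (.leaf (nat_lit 0))) (.leaf (nat_lit 0)))))) (.node (.node (.leaf (nat_lit 0)) (.node (.node (.node (.node (.node (.leaf (nat_lit 0)) (.node (.leaf (nat_lit 0)) (.node (.node (.node (.node (.leaf (nat_lit 0)) (.node (.node (.leaf (nat_lit 0)) (.node (.leaf (nat_lit 0)) (.node (.node (.node (.leaf (nat_lit 0)) (.node (.node (.node (.node (.leaf (nat_lit 31)) (.leaf (nat_lit 199))) (.leaf (nat_lit 0))) (.leaf (nat_lit 0))) (.leaf (nat_lit 0)))) (.leaf (nat_lit 0))) (.leaf (nat_lit 0))))) (.leaf (nat_lit 0)))) (.leaf (nat_lit 0))) (.leaf (nat_lit 0))) (.node (.node (.node (.leaf (nat_lit 0)) (.node (.node (.leaf (nat_lit 0)) (.node (.node (.node (.node (.leaf (nat_lit 0)) (.node (.node (.node (.leaf (nat_lit 0)) (.node (.node (.node (.leaf (nat_lit 0)) (.node (.node (.node (.node (.leaf (nat_lit 55)) (.leaf (nat_lit 175))) (.leaf (nat_lit 0))) (.leaf (nat_lit 0))) (.leaf (nat_lit 0)))) (.leaf (nat_lit 0))) (.leaf (nat_lit 0)))) (.leaf (nat_lit 0))) (.leaf (nat_lit 0)))) (.leaf (nat_lit 0))) (.leaf (nat_lit 0))) (.leaf (nat_lit 0)))) (.leaf (nat_lit 0)))) (.leaf (nat_lit 0))) (.leaf (nat_lit 0)))))) (.node (.node (.leaf (nat_lit 0)) (.node (.node (.node (.node (.node (.leaf (nat_lit 0)) (.node (.leaf (nat_lit 0)) (.node (.leaf (nat_lit 0)) (.node (.node (.node (.leaf (nat_lit 0)) (.node (.node (.node (.leaf (nat_lit 0)) (.node (.node (.node (.leaf (nat_lit 0)) (.node (.node (.node (.leaf (nat_lit 0)) (.node (.node (.node (.leaf (nat_lit 0)) (.node (.node (.node (.node (.leaf (nat_lit 76)) (.leaf (nat_lit 148))) (.leaf (nat_lit 0))) (.leaf (nat_lit 0))) (.leaf (nat_lit 0)))) (.leaf (nat_lit 0))) (.leaf (nat_lit 0)))) (.leaf (nat_lit 0))) (.leaf (nat_lit 0)))) (.leaf (nat_lit 0))) (.leaf (nat_lit 0)))) (.leaf (nat_lit 0))) (.leaf (nat_lit 0)))) (.leaf (nat_lit 0))) (.leaf (nat_lit 0)))))) (.node (.node (.leaf (nat_lit 0)) (.node (.leaf (nat_lit 0)) (.node (.node (.node (.node (.node (.node (.leaf (nat_lit 0)) (.node (.node (.node (.leaf (nat_lit 0)) (.node (.node (.node (.node (.leaf (nat_lit 52)) (.leaf (nat_lit 172))) (.leaf (nat_lit 0))) (.leaf (nat_lit 0))) (.leaf (nat_lit 0)))) (.leaf (nat_lit 0))) (.leaf (nat_lit 0)))) (.leaf (nat_lit 0))) (.leaf (nat_lit 0))) (.leaf (nat_lit 0))) (.leaf (nat_lit 0))) (.leaf (nat_lit 0))))) (.leaf (nat_lit 0)))) (.leaf (nat_lit 0))) (.leaf (nat_lit 0))) (.node (.node (.node (.node (.node (.leaf (nat_lit 0)) (.node (.node (.node (.node (.leaf (nat_lit 0)) (.node (.node (.node (.leaf (nat_lit 0)) (.node (.node (.node (.leaf (nat_lit 0)) (.node (.node (.node (.leaf (nat_lit 0)) (.node (.node (.node (.leaf (nat_lit 0)) (.node (.node (.node (.leaf (nat_lit 0)) (.node (.node (.node (.leaf (nat_lit 0)) (.node (.node (.node (.node (.leaf (nat_lit 100)) (.leaf (nat_lit 124))) (.leaf (nat_lit 0))) (.leaf (nat_lit 0))) (.leaf (nat_lit 0)))) (.leaf (nat_lit 0))) (.leaf (nat_lit 0)))) (.leaf (nat_lit 0))) (.leaf (nat_lit 0)))) (.leaf (nat_lit 0))) (.leaf (nat_lit 0)))) (.leaf (nat_lit 0))) (.leaf (nat_lit 0)))) (.leaf (nat_lit 0))) (.leaf (nat_lit 0)))) (.leaf (nat_lit 0))) (.leaf (nat_lit 0)))) (.leaf (nat_lit 0))) (.leaf (nat_lit 0))) (.leaf (nat_lit 0)))) (.leaf (nat_lit 0))) (.node (.node (.leaf (nat_lit 0)) (.node (.node (.node (.node (.node (.leaf (nat_lit 0)) (.node (.node (.node (.leaf (nat_lit 28)) (.leaf (nat_lit 196))) (.leaf (nat_lit 0))) (.leaf (nat_lit 0)))) (.leaf (nat_lit 0))) (.leaf (nat_lit 0))) (.leaf (nat_lit 0))) (.leaf (nat_lit 0)))) (.leaf (nat_lit 0)))) (.leaf (nat_lit 0))) (.leaf (nat_lit 0))))) (.leaf (nat_lit 0)))) (.leaf (nat_lit 0))) (.leaf (nat_lit 0))) (.node (.node (.node (.node (.node (.leaf (nat_lit 0)) (.node (.node (.node (.node (.leaf (nat_lit 0)) (.node (.node (.leaf (nat_lit 0)) (.node (.node (.node (.node (.leaf (nat_lit 0)) (.node (.node (.node (.leaf (nat_lit 0)) (.node (.node (.node (.leaf (nat_lit 0)) (.node (.node (.node (.leaf (nat_lit 0)) (.node (.node (.node (.leaf (nat_lit 0)) (.node (.node (.node (.node (.leaf (nat_lit 79)) (.leaf (nat_lit 151))) (.leaf (nat_lit 0))) (.leaf (nat_lit 0))) (.leaf (nat_lit 0)))) (.leaf (nat_lit 0))) (.leaf (nat_lit 0)))) (.leaf (nat_lit 0))) (.leaf (nat_lit 0)))) (.leaf (nat_lit 0))) (.leaf (nat_lit 0)))) (.leaf (nat_lit 0))) (.leaf (nat_lit 0)))) (.leaf (nat_lit 0))) (.leaf (nat_lit 0))) (.leaf (nat_lit 0)))) (.leaf (nat_lit 0)))) (.leaf (nat_lit 0))) (.leaf (nat_lit 0))) (.node (.node (.node (.leaf (nat_lit 0)) (.node (.node (.leaf (nat_lit 0)) (.node (.leaf (nat_lit 0)) (.node (.node (.node (.leaf (nat_lit 0)) (.node (.node (.node (.leaf (nat_lit 0)) (.node (.node (.node (.leaf (nat_lit 0)) (.node (.node (.node (.leaf (nat_lit 0)) (.node (.node (.node (.leaf (nat_lit 0)) (.node (.node (.node (.leaf (nat_lit 0)) (.node (.node (.node (.leaf (nat_lit 0)) (.node (.node (.node (.node (.leaf (nat_lit 103)) (.leaf (nat_lit 127))) (.leaf (nat_lit 0))) (.leaf (nat_lit 0))) (.leaf (nat_lit 0)))) (.leaf (nat_lit 0))) (.leaf (nat_lit 0)))) (.leaf (nat_lit 0))) (.leaf (nat_lit 0)))) (.leaf (nat_lit 0))) (.leaf (nat_lit 0)))) (.leaf (nat_lit 0))) (.leaf (nat_lit 0)))) (.leaf (nat_lit 0))) (.leaf (nat_lit 0)))) (.leaf (nat_lit 0))) (.leaf (nat_lit 0)))) (.leaf (nat_lit 0))) (.leaf (nat_lit 0))))) (.leaf (nat_lit 0)))) (.leaf (nat_lit 0))) (.leaf (nat_lit 0))))) (.leaf (nat_lit 0))) (.node (.node (.leaf (nat_lit 0)) (.node (.node (.node (.node (.node (.leaf (nat_lit 0)) (.node (.leaf (nat_lit 0)) (.node (.node (.node (.node (.leaf (nat_lit 0)) (.node (.node (.node (.node (.leaf (nat_lit 34)) (.leaf (nat_lit 202))) (.leaf (nat_lit 0))) (.leaf (nat_lit 0))) (.leaf (nat_lit 0)))) (.leaf (nat_lit 0))) (.leaf (nat_lit 0))) (.leaf (nat_lit 0))))) (.node (.node (.leaf (nat_lit 0)) (.node (.node (.node (.node (.node (.leaf (nat_lit 0)) (.node (.node (.leaf (nat_lit 0)) (.node (.node (.node (.leaf (nat_lit 0)) (.node (.node (.node (.leaf (nat_lit 0)) (.node (.node (.node (.leaf (nat_lit 0)) (.node (.node (.node (.leaf (nat_lit 0)) (.node (.node (.node (.leaf (nat_lit 0)) (.node (.node (.node (.node (.leaf (nat_lit 106)) (.leaf (nat_lit 130))) (.leaf (nat_lit 0))) (.leaf (nat_lit 0))) (.leaf (nat_lit 0)))) (.leaf (nat_lit 0))) (.leaf (nat_lit 0)))) (.leaf (nat_lit 0))) (.leaf (nat_lit 0)))) (.leaf (nat_lit 0))) (.leaf (nat_lit 0)))) (.leaf (nat_lit 0))) (.leaf (nat_lit 0)))) (.leaf (nat_lit 0))) (.leaf (nat_lit 0)))) (.leaf (nat_lit 0)))) (.leaf (nat_lit 0))) (.leaf (nat_lit 0))) (.leaf (nat_lit 0))) (.leaf (nat_lit 0)))) (.leaf (nat_lit 0)))) (.leaf (nat_lit 0))) (.leaf (nat_lit 0))) (.node (.node (.node (.node (.node (.leaf (nat_lit 0)) (.node (.leaf (nat_lit 0)) (.node (.node (.node (.leaf (nat_lit 0)) (.node (.node (.node (.leaf (nat_lit 0)) (.node (.node (.node (.leaf (nat_lit 0)) (.node (.node (.node (.node (.leaf (nat_lit 58)) (.leaf (nat_lit 178))) (.leaf (nat_lit 0))) (.leaf (nat_lit 0))) (.leaf (nat_lit 0)))) (.leaf (nat_lit 0))) (.leaf (nat_lit 0)))) (.leaf (nat_lit 0))) (.leaf (nat_lit 0)))) (.leaf (nat_lit 0))) (.leaf (nat_lit 0))))) (.leaf (nat_lit 0))) (.node (.node (.leaf (nat_lit 0)) (.node (.leaf (nat_lit 0)) (.node (.node (.node (.node (.node (.node (.leaf (nat_lit 0)) (.node (.node (.node (.leaf (nat_lit 0)) (.node (.node (.node (.leaf (nat_lit 0)) (.node (.node (.node (.leaf (nat_lit 0)) (.node (.node (.node (.node (.leaf (nat_lit 82)) (.leaf (nat_lit 154))) (.leaf (nat_lit 0))) (.leaf (nat_lit 0))) (.leaf (nat_lit 0)))) (.leaf (nat_lit 0))) (.leaf (nat_lit 0)))) (.leaf (nat_lit 0))) (.leaf (nat_lit 0)))) (.leaf (nat_lit 0))) (.leaf (nat_lit 0)))) (.leaf (nat_lit 0))) (.leaf (nat_lit 0))) (.leaf (nat_lit 0))) (.leaf (nat_lit 0))) (.leaf (nat_lit 0))))) (.leaf (nat_lit 0)))) (.leaf (nat_lit 0))) (.leaf (nat_lit 0))))) (.leaf (nat_lit 0)))) (.leaf (nat_lit 0))) (.leaf (nat_lit 0))))) (.leaf (nat_lit 0)))) (.node (.leaf (nat_lit 0)) (.node (.node (.leaf (nat_lit 0)) (.node (.node (.node (.leaf (nat_lit 0)) (.node (.leaf (nat_lit 0)) (.node (.node (.leaf (nat_lit 0)) (.node (.node (.node (.leaf (nat_lit 0)) (.node (.leaf (nat_lit 0)) (.node (.node (.leaf (nat_lit 0)) (.node (.node (.node (.leaf (nat_lit 0)) (.node (.leaf (nat_lit 0)) (.node (.node (.node (.leaf (nat_lit 0)) (.node (.node (.leaf (nat_lit 0)) (.node (.leaf (nat_lit 256)) (.leaf (nat_lit 268)))) (.leaf (nat_lit 0)))) (.leaf (nat_lit 0))) (.leaf (nat_lit 0))))) (.leaf (nat_lit 0))) (.leaf (nat_lit 0)))) (.leaf (nat_lit 0))))) (.leaf (nat_lit 0))) (.node (.node (.leaf (nat_lit 0)) (.node (.node (.node (.leaf (nat_lit 0)) (.node (.leaf (nat_lit 0)) (.node (.node (.leaf (nat_lit 0)) (.node (.node (.node (.node (.leaf (nat_lit 0)) (.node (.node (.leaf (nat_lit 0)) (.node (.leaf (nat_lit 220)) (.leaf (nat_lit 304)))) (.leaf (nat_lit 0)))) (.leaf (nat_lit 0))) (.leaf (nat_lit 0))) (.leaf (nat_lit 0)))) (.leaf (nat_lit 0))))) (.leaf (nat_lit 0))) (.leaf (nat_lit 0)))) (.leaf (nat_lit 0))))) (.leaf (nat_lit 0))))) (.leaf (nat_lit 0))) (.node (.node (.leaf (nat_lit 0)) (.node (.node (.node (.leaf (nat_lit 0)) (.node (.node (.node (.leaf (nat_lit 0)) (.node (.leaf (nat_lit 0)) (.node (.node (.leaf (nat_lit 0)) (.node (.leaf (nat_lit 0)) (.node (.node (.leaf (nat_lit 0)) (.node (.node (.node (.node (.leaf (nat_lit 0)) (.node (.node (.leaf (nat_lit 0)) (.node (.leaf (nat_lit 244)) (.leaf (nat_lit 280)))) (.leaf (nat_lit 0)))) (.leaf (nat_lit 0))) (.leaf (nat_lit 0))) (.leaf (nat_lit 0)))) (.leaf (nat_lit 0))))) (.leaf (nat_lit 0))))) (.leaf (nat_lit 0))) (.node (.node (.leaf (nat_lit 0)) (.node (.node (.node (.leaf (nat_lit 0)) (.node (.node (.node (.leaf (nat_lit 0)) (.node (.leaf (nat_lit 0)) (.node (.node (.node (.leaf (nat_lit 0)) (.node (.node (.leaf (nat_lit 0)) (.node (.leaf (nat_lit 232)) (.leaf (nat_lit 292)))) (.leaf (nat_lit 0)))) (.leaf (nat_lit 0))) (.leaf (nat_lit 0))))) (.leaf (nat_lit 0))) (.leaf (nat_lit 0)))) (.leaf (nat_lit 0))) (.leaf (nat_lit 0)))) (.leaf (nat_lit 0))))) (.leaf (nat_lit 0))) (.leaf (nat_lit 0)))) (.leaf (nat_lit 0))))) (.leaf (nat_lit 0))))) (.leaf (nat_lit 0))) (.node (.node (.node (.node (.node (.leaf (nat_lit 0)) (.node (.node (.node (.node (.leaf (nat_lit 0)) (.node (.node (.leaf (nat_lit 0)) (.node (.node (.node (.node (.leaf (nat_lit 0)) (.node (.node (.leaf (nat_lit 0)) (.node (.node (.node (.node (.leaf (nat_lit 0)) (.node (.node (.node (.node (.leaf (nat_lit 40)) (.leaf (nat_lit 208))) (.leaf (nat_lit 0))) (.leaf (nat_lit 0))) (.leaf (nat_lit 0)))) (.leaf (nat_lit 0))) (.leaf (nat_lit 0))) (.leaf (nat_lit 0)))) (.leaf (nat_lit 0)))) (.leaf (nat_lit 0))) (.leaf (nat_lit 0))) (.node (.node (.node (.leaf (nat_lit 0)) (.node (.node (.leaf (nat_lit 0)) (.node (.leaf (nat_lit 0)) (.node (.node (.node (.leaf (nat_lit 0)) (.node (.node (.node (.leaf (nat_lit 0)) (.node (.node (.node (.leaf (nat_lit 0)) (.node (.node (.node (.node (.leaf (nat_lit 64)) (.leaf (nat_lit 184))) (.leaf (nat_lit 0))) (.leaf (nat_lit 0))) (.leaf (nat_lit 0)))) (.leaf (nat_lit 0))) (.leaf (nat_lit 0)))) (.leaf (nat_lit 0))) (.leaf (nat_lit 0)))) (.leaf (nat_lit 0))) (.leaf (nat_lit 0))))) (.leaf (nat_lit 0)))) (.leaf (nat_lit 0))) (.leaf (nat_lit 0))))) (.leaf (nat_lit 0)))) (.leaf (nat_lit 0))) (.leaf (nat_lit 0))) (.node (.node (.node (.leaf (nat_lit 0)) (.node (.node (.leaf (nat_lit 0)) (.node (.node (.node (.node (.leaf (nat_lit 0)) (.node (.node (.leaf (nat_lit 0)) (.node (.leaf (nat_lit 0)) (.node (.node (.node (.leaf (nat_lit 0)) (.node (.node (.node (.leaf (nat_lit 0)) (.node (.node (.node (.leaf (nat_lit 0)) (.node (.node (.node (.leaf (nat_lit 0)) (.node (.node (.node (.leaf (nat_lit 0)) (.node (.node (.node (.node (.leaf (nat_lit 88)) (.leaf (nat_lit 160))) (.leaf (nat_lit 0))) (.leaf (nat_lit 0))) (.leaf (nat_lit 0)))) (.leaf (nat_lit 0))) (.leaf (nat_lit 0)))) (.leaf (nat_lit 0))) (.leaf (nat_lit 0)))) (.leaf (nat_lit 0))) (.leaf (nat_lit 0)))) (.leaf (nat_lit 0))) (.leaf (nat_lit 0)))) (.leaf (nat_lit 0))) (.leaf (nat_lit 0))))) (.leaf (nat_lit 0)))) (.leaf (nat_lit 0))) (.leaf (nat_lit 0))) (.node (.node (.node (.leaf (nat_lit 0)) (.node (.node (.leaf (nat_lit 0)) (.node (.node (.node (.node (.leaf (nat_lit 0)) (.node (.node (.node (.leaf (nat_lit 0)) (.node (.node (.node (.leaf (nat_lit 0)) (.node (.node (.node (.leaf (nat_lit 0)) (.node (.node (.node (.leaf (nat_lit 0)) (.node (.node (.node (.leaf (nat_lit 0)) (.node (.node (.node (.leaf (nat_lit 0)) (.node (.node (.node (.node (.leaf (nat_lit 112)) (.leaf (nat_lit 136))) (.leaf (nat_lit 0))) (.leaf (nat_lit 0))) (.leaf (nat_lit 0)))) (.leaf (nat_lit 0))) (.leaf (nat_lit 0)))) (.leaf (nat_lit 0))) (.leaf (nat_lit 0)))) (.leaf (nat_lit 0))) (.leaf (nat_lit 0)))) (.leaf (nat_lit 0))) (.leaf (nat_lit 0)))) (.leaf (nat_lit 0))) (.leaf (nat_lit 0)))) (.leaf (nat_lit 0))) (.leaf (nat_lit 0)))) (.leaf (nat_lit 0))) (.leaf (nat_lit 0))) (.leaf (nat_lit 0)))) (.leaf (nat_lit 0)))) (.leaf (nat_lit 0))) (.leaf (nat_lit 0))))) (.leaf (nat_lit 0)))) (.leaf (nat_lit 0))) (.leaf (nat_lit 0))))) (.leaf (nat_lit 0))) (.node (.node (.leaf (nat_lit 0)) (.node (.node (.node (.node (.node (.leaf (nat_lit 0)) (.node (.leaf (nat_lit 0)) (.node (.node (.node (.node (.leaf (nat_lit 0)) (.node (.node (.leaf (nat_lit 0)) (.node (.node (.node (.node (.leaf (nat_lit 0)) (.node (.node (.node (.leaf (nat_lit 0)) (.node (.node (.node (.leaf (nat_lit 0)) (.node (.node (.node (.leaf (nat_lit 0)) (.node (.node (.node (.leaf (nat_lit 0)) (.node (.node (.node (.leaf (nat_lit 0)) (.node (.node (.node (.leaf (nat_lit 0)) (.node (.node (.node (.node (.leaf (nat_lit 118)) (.leaf (nat_lit 142))) (.leaf (nat_lit 0))) (.leaf (nat_lit 0))) (.leaf (nat_lit 0)))) (.leaf (nat_lit 0))) (.leaf (nat_lit 0)))) (.leaf (nat_lit 0))) (.leaf (nat_lit 0)))) (.leaf (nat_lit 0))) (.leaf (nat_lit 0)))) (.leaf (nat_lit 0))) (.leaf (nat_lit 0)))) (.leaf (nat_lit 0))) (.leaf (nat_lit 0)))) (.leaf (nat_lit 0))) (.leaf (nat_lit 0)))) (.leaf (nat_lit 0))) (.leaf (nat_lit 0))) (.leaf (nat_lit 0)))) (.leaf (nat_lit 0)))) (.leaf (nat_lit 0))) (.leaf (nat_lit 0))) (.node (.node (.node (.leaf (nat_lit 0)) (.node (.node (.leaf (nat_lit 0)) (.node (.leaf (nat_lit 0)) (.node (.node (.node (.leaf (nat_lit 0)) (.node (.node (.node (.leaf (nat_lit 0)) (.node (.node (.node (.leaf (nat_lit 0)) (.node (.node (.node (.leaf (nat_lit 0)) (.node (.node (.node (.leaf (nat_lit 0)) (.node (.node (.node (.node (.leaf (nat_lit 94)) (.leaf (nat_lit 166))) (.leaf (nat_lit 0))) (.leaf (nat_lit 0))) (.leaf (nat_lit 0)))) (.leaf (nat_lit 0))) (.leaf (nat_lit 0)))) (.leaf (nat_lit 0))) (.leaf (nat_lit 0)))) (.leaf (nat_lit 0))) (.leaf (nat_lit 0)))) (.leaf (nat_lit 0))) (.leaf (nat_lit 0)))) (.leaf (nat_lit 0))) (.leaf (nat_lit 0))))) (.leaf (nat_lit 0)))) (.leaf (nat_lit 0))) (.leaf (nat_lit 0)))))) (.node (.node (.leaf (nat_lit 0)) (.node (.node (.node (.node (.node (.leaf (nat_lit 0)) (.node (.leaf (nat_lit 0)) (.node (.node (.node (.node (.leaf (nat_lit 0)) (.node (.node (.node (.leaf (nat_lit 0)) (.node (.node (.node (.leaf (nat_lit 0)) (.node (.node (.node (.node (.leaf (nat_lit 67)) (.leaf (nat_lit 187))) (.leaf (nat_lit 0))) (.leaf (nat_lit 0))) (.leaf (nat_lit 0)))) (.leaf (nat_lit 0))) (.leaf (nat_lit 0)))) (.leaf (nat_lit 0))) (.leaf (nat_lit 0)))) (.leaf (nat_lit 0))) (.leaf (nat_lit 0))) (.leaf (nat_lit 0))))) (.node (.node (.leaf (nat_lit 0)) (.node (.node (.node (.node (.node (.leaf (nat_lit 0)) (.node (.node (.leaf (nat_lit 0)) (.node (.node (.node (.leaf (nat_lit 0)) (.node (.node (.node (.leaf (nat_lit 0)) (.node (.node (.node (.leaf (nat_lit 0)) (.node (.node (.node (.node (.leaf (nat_lit 91)) (.leaf (nat_lit 163))) (.leaf (nat_lit 0))) (.leaf (nat_lit 0))) (.leaf (nat_lit 0)))) (.leaf (nat_lit 0))) (.leaf (nat_lit 0)))) (.leaf (nat_lit 0))) (.leaf (nat_lit 0)))) (.leaf (nat_lit 0))) (.leaf (nat_lit 0)))) (.leaf (nat_lit 0)))) (.leaf (nat_lit 0))) (.leaf (nat_lit 0))) (.leaf (nat_lit 0))) (.leaf (nat_lit 0)))) (.leaf (nat_lit 0)))) (.leaf (nat_lit 0))) (.leaf (nat_lit 0))) (.node (.node (.node (.node (.node (.leaf (nat_lit 0)) (.node (.leaf (nat_lit 0)) (.node (.node (.node (.leaf (nat_lit 0)) (.node (.node (.node (.node (.leaf (nat_lit 43)) (.leaf (nat_lit 211))) (.leaf (nat_lit 0))) (.leaf (nat_lit 0))) (.leaf (nat_lit 0)))) (.leaf (nat_lit 0))) (.leaf (nat_lit 0))))) (.leaf (nat_lit 0))) (.node (.node (.leaf (nat_lit 0)) (.node (.leaf (nat_lit 0)) (.node (.node (.node (.node (.node (.node (.leaf (nat_lit 0)) (.node (.node (.node (.leaf (nat_lit 0)) (.node (.node (.node (.leaf (nat_lit 0)) (.node (.node (.node (.leaf (nat_lit 0)) (.node (.node (.node (.leaf (nat_lit 0)) (.node (.node (.node (.leaf (nat_lit 0)) (.node (.node (.node (.node (.leaf (nat_lit 115)) (.leaf (nat_lit 139))) (.leaf (nat_lit 0))) (.leaf (nat_lit 0))) (.leaf (nat_lit 0)))) (.leaf (nat_lit 0))) (.leaf (nat_lit 0)))) (.leaf (nat_lit 0))) (.leaf (nat_lit 0)))) (.leaf (nat_lit 0))) (.leaf (nat_lit 0)))) (.leaf (nat_lit 0))) (.leaf (nat_lit 0)))) (.leaf (nat_lit 0))) (.leaf (nat_lit 0)))) (.leaf (nat_lit 0))) (.leaf (nat_lit 0))) (.leaf (nat_lit 0))) (.leaf (nat_lit 0))) (.leaf (nat_lit 0))))) (.leaf (nat_lit 0)))) (.leaf (nat_lit 0))) (.leaf (nat_lit 0))))) (.leaf (nat_lit 0)))) (.leaf (nat_lit 0))) (.leaf (nat_lit 0))) (.node (.node (.node (.node (.node (.leaf (nat_lit 0)) (.node (.node (.node (.node (.leaf (nat_lit 0)) (.node (.node (.leaf (nat_lit 0)) (.node (.leaf (nat_lit 0)) (.node (.node (.node (.leaf (nat_lit 0)) (.node (.node (.node (.leaf (nat_lit 0)) (.node (.node (.node (.leaf (nat_lit 0)) (.node (.node (.node (.node (.leaf (nat_lit 70)) (.leaf (nat_lit 190))) (.leaf (nat_lit 0))) (.leaf (nat_lit 0))) (.leaf (nat_lit 0)))) (.leaf (nat_lit 0))) (.leaf (nat_lit 0)))) (.leaf (nat_lit 0))) (.leaf (nat_lit 0)))) (.leaf (nat_lit 0))) (.leaf (nat_lit 0))))) (.leaf (nat_lit 0)))) (.leaf (nat_lit 0))) (.leaf (nat_lit 0))) (.node (.node (.node (.leaf (nat_lit 0)) (.node (.node (.leaf (nat_lit 0)) (.node (.node (.node (.node (.leaf (nat_lit 0)) (.node (.node (.node (.node (.leaf (nat_lit 46)) (.leaf (nat_lit 214))) (.leaf (nat_lit 0))) (.leaf (nat_lit 0))) (.leaf (nat_lit 0)))) (.leaf (nat_lit 0))) (.leaf (nat_lit 0))) (.leaf (nat_lit 0)))) (.leaf (nat_lit 0)))) (.leaf (nat_lit 0))) (.leaf (nat_lit 0))))) (.leaf (nat_lit 0))) (.node (.node (.leaf (nat_lit 0)) (.node (.node (.node (.node (.node (.leaf (nat_lit 0)) (.node (.leaf (nat_lit 0)) (.node (.leaf (nat_lit 0)) (.node (.node (.node (.leaf (nat_lit 0)) (.node (.node (.node (.leaf (nat_lit 0)) (.node (.node (.node (.leaf (nat_lit 0)) (.node (.node (.node (.leaf (nat_lit 0)) (.node (.node (.node (.leaf (nat_lit 0)) (.node (.node (.node (.leaf (nat_lit 0)) (.node (.node (.node (.leaf (nat_lit 0)) (.node (.node (.node (.node (.leaf (nat_lit 121)) (.leaf (nat_lit 145))) (.leaf (nat_lit 0))) (.leaf (nat_lit 0))) (.leaf (nat_lit 0)))) (.leaf (nat_lit 0))) (.leaf (nat_lit 0)))) (.leaf (nat_lit 0))) (.leaf (nat_lit 0)))) (.leaf (nat_lit 0))) (.leaf (nat_lit 0)))) (.leaf (nat_lit 0))) (.leaf (nat_lit 0)))) (.leaf (nat_lit 0))) (.leaf (nat_lit 0)))) (.leaf (nat_lit 0))) (.leaf (nat_lit 0)))) (.leaf (nat_lit 0))) (.leaf (nat_lit 0)))))) (.node (.node (.leaf (nat_lit 0)) (.node (.leaf (nat_lit 0)) (.node (.node (.node (.node (.node (.node (.node (.leaf (nat_lit 49)) (.leaf (nat_lit 217))) (.leaf (nat_lit 0))) (.leaf (nat_lit 0))) (.leaf (nat_lit 0))) (.leaf (nat_lit 0))) (.leaf (nat_lit 0))) (.leaf (nat_lit 0))))) (.leaf (nat_lit 0)))) (.leaf (nat_lit 0))) (.leaf (nat_lit 0))) (.node (.node (.node (.node (.node (.leaf (nat_lit 0)) (.node (.node (.node (.node (.leaf (nat_lit 0)) (.node (.node (.node (.leaf (nat_lit 0)) (.node (.node (.node (.leaf (nat_lit 0)) (.node (.node (.node (.leaf (nat_lit 0)) (.node (.node (.node (.leaf (nat_lit 0)) (.node (.node (.node (.node (.leaf (nat_lit 97)) (.leaf (nat_lit 169))) (.leaf (nat_lit 0))) (.leaf (nat_lit 0))) (.leaf (nat_lit 0)))) (.leaf (nat_lit 0))) (.leaf (nat_lit 0)))) (.leaf (nat_lit 0))) (.leaf (nat_lit 0)))) (.leaf (nat_lit 0))) (.leaf (nat_lit 0)))) (.leaf (nat_lit 0))) (.leaf (nat_lit 0)))) (.leaf (nat_lit 0))) (.leaf (nat_lit 0))) (.leaf (nat_lit 0)))) (.leaf (nat_lit 0))) (.node (.node (.leaf (nat_lit 0)) (.node (.node (.node (.node (.node (.leaf (nat_lit 0)) (.node (.node (.leaf (nat_lit 0)) (.node (.node (.node (.leaf (nat_lit 0)) (.node (.node (.node (.node (.leaf (nat_lit 73)) (.leaf (nat_lit 193))) (.leaf (nat_lit 0))) (.leaf (nat_lit 0))) (.leaf (nat_lit 0)))) (.leaf (nat_lit 0))) (.leaf (nat_lit 0)))) (.leaf (nat_lit 0)))) (.leaf (nat_lit 0))) (.leaf (nat_lit 0))) (.leaf (nat_lit 0))) (.leaf (nat_lit 0)))) (.leaf (nat_lit 0)))) (.leaf (nat_lit 0))) (.leaf (nat_lit 0))))) (.leaf (nat_lit 0)))) (.leaf (nat_lit 0))) (.leaf (nat_lit 0))))) (.leaf (nat_lit 0)))) (.node (.node (.node (.leaf (nat_lit 0)) (.node (.node (.node (.leaf (nat_lit 0)) (.node (.leaf (nat_lit 0)) (.node (.node (.leaf (nat_lit 0)) (.node (.node (.node (.leaf (nat_lit 0)) (.node (.leaf (nat_lit 0)) (.node (.node (.leaf (nat_lit 0)) (.node (.leaf (nat_lit 0)) (.node (.node (.leaf (nat_lit 0)) (.node (.node (.node (.node (.leaf (nat_lit 0)) (.node (.node (.leaf (nat_lit 0)) (.node (.leaf (nat_lit 238)) (.leaf (nat_lit 298)))) (.leaf (nat_lit 0)))) (.leaf (nat_lit 0))) (.leaf (nat_lit 0))) (.leaf (nat_lit 0)))) (.leaf (nat_lit 0))))) (.leaf (nat_lit 0))))) (.leaf (nat_lit 0))) (.node (.node (.leaf (nat_lit 0)) (.node (.node (.node (.leaf (nat_lit 0)) (.node (.node (.node (.leaf (nat_lit 0)) (.node (.leaf (nat_lit 0)) (.node (.node (.node (.leaf (nat_lit 0)) (.node (.node (.leaf (nat_lit 0)) (.node (.leaf (nat_lit 250)) (.leaf (nat_lit 286)))) (.leaf (nat_lit 0)))) (.leaf (nat_lit 0))) (.leaf (nat_lit 0))))) (.leaf (nat_lit 0))) (.leaf (nat_lit 0)))) (.leaf (nat_lit 0))) (.leaf (nat_lit 0)))) (.leaf (nat_lit 0))))) (.leaf (nat_lit 0))))) (.leaf (nat_lit 0))) (.node (.node (.leaf (nat_lit 0)) (.node (.node (.node (.leaf (nat_lit 0)) (.node (.node (.node (.leaf (nat_lit 0)) (.node (.leaf (nat_lit 0)) (.node (.node (.leaf (nat_lit 0)) (.node (.node (.node (.leaf (nat_lit 0)) (.node (.leaf (nat_lit 0)) (.node (.node (.node (.leaf (nat_lit 0)) (.node (.node (.leaf (nat_lit 0)) (.node (.leaf (nat_lit 226)) (.leaf (nat_lit 310)))) (.leaf (nat_lit 0)))) (.leaf (nat_lit 0))) (.leaf (nat_lit 0))))) (.leaf (nat_lit 0))) (.leaf (nat_lit 0)))) (.leaf (nat_lit 0))))) (.leaf (nat_lit 0))) (.node (.node (.leaf (nat_lit 0)) (.node (.node (.node (.leaf (nat_lit 0)) (.node (.leaf (nat_lit 0)) (.node (.node (.leaf (nat_lit 0)) (.node (.node (.node (.node (.leaf (nat_lit 0)) (.node (.node (.leaf (nat_lit 0)) (.node (.leaf (nat_lit 262)) (.leaf (nat_lit 274)))) (.leaf (nat_lit 0)))) (.leaf (nat_lit 0))) (.leaf (nat_lit 0))) (.leaf (nat_lit 0)))) (.leaf (nat_lit 0))))) (.leaf (nat_lit 0))) (.leaf (nat_lit 0)))) (.leaf (nat_lit 0))))) (.leaf (nat_lit 0))) (.leaf (nat_lit 0)))) (.leaf (nat_lit 0))))) (.leaf (nat_lit 0))) (.leaf (nat_lit 0)))) (.leaf (nat_lit 0))))) (.leaf (nat_lit 0)))) (.leaf (nat_lit 0))) (.leaf (nat_lit 0)))) (.leaf (nat_lit 0))) (.leaf (nat_lit 0)))) (.leaf (nat_lit 0))) (.leaf (nat_lit 0)))) (.leaf (nat_lit 0))) (.leaf (nat_lit 0)))) (.leaf (nat_lit 0))) (.leaf (nat_lit 0)))) (.leaf (nat_lit 0))) (.leaf (nat_lit 0)))) (.leaf (nat_lit 0)))) (.node (.node (.node (.leaf (nat_lit 0)) (.node (.node (.node (.leaf (nat_lit 0)) (.node (.node (.node (.leaf (nat_lit 0)) (.node (.node (.node (.leaf (nat_lit 0)) (.node (.node (.node (.leaf (nat_lit 0)) (.node (.node (.node (.leaf (nat_lit 0)) (.node (.node (.node (.leaf (nat_lit 0)) (.node (.node (.node (.leaf (nat_lit 0)) (.node (.leaf (nat_lit 2)) (.leaf (nat_lit 1)))) (.node (.leaf (nat_lit 0)) (.node (.node (.node (.node (.node (.leaf (nat_lit 0)) (.node (.leaf (nat_lit 0)) (.node (.node (.node (.leaf (nat_lit 0)) (.node (.node (.leaf (nat_lit 0)) (.node (.leaf (nat_lit 0)) (.node (.node (.node (.leaf (nat_lit 0)) (.node (.node (.leaf (nat_lit 0)) (.node (.leaf (nat_lit 0)) (.node (.node (.node (.leaf (nat_lit 0)) (.node (.node (.leaf (nat_lit 0)) (.node (.node (.node (.node (.leaf (nat_lit 14)) (.node (.node (.leaf (nat_lit 0)) (.node (.leaf (nat_lit 5)) (.node (.node (.node (.leaf (nat_lit 8)) (.leaf (nat_lit 11))) (.leaf (nat_lit 0))) (.leaf (nat_lit 0))))) (.leaf (nat_lit 0)))) (.leaf (nat_lit 0))) (.leaf (nat_lit 0))) (.node (.node (.node (.leaf (nat_lit 17)) (.node (.node (.leaf (nat_lit 0)) (.node (.node (.node (.node (.leaf (nat_lit 23)) (.leaf (nat_lit 20))) (.leaf (nat_lit 0))) (.leaf (nat_lit 0))) (.leaf (nat_lit 26)))) (.leaf (nat_lit 0)))) (.leaf (nat_lit 0))) (.leaf (nat_lit 0))))) (.leaf (nat_lit 0)))) (.leaf (nat_lit 0))) (.leaf (nat_lit 0))))) (.leaf (nat_lit 0)))) (.leaf (nat_lit 0))) (.leaf (nat_lit 0))))) (.leaf (nat_lit 0)))) (.leaf (nat_lit 0))) (.leaf (nat_lit 0))))) (.leaf (nat_lit 0))) (.leaf (nat_lit 0))) (.leaf (nat_lit 0))) (.leaf (nat_lit 0))))) (.leaf (nat_lit 0)))) (.leaf (nat_lit 0))) (.leaf (nat_lit 0)))) (.leaf (nat_lit 0))) (.leaf (nat_lit 0)))) (.leaf (nat_lit 0))) (.leaf (nat_lit 0)))) (.leaf (nat_lit 0))) (.leaf (nat_lit 0)))) (.leaf (nat_lit 0))) (.leaf (nat_lit 0)))) (.leaf (nat_lit 0))) (.leaf (nat_lit 0)))) (.node (.node (.node (.node (.leaf (nat_lit 0)) (.node (.node (.leaf (nat_lit 0)) (.node (.node (.node (.node (.leaf (nat_lit 0)) (.node (.node (.leaf (nat_lit 0)) (.node (.node (.node (.node (.leaf (nat_lit 0)) (.node (.node (.leaf (nat_lit 0)) (.node (.leaf (nat_lit 0)) (.node (.node (.node (.node (.leaf (nat_lit 0)) (.node (.node (.leaf (nat_lit 0)) (.node (.node (.node (.leaf (nat_lit 0)) (.node (.node (.node (.leaf (nat_lit 0)) (.node (.node (.node (.leaf (nat_lit 0)) (.node (.node (.node (.leaf (nat_lit 0)) (.node (.node (.node (.leaf (nat_lit 0)) (.node (.node (.node (.leaf (nat_lit 0)) (.node (.node (.leaf (nat_lit 0)) (.node (.leaf (nat_lit 221)) (.leaf (nat_lit 227)))) (.leaf (nat_lit 0)))) (.leaf (nat_lit 0))) (.leaf (nat_lit 0)))) (.leaf (nat_lit 0))) (.leaf (nat_lit 0)))) (.leaf (nat_lit 0))) (.leaf (nat_lit 0)))) (.leaf (nat_lit 0))) (.leaf (nat_lit 0)))) (.leaf (nat_lit 0))) (.leaf (nat_lit 0)))) (.leaf (nat_lit 0))) (.leaf (nat_lit 0)))) (.leaf (nat_lit 0)))) (.leaf (nat_lit 0))) (.node (.leaf (nat_lit 222)) (.leaf (nat_lit 228)))) (.leaf (nat_lit 0))))) (.leaf (nat_lit 0)))) (.leaf (nat_lit 0))) (.leaf (nat_lit 0))) (.node (.node (.node (.leaf (nat_lit 0)) (.node (.node (.leaf (nat_lit 0)) (.node (.node (.node (.node (.node (.leaf (nat_lit 0)) (.node (.node (.leaf (nat_lit 0)) (.node (.node (.node (.leaf (nat_lit 0)) (.node (.node (.node (.leaf (nat_lit 0)) (.node (.node (.node (.leaf (nat_lit 0)) (.node (.node (.node (.leaf (nat_lit 0)) (.node (.node (.node (.leaf (nat_lit 0)) (.node (.node (.node (.leaf (nat_lit 0)) (.node (.node (.leaf (nat_lit 0)) (.node (.leaf (nat_lit 233)) (.leaf (nat_lit 239)))) (.leaf (nat_lit 0)))) (.leaf (nat_lit 0))) (.leaf (nat_lit 0)))) (.leaf (nat_lit 0))) (.leaf (nat_lit 0)))) (.leaf (nat_lit 0))) (.leaf (nat_lit 0)))) (.leaf (nat_lit 0))) (.leaf (nat_lit 0)))) (.leaf (nat_lit 0))) (.leaf (nat_lit 0)))) (.leaf (nat_lit 0))) (.leaf (nat_lit 0)))) (.leaf (nat_lit 0)))) (.leaf (nat_lit 0))) (.node (.leaf (nat_lit 234)) (.leaf (nat_lit 240)))) (.leaf (nat_lit 0))) (.leaf (nat_lit 0)))) (.leaf (nat_lit 0)))) (.leaf (nat_lit 0))) (.leaf (nat_lit 0))))) (.leaf (nat_lit 0)))) (.leaf (nat_lit 0))) (.leaf (nat_lit 0))) (.node (.node (.node (.leaf (nat_lit 0)) (.node (.node (.leaf (nat_lit 0)) (.node (.node (.node (.node (.leaf (nat_lit 0)) (.node (.node (.leaf (nat_lit 0)) (.node (.node (.node (.node (.node (.leaf (nat_lit 0)) (.node (.node (.leaf (nat_lit 0)) (.node (.node (.node (.leaf (nat_lit 0)) (.node (.node (.node (.leaf (nat_lit 0)) (.node (.node (.node (.leaf (nat_lit 0)) (.node (.node (.node (.leaf (nat_lit 0)) (.node (.node (.node (.leaf (nat_lit 0)) (.node (.node (.node (.leaf (nat_lit 0)) (.node (.node (.leaf (nat_lit 0)) (.node (.leaf (nat_lit 245)) (.leaf (nat_lit 251)))) (.leaf (nat_lit 0)))) (.leaf (nat_lit 0))) (.leaf (nat_lit 0)))) (.leaf (nat_lit 0))) (.leaf (nat_lit 0)))) (.leaf (nat_lit 0))) (.leaf (nat_lit 0)))) (.leaf (nat_lit 0))) (.leaf (nat_lit 0)))) (.leaf (nat_lit 0))) (.leaf (nat_lit 0)))) (.leaf (nat_lit 0))) (.leaf (nat_lit 0)))) (.leaf (nat_lit 0)))) (.leaf (nat_lit 0))) (.node (.leaf (nat_lit 246)) (.leaf (nat_lit 252)))) (.leaf (nat_lit 0))) (.leaf (nat_lit 0)))) (.leaf (nat_lit 0)))) (.leaf (nat_lit 0))) (.leaf (nat_lit 0))) (.node (.node (.node (.leaf (nat_lit 0)) (.node (.node (.leaf (nat_lit 0)) (.node (.leaf (nat_lit 0)) (.node (.node (.node (.node (.leaf (nat_lit 0)) (.node (.node (.leaf (nat_lit 0)) (.node (.node (.node (.leaf (nat_lit 0)) (.node (.node (.node (.leaf (nat_lit 0)) (.node (.node (.node (.leaf (nat_lit 0)) (.node (.node (.node (.leaf (nat_lit 0)) (.node (.node (.node (.leaf (nat_lit 0)) (.node (.node (.node (.leaf (nat_lit 0)) (.node (.node (.leaf (nat_lit 0)) (.node (.leaf (nat_lit 257)) (.leaf (nat_lit 263)))) (.leaf (nat_lit 0)))) (.leaf (nat_lit 0))) (.leaf (nat_lit 0)))) (.leaf (nat_lit 0))) (.leaf (nat_lit 0)))) (.leaf (nat_lit 0))) (.leaf (nat_lit 0)))) (.leaf (nat_lit 0))) (.leaf (nat_lit 0)))) (.leaf (nat_lit 0))) (.leaf (nat_lit 0)))) (.leaf (nat_lit 0))) (.leaf (nat_lit 0)))) (.leaf (nat_lit 0)))) (.leaf (nat_lit 0))) (.node (.leaf (nat_lit 258)) (.leaf (nat_lit 264)))) (.leaf (nat_lit 0))))) (.leaf (nat_lit 0)))) (.leaf (nat_lit 0))) (.leaf (nat_lit 0))))) (.leaf (nat_lit 0)))) (.leaf (nat_lit 0))) (.leaf (nat_lit 0))))) (.leaf (nat_lit 0)))) (.leaf (nat_lit 0))) (.leaf (nat_lit 0))) (.node (.node (.node (.leaf (nat_lit 0)) (.node (.node (.leaf (nat_lit 0)) (.node (.node (.node (.node (.leaf (nat_lit 0)) (.node (.node (.leaf (nat_lit 0)) (.node (.node (.node (.node (.leaf (nat_lit 0)) (.node (.node (.leaf (nat_lit 0)) (.node (.node (.node (.node (.node (.leaf (nat_lit 0)) (.node (.node (.leaf (nat_lit 0)) (.node (.node (.node (.leaf (nat_lit 0)) (.node (.node (.node (.leaf (nat_lit 0)) (.node (.node (.node (.leaf (nat_lit 0)) (.node (.node (.node (.leaf (nat_lit 0)) (.node (.node (.node (.leaf (nat_lit 0)) (.node (.node (.node (.leaf (nat_lit 0)) (.node (.node (.leaf (nat_lit 0)) (.node (.leaf (nat_lit 269)) (.leaf (nat_lit 275)))) (.leaf (nat_lit 0)))) (.leaf (nat_lit 0))) (.leaf (nat_lit 0)))) (.leaf (nat_lit 0))) (.leaf (nat_lit 0)))) (.leaf (nat_lit 0))) (.leaf (nat_lit 0)))) (.leaf (nat_lit 0))) (.leaf (nat_lit 0)))) (.leaf (nat_lit 0))) (.leaf (nat_lit 0)))) (.leaf (nat_lit 0))) (.leaf (nat_lit 0)))) (.leaf (nat_lit 0)))) (.leaf (nat_lit 0))) (.node (.leaf (nat_lit 270)) (.leaf (nat_lit 276)))) (.leaf (nat_lit 0))) (.leaf (nat_lit 0)))) (.leaf (nat_lit 0)))) (.leaf (nat_lit 0))) (.leaf (nat_lit 0))) (.node (.node (.node (.leaf (nat_lit 0)) (.node (.node (.leaf (nat_lit 0)) (.node (.leaf (nat_lit 0)) (.node (.node (.node (.node (.leaf (nat_lit 0)) (.node (.node (.leaf (nat_lit 0)) (.node (.node (.node (.leaf (nat_lit 0)) (.node (.node (.node (.leaf (nat_lit 0)) (.node (.node (.node (.leaf (nat_lit 0)) (.node (.node (.node (.leaf (nat_lit 0)) (.node (.node (.node (.leaf (nat_lit 0)) (.node (.node (.node (.leaf (nat_lit 0)) (.node (.node (.leaf (nat_lit 0)) (.node (.leaf (nat_lit 281)) (.leaf (nat_lit 287)))) (.leaf (nat_lit 0)))) (.leaf (nat_lit 0))) (.leaf (nat_lit 0)))) (.leaf (nat_lit 0))) (.leaf (nat_lit 0)))) (.leaf (nat_lit 0))) (.leaf (nat_lit 0)))) (.leaf (nat_lit 0))) (.leaf (nat_lit 0)))) (.leaf (nat_lit 0))) (.leaf (nat_lit 0)))) (.leaf (nat_lit 0))) (.leaf (nat_lit 0)))) (.leaf (nat_lit 0)))) (.leaf (nat_lit 0))) (.node (.leaf (nat_lit 282)) (.leaf (nat_lit 288)))) (.leaf (nat_lit 0))))) (.leaf (nat_lit 0)))) (.leaf (nat_lit 0))) (.leaf (nat_lit 0))))) (.leaf (nat_lit 0)))) (.leaf (nat_lit 0))) (.leaf (nat_lit 0))) (.node (.node (.node (.leaf (nat_lit 0)) (.node (.node (.leaf (nat_lit 0)) (.node (.node (.node (.node (.leaf (nat_lit 0)) (.node (.node (.leaf (nat_lit 0)) (.node (.leaf (nat_lit 0)) (.node (.node (.node (.node (.leaf (nat_lit 0)) (.node (.node (.leaf (nat_lit 0)) (.node (.node (.node (.leaf (nat_lit 0)) (.node (.node (.node (.leaf (nat_lit 0)) (.node (.node (.node (.leaf (nat_lit 0)) (.node (.node (.node (.leaf (nat_lit 0)) (.node (.node (.node (.leaf (nat_lit 0)) (.node (.node (.node (.leaf (nat_lit 0)) (.node (.node (.leaf (nat_lit 0)) (.node (.leaf (nat_lit 293)) (.leaf (nat_lit 299)))) (.leaf (nat_lit 0)))) (.leaf (nat_lit 0))) (.leaf (nat_lit 0)))) (.leaf (nat_lit 0))) (.leaf (nat_lit 0)))) (.leaf (nat_lit 0))) (.leaf (nat_lit 0)))) (.leaf (nat_lit 0))) (.leaf (nat_lit 0)))) (.leaf (nat_lit 0))) (.leaf (nat_lit 0)))) (.leaf (nat_lit 0))) (.leaf (nat_lit 0)))) (.leaf (nat_lit 0)))) (.leaf (nat_lit 0))) (.node (.leaf (nat_lit 294)) (.leaf (nat_lit 300)))) (.leaf (nat_lit 0))))) (.leaf (nat_lit 0)))) (.leaf (nat_lit 0))) (.leaf (nat_lit 0))) (.node (.node (.node (.leaf (nat_lit 0)) (.node (.node (.leaf (nat_lit 0)) (.node (.node (.node (.node (.node (.leaf (nat_lit 0)) (.node (.node (.leaf (nat_lit 0)) (.node (.node (.node (.leaf (nat_lit 0)) (.node (.node (.node (.leaf (nat_lit 0)) (.node (.node (.node (.leaf (nat_lit 0)) (.node (.node (.node (.leaf (nat_lit 0)) (.node (.node (.node (.leaf (nat_lit 0)) (.node (.node (.node (.leaf (nat_lit 0)) (.node (.node (.leaf (nat_lit 0)) (.node (.leaf (nat_lit 305)) (.leaf (nat_lit 311)))) (.leaf (nat_lit 0)))) (.leaf (nat_lit 0))) (.leaf (nat_lit 0)))) (.leaf (nat_lit 0))) (.leaf (nat_lit 0)))) (.leaf (nat_lit 0))) (.leaf (nat_lit 0)))) (.leaf (nat_lit 0))) (.leaf (nat_lit 0)))) (.leaf (nat_lit 0))) (.leaf (nat_lit 0)))) (.leaf (nat_lit 0))) (.leaf (nat_lit 0)))) (.leaf (nat_lit 0)))) (.leaf (nat_lit 0))) (.node (.leaf (nat_lit 306)) (.leaf (nat_lit 312)))) (.leaf (nat_lit 0))) (.leaf (nat_lit 0)))) (.leaf (nat_lit 0)))) (.leaf (nat_lit 0))) (.leaf (nat_lit 0))))) (.leaf (nat_lit 0)))) (.leaf (nat_lit 0))) (.leaf (nat_lit 0))))) (.leaf (nat_lit 0)))) (.leaf (nat_lit 0))) (.leaf (nat_lit 0))))) (.leaf (nat_lit 0)))) (.node (.node (.node (.node (.node (.leaf (nat_lit 0)) (.node (.leaf (nat_lit 0)) (.node (.node (.node (.node (.leaf (nat_lit 0)) (.node (.node (.leaf (nat_lit 0)) (.node (.node (.node (.node (.leaf (nat_lit 0)) (.node (.node (.leaf (nat_lit 0)) (.node (.leaf (nat_lit 0)) (.node (.node (.node (.leaf (nat_lit 0)) (.node (.node (.node (.node (.leaf (nat_lit 0)) (.node (.node (.leaf (nat_lit 0)) (.node (.node (.node (.leaf (nat_lit 0)) (.node (.node (.node (.leaf (nat_lit 0)) (.node (.node (.node (.leaf (nat_lit 0)) (.node (.node (.node (.leaf (nat_lit 0)) (.node (.node (.node (.leaf (nat_lit 0)) (.node (.node (.node (.leaf (nat_lit 0)) (.node (.node (.node (.leaf (nat_lit 0)) (.node (.node (.node (.leaf (nat_lit 0)) (.node (.node (.node (.leaf (nat_lit 0)) (.node (.node (.node (.leaf (nat_lit 0)) (.node (.node (.node (.leaf (nat_lit 0)) (.node (.node (.node (.leaf (nat_lit 0)) (.node (.node (.node (.node (.leaf (nat_lit 110)) (.leaf (nat_lit 134))) (.leaf (nat_lit 0))) (.leaf (nat_lit 0))) (.leaf (nat_lit 0)))) (.leaf (nat_lit 0))) (.leaf (nat_lit 0)))) (.leaf (nat_lit 0))) (.leaf (nat_lit 0)))) (.leaf (nat_lit 0))) (.leaf (nat_lit 0)))) (.leaf (nat_lit 0))) (.leaf (nat_lit 0)))) (.leaf (nat_lit 0))) (.leaf (nat_lit 0)))) (.leaf (nat_lit 0))) (.leaf (nat_lit 0)))) (.leaf (nat_lit 0))) (.leaf (nat_lit 0)))) (.leaf (nat_lit 0))) (.leaf (nat_lit 0)))) (.leaf (nat_lit 0))) (.leaf (nat_lit 0)))) (.leaf (nat_lit 0))) (.leaf (nat_lit 0)))) (.leaf (nat_lit 0))) (.leaf (nat_lit 0)))) (.leaf (nat_lit 0))) (.leaf (nat_lit 0)))) (.leaf (nat_lit 0)))) (.leaf (nat_lit 0))) (.leaf (nat_lit 0))) (.leaf (nat_lit 0)))) (.leaf (nat_lit 0))) (.leaf (nat_lit 0))))) (.leaf (nat_lit 0)))) (.leaf (nat_lit 0))) (.leaf (nat_lit 0))) (.node (.node (.node (.leaf (nat_lit 0)) (.node (.node (.leaf (nat_lit 0)) (.node (.node (.node (.node (.leaf (nat_lit 0)) (.node (.node (.node (.node (.leaf (nat_lit 0)) (.node (.node (.leaf (nat_lit 0)) (.node (.node (.node (.leaf (nat_lit 0)) (.node (.node (.node (.leaf (nat_lit 0)) (.node (.node (.node (.leaf (nat_lit 0)) (.node (.node (.node (.leaf (nat_lit 0)) (.node (.node (.node (.leaf (nat_lit 0)) (.node (.node (.node (.leaf (nat_lit 0)) (.node (.node (.node (.leaf (nat_lit 0)) (.node (.node (.node (.leaf (nat_lit 0)) (.node (.node (.node (.leaf (nat_lit 0)) (.node (.node (.node (.leaf (nat_lit 0)) (.node (.node (.node (.node (.leaf (nat_lit 86)) (.leaf (nat_lit 158))) (.leaf (nat_lit 0))) (.leaf (nat_lit 0))) (.leaf (nat_lit 0)))) (.leaf (nat_lit 0))) (.leaf (nat_lit 0)))) (.leaf (nat_lit 0))) (.leaf (nat_lit 0)))) (.leaf (nat_lit 0))) (.leaf (nat_lit 0)))) (.leaf (nat_lit 0))) (.leaf (nat_lit 0)))) (.leaf (nat_lit 0))) (.leaf (nat_lit 0)))) (.leaf (nat_lit 0))) (.leaf (nat_lit 0)))) (.leaf (nat_lit 0))) (.leaf (nat_lit 0)))) (.leaf (nat_lit 0))) (.leaf (nat_lit 0)))) (.leaf (nat_lit 0))) (.leaf (nat_lit 0)))) (.leaf (nat_lit 0))) (.leaf (nat_lit 0)))) (.leaf (nat_lit 0)))) (.leaf (nat_lit 0))) (.leaf (nat_lit 0))) (.leaf (nat_lit 0)))) (.leaf (nat_lit 0))) (.leaf (nat_lit 0))) (.leaf (nat_lit 0)))) (.leaf (nat_lit 0)))) (.leaf (nat_lit 0))) (.leaf (nat_lit 0))))) (.leaf (nat_lit 0)))) (.leaf (nat_lit 0))) (.leaf (nat_lit 0))) (.node (.node (.node (.leaf (nat_lit 0)) (.node (.node (.leaf (nat_lit 0)) (.node (.node (.node (.node (.leaf (nat_lit 0)) (.node (.node (.leaf (nat_lit 0)) (.node (.node (.node (.node (.leaf (nat_lit 0)) (.node (.node (.node (.node (.leaf (nat_lit 0)) (.node (.node (.leaf (nat_lit 0)) (.node (.node (.node (.leaf (nat_lit 0)) (.node (.node (.node (.leaf (nat_lit 0)) (.node (.node (.node (.leaf (nat_lit 0)) (.node (.node (.node (.leaf (nat_lit 0)) (.node (.node (.node (.leaf (nat_lit 0)) (.node (.node (.node (.leaf (nat_lit 0)) (.node (.node (.node (.leaf (nat_lit 0)) (.node (.node (.node (.leaf (nat_lit 0)) (.node (.node (.node (.node (.leaf (nat_lit 62)) (.leaf (nat_lit 182))) (.leaf (nat_lit 0))) (.leaf (nat_lit 0))) (.leaf (nat_lit 0)))) (.leaf (nat_lit 0))) (.leaf (nat_lit 0)))) (.leaf (nat_lit 0))) (.leaf (nat_lit 0)))) (.leaf (nat_lit 0))) (.leaf (nat_lit 0)))) (.leaf (nat_lit 0))) (.leaf (nat_lit 0)))) (.leaf (nat_lit 0))) (.leaf (nat_lit 0)))) (.leaf (nat_lit 0))) (.leaf (nat_lit 0)))) (.leaf (nat_lit 0))) (.leaf (nat_lit 0)))) (.leaf (nat_lit 0))) (.leaf (nat_lit 0)))) (.leaf (nat_lit 0)))) (.leaf (nat_lit 0))) (.leaf (nat_lit 0))) (.leaf (nat_lit 0)))) (.leaf (nat_lit 0))) (.leaf (nat_lit 0))) (.leaf (nat_lit 0)))) (.leaf (nat_lit 0)))) (.leaf (nat_lit 0))) (.leaf (nat_lit 0))) (.node (.node (.node (.leaf (nat_lit 0)) (.node (.node (.leaf (nat_lit 0)) (.node (.leaf (nat_lit 0)) (.node (.node (.node (.leaf (nat_lit 0)) (.node (.node (.node (.node (.leaf (nat_lit 0)) (.node (.node (.leaf (nat_lit 0)) (.node (.node (.node (.leaf (nat_lit 0)) (.node (.node (.node (.leaf (nat_lit 0)) (.node (.node (.node (.leaf (nat_lit 0)) (.node (.node (.node (.leaf (nat_lit 0)) (.node (.node (.node (.leaf (nat_lit 0)) (.node (.node (.node (.leaf (nat_lit 0)) (.node (.node (.node (.node (.leaf (nat_lit 38)) (.leaf (nat_lit 206))) (.leaf (nat_lit 0))) (.leaf (nat_lit 0))) (.leaf (nat_lit 0)))) (.leaf (nat_lit 0))) (.leaf (nat_lit 0)))) (.leaf (nat_lit 0))) (.leaf (nat_lit 0)))) (.leaf (nat_lit 0))) (.leaf (nat_lit 0)))) (.leaf (nat_lit 0))) (.leaf (nat_lit 0)))) (.leaf (nat_lit 0))) (.leaf (nat_lit 0)))) (.leaf (nat_lit 0))) (.leaf (nat_lit 0)))) (.leaf (nat_lit 0)))) (.leaf (nat_lit 0))) (.leaf (nat_lit 0))) (.leaf (nat_lit 0)))) (.leaf (nat_lit 0))) (.leaf (nat_lit 0))))) (.leaf (nat_lit 0)))) (.leaf (nat_lit 0))) (.leaf (nat_lit 0))))) (.leaf (nat_lit 0)))) (.leaf (nat_lit 0))) (.leaf (nat_lit 0)))))) (.node (.node (.leaf (nat_lit 0)) (.node (.node (.node (.node (.node (.leaf (nat_lit 0)) (.node (.leaf (nat_lit 0)) (.node (.node (.node (.node (.leaf (nat_lit 0)) (.node (.node (.leaf (nat_lit 0)) (.node (.leaf (nat_lit 0)) (.node (.node (.node (.leaf (nat_lit 0)) (.node (.node (.node (.node (.leaf (nat_lit 0)) (.node (.node (.leaf (nat_lit 0)) (.node (.node (.node (.leaf (nat_lit 0)) (.node (.node (.node (.leaf (nat_lit 0)) (.node (.node (.node (.leaf (nat_lit 0)) (.node (.node (.node (.leaf (nat_lit 0)) (.node (.node (.node (.leaf (nat_lit 0)) (.node (.node (.node (.leaf (nat_lit 0)) (.node (.node (.node (.node (.leaf (nat_lit 32)) (.leaf (nat_lit 200))) (.leaf (nat_lit 0))) (.leaf (nat_lit 0))) (.leaf (nat_lit 0)))) (.leaf (nat_lit 0))) (.leaf (nat_lit 0)))) (.leaf (nat_lit 0))) (.leaf (nat_lit 0)))) (.leaf (nat_lit 0))) (.leaf (nat_lit 0)))) (.leaf (nat_lit 0))) (.leaf (nat_lit 0)))) (.leaf (nat_lit 0))) (.leaf (nat_lit 0)))) (.leaf (nat_lit 0))) (.leaf (nat_lit 0)))) (.leaf (nat_lit 0)))) (.leaf (nat_lit 0))) (.leaf (nat_lit 0))) (.leaf (nat_lit 0)))) (.leaf (nat_lit 0))) (.leaf (nat_lit 0))))) (.leaf (nat_lit 0)))) (.leaf (nat_lit 0))) (.leaf (nat_lit 0))) (.node (.node (.node (.leaf (nat_lit 0)) (.node (.node (.leaf (nat_lit 0)) (.node (.node (.node (.node (.leaf (nat_lit 0)) (.node (.node (.node (.node (.leaf (nat_lit 0)) (.node (.node (.leaf (nat_lit 0)) (.node (.node (.node (.leaf (nat_lit 0)) (.node (.node (.node (.leaf (nat_lit 0)) (.node (.node (.node (.leaf (nat_lit 0)) (.node (.node (.node (.leaf (nat_lit 0)) (.node (.node (.node (.leaf (nat_lit 0)) (.node (.node (.node (.leaf (nat_lit 0)) (.node (.node (.node (.leaf (nat_lit 0)) (.node (.node (.node (.leaf (nat_lit 0)) (.node (.node (.node (.node (.leaf (nat_lit 56)) (.leaf (nat_lit 176))) (.leaf (nat_lit 0))) (.leaf (nat_lit 0))) (.leaf (nat_lit 0)))) (.leaf (nat_lit 0))) (.leaf (nat_lit 0)))) (.leaf (nat_lit 0))) (.leaf (nat_lit 0)))) (.leaf (nat_lit 0))) (.leaf (nat_lit 0)))) (.leaf (nat_lit 0))) (.leaf (nat_lit 0)))) (.leaf (nat_lit 0))) (.leaf (nat_lit 0)))) (.leaf (nat_lit 0))) (.leaf (nat_lit 0)))) (.leaf (nat_lit 0))) (.leaf (nat_lit 0)))) (.leaf (nat_lit 0))) (.leaf (nat_lit 0)))) (.leaf (nat_lit 0)))) (.leaf (nat_lit 0))) (.leaf (nat_lit 0))) (.leaf (nat_lit 0)))) (.leaf (nat_lit 0))) (.leaf (nat_lit 0))) (.leaf (nat_lit 0)))) (.leaf (nat_lit 0)))) (.leaf (nat_lit 0))) (.leaf (nat_lit 0)))))) (.node (.node (.leaf (nat_lit 0)) (.node (.node (.node (.node (.node (.leaf (nat_lit 0)) (.node (.leaf (nat_lit 0)) (.node (.leaf (nat_lit 0)) (.node (.node (.node (.leaf (nat_lit 0)) (.node (.node (.node (.node (.leaf (nat_lit 0)) (.node (.node (.leaf (nat_lit 0)) (.node (.node (.node (.leaf (nat_lit 0)) (.node (.node (.node (.leaf (nat_lit 0)) (.node (.node (.node (.leaf (nat_lit 0)) (.node (.node (.node (.leaf (nat_lit 0)) (.node (.node (.node (.leaf (nat_lit 0)) (.node (.node (.node (.leaf (nat_lit 0)) (.node (.node (.node (.leaf (nat_lit 0)) (.node (.node (.node (.leaf (nat_lit 0)) (.node (.node (.node (.leaf (nat_lit 0)) (.node (.node (.node (.leaf (nat_lit 0)) (.node (.node (.node (.node (.leaf (nat_lit 77)) (.leaf (nat_lit 149))) (.leaf (nat_lit 0))) (.leaf (nat_lit 0))) (.leaf (nat_lit 0)))) (.leaf (nat_lit 0))) (.leaf (nat_lit 0)))) (.leaf (nat_lit 0))) (.leaf (nat_lit 0)))) (.leaf (nat_lit 0))) (.leaf (nat_lit 0)))) (.leaf (nat_lit 0))) (.leaf (nat_lit 0)))) (.leaf (nat_lit 0))) (.leaf (nat_lit 0)))) (.leaf (nat_lit 0))) (.leaf (nat_lit 0)))) (.leaf (nat_lit 0))) (.leaf (nat_lit 0)))) (.leaf (nat_lit 0))) (.leaf (nat_lit 0)))) (.leaf (nat_lit 0))) (.leaf (nat_lit 0)))) (.leaf (nat_lit 0))) (.leaf (nat_lit 0)))) (.leaf (nat_lit 0)))) (.leaf (nat_lit 0))) (.leaf (nat_lit 0))) (.leaf (nat_lit 0)))) (.leaf (nat_lit 0))) (.leaf (nat_lit 0)))))) (.node (.node (.leaf (nat_lit 0)) (.node (.leaf (nat_lit 0)) (.node (.node (.node (.node (.node (.node (.node (.leaf (nat_lit 0)) (.node (.node (.leaf (nat_lit 0)) (.node (.node (.node (.leaf (nat_lit 0)) (.node (.node (.node (.leaf (nat_lit 0)) (.node (.node (.node (.leaf (nat_lit 0)) (.node (.node (.node (.leaf (nat_lit 0)) (.node (.node (.node (.leaf (nat_lit 0)) (.node (.node (.node (.leaf (nat_lit 0)) (.node (.node (.node (.leaf (nat_lit 0)) (.node (.node (.node (.leaf (nat_lit 0)) (.node (.node (.node (.node (.leaf (nat_lit 53)) (.leaf (nat_lit 173))) (.leaf (nat_lit 0))) (.leaf (nat_lit 0))) (.leaf (nat_lit 0)))) (.leaf (nat_lit 0))) (.leaf (nat_lit 0)))) (.leaf (nat_lit 0))) (.leaf (nat_lit 0)))) (.leaf (nat_lit 0))) (.leaf (nat_lit 0)))) (.leaf (nat_lit 0))) (.leaf (nat_lit 0)))) (.leaf (nat_lit 0))) (.leaf (nat_lit 0)))) (.leaf (nat_lit 0))) (.leaf (nat_lit 0)))) (.leaf (nat_lit 0))) (.leaf (nat_lit 0)))) (.leaf (nat_lit 0))) (.leaf (nat_lit 0)))) (.leaf (nat_lit 0)))) (.leaf (nat_lit 0))) (.leaf (nat_lit 0))) (.leaf (nat_lit 0))) (.leaf (nat_lit 0))) (.leaf (nat_lit 0))) (.leaf (nat_lit 0))))) (.leaf (nat_lit 0)))) (.leaf (nat_lit 0))) (.leaf (nat_lit 0))) (.node (.node (.node (.node (.node (.leaf (nat_lit 0)) (.node (.node (.node (.node (.leaf (nat_lit 0)) (.node (.node (.node (.node (.leaf (nat_lit 0)) (.node (.node (.leaf (nat_lit 0)) (.node (.node (.node (.leaf (nat_lit 0)) (.node (.node (.node (.leaf (nat_lit 0)) (.node (.node (.node (.leaf (nat_lit 0)) (.node (.node (.node (.leaf (nat_lit 0)) (.node (.node (.node (.leaf (nat_lit 0)) (.node (.node (.node (.leaf (nat_lit 0)) (.node (.node (.node (.leaf (nat_lit 0)) (.node (.node (.node (.leaf (nat_lit 0)) (.node (.node (.node (.leaf (nat_lit 0)) (.node (.node (.node (.leaf (nat_lit 0)) (.node (.node (.node (.leaf (nat_lit 0)) (.node (.node (.node (.leaf (nat_lit 0)) (.node (.node (.node (.node (.leaf (nat_lit 101)) (.leaf (nat_lit 125))) (.leaf (nat_lit 0))) (.leaf (nat_lit 0))) (.leaf (nat_lit 0)))) (.leaf (nat_lit 0))) (.leaf (nat_lit 0)))) (.leaf (nat_lit 0))) (.leaf (nat_lit 0)))) (.leaf (nat_lit 0))) (.leaf (nat_lit 0)))) (.leaf (nat_lit 0))) (.leaf (nat_lit 0)))) (.leaf (nat_lit 0))) (.leaf (nat_lit 0)))) (.leaf (nat_lit 0))) (.leaf (nat_lit 0)))) (.leaf (nat_lit 0))) (.leaf (nat_lit 0)))) (.leaf (nat_lit 0))) (.leaf (nat_lit 0)))) (.leaf (nat_lit 0))) (.leaf (nat_lit 0)))) (.leaf (nat_lit 0))) (.leaf (nat_lit 0)))) (.leaf (nat_lit 0))) (.leaf (nat_lit 0)))) (.leaf (nat_lit 0))) (.leaf (nat_lit 0)))) (.leaf (nat_lit 0)))) (.leaf (nat_lit 0))) (.leaf (nat_lit 0))) (.leaf (nat_lit 0)))) (.leaf (nat_lit 0))) (.leaf (nat_lit 0))) (.leaf (nat_lit 0)))) (.leaf (nat_lit 0))) (.node (.node (.leaf (nat_lit 0)) (.node (.node (.node (.node (.node (.leaf (nat_lit 0)) (.node (.node (.node (.leaf (nat_lit 0)) (.node (.node (.leaf (nat_lit 0)) (.node (.node (.node (.leaf (nat_lit 0)) (.node (.node (.node (.leaf (nat_lit 0)) (.node (.node (.node (.leaf (nat_lit 0)) (.node (.node (.node (.leaf (nat_lit 0)) (.node (.node (.node (.leaf (nat_lit 0)) (.node (.node (.node (.leaf (nat_lit 0)) (.node (.node (.node (.node (.leaf (nat_lit 29)) (.leaf (nat_lit 197))) (.leaf (nat_lit 0))) (.leaf (nat_lit 0))) (.leaf (nat_lit 0)))) (.leaf (nat_lit 0))) (.leaf (nat_lit 0)))) (.leaf (nat_lit 0))) (.leaf (nat_lit 0)))) (.leaf (nat_lit 0))) (.leaf (nat_lit 0)))) (.leaf (nat_lit 0))) (.leaf (nat_lit 0)))) (.leaf (nat_lit 0))) (.leaf (nat_lit 0)))) (.leaf (nat_lit 0))) (.leaf (nat_lit 0)))) (.leaf (nat_lit 0)))) (.leaf (nat_lit 0))) (.leaf (nat_lit 0)))) (.leaf (nat_lit 0))) (.leaf (nat_lit 0))) (.leaf (nat_lit 0))) (.leaf (nat_lit 0)))) (.leaf (nat_lit 0)))) (.leaf (nat_lit 0))) (.leaf (nat_lit 0))))) (.leaf (nat_lit 0)))) (.leaf (nat_lit 0))) (.leaf (nat_lit 0))) (.node (.node (.node (.node (.node (.leaf (nat_lit 0)) (.node (.node (.node (.node (.leaf (nat_lit 0)) (.node (.node (.leaf (nat_lit 0)) (.node (.node (.node (.node (.leaf (nat_lit 0)) (.node (.node (.node (.node (.leaf (nat_lit 0)) (.node (.node (.leaf (nat_lit 0)) (.node (.node (.node (.leaf (nat_lit 0)) (.node (.node (.node (.leaf (nat_lit 0)) (.node (.node (.node (.leaf (nat_lit 0)) (.node (.node (.node (.leaf (nat_lit 0)) (.node (.node (.node (.leaf (nat_lit 0)) (.node (.node (.node (.leaf (nat_lit 0)) (.node (.node (.node (.leaf (nat_lit 0)) (.node (.node (.node (.leaf (nat_lit 0)) (.node (.node (.node (.leaf (nat_lit 0)) (.node (.node (.node (.leaf (nat_lit 0)) (.node (.node (.node (.node (.leaf (nat_lit 80)) (.leaf (nat_lit 152))) (.leaf (nat_lit 0))) (.leaf (nat_lit 0))) (.leaf (nat_lit 0)))) (.leaf (nat_lit 0))) (.leaf (nat_lit 0)))) (.leaf (nat_lit 0))) (.leaf (nat_lit 0)))) (.leaf (nat_lit 0))) (.leaf (nat_lit 0)))) (.leaf (nat_lit 0))) (.leaf (nat_lit 0)))) (.leaf (nat_lit 0))) (.leaf (nat_lit 0)))) (.leaf (nat_lit 0))) (.leaf (nat_lit 0)))) (.leaf (nat_lit 0))) (.leaf (nat_lit 0)))) (.leaf (nat_lit 0))) (.leaf (nat_lit 0)))) (.leaf (nat_lit 0))) (.leaf (nat_lit 0)))) (.leaf (nat_lit 0))) (.leaf (nat_lit 0)))) (.leaf (nat_lit 0)))) (.leaf (nat_lit 0))) (.leaf (nat_lit 0))) (.leaf (nat_lit 0)))) (.leaf (nat_lit 0))) (.leaf (nat_lit 0))) (.leaf (nat_lit 0)))) (.leaf (nat_lit 0)))) (.leaf (nat_lit 0))) (.leaf (nat_lit 0))) (.node (.node (.node (.leaf (nat_lit 0)) (.node (.node (.leaf (nat_lit 0)) (.node (.leaf (nat_lit 0)) (.node (.node (.node (.leaf (nat_lit 0)) (.node (.node (.node (.node (.leaf (nat_lit 0)) (.node (.node (.leaf (nat_lit 0)) (.node (.node (.node (.leaf (nat_lit 0)) (.node (.node (.node (.leaf (nat_lit 0)) (.node (.node (.node (.leaf (nat_lit 0)) (.node (.node (.node (.leaf (nat_lit 0)) (.node (.node (.node (.leaf (nat_lit 0)) (.node (.node (.node (.leaf (nat_lit 0)) (.node (.node (.node (.leaf (nat_lit 0)) (.node (.node (.node (.leaf (nat_lit 0)) (.node (.node (.node (.leaf (nat_lit 0)) (.node (.node (.node (.leaf (nat_lit 0)) (.node (.node (.node (.leaf (nat_lit 0)) (.node (.node (.node (.leaf (nat_lit 0)) (.node (.node (.node (.node (.leaf (nat_lit 104)) (.leaf (nat_lit 128))) (.leaf (nat_lit 0))) (.leaf (nat_lit 0))) (.leaf (nat_lit 0)))) (.leaf (nat_lit 0))) (.leaf (nat_lit 0)))) (.leaf (nat_lit 0))) (.leaf (nat_lit 0)))) (.leaf (nat_lit 0))) (.leaf (nat_lit 0)))) (.leaf (nat_lit 0))) (.leaf (nat_lit 0)))) (.leaf (nat_lit 0))) (.leaf (nat_lit 0)))) (.leaf (nat_lit 0))) (.leaf (nat_lit 0)))) (.leaf (nat_lit 0))) (.leaf (nat_lit 0)))) (.leaf (nat_lit 0))) (.leaf (nat_lit 0)))) (.leaf (nat_lit 0))) (.leaf (nat_lit 0)))) (.leaf (nat_lit 0))) (.leaf (nat_lit 0)))) (.leaf (nat_lit 0))) (.leaf (nat_lit 0)))) (.leaf (nat_lit 0))) (.leaf (nat_lit 0)))) (.leaf (nat_lit 0)))) (.leaf (nat_lit 0))) (.leaf (nat_lit 0))) (.leaf (nat_lit 0)))) (.leaf (nat_lit 0))) (.leaf (nat_lit 0))))) (.leaf (nat_lit 0)))) (.leaf (nat_lit 0))) (.leaf (nat_lit 0))))) (.leaf (nat_lit 0))) (.node (.node (.leaf (nat_lit 0)) (.node (.node (.node (.node (.node (.leaf (nat_lit 0)) (.node (.leaf (nat_lit 0)) (.node (.node (.node (.node (.leaf (nat_lit 0)) (.node (.node (.node (.node (.leaf (nat_lit 0)) (.node (.node (.leaf (nat_lit 0)) (.node (.node (.node (.leaf (nat_lit 0)) (.node (.node (.node (.leaf (nat_lit 0)) (.node (.node (.node (.leaf (nat_lit 0)) (.node (.node (.node (.leaf (nat_lit 0)) (.node (.node (.node (.leaf (nat_lit 0)) (.node (.node (.node (.leaf (nat_lit 0)) (.node (.node (.node (.node (.leaf (nat_lit 35)) (.leaf (nat_lit 203))) (.leaf (nat_lit 0))) (.leaf (nat_lit 0))) (.leaf (nat_lit 0)))) (.leaf (nat_lit 0))) (.leaf (nat_lit 0)))) (.leaf (nat_lit 0))) (.leaf (nat_lit 0)))) (.leaf (nat_lit 0))) (.leaf (nat_lit 0)))) (.leaf (nat_lit 0))) (.leaf (nat_lit 0)))) (.leaf (nat_lit 0))) (.leaf (nat_lit 0)))) (.leaf (nat_lit 0))) (.leaf (nat_lit 0)))) (.leaf (nat_lit 0)))) (.leaf (nat_lit 0))) (.leaf (nat_lit 0))) (.leaf (nat_lit 0)))) (.leaf (nat_lit 0))) (.leaf (nat_lit 0))) (.leaf (nat_lit 0))))) (.node (.node (.leaf (nat_lit 0)) (.node (.node (.node (.node (.node (.leaf (nat_lit 0)) (.node (.node (.node (.leaf (nat_lit 0)) (.node (.node (.leaf (nat_lit 0)) (.node (.node (.node (.leaf (nat_lit 0)) (.node (.node (.node (.leaf (nat_lit 0)) (.node (.node (.node (.leaf (nat_lit 0)) (.node (.node (.node (.leaf (nat_lit 0)) (.node (.node (.node (.leaf (nat_lit 0)) (.node (.node (.node (.leaf (nat_lit 0)) (.node (.node (.node (.leaf (nat_lit 0)) (.node (.node (.node (.leaf (nat_lit 0)) (.node (.node (.node (.leaf (nat_lit 0)) (.node (.node (.node (.leaf (nat_lit 0)) (.node (.node (.node (.leaf (nat_lit 0)) (.node (.node (.node (.leaf (nat_lit 0)) (.node (.node (.node (.node (.leaf (nat_lit 107)) (.leaf (nat_lit 131))) (.leaf (nat_lit 0))) (.leaf (nat_lit 0))) (.leaf (nat_lit 0)))) (.leaf (nat_lit 0))) (.leaf (nat_lit 0)))) (.leaf (nat_lit 0))) (.leaf (nat_lit 0)))) (.leaf (nat_lit 0))) (.leaf (nat_lit 0)))) (.leaf (nat_lit 0))) (.leaf (nat_lit 0)))) (.leaf (nat_lit 0))) (.leaf (nat_lit 0)))) (.leaf (nat_lit 0))) (.leaf (nat_lit 0)))) (.leaf (nat_lit 0))) (.leaf (nat_lit 0)))) (.leaf (nat_lit 0))) (.leaf (nat_lit 0)))) (.leaf (nat_lit 0))) (.leaf (nat_lit 0)))) (.leaf (nat_lit 0))) (.leaf (nat_lit 0)))) (.leaf (nat_lit 0))) (.leaf (nat_lit 0)))) (.leaf (nat_lit 0))) (.leaf (nat_lit 0)))) (.leaf (nat_lit 0)))) (.leaf (nat_lit 0))) (.leaf (nat_lit 0)))) (.leaf (nat_lit 0))) (.leaf (nat_lit 0))) (.leaf (nat_lit 0))) (.leaf (nat_lit 0)))) (.leaf (nat_lit 0)))) (.leaf (nat_lit 0))) (.leaf (nat_lit 0))) (.node (.node (.node (.node (.node (.leaf (nat_lit 0)) (.node (.leaf (nat_lit 0)) (.node (.node (.node (.leaf (nat_lit 0)) (.node (.node (.node (.node (.leaf (nat_lit 0)) (.node (.node (.leaf (nat_lit 0)) (.node (.node (.node (.leaf (nat_lit 0)) (.node (.node (.node (.leaf (nat_lit 0)) (.node (.node (.node (.leaf (nat_lit 0)) (.node (.node (.node (.leaf (nat_lit 0)) (.node (.node (.node (.leaf (nat_lit 0)) (.node (.node (.node (.leaf (nat_lit 0)) (.node (.node (.node (.leaf (nat_lit 0)) (.node (.node (.node (.leaf (nat_lit 0)) (.node (.node (.node (.node (.leaf (nat_lit 59)) (.leaf (nat_lit 179))) (.leaf (nat_lit 0))) (.leaf (nat_lit 0))) (.leaf (nat_lit 0)))) (.leaf (nat_lit 0))) (.leaf (nat_lit 0)))) (.leaf (nat_lit 0))) (.leaf (nat_lit 0)))) (.leaf (nat_lit 0))) (.leaf (nat_lit 0)))) (.leaf (nat_lit 0))) (.leaf (nat_lit 0)))) (.leaf (nat_lit 0))) (.leaf (nat_lit 0)))) (.leaf (nat_lit 0))) (.leaf (nat_lit 0)))) (.leaf (nat_lit 0))) (.leaf (nat_lit 0)))) (.leaf (nat_lit 0))) (.leaf (nat_lit 0)))) (.leaf (nat_lit 0)))) (.leaf (nat_lit 0))) (.leaf (nat_lit 0))) (.leaf (nat_lit 0)))) (.leaf (nat_lit 0))) (.leaf (nat_lit 0))))) (.leaf (nat_lit 0))) (.node (.node (.leaf (nat_lit 0)) (.node (.leaf (nat_lit 0)) (.node (.node (.node (.node (.node (.node (.node (.leaf (nat_lit 0)) (.node (.node (.leaf (nat_lit 0)) (.node (.node (.node (.leaf (nat_lit 0)) (.node (.node (.node (.leaf (nat_lit 0)) (.node (.node (.node (.leaf (nat_lit 0)) (.node (.node (.node (.leaf (nat_lit 0)) (.node (.node (.node (.leaf (nat_lit 0)) (.node (.node (.node (.leaf (nat_lit 0)) (.node (.node (.node (.leaf (nat_lit 0)) (.node (.node (.node (.leaf (nat_lit 0)) (.node (.node (.node (.leaf (nat_lit 0)) (.node (.node (.node (.leaf (nat_lit 0)) (.node (.node (.node (.node (.leaf (nat_lit 83)) (.leaf (nat_lit 155))) (.leaf (nat_lit 0))) (.leaf (nat_lit 0))) (.leaf (nat_lit 0)))) (.leaf (nat_lit 0))) (.leaf (nat_lit 0)))) (.leaf (nat_lit 0))) (.leaf (nat_lit 0)))) (.leaf (nat_lit 0))) (.leaf (nat_lit 0)))) (.leaf (nat_lit 0))) (.leaf (nat_lit 0)))) (.leaf (nat_lit 0))) (.leaf (nat_lit 0)))) (.leaf (nat_lit 0))) (.leaf (nat_lit 0)))) (.leaf (nat_lit 0))) (.leaf (nat_lit 0)))) (.leaf (nat_lit 0))) (.leaf (nat_lit 0)))) (.leaf (nat_lit 0))) (.leaf (nat_lit 0)))) (.leaf (nat_lit 0))) (.leaf (nat_lit 0)))) (.leaf (nat_lit 0)))) (.leaf (nat_lit 0))) (.leaf (nat_lit 0))) (.leaf (nat_lit 0))) (.leaf (nat_lit 0))) (.leaf (nat_lit 0))) (.leaf (nat_lit 0))))) (.leaf (nat_lit 0)))) (.leaf (nat_lit 0))) (.leaf (nat_lit 0))))) (.leaf (nat_lit 0)))) (.leaf (nat_lit 0))) (.leaf (nat_lit 0))))) (.leaf (nat_lit 0)))) (.node (.leaf (nat_lit 0)) (.node (.node (.leaf (nat_lit 0)) (.node (.node (.node (.leaf (nat_lit 0)) (.node (.leaf (nat_lit 0)) (.node (.node (.leaf (nat_lit 0)) (.node (.node (.node (.leaf (nat_lit 0)) (.node (.leaf (nat_lit 0)) (.node (.node (.leaf (nat_lit 0)) (.node (.node (.node (.leaf (nat_lit 0)) (.node (.leaf (nat_lit 0)) (.node (.node (.node (.node (.leaf (nat_lit 0)) (.node (.node (.leaf (nat_lit 0)) (.node (.node (.node (.leaf (nat_lit 0)) (.node (.node (.node (.leaf (nat_lit 0)) (.node (.node (.node (.leaf (nat_lit 0)) (.node (.node (.node (.leaf (nat_lit 0)) (.node (.node (.node (.leaf (nat_lit 0)) (.node (.node (.node (.leaf (nat_lit 0)) (.node (.node (.node (.leaf (nat_lit 0)) (.node (.node (.leaf (nat_lit 0)) (.node (.leaf (nat_lit 259)) (.leaf (nat_lit 271)))) (.leaf (nat_lit 0)))) (.leaf (nat_lit 0))) (.leaf (nat_lit 0)))) (.leaf (nat_lit 0))) (.leaf (nat_lit 0)))) (.leaf (nat_lit 0))) (.leaf (nat_lit 0)))) (.leaf (nat_lit 0))) (.leaf (nat_lit 0)))) (.leaf (nat_lit 0))) (.leaf (nat_lit 0)))) (.leaf (nat_lit 0))) (.leaf (nat_lit 0)))) (.leaf (nat_lit 0))) (.leaf (nat_lit 0)))) (.leaf (nat_lit 0)))) (.node (.node (.leaf (nat_lit 0)) (.node (.leaf (nat_lit 260)) (.leaf (nat_lit 272)))) (.leaf (nat_lit 0)))) (.leaf (nat_lit 0))) (.leaf (nat_lit 0))))) (.leaf (nat_lit 0))) (.leaf (nat_lit 0)))) (.leaf (nat_lit 0))))) (.leaf (nat_lit 0))) (.node (.node (.leaf (nat_lit 0)) (.node (.node (.node (.leaf (nat_lit 0)) (.node (.leaf (nat_lit 0)) (.node (.node (.leaf (nat_lit 0)) (.node (.node (.node (.node (.node (.leaf (nat_lit 0)) (.node (.node (.leaf (nat_lit 0)) (.node (.node (.node (.leaf (nat_lit 0)) (.node (.node (.node (.leaf (nat_lit 0)) (.node (.node (.node (.leaf (nat_lit 0)) (.node (.node (.node (.leaf (nat_lit 0)) (.node (.node (.node (.leaf (nat_lit 0)) (.node (.node (.node (.leaf (nat_lit 0)) (.node (.node (.node (.leaf (nat_lit 0)) (.node (.node (.leaf (nat_lit 0)) (.node (.leaf (nat_lit 223)) (.leaf (nat_lit 307)))) (.leaf (nat_lit 0)))) (.leaf (nat_lit 0))) (.leaf (nat_lit 0)))) (.leaf (nat_lit 0))) (.leaf (nat_lit 0)))) (.leaf (nat_lit 0))) (.leaf (nat_lit 0)))) (.leaf (nat_lit 0))) (.leaf (nat_lit 0)))) (.leaf (nat_lit 0))) (.leaf (nat_lit 0)))) (.leaf (nat_lit 0))) (.leaf (nat_lit 0)))) (.leaf (nat_lit 0))) (.leaf (nat_lit 0)))) (.leaf (nat_lit 0)))) (.node (.node (.leaf (nat_lit 0)) (.node (.leaf (nat_lit 224)) (.leaf (nat_lit 308)))) (.leaf (nat_lit 0)))) (.leaf (nat_lit 0))) (.leaf (nat_lit 0))) (.leaf (nat_lit 0)))) (.leaf (nat_lit 0))))) (.leaf (nat_lit 0))) (.leaf (nat_lit 0)))) (.leaf (nat_lit 0))))) (.leaf (nat_lit 0))))) (.leaf (nat_lit 0))) (.node (.node (.leaf (nat_lit 0)) (.node (.node (.node (.leaf (nat_lit 0)) (.node (.node (.node (.leaf (nat_lit 0)) (.node (.leaf (nat_lit 0)) (.node (.node (.leaf (nat_lit 0)) (.node (.leaf (nat_lit 0)) (.node (.node (.leaf (nat_lit 0)) (.node (.node (.node (.node (.node (.leaf (nat_lit 0)) (.node (.node (.leaf (nat_lit 0)) (.node (.node (.node (.leaf (nat_lit 0)) (.node (.node (.node (.leaf (nat_lit 0)) (.node (.node (.node (.leaf (nat_lit 0)) (.node (.node (.node (.leaf (nat_lit 0)) (.node (.node (.node (.leaf (nat_lit 0)) (.node (.node (.node (.leaf (nat_lit 0)) (.node (.node (.node (.leaf (nat_lit 0)) (.node (.node (.leaf (nat_lit 0)) (.node (.leaf (nat_lit 247)) (.leaf (nat_lit 283)))) (.leaf (nat_lit 0)))) (.leaf (nat_lit 0))) (.leaf (nat_lit 0)))) (.leaf (nat_lit 0))) (.leaf (nat_lit 0)))) (.leaf (nat_lit 0))) (.leaf (nat_lit 0)))) (.leaf (nat_lit 0))) (.leaf (nat_lit 0)))) (.leaf (nat_lit 0))) (.leaf (nat_lit 0)))) (.leaf (nat_lit 0))) (.leaf (nat_lit 0)))) (.leaf (nat_lit 0))) (.leaf (nat_lit 0)))) (.leaf (nat_lit 0)))) (.node (.node (.leaf (nat_lit 0)) (.node (.leaf (nat_lit 248)) (.leaf (nat_lit 284)))) (.leaf (nat_lit 0)))) (.leaf (nat_lit 0))) (.leaf (nat_lit 0))) (.leaf (nat_lit 0)))) (.leaf (nat_lit 0))))) (.leaf (nat_lit 0))))) (.leaf (nat_lit 0))) (.node (.node (.leaf (nat_lit 0)) (.node (.node (.node (.leaf (nat_lit 0)) (.node (.node (.node (.leaf (nat_lit 0)) (.node (.leaf (nat_lit 0)) (.node (.node (.node (.node (.leaf (nat_lit 0)) (.node (.node (.leaf (nat_lit 0)) (.node (.node (.node (.leaf (nat_lit 0)) (.node (.node (.node (.leaf (nat_lit 0)) (.node (.node (.node (.leaf (nat_lit 0)) (.node (.node (.node (.leaf (nat_lit 0)) (.node (.node (.node (.leaf (nat_lit 0)) (.node (.node (.node (.leaf (nat_lit 0)) (.node (.node (.node (.leaf (nat_lit 0)) (.node (.node (.leaf (nat_lit 0)) (.node (.leaf (nat_lit 235)) (.leaf (nat_lit 295)))) (.leaf (nat_lit 0)))) (.leaf (nat_lit 0))) (.leaf (nat_lit 0)))) (.leaf (nat_lit 0))) (.leaf (nat_lit 0)))) (.leaf (nat_lit 0))) (.leaf (nat_lit 0)))) (.leaf (nat_lit 0))) (.leaf (nat_lit 0)))) (.leaf (nat_lit 0))) (.leaf (nat_lit 0)))) (.leaf (nat_lit 0))) (.leaf (nat_lit 0)))) (.leaf (nat_lit 0))) (.leaf (nat_lit 0)))) (.leaf (nat_lit 0)))) (.node (.node (.leaf (nat_lit 0)) (.node (.leaf (nat_lit 236)) (.leaf (nat_lit 296)))) (.leaf (nat_lit 0)))) (.leaf (nat_lit 0))) (.leaf (nat_lit 0))))) (.leaf (nat_lit 0))) (.leaf (nat_lit 0)))) (.leaf (nat_lit 0))) (.leaf (nat_lit 0)))) (.leaf (nat_lit 0))))) (.leaf (nat_lit 0))) (.leaf (nat_lit 0)))) (.leaf (nat_lit 0))))) (.leaf (nat_lit 0))))) (.leaf (nat_lit 0))) (.node (.node (.node (.node (.node (.leaf (nat_lit 0)) (.node (.node (.node (.node (.leaf (nat_lit 0)) (.node (.node (.leaf (nat_lit 0)) (.node (.node (.node (.node (.leaf (nat_lit 0)) (.node (.node (.leaf (nat_lit 0)) (.node (.node (.node (.node (.leaf (nat_lit 0)) (.node (.node (.node (.node (.leaf (nat_lit 0)) (.node (.node (.leaf (nat_lit 0)) (.node (.node (.node (.leaf (nat_lit 0)) (.node (.node (.node (.leaf (nat_lit 0)) (.node (.node (.node (.leaf (nat_lit 0)) (.node (.node (.node (.leaf (nat_lit 0)) (.node (.node (.node (.leaf (nat_lit 0)) (.node (.node (.node (.leaf (nat_lit 0)) (.node (.node (.node (.node (.leaf (nat_lit 41)) (.leaf (nat_lit 209))) (.leaf (nat_lit 0))) (.leaf (nat_lit 0))) (.leaf (nat_lit 0)))) (.leaf (nat_lit 0))) (.leaf (nat_lit 0)))) (.leaf (nat_lit 0))) (.leaf (nat_lit 0)))) (.leaf (nat_lit 0))) (.leaf (nat_lit 0)))) (.leaf (nat_lit 0))) (.leaf (nat_lit 0)))) (.leaf (nat_lit 0))) (.leaf (nat_lit 0)))) (.leaf (nat_lit 0))) (.leaf (nat_lit 0)))) (.leaf (nat_lit 0)))) (.leaf (nat_lit 0))) (.leaf (nat_lit 0))) (.leaf (nat_lit 0)))) (.leaf (nat_lit 0))) (.leaf (nat_lit 0))) (.leaf (nat_lit 0)))) (.leaf (nat_lit 0)))) (.leaf (nat_lit 0))) (.leaf (nat_lit 0))) (.node (.node (.node (.leaf (nat_lit 0)) (.node (.node (.leaf (nat_lit 0)) (.node (.leaf (nat_lit 0)) (.node (.node (.node (.leaf (nat_lit 0)) (.node (.node (.node (.node (.leaf (nat_lit 0)) (.node (.node (.leaf (nat_lit 0)) (.node (.node (.node (.leaf (nat_lit 0)) (.node (.node (.node (.leaf (nat_lit 0)) (.node (.node (.node (.leaf (nat_lit 0)) (.node (.node (.node (.leaf (nat_lit 0)) (.node (.node (.node (.leaf (nat_lit 0)) (.node (.node (.node (.leaf (nat_lit 0)) (.node (.node (.node (.leaf (nat_lit 0)) (.node (.node (.node (.leaf (nat_lit 0)) (.node (.node (.node (.node (.leaf (nat_lit 65)) (.leaf (nat_lit 185))) (.leaf (nat_lit 0))) (.leaf (nat_lit 0))) (.leaf (nat_lit 0)))) (.leaf (nat_lit 0))) (.leaf (nat_lit 0)))) (.leaf (nat_lit 0))) (.leaf (nat_lit 0)))) (.leaf (nat_lit 0))) (.leaf (nat_lit 0)))) (.leaf (nat_lit 0))) (.leaf (nat_lit 0)))) (.leaf (nat_lit 0))) (.leaf (nat_lit 0)))) (.leaf (nat_lit 0))) (.leaf (nat_lit 0)))) (.leaf (nat_lit 0))) (.leaf (nat_lit 0)))) (.leaf (nat_lit 0))) (.leaf (nat_lit 0)))) (.leaf (nat_lit 0)))) (.leaf (nat_lit 0))) (.leaf (nat_lit 0))) (.leaf (nat_lit 0)))) (.leaf (nat_lit 0))) (.leaf (nat_lit 0))))) (.leaf (nat_lit 0)))) (.leaf (nat_lit 0))) (.leaf (nat_lit 0))))) (.leaf (nat_lit 0)))) (.leaf (nat_lit 0))) (.leaf (nat_lit 0))) (.node (.node (.node (.leaf (nat_lit 0)) (.node (.node (.leaf (nat_lit 0)) (.node (.node (.node (.node (.leaf (nat_lit 0)) (.node (.node (.leaf (nat_lit 0)) (.node (.leaf (nat_lit 0)) (.node (.node (.node (.leaf (nat_lit 0)) (.node (.node (.node (.node (.leaf (nat_lit 0)) (.node (.node (.leaf (nat_lit 0)) (.node (.node (.node (.leaf (nat_lit 0)) (.node (.node (.node (.leaf (nat_lit 0)) (.node (.node (.node (.leaf (nat_lit 0)) (.node (.node (.node (.leaf (nat_lit 0)) (.node (.node (.node (.leaf (nat_lit 0)) (.node (.node (.node (.leaf (nat_lit 0)) (.node (.node (.node (.leaf (nat_lit 0)) (.node (.node (.node (.leaf (nat_lit 0)) (.node (.node (.node (.leaf (nat_lit 0)) (.node (.node (.node (.leaf (nat_lit 0)) (.node (.node (.node (.node (.leaf (nat_lit 89)) (.leaf (nat_lit 161))) (.leaf (nat_lit 0))) (.leaf (nat_lit 0))) (.leaf (nat_lit 0)))) (.leaf (nat_lit 0))) (.leaf (nat_lit 0)))) (.leaf (nat_lit 0))) (.leaf (nat_lit 0)))) (.leaf (nat_lit 0))) (.leaf (nat_lit 0)))) (.leaf (nat_lit 0))) (.leaf (nat_lit 0)))) (.leaf (nat_lit 0))) (.leaf (nat_lit 0)))) (.leaf (nat_lit 0))) (.leaf (nat_lit 0)))) (.leaf (nat_lit 0))) (.leaf (nat_lit 0)))) (.leaf (nat_lit 0))) (.leaf (nat_lit 0)))) (.leaf (nat_lit 0))) (.leaf (nat_lit 0)))) (.leaf (nat_lit 0))) (.leaf (nat_lit 0)))) (.leaf (nat_lit 0)))) (.leaf (nat_lit 0))) (.leaf (nat_lit 0))) (.leaf (nat_lit 0)))) (.leaf (nat_lit 0))) (.leaf (nat_lit 0))))) (.leaf (nat_lit 0)))) (.leaf (nat_lit 0))) (.leaf (nat_lit 0))) (.node (.node (.node (.leaf (nat_lit 0)) (.node (.node (.leaf (nat_lit 0)) (.node (.node (.node (.node (.leaf (nat_lit 0)) (.node (.node (.node (.node (.leaf (nat_lit 0)) (.node (.node (.leaf (nat_lit 0)) (.node (.node (.node (.leaf (nat_lit 0)) (.node (.node (.node (.leaf (nat_lit 0)) (.node (.node (.node (.leaf (nat_lit 0)) (.node (.node (.node (.leaf (nat_lit 0)) (.node (.node (.node (.leaf (nat_lit 0)) (.node (.node (.node (.leaf (nat_lit 0)) (.node (.node (.node (.leaf (nat_lit 0)) (.node (.node (.node (.leaf (nat_lit 0)) (.node (.node (.node (.leaf (nat_lit 0)) (.node (.node (.node (.leaf (nat_lit 0)) (.node (.node (.node (.leaf (nat_lit 0)) (.node (.node (.node (.leaf (nat_lit 0)) (.node (.node (.node (.node (.leaf (nat_lit 113)) (.leaf (nat_lit 137))) (.leaf (nat_lit 0))) (.leaf (nat_lit 0))) (.leaf (nat_lit 0)))) (.leaf (nat_lit 0))) (.leaf (nat_lit 0)))) (.leaf (nat_lit 0))) (.leaf (nat_lit 0)))) (.leaf (nat_lit 0))) (.leaf (nat_lit 0)))) (.leaf (nat_lit 0))) (.leaf (nat_lit 0)))) (.leaf (nat_lit 0))) (.leaf (nat_lit 0)))) (.leaf (nat_lit 0))) (.leaf (nat_lit 0)))) (.leaf (nat_lit 0))) (.leaf (nat_lit 0)))) (.leaf (nat_lit 0))) (.leaf (nat_lit 0)))) (.leaf (nat_lit 0))) (.leaf (nat_lit 0)))) (.leaf (nat_lit 0))) (.leaf (nat_lit 0)))) (.leaf (nat_lit 0))) (.leaf (nat_lit 0)))) (.leaf (nat_lit 0))) (.leaf (nat_lit 0)))) (.leaf (nat_lit 0)))) (.leaf (nat_lit 0))) (.leaf (nat_lit 0))) (.leaf (nat_lit 0)))) (.leaf (nat_lit 0))) (.leaf (nat_lit 0))) (.node (.node (.node (.leaf (nat_lit 0)) (.node (.node (.node (.leaf (nat_lit 0)) (.node (.node (.node (.leaf (nat_lit 0)) (.node (.node (.node (.leaf (nat_lit 0)) (.node (.node (.node (.leaf (nat_lit 0)) (.node (.node (.node (.leaf (nat_lit 0)) (.node (.node (.node (.leaf (nat_lit 0)) (.node (.node (.node (.leaf (nat_lit 0)) (.node (.node (.node (.leaf (nat_lit 0)) (.node (.node (.leaf (nat_lit 0)) (.node (.node (.node (.node (.leaf (nat_lit 13)) (.node (.node (.leaf (nat_lit 0)) (.node (.leaf (nat_lit 4)) (.node (.node (.node (.leaf (nat_lit 7)) (.leaf (nat_lit 10))) (.leaf (nat_lit 0))) (.leaf (nat_lit 0))))) (.leaf (nat_lit 0)))) (.leaf (nat_lit 0))) (.leaf (nat_lit 0))) (.node (.node (.node (.leaf (nat_lit 16)) (.node (.node (.leaf (nat_lit 0)) (.node (.node (.node (.node (.leaf (nat_lit 22)) (.leaf (nat_lit 19))) (.leaf (nat_lit 0))) (.leaf (nat_lit 0))) (.leaf (nat_lit 25)))) (.leaf (nat_lit 0)))) (.leaf (nat_lit 0))) (.leaf (nat_lit 0))))) (.leaf (nat_lit 0)))) (.leaf (nat_lit 0))) (.leaf (nat_lit 0)))) (.leaf (nat_lit 0))) (.leaf (nat_lit 0)))) (.leaf (nat_lit 0))) (.leaf (nat_lit 0)))) (.leaf (nat_lit 0))) (.leaf (nat_lit 0)))) (.leaf (nat_lit 0))) (.leaf (nat_lit 0)))) (.leaf (nat_lit 0))) (.leaf (nat_lit 0)))) (.leaf (nat_lit 0))) (.leaf (nat_lit 0)))) (.node (.node (.node (.node (.leaf (nat_lit 12)) (.node (.node (.leaf (nat_lit 0)) (.node (.leaf (nat_lit 3)) (.node (.node (.node (.leaf (nat_lit 6)) (.leaf (nat_lit 9))) (.leaf (nat_lit 0))) (.leaf (nat_lit 0))))) (.leaf (nat_lit 0)))) (.leaf (nat_lit 0))) (.leaf (nat_lit 0))) (.node (.node (.node (.leaf (nat_lit 15)) (.node (.node (.leaf (nat_lit 0)) (.node (.node (.node (.node (.leaf (nat_lit 21)) (.leaf (nat_lit 18))) (.leaf (nat_lit 0))) (.leaf (nat_lit 0))) (.leaf (nat_lit 24)))) (.leaf (nat_lit 0)))) (.leaf (nat_lit 0))) (.leaf (nat_lit 0))))) (.leaf (nat_lit 0)))) (.leaf (nat_lit 0))) (.leaf (nat_lit 0))))) (.leaf (nat_lit 0)))) (.leaf (nat_lit 0))) (.leaf (nat_lit 0))))) (.leaf (nat_lit 0)))) (.leaf (nat_lit 0))) (.leaf (nat_lit 0))))) (.leaf (nat_lit 0))) (.node (.node (.leaf (nat_lit 0)) (.node (.node (.node (.node (.node (.leaf (nat_lit 0)) (.node (.leaf (nat_lit 0)) (.node (.node (.node (.node (.leaf (nat_lit 0)) (.node (.node (.leaf (nat_lit 0)) (.node (.node (.node (.node (.leaf (nat_lit 0)) (.node (.node (.node (.node (.leaf (nat_lit 0)) (.node (.node (.leaf (nat_lit 0)) (.node (.node (.node (.leaf (nat_lit 0)) (.node (.node (.node (.leaf (nat_lit 0)) (.node (.node (.node (.leaf (nat_lit 0)) (.node (.node (.node (.leaf (nat_lit 0)) (.node (.node (.node (.leaf (nat_lit 0)) (.node (.node (.node (.leaf (nat_lit 0)) (.node (.node (.node (.leaf (nat_lit 0)) (.node (.node (.node (.leaf (nat_lit 0)) (.node (.node (.node (.leaf (nat_lit 0)) (.node (.node (.node (.leaf (nat_lit 0)) (.node (.node (.node (.leaf (nat_lit 0)) (.node (.node (.node (.leaf (nat_lit 0)) (.node (.node (.node (.node (.leaf (nat_lit 119)) (.leaf (nat_lit 143))) (.leaf (nat_lit 0))) (.leaf (nat_lit 0))) (.leaf (nat_lit 0)))) (.leaf (nat_lit 0))) (.leaf (nat_lit 0)))) (.leaf (nat_lit 0))) (.leaf (nat_lit 0)))) (.leaf (nat_lit 0))) (.leaf (nat_lit 0)))) (.leaf (nat_lit 0))) (.leaf (nat_lit 0)))) (.leaf (nat_lit 0))) (.leaf (nat_lit 0)))) (.leaf (nat_lit 0))) (.leaf (nat_lit 0)))) (.leaf (nat_lit 0))) (.leaf (nat_lit 0)))) (.leaf (nat_lit 0))) (.leaf (nat_lit 0)))) (.leaf (nat_lit 0))) (.leaf (nat_lit 0)))) (.leaf (nat_lit 0))) (.leaf (nat_lit 0)))) (.leaf (nat_lit 0))) (.leaf (nat_lit 0)))) (.leaf (nat_lit 0))) (.leaf (nat_lit 0)))) (.leaf (nat_lit 0)))) (.leaf (nat_lit 0))) (.leaf (nat_lit 0))) (.leaf (nat_lit 0)))) (.leaf (nat_lit 0))) (.leaf (nat_lit 0))) (.leaf (nat_lit 0)))) (.leaf (nat_lit 0)))) (.leaf (nat_lit 0))) (.leaf (nat_lit 0))) (.node (.node (.node (.leaf (nat_lit 0)) (.node (.node (.leaf (nat_lit 0)) (.node (.leaf (nat_lit 0)) (.node (.node (.node (.leaf (nat_lit 0)) (.node (.node (.node (.node (.leaf (nat_lit 0)) (.node (.node (.leaf (nat_lit 0)) (.node (.node (.node (.leaf (nat_lit 0)) (.node (.node (.node (.leaf (nat_lit 0)) (.node (.node (.node (.leaf (nat_lit 0)) (.node (.node (.node (.leaf (nat_lit 0)) (.node (.node (.node (.leaf (nat_lit 0)) (.node (.node (.node (.leaf (nat_lit 0)) (.node (.node (.node (.leaf (nat_lit 0)) (.node (.node (.node (.leaf (nat_lit 0)) (.node (.node (.node (.leaf (nat_lit 0)) (.node (.node (.node (.leaf (nat_lit 0)) (.node (.node (.node (.node (.leaf (nat_lit 95)) (.leaf (nat_lit 167))) (.leaf (nat_lit 0))) (.leaf (nat_lit 0))) (.leaf (nat_lit 0)))) (.leaf (nat_lit 0))) (.leaf (nat_lit 0)))) (.leaf (nat_lit 0))) (.leaf (nat_lit 0)))) (.leaf (nat_lit 0))) (.leaf (nat_lit 0)))) (.leaf (nat_lit 0))) (.leaf (nat_lit 0)))) (.leaf (nat_lit 0))) (.leaf (nat_lit 0)))) (.leaf (nat_lit 0))) (.leaf (nat_lit 0)))) (.leaf (nat_lit 0))) (.leaf (nat_lit 0)))) (.leaf (nat_lit 0))) (.leaf (nat_lit 0)))) (.leaf (nat_lit 0))) (.leaf (nat_lit 0)))) (.leaf (nat_lit 0))) (.leaf (nat_lit 0)))) (.leaf (nat_lit 0)))) (.leaf (nat_lit 0))) (.leaf (nat_lit 0))) (.leaf (nat_lit 0)))) (.leaf (nat_lit 0))) (.leaf (nat_lit 0))))) (.leaf (nat_lit 0)))) (.leaf (nat_lit 0))) (.leaf (nat_lit 0)))))) (.node (.node (.leaf (nat_lit 0)) (.node (.node (.node (.node (.node (.leaf (nat_lit 0)) (.node (.leaf (nat_lit 0)) (.node (.node (.node (.node (.leaf (nat_lit 0)) (.node (.node (.node (.node (.leaf (nat_lit 0)) (.node (.node (.leaf (nat_lit 0)) (.node (.node (.node (.leaf (nat_lit 0)) (.node (.node (.node (.leaf (nat_lit 0)) (.node (.node (.node (.leaf (nat_lit 0)) (.node (.node (.node (.leaf (nat_lit 0)) (.node (.node (.node (.leaf (nat_lit 0)) (.node (.node (.node (.leaf (nat_lit 0)) (.node (.node (.node (.leaf (nat_lit 0)) (.node (.node (.node (.leaf (nat_lit 0)) (.node (.node (.node (.node (.leaf (nat_lit 68)) (.leaf (nat_lit 188))) (.leaf (nat_lit 0))) (.leaf (nat_lit 0))) (.leaf (nat_lit 0)))) (.leaf (nat_lit 0))) (.leaf (nat_lit 0)))) (.leaf (nat_lit 0))) (.leaf (nat_lit 0)))) (.leaf (nat_lit 0))) (.leaf (nat_lit 0)))) (.leaf (nat_lit 0))) (.leaf (nat_lit 0)))) (.leaf (nat_lit 0))) (.leaf (nat_lit 0)))) (.leaf (nat_lit 0))) (.leaf (nat_lit 0)))) (.leaf (nat_lit 0))) (.leaf (nat_lit 0)))) (.leaf (nat_lit 0))) (.leaf (nat_lit 0)))) (.leaf (nat_lit 0)))) (.leaf (nat_lit 0))) (.leaf (nat_lit 0))) (.leaf (nat_lit 0)))) (.leaf (nat_lit 0))) (.leaf (nat_lit 0))) (.leaf (nat_lit 0))))) (.node (.node (.leaf (nat_lit 0)) (.node (.node (.node (.node (.node (.leaf (nat_lit 0)) (.node (.node (.node (.leaf (nat_lit 0)) (.node (.node (.leaf (nat_lit 0)) (.node (.node (.node (.leaf (nat_lit 0)) (.node (.node (.node (.leaf (nat_lit 0)) (.node (.node (.node (.leaf (nat_lit 0)) (.node (.node (.node (.leaf (nat_lit 0)) (.node (.node (.node (.leaf (nat_lit 0)) (.node (.node (.node (.leaf (nat_lit 0)) (.node (.node (.node (.leaf (nat_lit 0)) (.node (.node (.node (.leaf (nat_lit 0)) (.node (.node (.node (.leaf (nat_lit 0)) (.node (.node (.node (.leaf (nat_lit 0)) (.node (.node (.node (.node (.leaf (nat_lit 92)) (.leaf (nat_lit 164))) (.leaf (nat_lit 0))) (.leaf (nat_lit 0))) (.leaf (nat_lit 0)))) (.leaf (nat_lit 0))) (.leaf (nat_lit 0)))) (.leaf (nat_lit 0))) (.leaf (nat_lit 0)))) (.leaf (nat_lit 0))) (.leaf (nat_lit 0)))) (.leaf (nat_lit 0))) (.leaf (nat_lit 0)))) (.leaf (nat_lit 0))) (.leaf (nat_lit 0)))) (.leaf (nat_lit 0))) (.leaf (nat_lit 0)))) (.leaf (nat_lit 0))) (.leaf (nat_lit 0)))) (.leaf (nat_lit 0))) (.leaf (nat_lit 0)))) (.leaf (nat_lit 0))) (.leaf (nat_lit 0)))) (.leaf (nat_lit 0))) (.leaf (nat_lit 0)))) (.leaf (nat_lit 0)))) (.leaf (nat_lit 0))) (.leaf (nat_lit 0)))) (.leaf (nat_lit 0))) (.leaf (nat_lit 0))) (.leaf (nat_lit 0))) (.leaf (nat_lit 0)))) (.leaf (nat_lit 0)))) (.leaf (nat_lit 0))) (.leaf (nat_lit 0))) (.node (.node (.node (.node (.node (.leaf (nat_lit 0)) (.node (.leaf (nat_lit 0)) (.node (.node (.node (.leaf (nat_lit 0)) (.node (.node (.node (.node (.leaf (nat_lit 0)) (.node (.node (.leaf (nat_lit 0)) (.node (.node (.node (.leaf (nat_lit 0)) (.node (.node (.node (.leaf (nat_lit 0)) (.node (.node (.node (.leaf (nat_lit 0)) (.node (.node (.node (.leaf (nat_lit 0)) (.node (.node (.node (.leaf (nat_lit 0)) (.node (.node (.node (.leaf (nat_lit 0)) (.node (.node (.node (.node (.leaf (nat_lit 44)) (.leaf (nat_lit 212))) (.leaf (nat_lit 0))) (.leaf (nat_lit 0))) (.leaf (nat_lit 0)))) (.leaf (nat_lit 0))) (.leaf (nat_lit 0)))) (.leaf (nat_lit 0))) (.leaf (nat_lit 0)))) (.leaf (nat_lit 0))) (.leaf (nat_lit 0)))) (.leaf (nat_lit 0))) (.leaf (nat_lit 0)))) (.leaf (nat_lit 0))) (.leaf (nat_lit 0)))) (.leaf (nat_lit 0))) (.leaf (nat_lit 0)))) (.leaf (nat_lit 0)))) (.leaf (nat_lit 0))) (.leaf (nat_lit 0))) (.leaf (nat_lit 0)))) (.leaf (nat_lit 0))) (.leaf (nat_lit 0))))) (.leaf (nat_lit 0))) (.node (.node (.leaf (nat_lit 0)) (.node (.leaf (nat_lit 0)) (.node (.node (.node (.node (.node (.node (.node (.leaf (nat_lit 0)) (.node (.node (.leaf (nat_lit 0)) (.node (.node (.node (.leaf (nat_lit 0)) (.node (.node (.node (.leaf (nat_lit 0)) (.node (.node (.node (.leaf (nat_lit 0)) (.node (.node (.node (.leaf (nat_lit 0)) (.node (.node (.node (.leaf (nat_lit 0)) (.node (.node (.node (.leaf (nat_lit 0)) (.node (.node (.node (.leaf (nat_lit 0)) (.node (.node (.node (.leaf (nat_lit 0)) (.node (.node (.node (.leaf (nat_lit 0)) (.node (.node (.node (.leaf (nat_lit 0)) (.node (.node (.node (.leaf (nat_lit 0)) (.node (.node (.node (.leaf (nat_lit 0)) (.node (.node (.node (.node (.leaf (nat_lit 116)) (.leaf (nat_lit 140))) (.leaf (nat_lit 0))) (.leaf (nat_lit 0))) (.leaf (nat_lit 0)))) (.leaf (nat_lit 0))) (.leaf (nat_lit 0)))) (.leaf (nat_lit 0))) (.leaf (nat_lit 0)))) (.leaf (nat_lit 0))) (.leaf (nat_lit 0)))) (.leaf (nat_lit 0))) (.leaf (nat_lit 0)))) (.leaf (nat_lit 0))) (.leaf (nat_lit 0)))) (.leaf (nat_lit 0))) (.leaf (nat_lit 0)))) (.leaf (nat_lit 0))) (.leaf (nat_lit 0)))) (.leaf (nat_lit 0))) (.leaf (nat_lit 0)))) (.leaf (nat_lit 0))) (.leaf (nat_lit 0)))) (.leaf (nat_lit 0))) (.leaf (nat_lit 0)))) (.leaf (nat_lit 0))) (.leaf (nat_lit 0)))) (.leaf (nat_lit 0))) (.leaf (nat_lit 0)))) (.leaf (nat_lit 0)))) (.leaf (nat_lit 0))) (.leaf (nat_lit 0))) (.leaf (nat_lit 0))) (.leaf (nat_lit 0))) (.leaf (nat_lit 0))) (.leaf (nat_lit 0))))) (.leaf (nat_lit 0)))) (.leaf (nat_lit 0))) (.leaf (nat_lit 0))))) (.leaf (nat_lit 0)))) (.leaf (nat_lit 0))) (.leaf (nat_lit 0))) (.node (.node (.node (.node (.node (.leaf (nat_lit 0)) (.node (.node (.node (.node (.leaf (nat_lit 0)) (.node (.node (.leaf (nat_lit 0)) (.node (.leaf (nat_lit 0)) (.node (.node (.node (.leaf (nat_lit 0)) (.node (.node (.node (.node (.leaf (nat_lit 0)) (.node (.node (.leaf (nat_lit 0)) (.node (.node (.node (.leaf (nat_lit 0)) (.node (.node (.node (.leaf (nat_lit 0)) (.node (.node (.node (.leaf (nat_lit 0)) (.node (.node (.node (.leaf (nat_lit 0)) (.node (.node (.node (.leaf (nat_lit 0)) (.node (.node (.node (.leaf (nat_lit 0)) (.node (.node (.node (.leaf (nat_lit 0)) (.node (.node (.node (.leaf (nat_lit 0)) (.node (.node (.node (.node (.leaf (nat_lit 71)) (.leaf (nat_lit 191))) (.leaf (nat_lit 0))) (.leaf (nat_lit 0))) (.leaf (nat_lit 0)))) (.leaf (nat_lit 0))) (.leaf (nat_lit 0)))) (.leaf (nat_lit 0))) (.leaf (nat_lit 0)))) (.leaf (nat_lit 0))) (.leaf (nat_lit 0)))) (.leaf (nat_lit 0))) (.leaf (nat_lit 0)))) (.leaf (nat_lit 0))) (.leaf (nat_lit 0)))) (.leaf (nat_lit 0))) (.leaf (nat_lit 0)))) (.leaf (nat_lit 0))) (.leaf (nat_lit 0)))) (.leaf (nat_lit 0))) (.leaf (nat_lit 0)))) (.leaf (nat_lit 0)))) (.leaf (nat_lit 0))) (.leaf (nat_lit 0))) (.leaf (nat_lit 0)))) (.leaf (nat_lit 0))) (.leaf (nat_lit 0))))) (.leaf (nat_lit 0)))) (.leaf (nat_lit 0))) (.leaf (nat_lit 0))) (.node (.node (.node (.leaf (nat_lit 0)) (.node (.node (.leaf (nat_lit 0)) (.node (.node (.node (.node (.leaf (nat_lit 0)) (.node (.node (.node (.node (.leaf (nat_lit 0)) (.node (.node (.leaf (nat_lit 0)) (.node (.node (.node (.leaf (nat_lit 0)) (.node (.node (.node (.leaf (nat_lit 0)) (.node (.node (.node (.leaf (nat_lit 0)) (.node (.node (.node (.leaf (nat_lit 0)) (.node (.node (.node (.leaf (nat_lit 0)) (.node (.node (.node (.leaf (nat_lit 0)) (.node (.node (.node (.node (.leaf (nat_lit 47)) (.leaf (nat_lit 215))) (.leaf (nat_lit 0))) (.leaf (nat_lit 0))) (.leaf (nat_lit 0)))) (.leaf (nat_lit 0))) (.leaf (nat_lit 0)))) (.leaf (nat_lit 0))) (.leaf (nat_lit 0)))) (.leaf (nat_lit 0))) (.leaf (nat_lit 0)))) (.leaf (nat_lit 0))) (.leaf (nat_lit 0)))) (.leaf (nat_lit 0))) (.leaf (nat_lit 0)))) (.leaf (nat_lit 0))) (.leaf (nat_lit 0)))) (.leaf (nat_lit 0)))) (.leaf (nat_lit 0))) (.leaf (nat_lit 0))) (.leaf (nat_lit 0)))) (.leaf (nat_lit 0))) (.leaf (nat_lit 0))) (.leaf (nat_lit 0)))) (.leaf (nat_lit 0)))) (.leaf (nat_lit 0))) (.leaf (nat_lit 0))))) (.leaf (nat_lit 0))) (.node (.node (.leaf (nat_lit 0)) (.node (.node (.node (.node (.node (.leaf (nat_lit 0)) (.node (.leaf (nat_lit 0)) (.node (.leaf (nat_lit 0)) (.node (.node (.node (.leaf (nat_lit 0)) (.node (.node (.node (.node (.leaf (nat_lit 0)) (.node (.node (.leaf (nat_lit 0)) (.node (.node (.node (.leaf (nat_lit 0)) (.node (.node (.node (.leaf (nat_lit 0)) (.node (.node (.node (.leaf (nat_lit 0)) (.node (.node (.node (.leaf (nat_lit 0)) (.node (.node (.node (.leaf (nat_lit 0)) (.node (.node (.node (.leaf (nat_lit 0)) (.node (.node (.node (.leaf (nat_lit 0)) (.node (.node (.node (.leaf (nat_lit 0)) (.node (.node (.node (.leaf (nat_lit 0)) (.node (.node (.node (.leaf (nat_lit 0)) (.node (.node (.node (.leaf (nat_lit 0)) (.node (.node (.node (.leaf (nat_lit 0)) (.node (.node (.node (.node (.leaf (nat_lit 122)) (.leaf (nat_lit 146))) (.leaf (nat_lit 0))) (.leaf (nat_lit 0))) (.leaf (nat_lit 0)))) (.leaf (nat_lit 0))) (.leaf (nat_lit 0)))) (.leaf (nat_lit 0))) (.leaf (nat_lit 0)))) (.leaf (nat_lit 0))) (.leaf (nat_lit 0)))) (.leaf (nat_lit 0))) (.leaf (nat_lit 0)))) (.leaf (nat_lit 0))) (.leaf (nat_lit 0)))) (.leaf (nat_lit 0))) (.leaf (nat_lit 0)))) (.leaf (nat_lit 0))) (.leaf (nat_lit 0)))) (.leaf (nat_lit 0))) (.leaf (nat_lit 0)))) (.leaf (nat_lit 0))) (.leaf (nat_lit 0)))) (.leaf (nat_lit 0))) (.leaf (nat_lit 0)))) (.leaf (nat_lit 0))) (.leaf (nat_lit 0)))) (.leaf (nat_lit 0))) (.leaf (nat_lit 0)))) (.leaf (nat_lit 0)))) (.leaf (nat_lit 0))) (.leaf (nat_lit 0))) (.leaf (nat_lit 0)))) (.leaf (nat_lit 0))) (.leaf (nat_lit 0)))))) (.node (.node (.leaf (nat_lit 0)) (.node (.leaf (nat_lit 0)) (.node (.node (.node (.node (.node (.node (.node (.leaf (nat_lit 0)) (.node (.node (.leaf (nat_lit 0)) (.node (.node (.node (.leaf (nat_lit 0)) (.node (.node (.node (.leaf (nat_lit 0)) (.node (.node (.node (.leaf (nat_lit 0)) (.node (.node (.node (.leaf (nat_lit 0)) (.node (.node (.node (.leaf (nat_lit 0)) (.node (.node (.node (.leaf (nat_lit 0)) (.node (.node (.node (.node (.leaf (nat_lit 50)) (.leaf (nat_lit 218))) (.leaf (nat_lit 0))) (.leaf (nat_lit 0))) (.leaf (nat_lit 0)))) (.leaf (nat_lit 0))) (.leaf (nat_lit 0)))) (.leaf (nat_lit 0))) (.leaf (nat_lit 0)))) (.leaf (nat_lit 0))) (.leaf (nat_lit 0)))) (.leaf (nat_lit 0))) (.leaf (nat_lit 0)))) (.leaf (nat_lit 0))) (.leaf (nat_lit 0)))) (.leaf (nat_lit 0))) (.leaf (nat_lit 0)))) (.leaf (nat_lit 0)))) (.leaf (nat_lit 0))) (.leaf (nat_lit 0))) (.leaf (nat_lit 0))) (.leaf (nat_lit 0))) (.leaf (nat_lit 0))) (.leaf (nat_lit 0))))) (.leaf (nat_lit 0)))) (.leaf (nat_lit 0))) (.leaf (nat_lit 0))) (.node (.node (.node (.node (.node (.leaf (nat_lit 0)) (.node (.node (.node (.node (.leaf (nat_lit 0)) (.node (.node (.node (.node (.leaf (nat_lit 0)) (.node (.node (.leaf (nat_lit 0)) (.node (.node (.node (.leaf (nat_lit 0)) (.node (.node (.node (.leaf (nat_lit 0)) (.node (.node (.node (.leaf (nat_lit 0)) (.node (.node (.node (.leaf (nat_lit 0)) (.node (.node (.node (.leaf (nat_lit 0)) (.node (.node (.node (.leaf (nat_lit 0)) (.node (.node (.node (.leaf (nat_lit 0)) (.node (.node (.node (.leaf (nat_lit 0)) (.node (.node (.node (.leaf (nat_lit 0)) (.node (.node (.node (.leaf (nat_lit 0)) (.node (.node (.node (.node (.leaf (nat_lit 98)) (.leaf (nat_lit 170))) (.leaf (nat_lit 0))) (.leaf (nat_lit 0))) (.leaf (nat_lit 0)))) (.leaf (nat_lit 0))) (.leaf (nat_lit 0)))) (.leaf (nat_lit 0))) (.leaf (nat_lit 0)))) (.leaf (nat_lit 0))) (.leaf (nat_lit 0)))) (.leaf (nat_lit 0))) (.leaf (nat_lit 0)))) (.leaf (nat_lit 0))) (.leaf (nat_lit 0)))) (.leaf (nat_lit 0))) (.leaf (nat_lit 0)))) (.leaf (nat_lit 0))) (.leaf (nat_lit 0)))) (.leaf (nat_lit 0))) (.leaf (nat_lit 0)))) (.leaf (nat_lit 0))) (.leaf (nat_lit 0)))) (.leaf (nat_lit 0))) (.leaf (nat_lit 0)))) (.leaf (nat_lit 0)))) (.leaf (nat_lit 0))) (.leaf (nat_lit 0))) (.leaf (nat_lit 0)))) (.leaf (nat_lit 0))) (.leaf (nat_lit 0))) (.leaf (nat_lit 0)))) (.leaf (nat_lit 0))) (.node (.node (.leaf (nat_lit 0)) (.node (.node (.node (.node (.node (.leaf (nat_lit 0)) (.node (.node (.node (.leaf (nat_lit 0)) (.node (.node (.leaf (nat_lit 0)) (.node (.node (.node (.leaf (nat_lit 0)) (.node (.node (.node (.leaf (nat_lit 0)) (.node (.node (.node (.leaf (nat_lit 0)) (.node (.node (.node (.leaf (nat_lit 0)) (.node (.node (.node (.leaf (nat_lit 0)) (.node (.node (.node (.leaf (nat_lit 0)) (.node (.node (.node (.leaf (nat_lit 0)) (.node (.node (.node (.leaf (nat_lit 0)) (.node (.node (.node (.node (.leaf (nat_lit 74)) (.leaf (nat_lit 194))) (.leaf (nat_lit 0))) (.leaf (nat_lit 0))) (.leaf (nat_lit 0)))) (.leaf (nat_lit 0))) (.leaf (nat_lit 0)))) (.leaf (nat_lit 0))) (.leaf (nat_lit 0)))) (.leaf (nat_lit 0))) (.leaf (nat_lit 0)))) (.leaf (nat_lit 0))) (.leaf (nat_lit 0)))) (.leaf (nat_lit 0))) (.leaf (nat_lit 0)))) (.leaf (nat_lit 0))) (.leaf (nat_lit 0)))) (.leaf (nat_lit 0))) (.leaf (nat_lit 0)))) (.leaf (nat_lit 0))) (.leaf (nat_lit 0)))) (.leaf (nat_lit 0)))) (.leaf (nat_lit 0))) (.leaf (nat_lit 0)))) (.leaf (nat_lit 0))) (.leaf (nat_lit 0))) (.leaf (nat_lit 0))) (.leaf (nat_lit 0)))) (.leaf (nat_lit 0)))) (.leaf (nat_lit 0))) (.leaf (nat_lit 0))))) (.leaf (nat_lit 0)))) (.leaf (nat_lit 0))) (.leaf (nat_lit 0))))) (.leaf (nat_lit 0)))) (.node (.node (.node (.leaf (nat_lit 0)) (.node (.node (.node (.leaf (nat_lit 0)) (.node (.leaf (nat_lit 0)) (.node (.node (.leaf (nat_lit 0)) (.node (.node (.node (.leaf (nat_lit 0)) (.node (.leaf (nat_lit 0)) (.node (.node (.leaf (nat_lit 0)) (.node (.leaf (nat_lit 0)) (.node (.node (.leaf (nat_lit 0)) (.node (.node (.node (.node (.node (.leaf (nat_lit 0)) (.node (.node (.leaf (nat_lit 0)) (.node (.node (.node (.leaf (nat_lit 0)) (.node (.node (.node (.leaf (nat_lit 0)) (.node (.node (.node (.leaf (nat_lit 0)) (.node (.node (.node (.leaf (nat_lit 0)) (.node (.node (.node (.leaf (nat_lit 0)) (.node (.node (.node (.leaf (nat_lit 0)) (.node (.node (.node (.leaf (nat_lit 0)) (.node (.node (.leaf (nat_lit 0)) (.node (.leaf (nat_lit 241)) (.leaf (nat_lit 301)))) (.leaf (nat_lit 0)))) (.leaf (nat_lit 0))) (.leaf (nat_lit 0)))) (.leaf (nat_lit 0))) (.leaf (nat_lit 0)))) (.leaf (nat_lit 0))) (.leaf (nat_lit 0)))) (.leaf (nat_lit 0))) (.leaf (nat_lit 0)))) (.leaf (nat_lit 0))) (.leaf (nat_lit 0)))) (.leaf (nat_lit 0))) (.leaf (nat_lit 0)))) (.leaf (nat_lit 0))) (.leaf (nat_lit 0)))) (.leaf (nat_lit 0)))) (.node (.node (.leaf (nat_lit 0)) (.node (.leaf (nat_lit 242)) (.leaf (nat_lit 302)))) (.leaf (nat_lit 0)))) (.leaf (nat_lit 0))) (.leaf (nat_lit 0))) (.leaf (nat_lit 0)))) (.leaf (nat_lit 0))))) (.leaf (nat_lit 0))))) (.leaf (nat_lit 0))) (.node (.node (.leaf (nat_lit 0)) (.node (.node (.node (.leaf (nat_lit 0)) (.node (.node (.node (.leaf (nat_lit 0)) (.node (.leaf (nat_lit 0)) (.node (.node (.node (.node (.leaf (nat_lit 0)) (.node (.node (.leaf (nat_lit 0)) (.node (.node (.node (.leaf (nat_lit 0)) (.node (.node (.node (.leaf (nat_lit 0)) (.node (.node (.node (.leaf (nat_lit 0)) (.node (.node (.node (.leaf (nat_lit 0)) (.node (.node (.node (.leaf (nat_lit 0)) (.node (.node (.node (.leaf (nat_lit 0)) (.node (.node (.node (.leaf (nat_lit 0)) (.node (.node (.leaf (nat_lit 0)) (.node (.leaf (nat_lit 253)) (.leaf (nat_lit 289)))) (.leaf (nat_lit 0)))) (.leaf (nat_lit 0))) (.leaf (nat_lit 0)))) (.leaf (nat_lit 0))) (.leaf (nat_lit 0)))) (.leaf (nat_lit 0))) (.leaf (nat_lit 0)))) (.leaf (nat_lit 0))) (.leaf (nat_lit 0)))) (.leaf (nat_lit 0))) (.leaf (nat_lit 0)))) (.leaf (nat_lit 0))) (.leaf (nat_lit 0)))) (.leaf (nat_lit 0))) (.leaf (nat_lit 0)))) (.leaf (nat_lit 0)))) (.node (.node (.leaf (nat_lit 0)) (.node (.leaf (nat_lit 254)) (.leaf (nat_lit 290)))) (.leaf (nat_lit 0)))) (.leaf (nat_lit 0))) (.leaf (nat_lit 0))))) (.leaf (nat_lit 0))) (.leaf (nat_lit 0)))) (.leaf (nat_lit 0))) (.leaf (nat_lit 0)))) (.leaf (nat_lit 0))))) (.leaf (nat_lit 0))))) (.leaf (nat_lit 0))) (.node (.node (.leaf (nat_lit 0)) (.node (.node (.node (.leaf (nat_lit 0)) (.node (.node (.node (.leaf (nat_lit 0)) (.node (.leaf (nat_lit 0)) (.node (.node (.leaf (nat_lit 0)) (.node (.node (.node (.leaf (nat_lit 0)) (.node (.leaf (nat_lit 0)) (.node (.node (.node (.node (.leaf (nat_lit 0)) (.node (.node (.leaf (nat_lit 0)) (.node (.node (.node (.leaf (nat_lit 0)) (.node (.node (.node (.leaf (nat_lit 0)) (.node (.node (.node (.leaf (nat_lit 0)) (.node (.node (.node (.leaf (nat_lit 0)) (.node (.node (.node (.leaf (nat_lit 0)) (.node (.node (.node (.leaf (nat_lit 0)) (.node (.node (.node (.leaf (nat_lit 0)) (.node (.node (.leaf (nat_lit 0)) (.node (.leaf (nat_lit 229)) (.leaf (nat_lit 313)))) (.leaf (nat_lit 0)))) (.leaf (nat_lit 0))) (.leaf (nat_lit 0)))) (.leaf (nat_lit 0))) (.leaf (nat_lit 0)))) (.leaf (nat_lit 0))) (.leaf (nat_lit 0)))) (.leaf (nat_lit 0))) (.leaf (nat_lit 0)))) (.leaf (nat_lit 0))) (.leaf (nat_lit 0)))) (.leaf (nat_lit 0))) (.leaf (nat_lit 0)))) (.leaf (nat_lit 0))) (.leaf (nat_lit 0)))) (.leaf (nat_lit 0)))) (.node (.node (.leaf (nat_lit 0)) (.node (.leaf (nat_lit 230)) (.leaf (nat_lit 314)))) (.leaf (nat_lit 0)))) (.leaf (nat_lit 0))) (.leaf (nat_lit 0))))) (.leaf (nat_lit 0))) (.leaf (nat_lit 0)))) (.leaf (nat_lit 0))))) (.leaf (nat_lit 0))) (.node (.node (.leaf (nat_lit 0)) (.node (.node (.node (.leaf (nat_lit 0)) (.node (.leaf (nat_lit 0)) (.node (.node (.leaf (nat_lit 0)) (.node (.node (.node (.node (.node (.leaf (nat_lit 0)) (.node (.node (.leaf (nat_lit 0)) (.node (.node (.node (.leaf (nat_lit 0)) (.node (.node (.node (.leaf (nat_lit 0)) (.node (.node (.node (.leaf (nat_lit 0)) (.node (.node (.node (.leaf (nat_lit 0)) (.node (.node (.node (.leaf (nat_lit 0)) (.node (.node (.node (.leaf (nat_lit 0)) (.node (.node (.node (.leaf (nat_lit 0)) (.node (.node (.leaf (nat_lit 0)) (.node (.leaf (nat_lit 265)) (.leaf (nat_lit 277)))) (.leaf (nat_lit 0)))) (.leaf (nat_lit 0))) (.leaf (nat_lit 0)))) (.leaf (nat_lit 0))) (.leaf (nat_lit 0)))) (.leaf (nat_lit 0))) (.leaf (nat_lit 0)))) (.leaf (nat_lit 0))) (.leaf (nat_lit 0)))) (.leaf (nat_lit 0))) (.leaf (nat_lit 0)))) (.leaf (nat_lit 0))) (.leaf (nat_lit 0)))) (.leaf (nat_lit 0))) (.leaf (nat_lit 0)))) (.leaf (nat_lit 0)))) (.node (.node (.leaf (nat_lit 0)) (.node (.leaf (nat_lit 266)) (.leaf (nat_lit 278)))) (.leaf (nat_lit 0)))) (.leaf (nat_lit 0))) (.leaf (nat_lit 0))) (.leaf (nat_lit 0)))) (.leaf (nat_lit 0))))) (.leaf (nat_lit 0))) (.leaf (nat_lit 0)))) (.leaf (nat_lit 0))))) (.leaf (nat_lit 0))) (.leaf (nat_lit 0)))) (.leaf (nat_lit 0))))) (.leaf (nat_lit 0))) (.leaf (nat_lit 0)))) (.leaf (nat_lit 0)))))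

def Y8 : List Ic := [⟨-2, 0, 0, 0, 0, 0, 0, 0⟩, ⟨0, 0, -2, 0, 0, 0, 0, 0⟩, ⟨0, 0, 0, 0, -2, 0, 0, 0⟩, ⟨0, 0, 0, 0, 0, 0, -2, 0⟩, ⟨0, 0, 0, 0, 0, 0, 2, 0⟩, ⟨0, 0, 0, 0, 2, 0, 0, 0⟩, ⟨0, 0, 2, 0, 0, 0, 0, 0⟩, ⟨2, 0, 0, 0, 0, 0, 0, 0⟩]

def T8 : List Ic := [⟨0, -1, 0, -1, 0, -1, 0, 1⟩, ⟨0, -1, 0, -1, 0, 1, 0, -1⟩, ⟨0, -1, 0, 1, 0, -1, 0, -1⟩, ⟨0, -1, 0, 1, 0, 1, 0, 1⟩, ⟨0, 1, 0, -1, 0, -1, 0, -1⟩, ⟨0, 1, 0, -1, 0, 1, 0, 1⟩, ⟨0, 1, 0, 1, 0, -1, 0, 1⟩, ⟨0, 1, 0, 1, 0, 1, 0, -1⟩]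

noncomputable def decI (n : ℕ) : Ic :=
  ⟨Int.subNatNat (dg 3 7 n 0) 2, Int.subNatNat (dg 3 7 n 1) 2, Int.subNatNat (dg 3 7 n 2) 2,
    Int.subNatNat (dg 3 7 n 3) 2, Int.subNatNat (dg 3 7 n 4) 2, Int.subNatNat (dg 3 7 n 5) 2,
    Int.subNatNat (dg 3 7 n 6) 2, Int.subNatNat (dg 3 7 n 7) 2⟩

def encI (X : Ic) : ℕ :=
  (X.a0 + 2).toNat + 8 * ((X.b0 + 2).toNat + 8 * ((X.a1 + 2).toNat + 8 * ((X.b1 + 2).toNat + 8 *
    ((X.a2 + 2).toNat + 8 * ((X.b2 + 2).toNat + 8 * ((X.a3 + 2).toNat + 8 * (X.b3 + 2).toNat))))))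

/-- The table of representatives of the minimal vectors. -/
noncomputable def R (j t : ℕ) : Ic := decI (dg 24 16777215 (r_R.get j) t)

def Good (X Y Z : Ic) : Prop := ∃ j, j < 315 ∧ R j 0 = X ∧ R j 1 = Y ∧ R j 2 = Z

noncomputable def look' (X Y Z : Ic) (j : ℕ) : Bool :=
  band (Nat.ble j 314) (band (decide (R j 0 = X)) (band (decide (R j 1 = Y)) (decide (R j 2 = Z))))

noncomputable def look (X Y Z : Ic) : Bool :=
  look' X Y Z (r_J.get (encI X + 16777216 * (encI Y + 16777216 * encI Z)))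

theorem good_of_look {X Y Z : Ic} (h : look X Y Z = true) : Good X Y Z := by
  simp only [look, look', band_iff, Nat.ble_eq, decide_eq_true_eq] at h
  exact ⟨_, Nat.lt_succ_of_le h.1, h.2⟩

noncomputable def f4 (X : Ic) : Bool :=
  !(tA (X.sub two)) || ((!(decide (X.nV = 0)) || decide (X ∈ Y8)) && (!(decide (X.nV = 4)) || decide (X ∈ T8)))

noncomputable def f8 (X : Ic) : Bool :=
  (!(tA (X.sub two)) ||
    ((!(decide (X.nV = 0)) || Y8.all fun Y => !(tB ((two.add Y).add X)) ||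
      (look two Y X && (look two X Y && look X two Y))) &&
    (!(decide (X.nV = -4)) || T8.all fun T => !(tB ((two.add T).add X)) ||
      (look two T X && (look two X T && (look T two X && (look X two T && (look T X two && look X T two)))))))) &&
  (!(tA X) || (!(decide (X.nV = 0)) || (!(tB (hh.add X)) ||
    (look hh X zero && (look hh zero X && look zero hh X)))))

theorem box4 : box 4 f4 = true := by decide +kernel

theorem box8 : box 8 f8 = true := by decide +kernel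

theorem good400 : Good four zero zero ∧ Good zero four zero ∧ Good zero zero four :=
  ⟨good_of_look (by decide +kernel), good_of_look (by decide +kernel), good_of_look (by decide +kernel)⟩

theorem li_add {q x y : ℍ[ℝ]} (hx : x ∈ leftIdeal q) (hy : y ∈ leftIdeal q) : x + y ∈ leftIdeal q := by
  obtain ⟨a, ha, rfl⟩ := hx
  obtain ⟨b, hb, rfl⟩ := hy
  exact ⟨a + b, add_mem ha hb, (add_mul _ _ _).symm⟩

theorem li_mul {q x a : ℍ[ℝ]} (ha : a ∈ icosians) (hx : x ∈ leftIdeal q) : a * x ∈ leftIdeal q := by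
  obtain ⟨b, hb, rfl⟩ := hx
  exact ⟨a * b, mul_mem ha hb, (mul_assoc _ _ _).symm⟩

theorem li_neg {q x : ℍ[ℝ]} (hx : x ∈ leftIdeal q) : -x ∈ leftIdeal q := by
  simpa using li_mul (neg_mem (one_mem _)) hx

theorem exists_normalize {x : ℍ[ℝ]} (hx : x ∈ icosians) (h1 : normSq x = 1) {Y : Ic} (hY : Y.InL) :
    ∃ W : Ic, Y.ev = x * W.ev ∧ W.ev = star x * Y.ev ∧ W.nU = Y.nU ∧ W.nV = Y.nV := by
  obtain ⟨W, -, e⟩ := exists_of_mem (mul_mem (Ic.star_mem hx) hY.mem)
  refine ⟨W, by rw [← e, ← mul_assoc, self_mul_star, h1]; simp, e.symm, ?_⟩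
  have := congrArg normSq e
  rw [map_mul, normSq_star, h1, one_mul, normSq_ev, normSq_ev] at this
  exact tau_inj (by linear_combination (-4) * this)

theorem normSq_of {X : Ic} {a : ℤ} (h1 : X.nU = 4 * a) (h2 : X.nV = 0) : normSq X.ev = a := by
  rw [normSq_ev, h1, h2]; push_cast; ring

theorem caseA {X Y : Ic} (hY : Y.InL) (hx : X.ev ∈ leftIdeal icoH) (hy : Y.ev ∈ leftIdeal icoH)
    (hs : X.ev + Y.ev ∈ leftIdeal (star icoH)) (x1 : X.nU = 8) (x2 : X.nV = 0) (y1 : Y.nU = 8)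
    (y2 : Y.nV = 0) : ∃ (u : ℍ[ℝ]) (W : Ic), normSq u = 1 ∧ X.ev = u * hh.ev ∧ Y.ev = u * W.ev ∧
      Good hh W zero ∧ Good hh zero W ∧ Good zero hh W := by
  obtain ⟨a, ha, e⟩ := hx
  have h1 : normSq a = 1 := by
    have := congrArg normSq e
    rw [map_mul, normSq_icoH, normSq_of (a := 2) x1 x2] at this
    push_cast at this
    linarith
  obtain ⟨W, w1, w2, w3, w4⟩ := exists_normalize ha h1 hY
  have t1 : tA W = true := tA_of_mem (w2 ▸ li_mul (Ic.star_mem ha) hy)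
  have t2 : tB (hh.add W) = true := by
    apply tB_of_mem
    have := li_mul (Ic.star_mem ha) hs
    rwa [mul_add, ← w2, e, ← mul_assoc, star_mul_self, h1, coe_one, one_mul, ← ev_hh, ← ev_add,
      ev_hh] at this
  have h := box_spec box8 le_rfl (X := W) (by rw [w3, y1]; rfl)
  simp only [f8, t1, t2, w4, y2, Bool.and_eq_true, decide_true, Bool.not_true, Bool.false_or] at h
  exact ⟨a, W, h1, by rw [ev_hh, e], w1, good_of_look h.2.1, good_of_look h.2.2.1, good_of_look h.2.2.2⟩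

theorem tA_normalize {X Y W : Ic} (hX : X.InL) (h1 : normSq X.ev = 1) (w2 : W.ev = star X.ev * Y.ev)
    (h : X.ev - Y.ev ∈ leftIdeal icoH) : tA (W.sub two) = true := by
  apply tA_of_mem
  have := li_neg (li_mul (Ic.star_mem hX.mem) h)
  rwa [mul_sub, star_mul_self, h1, coe_one, neg_sub, ← w2, ← ev_two, ← ev_sub] at this

theorem tB_normalize {X Y Z V W : Ic} (hX : X.InL) (h1 : normSq X.ev = 1)
    (v2 : V.ev = star X.ev * Y.ev) (w2 : W.ev = star X.ev * Z.ev)
    (h : X.ev + Y.ev + Z.ev ∈ leftIdeal (star icoH)) : tB ((two.add V).add W) = true := by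
  apply tB_of_mem
  have := li_mul (Ic.star_mem hX.mem) h
  rwa [mul_add, mul_add, star_mul_self, h1, coe_one, ← w2, ← v2, ← ev_two, ← ev_add, ← ev_add] at this

theorem caseB {X Y Z : Ic} (hX : X.InL) (hY : Y.InL) (hZ : Z.InL)
    (hy : X.ev - Y.ev ∈ leftIdeal icoH) (hz : X.ev - Z.ev ∈ leftIdeal icoH)
    (hs : X.ev + Y.ev + Z.ev ∈ leftIdeal (star icoH)) (x1 : X.nU = 4) (x2 : X.nV = 0) (y1 : Y.nU = 4)
    (y2 : Y.nV = 0) (z1 : Z.nU = 8) (z2 : Z.nV = 0) :
    ∃ (u : ℍ[ℝ]) (V W : Ic), normSq u = 1 ∧ X.ev = u * two.ev ∧ Y.ev = u * V.ev ∧ Z.ev = u * W.ev ∧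
      Good two V W ∧ Good two W V ∧ Good W two V := by
  have h1 : normSq X.ev = 1 := by simpa using normSq_of (a := 1) x1 x2
  obtain ⟨V, v1, v2, v3, v4⟩ := exists_normalize hX.mem h1 hY
  obtain ⟨W, w1, w2, w3, w4⟩ := exists_normalize hX.mem h1 hZ
  have t1 := tA_normalize hX h1 v2 hy
  have t2 := tA_normalize hX h1 w2 hz
  have t3 := tB_normalize hX h1 v2 w2 hs
  have h := box_spec box4 (by norm_num) (X := V) (by rw [v3, y1]; rfl)
  simp only [f4, t1, v4, y2, Bool.and_eq_true, decide_true, Bool.not_true, Bool.false_or,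
    decide_eq_true_eq] at h
  have h' := box_spec box8 le_rfl (X := W) (by rw [w3, z1]; rfl)
  simp only [f8, t2, w4, z2, Bool.and_eq_true, decide_true, Bool.not_true, Bool.false_or,
    List.all_eq_true] at h'
  have h2 := h'.1.1 V h.1
  simp only [t3, Bool.and_eq_true, Bool.not_true, Bool.false_or] at h2
  exact ⟨X.ev, V, W, h1, by rw [ev_two, mul_one], v1, w1, good_of_look h2.1, good_of_look h2.2.1,
    good_of_look h2.2.2⟩

theorem caseC {X Y Z : Ic} (hX : X.InL) (hY : Y.InL) (hZ : Z.InL)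
    (hy : X.ev - Y.ev ∈ leftIdeal icoH) (hz : X.ev - Z.ev ∈ leftIdeal icoH)
    (hs : X.ev + Y.ev + Z.ev ∈ leftIdeal (star icoH)) (x1 : X.nU = 4) (x2 : X.nV = 0) (y1 : Y.nU = 4)
    (y2 : Y.nV = 4) (z1 : Z.nU = 8) (z2 : Z.nV = -4) :
    ∃ (u : ℍ[ℝ]) (V W : Ic), normSq u = 1 ∧ X.ev = u * two.ev ∧ Y.ev = u * V.ev ∧ Z.ev = u * W.ev ∧
      Good two V W ∧ Good two W V ∧ Good V two W ∧ Good W two V ∧ Good V W two ∧ Good W V two := by
  have h1 : normSq X.ev = 1 := by simpa using normSq_of (a := 1) x1 x2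
  obtain ⟨V, v1, v2, v3, v4⟩ := exists_normalize hX.mem h1 hY
  obtain ⟨W, w1, w2, w3, w4⟩ := exists_normalize hX.mem h1 hZ
  have t1 := tA_normalize hX h1 v2 hy
  have t2 := tA_normalize hX h1 w2 hz
  have t3 := tB_normalize hX h1 v2 w2 hs
  have h := box_spec box4 (by norm_num) (X := V) (by rw [v3, y1]; rfl)
  simp only [f4, t1, v4, y2, Bool.and_eq_true, decide_true, Bool.not_true, Bool.false_or,
    decide_eq_true_eq] at h
  have h' := box_spec box8 le_rfl (X := W) (by rw [w3, z1]; rfl)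
  simp only [f8, t2, w4, z2, Bool.and_eq_true, decide_true, Bool.not_true, Bool.false_or,
    List.all_eq_true] at h'
  have h2 := h'.1.2 V h.2
  simp only [t3, Bool.and_eq_true, Bool.not_true, Bool.false_or] at h2
  exact ⟨X.ev, V, W, h1, by rw [ev_two, mul_one], v1, w1, good_of_look h2.1, good_of_look h2.2.1,
    good_of_look h2.2.2.1, good_of_look h2.2.2.2.1, good_of_look h2.2.2.2.2.1,
    good_of_look h2.2.2.2.2.2⟩

theorem case4 {X : Ic} (x1 : X.nU = 16) (x2 : X.nV = 0) :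
    ∃ u : ℍ[ℝ], normSq u = 1 ∧ X.ev = u * four.ev := by
  refine ⟨(1 / 2 : ℝ) • X.ev, ?_, ?_⟩
  · rw [normSq_smul, normSq_of (a := 4) x1 x2]; norm_num
  · rw [ev_four, mul_two, ← add_smul]; norm_num

theorem min_vec_aux {X Y Z : Ic} (hX : X.InL) (hY : Y.InL) (hZ : Z.InL)
    (h1 : X.ev - Y.ev ∈ leftIdeal icoH) (h2 : Y.ev - Z.ev ∈ leftIdeal icoH)
    (hs : X.ev + Y.ev + Z.ev ∈ leftIdeal (star icoH)) (hU : X.nU + Y.nU + Z.nU = 16)
    (hV : X.nV + Y.nV + Z.nV = 0) :
    ∃ (u : ℍ[ℝ]) (X' Y' Z' : Ic), normSq u = 1 ∧ Good X' Y' Z' ∧ X.ev = u * X'.ev ∧ Y.ev = u * Y'.ev ∧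
      Z.ev = u * Z'.ev := by
  have h3 : X.ev - Z.ev ∈ leftIdeal icoH := by simpa using li_add h1 h2
  have h1' : Y.ev - X.ev ∈ leftIdeal icoH := by simpa using li_neg h1
  have h2' : Z.ev - Y.ev ∈ leftIdeal icoH := by simpa using li_neg h2
  have h3' : Z.ev - X.ev ∈ leftIdeal icoH := by simpa using li_neg h3
  have s1 : X.ev + Z.ev + Y.ev ∈ leftIdeal (star icoH) := by convert hs using 1; abel
  have s2 : Y.ev + X.ev + Z.ev ∈ leftIdeal (star icoH) := by convert hs using 1; abel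
  have s3 : Y.ev + Z.ev + X.ev ∈ leftIdeal (star icoH) := by convert hs using 1; abel
  have s4 : Z.ev + X.ev + Y.ev ∈ leftIdeal (star icoH) := by convert hs using 1; abel
  have s5 : Z.ev + Y.ev + X.ev ∈ leftIdeal (star icoH) := by convert hs using 1; abel
  have hz : ∀ W : Ic, W.nU = 0 → W.ev = 0 := fun W hW => by
    have a := n_low W
    have b := n_high W
    have := normSq_of (X := W) (a := 0) (by omega) (by omega)
    exact normSq_eq_zero.1 (by simpa using this)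
  have z0 : ∀ u : ℍ[ℝ], (0 : ℍ[ℝ]) = u * zero.ev := fun u => by rw [ev_zero, mul_zero]
  have dX := hX.dvd
  have dY := hY.dvd
  have dZ := hZ.dvd
  have := nU_nonneg X
  have := nU_nonneg Y
  have := nU_nonneg Z
  have := n_low X
  have := n_low Y
  have := n_low Z
  have := n_high X
  have := n_high Y
  have := n_high Z
  by_cases x0 : X.nU = 0
  · rw [hz X x0] at *
    rw [sub_zero] at h1' h3'
    rw [zero_add] at hs
    have d1 := dvd_of_mem_leftIdeal h1'
    have d2 := dvd_of_mem_leftIdeal h3'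
    have : (Y.nU = 16 ∧ Y.nV = 0 ∧ Z.nU = 0) ∨ (Z.nU = 16 ∧ Z.nV = 0 ∧ Y.nU = 0) ∨
        (Y.nU = 8 ∧ Y.nV = 0 ∧ Z.nU = 8 ∧ Z.nV = 0) := by omega
    rcases this with ⟨a, b, c⟩ | ⟨a, b, c⟩ | ⟨a, b, c, d⟩
    · obtain ⟨u, u1, u2⟩ := case4 a b
      exact ⟨u, _, _, _, u1, good400.2.1, z0 u, u2, hz Z c ▸ z0 u⟩
    · obtain ⟨u, u1, u2⟩ := case4 a b
      exact ⟨u, _, _, _, u1, good400.2.2, z0 u, hz Y c ▸ z0 u, u2⟩
    · obtain ⟨u, W, u1, u2, u3, -, -, g⟩ := caseA hZ h1' h3' hs a b c d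
      exact ⟨u, _, _, _, u1, g, z0 u, u2, u3⟩
  by_cases y0 : Y.nU = 0
  · rw [hz Y y0] at *
    rw [sub_zero] at h1 h2'
    rw [add_zero] at hs
    have d1 := dvd_of_mem_leftIdeal h1
    have d2 := dvd_of_mem_leftIdeal h2'
    have : (X.nU = 16 ∧ X.nV = 0 ∧ Z.nU = 0) ∨
        (X.nU = 8 ∧ X.nV = 0 ∧ Z.nU = 8 ∧ Z.nV = 0) := by omega
    rcases this with ⟨a, b, c⟩ | ⟨a, b, c, d⟩
    · obtain ⟨u, u1, u2⟩ := case4 a b
      exact ⟨u, _, _, _, u1, good400.1, u2, z0 u, hz Z c ▸ z0 u⟩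
    · obtain ⟨u, W, u1, u2, u3, -, g, -⟩ := caseA hZ h1 h2' hs a b c d
      exact ⟨u, _, _, _, u1, g, u2, z0 u, u3⟩
  by_cases w0 : Z.nU = 0
  · rw [hz Z w0] at *
    rw [sub_zero] at h2 h3
    rw [add_zero] at hs
    have d1 := dvd_of_mem_leftIdeal h2
    have d2 := dvd_of_mem_leftIdeal h3
    have : X.nU = 8 ∧ X.nV = 0 ∧ Y.nU = 8 ∧ Y.nV = 0 := by omega
    obtain ⟨a, b, c, d⟩ := this
    obtain ⟨u, W, u1, u2, u3, g, -, -⟩ := caseA hY h3 h2 hs a b c d
    exact ⟨u, _, _, _, u1, g, u2, u3, z0 u⟩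
  have : (X.nU = 4 ∧ Y.nU = 4 ∧ Z.nU = 8) ∨ (X.nU = 4 ∧ Z.nU = 4 ∧ Y.nU = 8) ∨
      (Y.nU = 4 ∧ Z.nU = 4 ∧ X.nU = 8) := by omega
  rcases this with ⟨a, b, c⟩ | ⟨a, b, c⟩ | ⟨a, b, c⟩
  · have : (X.nV = 0 ∧ Y.nV = 0 ∧ Z.nV = 0) ∨ (X.nV = 0 ∧ Y.nV = 4 ∧ Z.nV = -4) ∨
        (Y.nV = 0 ∧ X.nV = 4 ∧ Z.nV = -4) := by omega
    rcases this with ⟨d, e, f⟩ | ⟨d, e, f⟩ | ⟨d, e, f⟩
    · obtain ⟨u, V, W, u1, u2, u3, u4, g, -⟩ := caseB hX hY hZ h1 h3 hs a d b e c f
      exact ⟨u, _, _, _, u1, g, u2, u3, u4⟩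
    · obtain ⟨u, V, W, u1, u2, u3, u4, g, -⟩ := caseC hX hY hZ h1 h3 hs a d b e c f
      exact ⟨u, _, _, _, u1, g, u2, u3, u4⟩
    · obtain ⟨u, V, W, u1, u2, u3, u4, -, -, g, -⟩ := caseC hY hX hZ h1' h2 s2 b d a e c f
      exact ⟨u, _, _, _, u1, g, u3, u2, u4⟩
  · have : (X.nV = 0 ∧ Z.nV = 0 ∧ Y.nV = 0) ∨ (X.nV = 0 ∧ Z.nV = 4 ∧ Y.nV = -4) ∨
        (Z.nV = 0 ∧ X.nV = 4 ∧ Y.nV = -4) := by omega
    rcases this with ⟨d, e, f⟩ | ⟨d, e, f⟩ | ⟨d, e, f⟩
    · obtain ⟨u, V, W, u1, u2, u3, u4, -, g, -⟩ := caseB hX hZ hY h3 h1 s1 a d b e c f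
      exact ⟨u, _, _, _, u1, g, u2, u4, u3⟩
    · obtain ⟨u, V, W, u1, u2, u3, u4, -, g, -⟩ := caseC hX hZ hY h3 h1 s1 a d b e c f
      exact ⟨u, _, _, _, u1, g, u2, u4, u3⟩
    · obtain ⟨u, V, W, u1, u2, u3, u4, -, -, -, -, g, -⟩ := caseC hZ hX hY h3' h2' s4 b d a e c f
      exact ⟨u, _, _, _, u1, g, u3, u4, u2⟩
  · have : (Y.nV = 0 ∧ Z.nV = 0 ∧ X.nV = 0) ∨ (Y.nV = 0 ∧ Z.nV = 4 ∧ X.nV = -4) ∨
        (Z.nV = 0 ∧ Y.nV = 4 ∧ X.nV = -4) := by omega
    rcases this with ⟨d, e, f⟩ | ⟨d, e, f⟩ | ⟨d, e, f⟩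
    · obtain ⟨u, V, W, u1, u2, u3, u4, -, -, g⟩ := caseB hY hZ hX h2 h1' s3 a d b e c f
      exact ⟨u, _, _, _, u1, g, u4, u2, u3⟩
    · obtain ⟨u, V, W, u1, u2, u3, u4, -, -, -, g, -⟩ := caseC hY hZ hX h2 h1' s3 a d b e c f
      exact ⟨u, _, _, _, u1, g, u4, u2, u3⟩
    · obtain ⟨u, V, W, u1, u2, u3, u4, -, -, -, -, -, g⟩ := caseC hZ hY hX h2' h3' s5 b d a e c f
      exact ⟨u, _, _, _, u1, g, u4, u3, u2⟩

/-- The vector with the given coordinates. -/
noncomputable def evV (V : ℕ → Ic) : Fin 3 → ℍ[ℝ] := fun t => (V t).ev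

theorem qrefl_unit {u : ℍ[ℝ]} (hu : normSq u = 1) {r s : Fin 3 → ℍ[ℝ]} (h : ∀ t, r t = u * s t) :
    qrefl r = qrefl s := by
  funext x t
  have : qip x r = qip x s * star u := by
    simp only [qip, h, star_mul, Finset.sum_mul, mul_assoc]
  simp only [qrefl, this, h, smul_mul_assoc, mul_assoc]
  rw [← mul_assoc (star u), star_mul_self, hu, coe_one, one_mul]

theorem min_vec {r : Fin 3 → ℍ[ℝ]} (hr : r ∈ icoLeech) (h4 : qip r r = 4) :
    ∃ j, j < 315 ∧ qrefl r = qrefl (evV (R j)) := by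
  obtain ⟨h0, h1, h2, h3⟩ := hr
  obtain ⟨X, hX, eX⟩ := exists_of_mem (h0 0)
  obtain ⟨Y, hY, eY⟩ := exists_of_mem (h0 1)
  obtain ⟨Z, hZ, eZ⟩ := exists_of_mem (h0 2)
  rw [qip, Fin.sum_univ_three, self_mul_star, self_mul_star, self_mul_star, ← coe_add, ← coe_add,
    show (4 : ℍ[ℝ]) = ((4 : ℝ) : ℍ[ℝ]) from rfl, coe_inj, eX, eY, eZ, normSq_ev, normSq_ev,
    normSq_ev] at h4
  obtain ⟨hU, hV⟩ := tau_inj (a := X.nU + Y.nU + Z.nU) (b := X.nV + Y.nV + Z.nV) (c := 16) (d := 0)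
    (by push_cast; linear_combination 4 * h4)
  rw [eX, eY] at h1
  rw [eY, eZ] at h2
  rw [eX, eY, eZ] at h3
  obtain ⟨u, X', Y', Z', hu, ⟨j, hj, rfl, rfl, rfl⟩, e0, e1, e2⟩ := min_vec_aux hX hY hZ h1 h2 h3 hU hV
  refine ⟨j, hj, qrefl_unit hu fun t => ?_⟩
  fin_cases t
  exacts [eX.trans e0, eY.trans e1, eZ.trans e2]

/-! ### Reduction modulo `√5` -/

def psiZ (X : Ic) : ℕ → ℕ → ℤ
  | 0, 0 => X.a0 + 3 * X.b0 + 2 * (X.a1 + 3 * X.b1)
  | 0, _ + 1 => X.a2 + 3 * X.b2 + 2 * (X.a3 + 3 * X.b3)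
  | _ + 1, 0 => 2 * (X.a3 + 3 * X.b3) - (X.a2 + 3 * X.b2)
  | _ + 1, _ + 1 => X.a0 + 3 * X.b0 - 2 * (X.a1 + 3 * X.b1)

def nent (S : ℕ → Ic) (i j : ℕ) : ℤ :=
  (if i = j then 1 else 0) - 2 * (psiZ (S (i / 2)).conj (i % 2) 0 * psiZ (S (j / 2)) 0 (j % 2) +
    psiZ (S (i / 2)).conj (i % 2) 1 * psiZ (S (j / 2)) 1 (j % 2))

/-- The reflection matrix modulo `√5`. -/
def Nmat (S : ℕ → Ic) : Matrix (Fin 6) (Fin 6) (ZMod 5) := fun i j => (nent S i j : ℤ)

noncomputable def ncode (S : ℕ → Ic) : ℕ :=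
  pack 14 (fun t => (nent S (Nat.div t 6) (Nat.mod t 6) % 5).toNat) 36

theorem encMat_Nmat (S : ℕ → Ic) : encMat 6 5 14 (Nmat S) = ncode S := by
  refine pack_congr fun t ht => ?_
  have hi : t / 6 < 6 := by omega
  have hj : t % 6 < 6 := by omega
  have := matFn_coe (Nmat S) ⟨_, hi⟩ ⟨_, hj⟩
  simp only at this
  rw [this, Nmat]
  have h := ZMod.val_intCast (n := 5) (nent S (t / 6) (t % 6))
  apply Nat.cast_injective (R := ℤ)
  rw [Int.toNat_of_nonneg (Int.emod_nonneg _ (by norm_num))]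
  exact h

theorem r_code_0 : allR 0 35 (fun j => Nat.beq (ncode (R j)) (r_d.get j)) = true := by decide +kernel

theorem r_code_1 : allR 35 35 (fun j => Nat.beq (ncode (R j)) (r_d.get j)) = true := by decide +kernel

theorem r_code_2 : allR 70 35 (fun j => Nat.beq (ncode (R j)) (r_d.get j)) = true := by decide +kernel

theorem r_code_3 : allR 105 35 (fun j => Nat.beq (ncode (R j)) (r_d.get j)) = true := by decide +kernel

theorem r_code_4 : allR 140 35 (fun j => Nat.beq (ncode (R j)) (r_d.get j)) = true := by decide +kernel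

theorem r_code_5 : allR 175 35 (fun j => Nat.beq (ncode (R j)) (r_d.get j)) = true := by decide +kernel

theorem r_code_6 : allR 210 35 (fun j => Nat.beq (ncode (R j)) (r_d.get j)) = true := by decide +kernel

theorem r_code_7 : allR 245 35 (fun j => Nat.beq (ncode (R j)) (r_d.get j)) = true := by decide +kernel

theorem r_code_8 : allR 280 35 (fun j => Nat.beq (ncode (R j)) (r_d.get j)) = true := by decide +kernel

theorem r_code : allLt 315 (fun j => Nat.beq (ncode (R j)) (r_d.get j)) = true := by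
  have h0 := r_code_0
  have h1 : allR 0 70 (fun j => Nat.beq (ncode (R j)) (r_d.get j)) = true := allR_append (lo := 0) (a := 35) (b := 35) h0 r_code_1
  have h2 : allR 0 105 (fun j => Nat.beq (ncode (R j)) (r_d.get j)) = true := allR_append (lo := 0) (a := 70) (b := 35) h1 r_code_2
  have h3 : allR 0 140 (fun j => Nat.beq (ncode (R j)) (r_d.get j)) = true := allR_append (lo := 0) (a := 105) (b := 35) h2 r_code_3
  have h4 : allR 0 175 (fun j => Nat.beq (ncode (R j)) (r_d.get j)) = true := allR_append (lo := 0) (a := 140) (b := 35) h3 r_code_4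
  have h5 : allR 0 210 (fun j => Nat.beq (ncode (R j)) (r_d.get j)) = true := allR_append (lo := 0) (a := 175) (b := 35) h4 r_code_5
  have h6 : allR 0 245 (fun j => Nat.beq (ncode (R j)) (r_d.get j)) = true := allR_append (lo := 0) (a := 210) (b := 35) h5 r_code_6
  have h7 : allR 0 280 (fun j => Nat.beq (ncode (R j)) (r_d.get j)) = true := allR_append (lo := 0) (a := 245) (b := 35) h6 r_code_7
  have h8 : allR 0 315 (fun j => Nat.beq (ncode (R j)) (r_d.get j)) = true := allR_append (lo := 0) (a := 280) (b := 35) h7 r_code_8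
  exact allLt_of_allR_zero h8

theorem enc_Nmat {j : ℕ} (hj : j < 315) : encMat 6 5 14 (Nmat (R j)) = r_d.get j := by
  rw [encMat_Nmat]
  exact Nat.eq_of_beq_eq_true (allLt_iff.1 r_code j hj)

end CfsgH9.J2C
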