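import Cfsg.Agent.H9.P43R

/-! Rigidity of the local generators, and the automorphisms of `PSp₄(3)`. -/

set_option autoImplicit false
set_option maxRecDepth 100000

namespace CfsgH9.P43

open Subgroup CfsgH5 CfsgH6 CfsgFT CfsgH8 CfsgH7 CfsgH3.TC Matrix

universe u
variable {G : Type u} [Group G] [Finite G]

omit [Finite G] in
theorem LD.map_jv {G' : Type u} [Group G'] (d : LD G') (f : G' →* G) (v : V3) :
    (d.map f).jv v = f (d.jv v) := by simp [LD.jv, LD.map]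

theorem LocU.of_map {G' : Type u} [Group G'] [Finite G'] {d : LD G'} {u : G'} (f : G' →* G)
    (hf : Function.Injective f) (h : LocU (d.map f) (f u)) : LocU d u := by
  refine ⟨⟨loc0_of_rels (fun w hw => hf (by
      rw [map_wval, map_one]
      exact ((h.rels 1 1).congr (n := 6) rfl (by simp [LD.val_zero])
        (fun a h1 h2 => by interval_cases a <;> rfl) (by decide)) w hw))
      (by rw [← card_map_of_injective hf, ← LD.map_H, h.card]), fun g hg => ?_, fun K h1 h2 => ?_⟩,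
    hf (by rw [map_mul, h.uu, map_one]), fun v => hf ?_, hf (by rw [map_mul, map_mul]; exact h.ut)⟩
  · have := h.cent (x := f g) (mem_C1.2 (by rw [LD.map_a, ← map_mul, mem_C1.1 hg, map_mul]))
    rwa [LD.map_H, mem_map_iff_mem hf] at this
  · rw [← map_eq_bot_iff_of_injective _ hf]
    exact h.sig _ (by rwa [card_map_of_injective hf]) (by
      rw [LD.map_J]
      rintro _ ⟨a, ha, rfl⟩ _ ⟨x, hx, rfl⟩
      exact ⟨_, h2 a ha x hx, by simp⟩)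
  · rw [map_mul, map_mul, map_inv, ← LD.map_jv, ← LD.map_jv, h.act_u]

theorem LocU.map_equiv {d : LD G} {u : G} (h : LocU d u) (e : MulAut G) :
    LocU (d.map e.toMonoidHom) (e u) :=
  LocU.of_map e.symm.toMonoidHom e.symm.injective (by simpa [LD.map] using h)

/-- the two local structures differ by an automorphism -/
def Rel (e : MulAut G) (d : LD G) (u : G) (d' : LD G) (u' : G) : Prop :=
  d.map e.toMonoidHom = d' ∧ e u = u'

omit [Finite G] in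
theorem Rel.trans {e e' : MulAut G} {d d' : LD G} {u u' : G}
    (h : Rel e' (d.map e.toMonoidHom) (e u) d' u') : Rel (e' * e) d u d' u' := h

theorem Loc.conj_of_act {d : LD G} (h : Loc d) {i k : G} {A : M3} (hi : d.Act i A) (hk : d.Act k A)
    (ii : i * i = 1) (kk : k * k = 1) : (i * k⁻¹)⁻¹ * k * (i * k⁻¹)⁻¹⁻¹ = i := by
  obtain ⟨v, hv⟩ := h.jv_surj (h.div_mem_J hi hk)
  have h1 : i = d.jv v * k := by rw [hv, inv_mul_cancel_right]
  have h2 : k * d.jv v * k⁻¹ = (d.jv v)⁻¹ := by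
    rw [h1] at ii
    rw [inv_eq_of_mul_eq_one_right kk]
    exact eq_inv_of_mul_eq_one_right (by rw [← ii]; group)
  rw [← hv, inv_inv, mul_assoc, mul_inv_eq_iff_eq_mul.1 h2, ← mul_assoc, ← _root_.mul_inv_rev, h1,
    inv_eq_of_mul_eq_one_right ((pow_three' _).symm.trans (h.exp _ (d.jv_mem v)))]

namespace LocU

variable {d d' : LD G} {u u' : G} (h : LocU d u)
include h

theorem u3 : u * (d.x * u * d.x⁻¹) = d.x * (d.x * u * d.x⁻¹) * d.x⁻¹ := by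
  rw [← inv_eq_of_mul_eq_one_right (sq_cj (sq_cj h.uu d.x) d.x)]
  refine eq_inv_of_mul_eq_one_left ?_
  rw [show u * (d.x * u * d.x⁻¹) * (d.x * (d.x * u * d.x⁻¹) * d.x⁻¹) =
    (u * d.x) ^ 3 * (d.x ^ 3)⁻¹ by rw [pow_three', pow_three']; group, h.ux, h.cx, inv_one, mul_one]

theorem u2_comm : d.x * u * d.x⁻¹ ∈ C1 u := by
  rw [mem_C1, h.u3, ← inv_eq_of_mul_eq_one_right (sq_cj (sq_cj h.uu d.x) d.x), ← h.u3,
    _root_.mul_inv_rev, h.u_inv, inv_eq_of_mul_eq_one_right (sq_cj h.uu d.x)]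

theorem act_u2 : d.Act (d.x * u * d.x⁻¹) (mX * mU * (mX * mX)) :=
  h.act_x.conj h.act_u (by decide)

theorem rigid3 (h' : LocU d' u) (e1 : d'.j1 = d.j1) (e2 : d'.j2 = d.j2) (e3 : d'.j3 = d.j3)
    (e : d'.x * u * d'.x⁻¹ = d.x * u * d.x⁻¹) : d = d' := by
  obtain ⟨j1, j2, j3, x, t, w⟩ := d'
  simp only at e1 e2 e3 e
  subst e1 e2 e3
  have key : ∀ {g k y z : G}, g * y * g⁻¹ = z → k * y * k⁻¹ = z → g * k⁻¹ ∈ C1 z := fun e1 e2 =>
    mem_C1_iff_conj.2 (cj_comp (cj_swap e2) e1)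
  have hx : x = d.x := by
    obtain ⟨v, hv⟩ := h.jv_surj (h.div_mem_J (g := x) h'.act_x h.act_x)
    have k1 := (h.fix_iff' h.act_u2).1 (hv ▸ key e rfl)
    have k2 := (h.fix_iff' (h.act_u.mul h.act_u2)).1 (hv ▸ key (by
      have := h'.u3
      simp only [e] at this
      exact this.symm) h.u3.symm)
    rw [show v = 0 by clear hv; revert v; decide +kernel, d.jv_zero, eq_comm, mul_inv_eq_one] at hv
    exact hv
  subst hx
  have ht : t = d.t := by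
    obtain ⟨v, hv⟩ := h.jv_surj (h.div_mem_J (g := t) h'.act_t h.act_t)
    have k1 := (h.fix_iff' h.act_u).1 (hv ▸ key (mul_inv_eq_iff_eq_mul.2 h'.ut.symm)
      (mul_inv_eq_iff_eq_mul.2 h.ut.symm))
    have k2 := (h.fix_iff' h.act_x).1 (hv ▸ C1_inv d.x ▸ key h'.tx h.tx)
    rw [show v = 0 by clear hv; revert v; decide +kernel, d.jv_zero, eq_comm, mul_inv_eq_one] at hv
    exact hv
  subst ht
  rw [h.finH3 (g := w) (h.cent (h'.H_le_C1 (LD.w_mem _))) h'.ww h'.wd]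

theorem rigid2 (h' : LocU d' u') (e1 : d'.j1 = d.j1) (e2 : d'.j2 = d.j2) (e3 : d'.j3 = d.j3) :
    ∃ g, Rel (MulAut.conj g) d u d' u' := by
  have ha : ∀ {g A}, d'.Act g A → d.Act g A := fun hg v => by simpa only [LD.jv, e1, e2, e3] using hg v
  have k1 := h.toLoc.conj_of_act (ha h'.act_u) h.act_u h'.uu h.uu
  have k2 := inv_mem (h.div_mem_J (ha h'.act_u) h.act_u)
  generalize (u' * u⁻¹)⁻¹ = k at k1 k2
  have a1 : d.Act (k * (d.x * u * d.x⁻¹) * k⁻¹) (mX * mU * (mX * mX)) :=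
    ((h.act_J k2).conj h.act_u2 (one_mul 1)).cast (by rw [one_mul, mul_one])
  have k3 := h.toLoc.conj_of_act (ha h'.act_u2) a1 (sq_cj h'.uu _) (sq_cj (sq_cj h.uu _) _)
  have k4 := inv_mem (h.div_mem_J (ha h'.act_u2) a1)
  have k5 := inv_mem (mul_mem h'.u2_comm (inv_mem (show k * (d.x * u * d.x⁻¹) * k⁻¹ ∈ C1 u' by
    rw [← k1, ← cj_C1, conj_mem_cj]; exact h.u2_comm)))
  generalize (d'.x * u' * d'.x⁻¹ * (k * (d.x * u * d.x⁻¹) * k⁻¹)⁻¹)⁻¹ = l at k3 k4 k5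
  have k6 := cj_comp k1 (mem_C1_iff_conj.1 k5)
  have k7 : ∀ j ∈ d.J, j = l * k * j * (l * k)⁻¹ := fun j hj => by
    rw [h.ab.comm (mul_mem k4 k2) hj, mul_inv_cancel_right]
  have k8 := h.map_equiv (MulAut.conj (l * k))
  rw [MulAut.conj_apply, k6] at k8
  refine ⟨l * k, k8.rigid3 h'
    (e1.trans (k7 _ d.j1_mem)) (e2.trans (k7 _ d.j2_mem)) (e3.trans (k7 _ d.j3_mem)) ?_, k6⟩
  rw [← cj_comp rfl k3, ← k6]
  change _ = l * k * d.x * (l * k)⁻¹ * _ * (l * k * d.x * (l * k)⁻¹)⁻¹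
  group

variable (nr : ∀ g, g * d.a * g⁻¹ ≠ d.a⁻¹)
include nr

theorem rigid1 (h' : LocU d' u') (ha : d'.a = d.a) (hJ : d'.J = d.J) :
    ∃ g, Rel (MulAut.conj g) d u d' u' := by
  have nr' : ∀ r, ¬ d.Act r (-1) := fun r hr => nr r (h.inv_a hr)
  obtain ⟨v, hv⟩ := h.jv_surj (hJ ▸ d'.j1_mem)
  obtain ⟨P, hP, a1⟩ := h.signed' nr' (hJ ▸ h'.mem_N_of_act h'.act_t)
  obtain ⟨Q, hQ, a2⟩ := h.signed' nr' (hJ ▸ h'.mem_N_of_act h'.act_u)
  obtain ⟨R, hR, a3, -⟩ := h.B_act (h.mem_B (h.cent (ha ▸ h'.H_le_C1 (d'.B_le_H d'.x_mem)))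
    (hJ ▸ h'.mem_N_of_act h'.act_x))
  have k0 : ∀ {g k A}, d'.Act g A → d'.Act k 1 → A ≠ 1 → g * k⁻¹ ∉ d.J := fun h1 h2 e1 e2 =>
    e1 (h'.act_uniq h1 (h'.act_congr h2 (hJ ▸ e2)))
  have k1 : SP24.all (fun P => SP24.all fun Q => decide (P = 1 ∨ Q = 1 ∨ P * Q = 1 ∨ P * Q ≠ Q * P ∨
    P * P ≠ 1 ∨ ∀ v, P *ᵥ v = v → Q *ᵥ v = v → v = 0 ∨ qf v = 1)) = true := by decide +kernel
  have k2 : qf v = 1 := by
    rcases of_decide_eq_true (List.all_eq_true.1 (List.all_eq_true.1 k1 P hP) Q hQ) with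
      rfl | rfl | e | e | e | e
    · exact absurd (h.div_mem_J a1 LD.Act.one) (k0 h'.act_t LD.Act.one (by decide))
    · exact absurd (h.div_mem_J a2 LD.Act.one) (k0 h'.act_u LD.Act.one (by decide))
    · exact absurd (h.div_mem_J (e ▸ a1.mul a2) LD.Act.one) (k0 h'.act_tu LD.Act.one (by decide))
    · exact absurd (h.comm_act a1 a2 (mem_C1.2 h'.ut.symm)) e
    · exact absurd (h.act_uniq (a1.mul a1) (h'.tt ▸ LD.Act.one)) e
    · refine (e v ((h.fix_iff a1).1 (hv ▸ mem_C1_iff_conj.2 h'.t1)) ((h.fix_iff a2).1 (by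
        rw [hv, ← d'.jv_e0]; exact (h'.fix_iff h'.act_u).2 (by decide)))).resolve_left ?_
      rintro rfl
      exact h'.jv_ne (v := ![1, 0, 0]) (by decide) (by rw [d'.jv_e0, ← hv, d.jv_zero])
  have e2 : d.jv (R *ᵥ v) = d'.j2 := by rw [← a3, hv, h'.x1]
  have e3 : d.jv (R *ᵥ (R *ᵥ v)) = d'.j3 := by rw [← a3, e2, h'.x2]
  have k3 : ∀ R ∈ B0, ∀ v, qf v = 1 → v + R *ᵥ v + R *ᵥ (R *ᵥ v) = ![1, 1, 1] →
    B0.any (fun M => decide (M *ᵥ ![1, 0, 0] = v ∧ M *ᵥ ![0, 1, 0] = R *ᵥ v ∧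
      M *ᵥ ![0, 0, 1] = R *ᵥ (R *ᵥ v))) = true := ball_of_all (by decide +kernel)
  obtain ⟨M, hM, e⟩ := List.any_eq_true.1 (k3 R hR v k2 (h.jv_inj (by
    rw [h.jv_add, h.jv_add, hv, e2, e3, d.jv_a, ← ha]; rfl)))
  obtain ⟨f1, f2, f3⟩ := of_decide_eq_true e
  obtain ⟨g, -, hg⟩ := h.exists_B_act hM
  obtain ⟨k, hk⟩ := (h.map_equiv (MulAut.conj g)).rigid2 h'
    (by rw [← hv, ← f1, ← hg, d.jv_e0]; rfl) (by rw [← e2, ← f2, ← hg, d.jv_e1]; rfl)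
    (by rw [← e3, ← f3, ← hg, d.jv_e2]; rfl)
  exact ⟨k * g, map_mul MulAut.conj k g ▸ hk.trans⟩

theorem rigid0 (h' : LocU d' u') (ha : d'.a = d.a) : ∃ g, Rel (MulAut.conj g) d u d' u' := by
  obtain ⟨g, hg, e⟩ := h.exists_conj_J (d'.J_le_H.trans (h'.H_le_C1.trans (ha ▸ h.cent))) h'.ab h'.exp
    h'.card_J
  have e1 : (d.map (MulAut.conj g).toMonoidHom).a = d.a := by
    rw [LD.map_a]; exact mem_C1_iff_conj.1 (h.H_le_C1 hg)
  obtain ⟨k, hk⟩ := (h.map_equiv (MulAut.conj g)).rigid1 (e1 ▸ nr) h' (ha.trans e1.symm)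
    (by rw [e, LD.map_J]; rfl)
  exact ⟨k * g, map_mul MulAut.conj k g ▸ hk.trans⟩

theorem inner (α : MulAut G) (hα : α d.a = d.a) : ∃ g, α = MulAut.conj g := by
  obtain ⟨g, e1, e2⟩ := h.rigid0 nr (h.map_equiv α) (by rw [LD.map_a]; exact hα)
  refine ⟨g, MulEquiv.toMonoidHom_injective (MonoidHom.eq_of_eqOn_dense
    (h.eq_top fun r hr => nr r (h.inv_a hr)) ?_)⟩
  rintro _ ⟨a, h1, h2, rfl⟩
  interval_cases a
  exacts [congrArg LD.j1 e1.symm, congrArg LD.j2 e1.symm, congrArg LD.j3 e1.symm,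
    congrArg LD.x e1.symm, congrArg LD.t e1.symm, congrArg LD.w e1.symm, e2.symm]

omit nr in
theorem aut_a (α : MulAut G) : ∃ g, g * α d.a * g⁻¹ = d.a ∨ g * α d.a * g⁻¹ = d.a⁻¹ := by
  haveI : Fact (Nat.Prime 3) := ⟨Nat.prime_three⟩
  have h' := h.map_equiv α
  obtain ⟨g, -, e⟩ := h'.sylS.conj h.sylS
  have h1 : d.S ≤ C1 (g * α d.a * g⁻¹) := by
    rw [← e, ← cj_C1]
    exact cj_mono ((Loc0.S_le_B.trans (LD.B_le_H _)).trans (d.map_a α.toMonoidHom ▸ h'.H_le_C1))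
  obtain ⟨v, hv⟩ := h.jv_surj (h.mem_J' (h.act_of_comm fun j hj => mem_C1.1 (h1 (Loc0.J_le_S hj))))
  refine ⟨g, ?_⟩
  rcases x_fix v ((h.fix_iff h.act_x).1 (hv ▸ h1 Loc0.x_mem_S)) with rfl | rfl | rfl
  · exact absurd ((map_eq_one_iff _ α.injective).1 (conj_eq_one_iff.1 (hv.symm.trans d.jv_zero))) h.a_ne
  · exact Or.inl (hv.symm.trans d.jv_a)
  · exact Or.inr (by rw [← hv, h.jv_neg, d.jv_a])

theorem aut_cases {ρ : MulAut G} (hρ : ρ d.a = d.a⁻¹) (α : MulAut G) :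
    (∃ g, α = MulAut.conj g) ∨ ∃ g k, α = MulAut.conj g * ρ * MulAut.conj k := by
  obtain ⟨g, e | e⟩ := h.aut_a α
  · obtain ⟨k, hk⟩ := h.inner nr (MulAut.conj g * α) e
    exact Or.inl ⟨g⁻¹ * k, by rw [map_mul, ← hk, map_inv, inv_mul_cancel_left]⟩
  · obtain ⟨k, hk⟩ := h.inner nr (ρ⁻¹ * (MulAut.conj g * α)) (by
      rw [MulAut.mul_apply, show (MulAut.conj g * α) d.a = d.a⁻¹ from e, ← hρ]; simp)
    exact Or.inr ⟨g⁻¹, k, by rw [← hk, map_inv]; group⟩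

end LocU

end CfsgH9.P43
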