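import Cfsg.Agent.H9.P43F
import Cfsg.Agent.H9.P43Aut

/-! The case `C(b) ≤ N(J)`: the group is `Aut(PSp₄(3))`. -/

set_option autoImplicit false
set_option maxRecDepth 100000

namespace CfsgH9.P43

open Subgroup CfsgH5 CfsgH6 CfsgFT CfsgH8 CfsgH7 CfsgH3.TC Matrix E7

universe u
variable {G : Type u} [Group G] [Finite G]

theorem le_of_se {P : Subgroup G} {i : G} (ii : i * i = 1) (iP : i ∈ P)
    (h : ∀ g, g * i * g⁻¹ ∈ P → g ∈ P) : ∃ T, SylIn 2 T ⊤ ∧ i ∈ T ∧ T ≤ P := by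
  haveI : Fact (Nat.Prime 2) := ⟨Nat.prime_two⟩
  obtain ⟨T, h1, hT⟩ := exists_sylIn_ge le_top (isP_zp2 ii)
  have h2 := h1 (mem_zpowers i)
  exact ⟨T, hT, h2, le_of_N_inf hT.isPGroup fun g _ hg => h g (conj_mem_of_mem_N hg ⟨h2, iP⟩).2⟩

omit [Finite G] in
theorem mem_of_se {P : Subgroup G} {i g k : G} (hC : C1 i ≤ P) (hk : k ∈ P)
    (e : k * i * k⁻¹ = g * i * g⁻¹) : g ∈ P := by
  simpa using mul_mem hk (hC (x := k⁻¹ * g) (mem_C1_iff_conj.2 (cj_comp e.symm (cj_swap rfl))))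

theorem chkN1 : ∀ A ∈ SP48, A * A = 1 → A = 1 ∨ SP48.any (fun P => decide (P * mS1 = A * P ∨
    P * mU = A * P ∨ P * -1 = A * P ∨ P * mT = A * P ∨ P * -mT = A * P)) = true :=
  ball_of_all (by decide +kernel)

theorem chkN2 : ∀ A ∈ SP48, A * A = 1 ∨ A * A * (A * A) ≠ 1 ∨
    SP48.any (fun P => decide (P * mU = A * A * P)) = true :=
  ball_of_all (by decide +kernel)

namespace RS

variable {d : LD G} {s1 s2 s3 : G} (h : RS d s1 s2 s3)
include h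

theorem eq_one_of_sq {i : G} (hi : d.Act i 1) (ii : i * i = 1) : i = 1 := by
  have := h.exp i (h.mem_J' hi)
  rwa [pow_three', ii, one_mul] at this

theorem s_ne : s1 ≠ 1 := fun e => absurd (h.act_uniq h.act1 (e ▸ LD.Act.one)) (by decide)

theorem invol_N {i : G} (hi : i ∈ N d.J) (ii : i * i = 1) : i = 1 ∨ (∃ n ∈ N d.J, n * s1 * n⁻¹ = i) ∨
    IsConj (s2 * s3) i ∨ IsConj (s1 * (s2 * s3)) i ∨ IsConj d.t i := by
  obtain ⟨A, hA, e⟩ := h.act48 hi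
  have ic : ∀ {k}, (∃ n ∈ N d.J, n * k * n⁻¹ = i) → IsConj k i := fun ⟨n, _, e⟩ => isConj_iff.2 ⟨n, e⟩
  rcases chkN1 A hA (h.act_uniq (e.mul e) (ii ▸ LD.Act.one)) with rfl | e1
  · exact Or.inl (h.eq_one_of_sq e ii)
  obtain ⟨P, hP, e1⟩ := List.any_eq_true.1 e1
  rcases of_decide_eq_true e1 with e1 | e1 | e1 | e1 | e1
  · exact Or.inr (Or.inl (h.isConj_of_act e h.act1 ii h.ss hP e1))
  · exact Or.inr (Or.inr (Or.inl (ic (h.isConj_of_act e h.act_u ii h.uu hP e1))))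
  · exact Or.inr (Or.inr (Or.inr (Or.inl (ic (h.isConj_of_act e h.act_r ii h.rr hP e1)))))
  · exact Or.inr (Or.inr (Or.inr (Or.inr (ic (h.isConj_of_act e h.act_t ii h.tt hP e1)))))
  · exact Or.inr (Or.inr (Or.inr (Or.inl (h.r_rt.symm.trans (ic (h.isConj_of_act e h.act_rt ii (by
      rw [(show Commute d.t _ from mul_inv_eq_iff_eq_mul.1 h.tr).mul_mul_mul_comm, h.tt, h.rr,
        one_mul]) hP e1))))))

theorem D9_eq : D9 d.j2 d.j3 = d.J ⊓ C1 s1 := by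
  refine le_antisymm (D9_le ⟨d.j2_mem, mem_C1_iff_conj'.2 h.sj2⟩ ⟨d.j3_mem, mem_C1_iff_conj'.2 h.sj3⟩)
    fun g hg => ?_
  obtain ⟨v, rfl⟩ := h.jv_surj hg.1
  have := (h.fix_iff' h.act1).1 hg.2
  rw [← d.jv_e1, ← d.jv_e2]
  exact h.mem_D9 (by clear hg; revert v; decide +kernel)

theorem mem_D9_of {q : G} (hq : q ∈ D9 d.j2 d.j3 ⊔ zpowers s1) (h3 : q ^ 3 = 1) : q ∈ d.J := by
  have h1 : D9 d.j2 d.j3 ≤ C1 s1 := h.D9_eq ▸ inf_le_right
  obtain ⟨y, hy, ζ, hζ, rfl⟩ := Nrm.exists_mul_of_mem_sup (nrm_of_le_C (C_zpowers s1 ▸ h1)) hq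
  rcases mem_zpowers_order_two' h.ss hζ with rfl | rfl
  · simpa using (h.D9_eq.le hy).1
  · rw [(show Commute y ζ from mem_C1.1 (h1 hy)).mul_pow, h.tup.b9.cube hy, pow_three', h.ss, one_mul,
      one_mul] at h3
    exact absurd h3 h.s_ne

theorem mem_N_s {g : G} (hg : g ∈ N (D9 d.j2 d.j3 ⊔ zpowers s1)) : g ∈ N d.J := by
  refine h.mem_N2 (v := ![0, 1, 1]) (by decide) (h.mem_D9_of (conj_mem_of_mem_N hg (mem_sup_left ?_))
    (by rw [conj_pow, h.exp _ (d.jv_mem _)]; simp))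
  rw [h.jv_c]
  exact mul_mem (left_mem_D9 _ _) (right_mem_D9 _ _)

variable (hb : C1 d.j1 ≤ N d.J)
include hb

theorem hu1 : ∀ g ∈ C1 d.j1, g ∈ C1 (s2 * s3) → g ^ 4 ∈ zpowers d.j1 := fun g hg e => by
  obtain ⟨A, hA, e1⟩ := h.act48 (hb hg)
  have h1 : ∀ A ∈ SP48, A * mU = mU * A → A * A * (A * A) = 1 := ball_of_all (by decide +kernel)
  obtain ⟨v, hv⟩ := h.jv_surj (h.mul_mem_J (e1.mul e1) (e1.mul e1) (h1 A hA (h.comm_act e1 h.act_u e)))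
  rw [show g * g * (g * g) = g ^ 4 by simp only [pow_succ, pow_zero, one_mul, mul_assoc]] at hv
  have h2 := (h.fix_iff' h.act_u).1 (hv ▸ pow_mem e 4)
  rw [← hv, ← d.jv_e0, h.jv_mem_zp]
  clear hv
  revert v; decide +kernel

theorem not_norm : ¬ C1 s1 ≤ N d.J := fun hs => by
  haveI : Fact (Nat.Prime 2) := ⟨Nat.prime_two⟩
  have hu := h.hu1 hb
  obtain ⟨T, hT, -, h1⟩ := le_of_se h.ss (h.mem_N_of_act h.act1) fun g hg => by
    have i : IsConj s1 (g * s1 * g⁻¹) := isConj_iff.2 ⟨g, rfl⟩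
    rcases h.invol_N hg (sq_cj h.ss g) with e | ⟨n, hn, e⟩ | e | e | e
    · exact absurd (conj_eq_one_iff.1 e) h.s_ne
    · exact mem_of_se hs hn e
    · exact absurd (i.trans e.symm) (h.nc_su hu)
    · exact absurd (i.trans e.symm) h.nc_sr
    · exact absurd (e.trans i.symm) h.nc_ts
  obtain ⟨k, -, hk⟩ := hT.exists_le_cj (X := zpowers d.w) le_top (isPGroup_zpowers_of_pow (k := 2) (by
    rw [show d.w ^ 2 ^ 2 = d.w * d.w * (d.w * d.w) by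
      simp only [pow_succ, pow_zero, one_mul, mul_assoc, Nat.reduceMul], h.ww, h.tt]))
  obtain ⟨A, hA, e⟩ := h.act48 (h1 (mem_cj.1 (hk (mem_zpowers _))))
  have e1 := e.mul e
  rw [show k⁻¹ * d.w * k * (k⁻¹ * d.w * k) = k⁻¹ * (d.w * d.w) * k⁻¹⁻¹ by group, h.ww] at e1
  have e2 := sq_cj h.tt k⁻¹
  rcases chkN2 A hA with e3 | e3 | e3
  · exact h.t_ne (conj_eq_one_iff.1 (h.eq_one_of_sq (e3 ▸ e1) e2))
  · exact e3 (h.act_uniq (e1.mul e1) (e2 ▸ LD.Act.one))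
  · obtain ⟨P, hP, e3⟩ := List.any_eq_true.1 e3
    obtain ⟨n, -, e4⟩ := h.isConj_of_act e1 h.act_u e2 h.uu hP (of_decide_eq_true e3)
    exact h.nc_tu hu ((isConj_iff.2 ⟨_, rfl⟩).trans (isConj_iff.2 ⟨n, e4⟩).symm)

theorem exists_fr : ∃ z, Fr s1 s2 (s2 * d.j2) z (s3 * d.j3) s3 := by
  have k2 : s2 ∈ C1 s1 := mem_C1.2 h.c12.symm
  have k3 : s3 ∈ C1 s1 := mem_C1.2 h.c13.symm
  have k4 : d.t ∈ C1 s1 := mem_C1.2 h.st
  have k5 : d.j2 ∈ C1 s1 := mem_C1_iff_conj'.2 h.sj2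
  refine (h.tup.d8_sec (τ := d.t) (X := C1 s1) (Z := zpowers s1) (zpowers_le.2 (self_mem_C1 _))
    (by rw [C_zpowers]) k5 k2 k4 h.tt h.t2 h.ts2 (eq_bot_iff.2 fun y hy => ?_) (fun g hg hn => ?_)
    (fun y hy y1 g hg e => ?_) fun g hg ζ hζ e => ?_).elim
    (fun e => absurd (fun g hg => h.mem_N_s (e hg)) (h.not_norm hb)) fun ⟨z, h1, h2, h3⟩ =>
      ⟨z, h1, K6_le k2 (mul_mem k2 k5) h2 (mul_mem k3 (mem_C1_iff_conj'.2 h.sj3)) k3, h3⟩
  · rcases mem_zpowers_order_two' h.ss hy.2 with rfl | rfl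
    · exact one_mem _
    · exact absurd (h.eq_one_of_sq (h.act_J (h.D9_eq.le hy.1).1) h.ss) h.s_ne
  · obtain ⟨A, hA, e⟩ := h.act48 (h.mem_N_s hn)
    have h1 : ∀ A ∈ SP48, A * mS1 = mS1 * A → A ∈ [1, mS2, mS3, mS2 * mS3, mT, mS2 * mT,
      mS3 * mT, mS2 * mS3 * mT] ∨ mS1 * A ∈ [1, mS2, mS3, mS2 * mS3, mT, mS2 * mT,
      mS3 * mT, mS2 * mS3 * mT] := ball_of_all (by decide +kernel)
    have h2 : ∀ w ∈ [1, s2, s3, s2 * s3, d.t, s2 * d.t, s3 * d.t, s2 * s3 * d.t], w ∈ C1 s1 := by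
      simp [k2, k3, k4, mul_mem]
    rcases h1 A hA (h.comm_act e h.act1 hg) with e1 | e1
    · obtain ⟨w, hw, e2⟩ := h.reps e e1
      exact ⟨w, hw, mem_sup_left (h.D9_eq.ge (mem_inf.2 ⟨e2, mul_mem hg (inv_mem (h2 w hw))⟩))⟩
    · obtain ⟨w, hw, e2⟩ := h.reps (h.act1.mul e) e1
      refine ⟨w, hw, ?_⟩
      simpa [mul_assoc] using mul_mem (inv_mem (mem_sup_right (mem_zpowers s1))) (mem_sup_left
        (T := zpowers s1) (h.D9_eq.ge (mem_inf.2 ⟨e2, mul_mem (mul_mem (self_mem_C1 _) hg)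
          (inv_mem (h2 w hw))⟩)))
  · have h1 : g * y * g⁻¹ ∈ d.J := h.mem_D9_of (by
      simpa using mul_mem (mem_sup_right (S := D9 d.j2 d.j3) e) (mem_sup_left hy))
      (by rw [conj_pow, h.tup.b9.cube hy]; simp)
    have h2 : g ∈ N d.J := by
      refine h.mem_N_of (h.D9_eq.le hy).1 ?_ h1
      rw [← d.jv_e1, ← d.jv_e2] at hy
      obtain ⟨v, rfl, hv⟩ := h.D9_q (by decide) (p := fun v => v = 0 ∨ qf v = 2 ∨
        SP48.any (fun A => decide (A *ᵥ v = ![1, 0, 0])) = true) (by decide +kernel) y hy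
      rcases hv with rfl | hv | hv
      · exact absurd d.jv_zero y1
      · exact h.cent2 hv
      · obtain ⟨A, hA, e⟩ := List.any_eq_true.1 hv
        obtain ⟨k, hk⟩ := h.exists48 hA
        exact h.cent_conj hk (h.mem_N_of_act hk) (by rwa [of_decide_eq_true e, d.jv_e0])
    refine mem_N_of_cj_le ?_
    rw [CfsgFT.cj_sup, cj_zpowers, mem_C1_iff_conj.1 hg, h.D9_eq, cj_inf, mem_N.1 h2, cj_C1,
      mem_C1_iff_conj.1 hg]
  · refine (mem_zpowers_order_two' h.ss hζ).resolve_right fun e1 => h.nc_su (h.hu1 hb) ?_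
    rw [e1, ← h.c12] at e
    exact (h.i12.trans (isConj_iff.2 ⟨g, e⟩)).trans h.iu12.symm

omit hb in
theorem fix_z {z : G} (F : Fr s1 s2 (s2 * d.j2) z (s3 * d.j3) s3) : d.x * z * d.x⁻¹ = z := by
  have F' : Fr s2 s3 (s3 * d.j3) (d.x * z * d.x⁻¹) (s1 * d.j1) s1 := by
    simpa only [← conj_mul, h.e1, h.e2, h.e3, h.x2, h.x3] using F.conj d.x
  generalize d.x * z * d.x⁻¹ = y at F'
  have p4 := (mem_K6 s2 (s2 * d.j2) z (s3 * d.j3) s3).2.2.2.1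
  have k1 := cube_symm F'.s6.bc
  have k2 := F.mem_of_pow (p := 2) (by rw [pow_two, h.ss]) (by norm_num)
    (mul_mem (mem_C1.2 F'.s6.ce) (F.cent p4)) k1
  refine (F.s6.uniq (by simpa only [mul_inv_cancel_right] using mul_mem k2 (inv_mem p4))
    (mem_C1.1 (F'.cent (mem_K6 _ _ _ _ _).2.2.1)) F'.s6.ac.symm k1).resolve_right fun e => ?_
  exact F'.s6.new [6] [2] (by decide) (by decide +kernel) (by simpa [sval, lv] using e.1)

theorem exists_G1 : ∃ P Q : Subgroup G, Q ≤ P ∧ Q.relIndex P = 2 ∧ s1 ∈ P ∧ s1 ∉ Q ∧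
    (∀ g, g * s1 * g⁻¹ ∈ P → g ∈ P) ∧ ∀ g, g * s1 * g⁻¹ ∉ Q := by
  haveI : Fact (Nat.Prime 2) := ⟨Nat.prime_two⟩
  have hu := h.hu1 hb
  obtain ⟨z, F⟩ := h.exists_fr hb
  have hz := h.fix_z F
  have F' : Fr s2 s3 (s3 * d.j3) z (s1 * d.j1) s1 := by
    simpa only [← conj_mul, h.e1, h.e2, h.e3, h.x2, h.x3, hz] using F.conj d.x
  have F'' : Fr s3 s1 (s1 * d.j1) z (s2 * d.j2) s2 := by
    simpa only [← conj_mul, h.e1, h.e2, h.e3, h.x1, h.x3, hz] using F'.conj d.x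
  obtain ⟨ψ, hψ⟩ := exists_wm6 (val := lv [s1, s1 * d.j1, z, s2 * d.j2, s2, s3 * d.j3]) rfl
    (S6.rels6 F''.s6 F.s6.dd F'.s6.be.symm F'.s6.bd.symm F.s6.cd F.s6.bd F.s6.ad)
  generalize hv : lv [s1, s1 * d.j1, z, s2 * d.j2, s2, s3 * d.j3] = val at hψ
  have v1 : val 1 = s1 := hv ▸ rfl
  have v2 : val 2 = s1 * d.j1 := hv ▸ rfl
  have v3 : val 3 = z := hv ▸ rfl
  have v4 : val 4 = s2 * d.j2 := hv ▸ rfl
  have v5 : val 5 = s2 := hv ▸ rfl
  have v6 : val 6 = s3 * d.j3 := hv ▸ rfl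
  have rq := hψ.rep th6 (by decide)
  have r := rep1 hψ
  have e1 : wval val th6 = s3 := by
    have i : IsConj s1 (wval val th6) := isConj_iff.2 ⟨_, v1 ▸ (hψ.rep [12, 6, 8, 4, 6, 12, 10, 8, 6, 4]
      (by decide)).conj (r 1 (by decide)) rq (by decide +kernel)⟩
    have q2 := rq.comm (r 2 (by decide)) (by decide +kernel)
    obtain ⟨p1, p2, p3, -⟩ := mem_K6 s2 (s2 * d.j2) z (s3 * d.j3) s3
    obtain ⟨ζ, k1, k, k2, e, -, k3⟩ := F.split (mem_C1.2 (v1 ▸ rq.comm (r 1 (by decide))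
      (by decide +kernel)))
    have k4 := F.s6.cent_abc k2
      (mem_C1.1 (k3 _ (F.cent p1) (mem_C1.2 (v5 ▸ rq.comm (r 5 (by decide)) (by decide +kernel)))))
      (mem_C1.1 (k3 _ (F.cent p2) (mem_C1.2 (v4 ▸ rq.comm (r 4 (by decide)) (by decide +kernel)))))
      (mem_C1.1 (k3 _ (F.cent p3) (mem_C1.2 (v3 ▸ rq.comm (r 3 (by decide)) (by decide +kernel)))))
    rw [e] at i q2 ⊢
    rcases mem_zpowers_order_two' h.ss k1 with rfl | rfl <;> rcases k4 with rfl | rfl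
    · exact absurd (isConj_one_left.1 (by simpa using i)) h.s_ne
    · exact one_mul _
    · exact absurd (by simpa [sval, lv, v2] using q2)
        (F''.s6.new [2, 4] [4, 2] (by decide) (by decide +kernel))
    · exact absurd ((h.c13 ▸ i).trans h.iu31.symm) (h.nc_su hu)
  have c1 : ∀ g, s1 * (s1 * g) = g := fun g => by rw [← mul_assoc, h.ss, one_mul]
  have c2 : ∀ g, s2 * (s2 * g) = g := fun g => by rw [← mul_assoc, h.ss2, one_mul]
  have c3 : ∀ g, s3 * (s3 * g) = g := fun g => by rw [← mul_assoc, h.ss3, one_mul]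
  have eu : wval val (10 :: th6) = s2 * s3 := by simp [e1, sval, v5]
  have er : wval val (2 :: 10 :: th6) = s1 * (s2 * s3) := by simp [e1, sval, v5, v1]
  have hW : ∀ a, 1 ≤ a → a ≤ 7 → wval val (W6.getD a []) = (⟨d.j1, d.j2, d.j3, wval val (W6.getD 4 []),
      wval val (W6.getD 5 []), wval val (W6.getD 6 [])⟩ : LD G).val (s2 * s3) 1 a := fun a _ _ => by
    interval_cases a
    exacts [by simp [W6, sval, v1, v2, c1, LD.val, lv], by simp [W6, sval, v4, v5, c2, LD.val, lv],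
      by simp [W6, sval, e1, v6, c3, LD.val, lv], rfl, rfl, rfl, eu]
  have hR := rels_sub hψ (by decide) chkR6 rfl rfl hW
  obtain ⟨k1, -⟩ := h.toLoc.rebase hR
  have it := h.it (τ := wval val (W6.getD 5 [])) k1.act_t k1.tt
  have k2 := k1.H_le_C1
  rw [LD.H, ← LD.gcl_val _ (s2 * s3) 1 le_rfl] at k2
  have ea : wval ((⟨d.j1, d.j2, d.j3, wval val (W6.getD 4 []), wval val (W6.getD 5 []),
      wval val (W6.getD 6 [])⟩ : LD G).val (s2 * s3) 1) [2, 4, 6] = d.a := by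
    simp [sval, LD.val, lv, LD.a, mul_assoc]
  have ha := ea ▸ h.a_ne
  have hc := card7 rfl hR ha
  have hn := fun g => nonreal (g := g) rfl hR ha (ea ▸ k2)
  obtain ⟨T, hT, k3, -⟩ := exists_T rfl hR ha
  have mu : s2 * s3 ∈ _ := mem_gcl (val := (⟨d.j1, d.j2, d.j3, wval val (W6.getD 4 []),
    wval val (W6.getD 5 []), wval val (W6.getD 6 [])⟩ : LD G).val (s2 * s3) 1) (a := 7) (n := 7)
    (by norm_num) le_rfl
  have hle := gcl_le (K := gcl val 6) fun a h1 h2 => hW a h1 h2 ▸ hψ.mem _ (getD_lt (by decide) a)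
  change ∀ g ∈ T, _ → _ ∨ ∃ k ∈ _, k * wval val (W6.getD 5 []) * k⁻¹ = g ∨ k * (s2 * s3) * k⁻¹ = g at k3
  rw [ea] at hn
  generalize gcl ((⟨d.j1, d.j2, d.j3, wval val (W6.getD 4 []), wval val (W6.getD 5 []),
    wval val (W6.getD 6 [])⟩ : LD G).val (s2 * s3) 1) 7 = Q at hc hn hT k3 mu hle
  have mP : ∀ a, 1 ≤ a → a ≤ 6 → val a ∈ gcl val 6 := fun a => mem_gcl
  have m1 : s1 ∈ gcl val 6 := v1 ▸ mP 1 le_rfl (by norm_num)
  have n1 : s1 ∉ Q := fun e => hn _ (mul_mem e mu) (h.inv_a h.act_r)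
  have k4 := card_mul_relIndex hle
  have k5 : Q.relIndex (gcl val 6) ≠ 1 := fun e => n1 (relIndex_eq_one.1 e m1)
  have k6 := relIndex_pos Q (gcl val 6)
  have k7 : Nat.card (gcl val 6) ≤ 51840 := by
    rw [← hψ.range, ← e7_card6']
    exact Nat.card_le_card_of_surjective _ ψ.rangeRestrict_surjective
  have hi := hψ.injective (by rw [e7_card6', ← k4, hc]; omega)
  have hC : C1 s1 ≤ gcl val 6 := fun g hg => by
    obtain ⟨ζ, h1, k, h2, rfl⟩ := F.gen g hg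
    exact mul_mem (zpowers_le.2 m1 h1) (K6_le (v5 ▸ mP 5 (by norm_num) (by norm_num))
      (v4 ▸ mP 4 (by norm_num) (by norm_num)) (v3 ▸ mP 3 (by norm_num) (by norm_num))
      (v6 ▸ mP 6 (by norm_num) (by norm_num)) (e1 ▸ hψ.mem _ (by decide)) h2)
  refine ⟨gcl val 6, Q, hle, by rw [hc] at k4; omega, m1, n1, fun g hg => ?_, fun g hg => ?_⟩
  · have i : IsConj s1 (g * s1 * g⁻¹) := isConj_iff.2 ⟨g, rfl⟩
    rcases inv_class6 hψ hi hg (sq_cj h.ss g) with e | ⟨n, hn, e⟩ | e | e | e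
    · exact absurd (conj_eq_one_iff.1 e) h.s_ne
    · exact mem_of_se hC hn (v1 ▸ e)
    · exact absurd (i.trans (eu ▸ e).symm) (h.nc_su hu)
    · exact absurd (i.trans (er ▸ e).symm) h.nc_sr
    · exact absurd ((it.trans e).trans i.symm) h.nc_ts
  · obtain ⟨p, -, h3⟩ := hT.exists_le_cj (zpowers_le.2 hg) (isP_zp2 (sq_cj h.ss g))
    have e : p⁻¹ * (g * s1 * g⁻¹) * p = p⁻¹ * g * s1 * (p⁻¹ * g)⁻¹ := by group
    have i : IsConj s1 (p⁻¹ * g * s1 * (p⁻¹ * g)⁻¹) := isConj_iff.2 ⟨_, rfl⟩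
    rcases k3 _ (e ▸ mem_cj.1 (h3 (mem_zpowers _))) (sq_cj h.ss _) with e | ⟨k, -, e | e⟩
    · exact h.s_ne (conj_eq_one_iff.1 e)
    · exact h.nc_ts ((it.trans (isConj_iff.2 ⟨k, e⟩)).trans i.symm)
    · exact h.nc_su hu (i.trans (isConj_iff.2 ⟨k, e⟩).symm)

theorem aut_psp (F : Type*) [Field F] [Fintype F] (hF : Fintype.card F = 3) :
    Nonempty (G ≃* MulAut (Cfsg.PSp 2 F)) := by
  obtain ⟨P, Q, h1, h2, h3, h4, h5, h6⟩ := h.exists_G1 hb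
  obtain ⟨T, hT, h7, h8⟩ := le_of_se h.ss h3 h5
  obtain ⟨Y, -, hY, sY⟩ := thompson_in hT (inf_le_right (a := Q)) (by
    have k1 := relIndex_le_of_le_right h8 (h2 ▸ two_ne_zero)
    have k2 := relIndex_pos Q T
    have k3 : Q.relIndex T ≠ 1 := fun e => h4 (relIndex_eq_one.1 e h7)
    rw [inf_relIndex_right]
    omega) (mem_top s1) (fun g _ => by rw [h.ss]; simp) fun g _ e => h6 g e.1
  have c3 : ∀ {g}, g ^ 3 = 1 → g ∈ Y := fun e => idx2_cube le_top hY (mem_top _) e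
  have hw : d.w ∈ Y := by simpa using mul_mem (c3 h.wj) (inv_mem (c3 h.c1))
  have hH : d.H ≤ Y := d.H_le (d.B_le (fun j hj => c3 (h.exp j hj)) (c3 h.cx) (h.ww ▸ mul_mem hw hw)) hw
  have hu : s2 * s3 ∈ Y := by simpa using mul_mem (c3 h.locU.ux) (inv_mem (c3 h.cx))
  have h0 : LocU (Loc0.lift d Y hH) ⟨_, hu⟩ := LocU.of_map Y.subtype Y.subtype_injective h.locU
  have nr : ∀ g : Y, g * (Loc0.lift d Y hH).a * g⁻¹ ≠ (Loc0.lift d Y hH).a⁻¹ := fun g e => by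
    have e1 : (g : G) * d.a * (g : G)⁻¹ = d.a⁻¹ := congrArg Subtype.val e
    have e2 := hH (h.cent (mem_C1_iff_conj.2 (cj_comp (h.inv_a h.act_r) (by rw [cj_inv e1, inv_inv]))))
    exact sY (by
      simpa only [inv_mul_cancel_left, mul_inv_cancel_right] using
        mul_mem (mul_mem (inv_mem g.2) e2) (inv_mem hu))
  haveI : Y.Normal := normal_of_index_eq_two (by rwa [relIndex_top_right] at hY)
  obtain ⟨e⟩ := h0.psp_top (fun r hr => nr r (h0.inv_a hr)) F hF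
  refine ⟨(MulEquiv.ofBijective (MulAut.conjNormal (H := Y)) ⟨(injective_iff_map_eq_one _).2
    fun g hg => ?_, fun α => ?_⟩).trans (MulAut.congr e)⟩
  · have k1 : ∀ y ∈ Y, g * y * g⁻¹ = y := fun y hy => by
      simpa using congrArg (fun f : MulAut Y => (f ⟨y, hy⟩ : G)) hg
    obtain ⟨v, rfl⟩ := h.jv_surj (h.mem_J' (h.act_of_comm fun j hj =>
      (mul_inv_eq_iff_eq_mul.1 (k1 j (hH (d.J_le_H hj)))).symm))
    have k2 := (h.fix_iff' h.act_u).1 (mem_C1_iff_conj.2 (k1 _ hu))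
    have k3 := (h.fix_iff' h.act_x).1 (mem_C1_iff_conj.2 (k1 _ (c3 h.cx)))
    rw [show v = 0 by clear hg k1; revert v; decide +kernel, d.jv_zero]
  · rcases h0.aut_cases nr (ρ := MulAut.conjNormal (s1 * (s2 * s3))) (Subtype.ext (h.inv_a h.act_r)) α
      with ⟨g, rfl⟩ | ⟨g, k, rfl⟩
    · exact ⟨g, MulAut.conjNormal_val⟩
    · exact ⟨g * (s1 * (s2 * s3)) * k, by
        rw [map_mul, map_mul, MulAut.conjNormal_val, MulAut.conjNormal_val]⟩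

end RS

end CfsgH9.P43
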