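import Cfsg.Agent.H9.P43F

/-! The case `C(b) = ⟨b⟩ × S₆`: the group is `Sp₆(2)`. -/

set_option autoImplicit false
set_option maxRecDepth 100000

namespace CfsgH9.P43

open Subgroup CfsgH5 CfsgH6 CfsgFT CfsgH8 CfsgH7 CfsgH3.TC Matrix E7

universe u
variable {G : Type u} [Group G] [Finite G]

theorem _root_.CfsgH9.E7.S6.vf {a b c d e : G} (h : S6 a b c d e) : a * c * (a * c) = 1 ∧
    a * c * (b * (a * c) * b) = b * (a * c) * b * (a * c) ∧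
    a * b * (a * c) * (a * b)⁻¹ = a * c * (b * (a * c) * b) ∧
    a * b * (b * (a * c) * b) * (a * b)⁻¹ = a * c ∧ a * b * c * d * c * b * (a * e) *
      (a * b * c * d * c * b)⁻¹ = a * e * (b * d * c * d * b) * e * a * (b * d * c * d * b) :=
  ⟨by simpa [sval, lv, mul_assoc] using h.eqw [2, 6, 2, 6] [] (by decide) (by decide +kernel),
    by simpa [sval, lv, mul_assoc] using
      h.eqw [2, 6, 4, 2, 6, 4] [4, 2, 6, 4, 2, 6] (by decide) (by decide +kernel),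
    by simpa [sval, lv, mul_assoc] using
      h.eqw [2, 4, 2, 6, 5, 3] [2, 6, 4, 2, 6, 4] (by decide) (by decide +kernel),
    by simpa [sval, lv, mul_assoc] using
      h.eqw [2, 4, 4, 2, 6, 4, 5, 3] [2, 6] (by decide) (by decide +kernel),
    by simpa [sval, lv, mul_assoc] using
      h.eqw [2, 4, 6, 8, 6, 4, 2, 10, 5, 7, 9, 7, 5, 3] [2, 10, 4, 8, 6, 8, 4, 10, 2, 4, 8, 6, 8, 4]
        (by decide) (by decide +kernel)⟩

theorem Fr.pow36 {j a b c d e g : G} (h : Fr j a b c d e) (j3 : j ^ 3 = 1) (hg : g ∈ C1 j)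
    {y : G} (hy : y ∈ C1 j) (h1 : g ∈ C1 y) (h2 : ∀ k ∈ K6 a b c d e, k ∈ C1 y → k ^ 12 = 1) :
    g ^ 648 = 1 := by
  obtain ⟨ζ, k1, k, k2, -, k3, k4⟩ := h.split hg
  rw [k3, show 648 = 12 * 54 by rfl, pow_mul k, h2 k k2 (k4 y hy h1), show 12 * 54 = 3 * 216 by rfl,
    pow_mul]
  rcases mem_zpowers_three j3 k1 with rfl | rfl | rfl <;> simp [j3]

structure B2 (d : LD G) (s1 s2 s3 z1 z2 z3 : G) : Prop extends RS d s1 s2 s3 where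
  f1 : Fr d.j1 s2 (s2 * d.j2) z1 (s3 * d.j3) s3
  z12 : d.x * z1 * d.x⁻¹ = z2
  z23 : d.x * z2 * d.x⁻¹ = z3

theorem RS.exists_b2 {d : LD G} {s1 s2 s3 : G} (h : RS d s1 s2 s3) :
    C1 d.j1 ≤ N d.J ∨ ∃ z1 z2 z3, B2 d s1 s2 s3 z1 z2 z3 := by
  refine h.cases_b.imp_right fun ⟨z, h1, h2, h3⟩ => ⟨z, _, _, h, ⟨h1, ?_, h3⟩, rfl, rfl⟩
  have k2 : s2 ∈ C1 d.j1 := d.jv_e0 ▸ (h.fix_iff h.act2).2 (by decide)
  have k3 : s3 ∈ C1 d.j1 := d.jv_e0 ▸ (h.fix_iff h.act3).2 (by decide)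
  exact K6_le k2 (mul_mem k2 (mem_C1.2 h.m12.symm)) h2 (mul_mem k3 (mem_C1.2 h.m13.symm)) k3

namespace B2

variable {d : LD G} {s1 s2 s3 z1 z2 z3 : G} (h : B2 d s1 s2 s3 z1 z2 z3)
include h

theorem f2 : Fr d.j2 s3 (s3 * d.j3) z2 (s1 * d.j1) s1 := by
  simpa only [← conj_mul, h.e1, h.e3, h.x1, h.x2, h.x3, h.z12] using h.f1.conj d.x

theorem f3 : Fr d.j3 s1 (s1 * d.j1) z3 (s2 * d.j2) s2 := by
  simpa only [← conj_mul, h.e1, h.e2, h.x1, h.x2, h.x3, h.z23] using h.f2.conj d.x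

theorem z31 : d.x * z3 * d.x⁻¹ = z1 := by rw [← h.z23, ← h.z12, cj3 h.cx]

theorem hm {m : G} (h1 : m ∈ C1 d.j1) (h2 : ∀ k ∈ K6 s2 (s2 * d.j2) z1 (s3 * d.j3) s3, k ∈ C1 m →
    k ^ 4 = 1) (g : G) (hg : g ∈ C1 d.j1) (e : g ∈ C1 m) : g ^ 4 ∈ zpowers d.j1 := by
  obtain ⟨ζ, k1, k, k2, -, k3, k4⟩ := h.f1.split hg
  rw [k3, h2 k k2 (k4 m h1 e), mul_one]
  exact pow_mem k1 4

theorem hu : ∀ g ∈ C1 d.j1, g ∈ C1 (s2 * s3) → g ^ 4 ∈ zpowers d.j1 :=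
  h.hm (d.jv_e0 ▸ (h.fix_iff h.act_u).2 (by decide)) fun _ hk e =>
    h.f1.s6.cent_ae hk (Or.inl (mem_C1.1 e))

theorem sz1 : s1 * z1 * s1⁻¹ = z1 := by
  have k := h.f1.s6
  have k2 : s1 * s2 * s1⁻¹ = s2 := mul_inv_eq_iff_eq_mul.2 h.c12
  have k3 : s1 * s3 * s1⁻¹ = s3 := mul_inv_eq_iff_eq_mul.2 h.c13
  have k4 := k.conj s1
  simp only [← conj_mul, k2, k3, h.sj2, h.sj3] at k4
  refine (k.uniq (h.f1.mem2 h.c1 ?_ k4.cc) k4.ac.symm k4.ce k4.cd).resolve_right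
    fun e => e.2 (cube_symm k4.bc)
  rw [← C1_inv, ← h.sj1, ← cj_C1, conj_mem_cj]
  exact h.f1.cent (mem_K6 _ _ _ _ _).2.2.1

theorem sz2 : s2 * z2 * s2⁻¹ = z2 := by
  simpa only [← conj_mul, ← conj_inv, h.e2, h.z12] using congrArg (fun q => d.x * q * d.x⁻¹) h.sz1

theorem sz3 : s3 * z3 * s3⁻¹ = z3 := by
  simpa only [← conj_mul, ← conj_inv, h.e3, h.z23] using congrArg (fun q => d.x * q * d.x⁻¹) h.sz2

theorem K2_le : K6 s3 (s3 * d.j3) z2 (s1 * d.j1) s1 ≤ C1 s2 := by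
  have k1 : s3 ∈ C1 s2 := mem_C1.2 h.c23.symm
  have k2 : s1 ∈ C1 s2 := mem_C1.2 h.c12
  exact K6_le k1 (mul_mem k1 (d.jv_e2 ▸ (h.fix_iff' h.act2).2 (by decide)))
    (mem_C1_iff_conj'.2 h.sz2) (mul_mem k2 (d.jv_e0 ▸ (h.fix_iff' h.act2).2 (by decide))) k2

omit h in
theorem it_of {j a b c e f t : G} (hF : Fr j a b c e f) (j3 : j ^ 3 = 1) (h1 : t ∈ C1 j)
    (h2 : t * t = 1) (h3 : t ≠ 1) (h4 : ¬ IsConj t f) (h5 : ¬ IsConj t (a * f)) :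
    ∃ k ∈ K6 a b c e f, k * (a * c * f) * k⁻¹ = t := by
  rcases hF.s6.invol (hF.mem2 j3 h1 h2) h2 with e | ⟨k, hk, e | e | e⟩
  · exact absurd e h3
  · exact absurd (isConj_iff.2 ⟨k, e⟩).symm h4
  · exact absurd (isConj_iff.2 ⟨k, e⟩).symm h5
  · exact ⟨k, hk, e.1⟩

theorem it2 : ∃ k ∈ K6 s3 (s3 * d.j3) z2 (s1 * d.j1) s1,
    k * (s3 * z2 * s1) * k⁻¹ = d.x * d.t * d.x⁻¹ := by
  have i : IsConj d.t (d.x * d.t * d.x⁻¹) := isConj_iff.2 ⟨_, rfl⟩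
  refine it_of h.f2 h.c2 ?_ (sq_cj h.tt _) (mt conj_eq_one_iff.1 h.t_ne) (fun e => h.nc_ts (i.trans e))
    fun e => h.nc_tu h.hu ((i.trans e).trans h.iu31.symm)
  rw [← h.x1, ← cj_C1, conj_mem_cj]
  exact mem_C1_iff_conj.2 h.t1

theorem it3 : IsConj d.t (s2 * z3 * s1) := by
  have i : IsConj d.t (d.x⁻¹ * d.t * d.x⁻¹⁻¹) := isConj_iff.2 ⟨_, rfl⟩
  obtain ⟨k, -, e⟩ := it_of h.f3.symm h.c3 (by
    rw [← cj_swap h.x3, ← cj_C1, conj_mem_cj]; exact mem_C1_iff_conj.2 h.t1) (sq_cj h.tt d.x⁻¹)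
    (mt conj_eq_one_iff.1 h.t_ne) (fun e => h.nc_ts (i.trans e))
    fun e => h.nc_tu h.hu ((i.trans (h.c12 ▸ e)).trans h.iu12.symm)
  exact i.trans (isConj_iff.2 ⟨k, e⟩).symm

theorem typ {k : G} (hk : k ∈ K6 s3 (s3 * d.j3) z2 (s1 * d.j1) s1) (kk : k * k = 1) :
    k = 1 ∨ IsConj (s2 * s3) (k * s2) ∨ IsConj (s1 * (s2 * s3)) (k * s2) := by
  have key : ∀ {p y v}, p ∈ K6 s3 (s3 * d.j3) z2 (s1 * d.j1) s1 → p * y * p⁻¹ = v →
      IsConj (y * s2) (v * s2) := fun {p y v} hp e => isConj_iff.2 ⟨p, by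
    rw [← conj_mul, e, mem_C1_iff_conj.1 (h.K2_le hp)]⟩
  rcases h.f2.s6.invol hk kk with e | ⟨p, hp, e | e | e⟩
  · exact Or.inl e
  · exact Or.inr (Or.inl (h.iu12.trans (key hp e)))
  · refine Or.inr (Or.inr (IsConj.trans ?_ (key hp e)))
    rw [← h.c13, mul_assoc, h.c23]
  · obtain ⟨q, hq, e1⟩ := h.it2
    refine Or.inr (Or.inr ((h.irt.trans (IsConj.trans ?_ (key hq e1).symm)).trans (key hp e.1)))
    exact isConj_iff.2 ⟨d.x, by rw [← conj_mul, h.e2]⟩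

theorem ttyp {y : G} (h1 : NX d.j2 y) (h2 : y ∈ C1 s2) (h3 : IsConj d.t y) :
    y ∈ K6 s3 (s3 * d.j3) z2 (s1 * d.j1) s1 ∧ (y * s1 = s1 * y → ∀ Z : Subgroup G, s3 * z2 ∈ Z →
      s3 * d.j3 * (s3 * z2) * (s3 * d.j3) ∈ Z → y * s1 ∈ Z) := by
  have yy : y * y = 1 := by
    obtain ⟨g, rfl⟩ := isConj_iff.1 h3
    exact sq_cj h.tt g
  rcases h1 with e | e
  · have hy := h.f2.mem2 h.c2 (mem_C1_iff_conj.2 e) yy
    refine ⟨hy, fun e1 Z k1 k2 => ?_⟩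
    rcases h.f2.s6.invol hy yy with e | ⟨p, hp, e | e | e⟩
    · exact absurd (isConj_one_left.1 (e ▸ h3)) h.t_ne
    · exact absurd (h3.trans (isConj_iff.2 ⟨p, e⟩).symm) h.nc_ts
    · exact absurd ((h3.trans (isConj_iff.2 ⟨p, e⟩).symm).trans h.iu31.symm) (h.nc_tu h.hu)
    · rcases e.2 e1 with e | e | e <;> rw [e]
      exacts [k1, k2, mul_mem k1 k2]
  · exfalso
    have k1 : y * s2 * (y * s2) = 1 := by
      rw [(show Commute y s2 from mem_C1.1 h2).symm.mul_mul_mul_comm, yy, h.ss2, one_mul]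
    have k2 : y * s2 * s2 = y := by rw [mul_assoc, h.ss2, mul_one]
    rcases h.typ (h.f2.mem2 h.c2 (mem_C1_iff_conj.2 (cj_comp h.tup.sp' (by rw [cj_inv e, inv_inv]))) k1)
      k1 with e1 | e1 | e1
    · rw [← k2, e1, one_mul] at h3
      exact h.nc_ts (h3.trans h.i12.symm)
    · exact h.nc_tu h.hu (h3.trans (k2 ▸ e1).symm)
    · exact h.nc_tr (h3.trans (k2 ▸ e1).symm)

theorem bad {Z : Subgroup G} (m1 : s3 * z2 ∈ Z) (m2 : s3 * d.j3 * (s3 * z2) * (s3 * d.j3) ∈ Z)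
    (m3 : s1 ∈ Z) (hZ : IsPGroup 2 Z) (h1 : Z ≤ C1 s1) (h2 : Z ≤ C1 s2) (h3 : Z ≤ C1 d.j2)
    (hN : ∀ g, g * (s3 * z2) * g⁻¹ ∈ Z → g * (s3 * d.j3 * (s3 * z2) * (s3 * d.j3)) * g⁻¹ ∈ Z →
      g ∈ C1 s1 → NX d.j2 g) : False := by
  haveI : Fact (Nat.Prime 2) := ⟨Nat.prime_two⟩
  have nx : ∀ {g}, g ∈ N (zpowers d.j2) → NX d.j2 g := fun {g} hg => by
    rcases mem_zpowers_three h.c2 (conj_mem_of_mem_N hg (mem_zpowers _)) with e | e | e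
    · exact absurd (conj_eq_one_iff.1 e) h.tup.p1
    exacts [Or.inl e, Or.inr e]
  obtain ⟨T, k1, hT⟩ := exists_sylIn_ge (le_inf h1 h2) hZ
  have i1 : IsConj d.t (s3 * z2 * s1) := by
    obtain ⟨q, -, e⟩ := h.it2
    exact (isConj_iff.2 ⟨_, rfl⟩).trans (isConj_iff.2 ⟨q, e⟩).symm
  have i2 : IsConj d.t (s3 * d.j3 * (s3 * z2) * (s3 * d.j3) * s1) :=
    i1.trans (isConj_iff.2 ⟨s3 * d.j3, by
      rw [← conj_mul, h.f2.s6.be, mul_inv_cancel_right, inv_eq_of_mul_eq_one_right h.f2.s6.bb]⟩)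
  have k2 : T ≤ N (zpowers d.j2) := le_of_N_inf hT.isPGroup fun g hg hn => by
    have k3 := mem_C1_iff_conj.1 (hT.le hg).1
    have key : ∀ {v}, v ∈ Z → IsConj d.t (v * s1) → g * v * g⁻¹ ∈ Z := fun {v} hv e => by
      have k4 := conj_mem_of_mem_N hn (mem_inf.2 ⟨k1 (mul_mem hv m3),
        mem_N_zpowers (Or.inl (mem_C1_iff_conj.1 (h3 (mul_mem hv m3))))⟩)
      have k5 := (h.ttyp (nx k4.2) (hT.le k4.1).2 (e.trans (isConj_iff.2 ⟨g, rfl⟩))).2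
        (mem_C1.1 (hT.le k4.1).1) Z m1 m2
      rwa [← conj_mul, k3, mul_assoc, h.ss, mul_one] at k5
    exact mem_N_zpowers (hN g (key m1 i1) (key m2 i2) (hT.le hg).1)
  have f3 := h.f3.s6
  have c1 : Commute s2 z3 := f3.ce.symm
  have c2 : Commute s1 s2 := h.c12
  have c3 : Commute s1 z3 := f3.ac
  have yy : s2 * z3 * s1 * (s2 * z3 * s1) = 1 := by
    rw [(c2.mul_right c3).mul_mul_mul_comm, c1.symm.mul_mul_mul_comm, h.ss, h.ss2, f3.cc]; simp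
  obtain ⟨w, hw, k3⟩ := hT.exists_le_cj (X := zpowers (s2 * z3 * s1)) (zpowers_le.2
    ⟨mul_mem (mul_mem (mem_C1.2 c2.symm) (mem_C1.2 c3.symm)) (self_mem_C1 _),
      mul_mem (mul_mem (self_mem_C1 _) (mem_C1.2 c1.symm)) (mem_C1.2 c2)⟩) (isP_zp2 yy)
  have k4 := mem_cj.1 (k3 (mem_zpowers _))
  have k5 : IsConj d.t (w⁻¹ * (s2 * z3 * s1) * w) := h.it3.trans (isConj_iff.2 ⟨w⁻¹, by simp⟩)
  have k6 := mul_mem (h.ttyp (nx (k2 k4)) (hT.le k4).2 k5).1 (mem_K6 _ _ _ _ _).2.2.2.2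
  have k7 : w⁻¹ * (s2 * z3 * s1) * w * s1 = w⁻¹ * (s2 * z3) * w⁻¹⁻¹ := by
    rw [mul_assoc, mem_C1.1 hw.1, mul_assoc, mul_assoc, ← mul_assoc s1, h.ss, one_mul, inv_inv,
      mul_assoc w⁻¹]
  have k8 : IsConj s1 (w⁻¹ * (s2 * z3) * w⁻¹⁻¹ * s2) := by
    obtain ⟨q, -, e⟩ := h.f3.symm.conj_ec
    refine (isConj_iff.2 ⟨q, e⟩).trans (isConj_iff.2 ⟨w⁻¹, ?_⟩)
    rw [inv_inv, mul_assoc _ w, mem_C1.1 hw.2, c1.eq, mul_assoc w⁻¹ _ (s2 * w), mul_assoc z3,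
      ← mul_assoc s2, h.ss2, one_mul, mul_assoc]
  rw [k7] at k6
  rcases h.typ k6 (sq_cj (by rw [c1.symm.mul_mul_mul_comm, h.ss2, f3.cc, one_mul]) _) with e | e | e
  · rw [← k7, mul_eq_one_iff_eq_inv, inv_eq_of_mul_eq_one_right h.ss] at e
    exact h.nc_ts (e ▸ k5)
  · exact h.nc_su h.hu (k8.trans e.symm)
  · exact h.nc_sr (k8.trans e.symm)

theorem zz23 : z2 * z3 = z3 * z2 := by
  haveI : Fact (Nat.Prime 2) := ⟨Nat.prime_two⟩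
  have f2 := h.f2.s6
  obtain ⟨q1, q2, q3, q4, -⟩ := f2.vf
  obtain ⟨p1, p2, p3, -, p5⟩ := mem_K6 s3 (s3 * d.j3) z2 (s1 * d.j1) s1
  rw [← mul_assoc s3 s3, h.ss3, one_mul] at q3 q4
  have v1K := mul_mem p1 p3
  have v2K := mul_mem (mul_mem p2 v1K) p2
  have q5 : s3 * d.j3 * (s3 * z2) * (s3 * d.j3) * (s3 * d.j3 * (s3 * z2) * (s3 * d.j3)) = 1 := by
    simpa only [inv_eq_of_mul_eq_one_right f2.bb] using sq_cj q1 (s3 * d.j3)
  have q6 : s3 * z2 ∈ C1 s1 := mul_mem (mem_C1.2 f2.ae) (mem_C1.2 f2.ce)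
  have q7 : s3 * d.j3 * (s3 * z2) * (s3 * d.j3) ∈ C1 s1 :=
    mul_mem (mul_mem (mem_C1.2 f2.be) q6) (mem_C1.2 f2.be)
  have hV := fun g hg h1 h2 h3 K => @S6.cent_V G _ _ _ _ _ _ _ f2 g hg h1 h2 h3 K
  have hB := fun Z => @h.bad G _ _ _ _ _ _ _ _ _ Z
  by_contra hne
  have hne' : s2 * z3 ∉ C1 (s3 * z2) := fun e => hne (by
    have k1 : z3 ∈ C1 (s3 * z2) := by
      simpa using mul_mem (inv_mem (mem_C1_comm.1 (h.K2_le v1K))) e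
    have k2 : z2 ∈ C1 z3 := by
      simpa using mul_mem (inv_mem (mem_C1_iff_conj.2 h.sz3)) (mem_C1_comm.1 k1)
    exact mem_C1.1 k2)
  generalize s3 * z2 = v1 at *
  generalize s3 * d.j3 * v1 * (s3 * d.j3) = v2 at *
  have m1 : v1 ∈ zpowers v1 ⊔ zpowers v2 ⊔ zpowers s1 := mem_sup_left (mem_sup_left (mem_zpowers _))
  have m2 : v2 ∈ zpowers v1 ⊔ zpowers v2 ⊔ zpowers s1 := mem_sup_left (mem_sup_right (mem_zpowers _))
  have m3 : s1 ∈ zpowers v1 ⊔ zpowers v2 ⊔ zpowers s1 := mem_sup_right (mem_zpowers _)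
  have e1 : C (zpowers v1 ⊔ zpowers v2 ⊔ zpowers s1) = C1 v1 ⊓ C1 v2 ⊓ C1 s1 := by
    rw [C_sup, C_sup, C_zpowers, C_zpowers, C_zpowers]
  have mN : ∀ {g}, g * v1 * g⁻¹ ∈ zpowers v1 ⊔ zpowers v2 ⊔ zpowers s1 →
      g * v2 * g⁻¹ ∈ zpowers v1 ⊔ zpowers v2 ⊔ zpowers s1 → g ∈ C1 s1 →
      g ∈ N (zpowers v1 ⊔ zpowers v2 ⊔ zpowers s1) := fun k1 k2 k3 => mem_N_of_cj_le (by
    rw [CfsgFT.cj_sup, CfsgFT.cj_sup, cj_zpowers, cj_zpowers, cj_zpowers, mem_C1_iff_conj.1 k3]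
    exact sup_le (sup_le (zpowers_le.2 k1) (zpowers_le.2 k2)) le_sup_right)
  have hle : ∀ {K : Subgroup G}, v1 ∈ K → v2 ∈ K → s1 ∈ K → zpowers v1 ⊔ zpowers v2 ⊔ zpowers s1 ≤ K :=
    fun k1 k2 k3 => sup_le (sup_le (zpowers_le.2 k1) (zpowers_le.2 k2)) (zpowers_le.2 k3)
  have hp : IsPGroup 2 (zpowers v1 ⊔ zpowers v2 ⊔ zpowers s1 : Subgroup G) :=
    Nrm.isPGroup_sup (nrm_of_le_C (by
      rw [C_zpowers]; exact sup_le (zpowers_le.2 q6) (zpowers_le.2 q7)))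
      (Nrm.isPGroup_sup (nrm_of_le_C (by rw [C_zpowers]; exact zpowers_le.2 (mem_C1.2 q2)))
        (isP_zp2 q1) (isP_zp2 q5)) (isP_zp2 h.ss)
  have hab := hle (K := C1 v1 ⊓ C1 v2 ⊓ C1 s1) ⟨⟨self_mem_C1 _, mem_C1.2 q2⟩, q6⟩
    ⟨⟨mem_C1.2 q2.symm, self_mem_C1 _⟩, q7⟩ ⟨⟨mem_C1_comm.1 q6, mem_C1_comm.1 q7⟩, self_mem_C1 _⟩
  have hK := hle v1K v2K p5
  rw [← e1] at hab
  generalize zpowers v1 ⊔ zpowers v2 ⊔ zpowers s1 = Z at m1 m2 m3 e1 mN hp hab hK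
  have hX : NormalIn (C Z) (N Z ⊓ C1 s1) :=
    ⟨le_inf (C_le_N Z) (C_le_C1 m3), (nrm_of_le_N inf_le_left).C⟩
  have hZj := hK.trans h.f2.cent
  have jX : d.j2 ∈ C Z := le_C1_iff.1 hZj
  have jY : d.j3 ∈ N Z ⊓ C1 s1 :=
    ⟨mN (q3 ▸ mul_mem m1 m2) (q4.symm ▸ m1) (mem_C1_iff_conj'.2 h.sj3), mem_C1_iff_conj'.2 h.sj3⟩
  have hb := h.tup.b9
  have hS := h.syl_s
  rw [d.jv_e1, d.jv_e2] at hS
  have hC : ∀ g ∈ C Z, g * d.j2 = d.j2 * g → g ∈ Z ∨ g * d.j2⁻¹ ∈ Z ∨ g * d.j2 ∈ Z := fun g hg e => by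
    obtain ⟨ζ, k1, k, k2, e2, -, k4⟩ := h.f2.split (mem_C1.2 e)
    have k5 : k ∈ Z := hV k k2 (mem_C1.1 (k4 _ (hZj m1) (C_le_C1 m1 hg)))
      (mem_C1.1 (k4 _ (hZj m2) (C_le_C1 m2 hg))) (mem_C1.1 (k4 _ (hZj m3) (C_le_C1 m3 hg))) Z m1 m2 m3
    rw [e2, h.f2.comm k1 k2]
    rcases mem_zpowers_three h.c2 k1 with rfl | rfl | rfl <;> simp [k5]
  obtain ⟨M, hM, h1⟩ := ft3E hX (hS.of_le (D9_le (hX.le jX) jY) inf_le_right) hb.card hab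
    (fun g hg z hz => (mem_C.1 hg z hz).symm) hp jX hb.a1 hb.a3 hC fun y hy y1 g hg e => ne57 (by
      rw [← d.jv_e1, ← d.jv_e2] at hy
      obtain ⟨v, rfl, hv⟩ := h.D9_q (by decide) (p := fun v => v = 0 ∨ (v ≠ 0 ∧ qf v ≠ 1) ∨
        (v = ![0, 1, 0] ∨ v = -![0, 1, 0]) ∨ v = ![0, 0, 1] ∨ v = -![0, 0, 1]) (by decide) y hy
      rcases hv with rfl | hv | hv | hv
      · exact absurd d.jv_zero y1
      · exact h.pow648 hv.1 hv.2 (mem_C1.2 e)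
      · refine h.f2.pow36 h.c2 ?_ (hZj m3) hg.2 fun k hk e => (f2.cent_e hk (mem_C1.1 e)).1
        rcases hv with rfl | rfl <;> simpa only [h.jv_neg, d.jv_e1, C1_inv] using mem_C1.2 e
      · refine h.f3.symm.pow36 h.c3 ?_ (mem_C1_iff_conj.2 h.sj3) hg.2
          fun k hk e => (h.f3.symm.s6.cent_e hk (mem_C1.1 e)).1
        rcases hv with rfl | rfl <;> simpa only [h.jv_neg, d.jv_e2, C1_inv] using mem_C1.2 e)
  have hn : Nrm (N Z ⊓ C1 s1) (Opc 3 (C Z)) := hX.nrm.Opi _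
  have o3 := CfsgFT.not_dvd_card_Opc Nat.prime_three (C Z)
  have oX := Opc_le 3 (C Z)
  have n2 := hn _ (hX.le jX)
  have co : ∀ m ∈ Opc 3 (C Z), (orderOf m).Coprime 3 := fun m hm =>
    coprime_of_mem ((Nat.prime_three.coprime_iff_not_dvd.2 o3).symm) hm
  have g1 : ∀ m ∈ Opc 3 (C Z), m * d.j2 = d.j2 * m → m ∈ Z := fun m hm e =>
    hV m (h.f2.mem_of_pow h.c2 (co m hm) (mem_C1.2 e) (pow_orderOf_eq_one m))
      (mem_C1.1 (C_le_C1 m1 (oX hm))) (mem_C1.1 (C_le_C1 m2 (oX hm))) (mem_C1.1 (C_le_C1 m3 (oX hm)))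
      Z m1 m2 m3
  have g2 : ∀ m ∈ Opc 3 (C Z), m ∈ N d.J → m ∈ Z := fun m hm e => g1 m hm (by
    have k1 : d.j2 * m * d.j2⁻¹ * m⁻¹ = 1 := eq_one_of_pow_of_not_dvd Nat.prime_three
      (mul_mem (n2 m hm) (inv_mem hm)) (h.exp _ (by
        simpa [mul_assoc] using mul_mem d.j2_mem (conj_mem_of_mem_N e (inv_mem d.j2_mem)))) o3
    rw [mul_inv_eq_one, mul_inv_eq_iff_eq_mul] at k1
    exact k1.symm)
  have hO : Opc 3 (C Z) ≤ Z := by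
    refine hb.gen n2 (hn _ jY) o3 g1 (fun m hm e => ?_) (fun m hm e => g2 m hm ?_)
      fun m hm e => g2 m hm ?_
    · have k1 := (h.f3.symm.s6.cent_e (h.f3.symm.mem_of_pow h.c3 (co m hm) (mem_C1.2 e)
        (pow_orderOf_eq_one m)) (mem_C1.1 (C_le_C1 m3 (oX hm)))).2
      rw [← mul_assoc s2 s2, h.ss2, one_mul] at k1
      rcases k1 with (rfl | rfl) | ⟨k, k2, k3⟩ | k2
      · exact one_mem _
      · exact m3
      · have k4 : k ∈ C Z := oX (by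
          rcases k2 with rfl | rfl | rfl
          exacts [hm, n2 m hm, hn.conj' (hX.le jX) hm])
        refine absurd (C_le_C1 m1 ?_) hne'
        rcases k3 with rfl | rfl
        · exact k4
        · simpa [mul_assoc] using mul_mem k4 (inv_mem (hab m3))
      · exact absurd (eq_one_of_pow_of_not_dvd Nat.prime_three (mul_mem hm (n2 m hm)) k2.2 o3) k2.1
    · exact h.cent2 (v := ![0, 1, 0] + ![0, 0, 1]) (by decide) (by
        rw [h.jv_add, d.jv_e1, d.jv_e2]; exact mem_C1.2 e)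
    · exact h.cent2 (v := ![0, 1, 0] + -![0, 0, 1]) (by decide) (by
        rw [h.jv_add, h.jv_neg, d.jv_e1, d.jv_e2]; exact mem_C1.2 e)
  refine hB Z m1 m2 m3 hp (hab.trans (C_le_C1 m3)) (hK.trans h.K2_le) hZj fun g k1 k2 k3 => ?_
  have k4 : g * d.j2 * g⁻¹ ∈ C Z := hX.nrm g ⟨mN k1 k2 k3, k3⟩ _ jX
  have k5 : (g * d.j2 * g⁻¹) ^ 3 = 1 := by rw [conj_pow, h.c2]; simp
  obtain ⟨m, hm, k6⟩ := h1 _ k4
  have k7 := hZj (hO (le_Opc_of Nat.prime_three hM.le2 hM.nrm hM.not3 hm))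
  have k8 : g * d.j2 * g⁻¹ ∈ C1 d.j2 := mem_of_pow_coprime (a := 2) (b := 3) (by norm_num) (nx_sq (by
    rcases k6 with e | e
    · exact Or.inl (mem_C1_iff_conj.1 (by simpa using mul_mem k7 (mem_C1_iff_conj.2 e)))
    · exact Or.inr (by simpa using cj_comp e (cj_inv (mem_C1_iff_conj.1 k7))))) (k5 ▸ one_mem _)
  have k9 : ∀ {q}, q ∈ Z → q ^ 3 = 1 → q = 1 := fun hq e => eq_one_of_coprime_of_mem hp hq
    (Nat.Coprime.coprime_dvd_left (orderOf_dvd_of_pow_eq_one e) (by norm_num))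
  have k10 : Commute (g * d.j2 * g⁻¹) d.j2 := mem_C1.1 k8
  rcases hC _ k4 k10 with e | e | e
  · exact absurd (conj_eq_one_iff.1 (k9 e k5)) hb.a1
  · exact Or.inl (mul_inv_eq_one.1 (k9 e (by rw [k10.inv_right.mul_pow, k5, inv_pow, h.c2]; simp)))
  · exact Or.inr (mul_eq_one_iff_eq_inv.1 (k9 e (by rw [k10.mul_pow, k5, h.c2]; simp)))

theorem zz31 : z3 * z1 = z1 * z3 := by simpa only [h.z23, h.z31] using comm_cj h.zz23 d.x

theorem mem_K3 {q : G} (h1 : q * s3 = s3 * q) (h2 : q * (s3 * d.j3) = s3 * d.j3 * q) (qq : q * q = 1) :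
    q ∈ K6 s2 (s2 * d.j2) z3 (s1 * d.j1) s1 := by
  refine h.f3.symm.mem2 h.c3 (mem_C1_comm.1 ?_) qq
  simpa using mul_mem (inv_mem (mem_C1.2 h1.symm)) (mem_C1.2 h2.symm)

theorem exists_wm : ∃ ψ, WM eM e7T e7val 8 7
    (lv [s1 * d.j1, z3, s2 * d.j2, z1, s3 * d.j3, s2, s3]) ψ ∧ Function.Injective ψ := by
  have f1 := h.f1.s6
  have f2 := h.f2.s6
  have f3 := h.f3.s6
  have c1 : s1 * d.j1 * z1 = z1 * (s1 * d.j1) := mem_C1.1 (mul_mem (mem_C1_iff_conj.2 h.sz1)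
    (mem_C1_comm.1 (h.f1.cent (mem_K6 _ _ _ _ _).2.2.1)))
  have c2 : s3 * d.j3 * z3 = z3 * (s3 * d.j3) := mem_C1.1 (mul_mem (mem_C1_iff_conj.2 h.sz3)
    (mem_C1_comm.1 (h.f3.cent (mem_K6 _ _ _ _ _).2.2.1)))
  have n1 : s1 * d.j1 * z3 ≠ 1 := by
    simpa [sval, lv] using f3.new [4, 6] [] (by decide) (by decide +kernel)
  have k : S6 (s1 * d.j1) z3 (s2 * d.j2) z1 (s3 * d.j3) := ⟨f3.bb, f3.cc, f3.dd, f1.cc, f1.dd, f3.bc,
    f3.cd, f1.bc, f1.cd, f3.bd, c1, f2.bd.symm, h.zz31, c2.symm, f1.bd, n1⟩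
  refine exists_wm7 rfl (S6.rels7 (val := lv [s1 * d.j1, z3, s2 * d.j2, z1, s3 * d.j3, s2, s3]) k
    (S6.rels6 k h.ss2 f3.be f3.ce f3.de f1.ac.symm f1.ad.symm) h.ss2 h.ss3 f2.ad.symm
    (mul_inv_eq_iff_eq_mul.1 h.sz3).symm f1.be f1.ce f1.de h.c23) (fun q _ qq hq => ?_) n1 fun e => ?_
  · have key : ∀ a, 1 ≤ a → a ≤ 7 → q * lv [s1 * d.j1, z3, s2 * d.j2, z1, s3 * d.j3, s2, s3] a =
        lv [s1 * d.j1, z3, s2 * d.j2, z1, s3 * d.j3, s2, s3] a * q := fun a h1 h2 =>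
      (mem_centralizer_singleton_iff.1 (hq (mem_gcl h1 h2))).symm
    exact h.f3.symm.s6.eq_one_of_cent (h.mem_K3 (key 7 (by norm_num) le_rfl)
      (key 5 (by norm_num) (by norm_num)) qq) (key 6 (by norm_num) (by norm_num))
      (key 3 (by norm_num) (by norm_num)) (key 2 (by norm_num) (by norm_num))
      (key 1 le_rfl (by norm_num))
  · have e1 : z1 = s1 * d.j1 := by
      rw [← inv_eq_of_mul_eq_one_right f3.bb]; exact eq_inv_of_mul_eq_one_right e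
    refine f3.new [2, 4] [4, 2] (by decide) (by decide +kernel) ?_
    simpa [sval, lv, ← e1] using mul_inv_eq_iff_eq_mul.1 h.sz1

theorem sp62 (F : Type*) [Field F] [Fintype F] (hF : Fintype.card F = 2) :
    Nonempty (G ≃* symplecticGroup (Fin 3) F) := by
  obtain ⟨ψ, hψ, hi⟩ := h.exists_wm
  refine sp62_equiv hψ hi ?_ F hF
  generalize hv : lv [s1 * d.j1, z3, s2 * d.j2, z1, s3 * d.j3, s2, s3] = val at hψ
  have v1 : val 1 = s1 * d.j1 := hv ▸ rfl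
  have v2 : val 2 = z3 := hv ▸ rfl
  have v3 : val 3 = s2 * d.j2 := hv ▸ rfl
  have v4 : val 4 = z1 := hv ▸ rfl
  have v5 : val 5 = s3 * d.j3 := hv ▸ rfl
  have v6 : val 6 = s2 := hv ▸ rfl
  have v7 : val 7 = s3 := hv ▸ rfl
  have rq := hψ.rep th7 (by decide)
  have r := rep1 hψ
  have e1 : wval val th7 = s1 := (h.f3.symm.s6.cent_abc (h.mem_K3
    (v7 ▸ rq.comm (r 7 (by decide)) (by decide +kernel))
    (v5 ▸ rq.comm (r 5 (by decide)) (by decide +kernel)) (rq.of_o2 (by decide +kernel)))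
    (v6 ▸ rq.comm (r 6 (by decide)) (by decide +kernel))
    (v3 ▸ rq.comm (r 3 (by decide)) (by decide +kernel))
    (v2 ▸ rq.comm (r 2 (by decide)) (by decide +kernel))).resolve_left
    (rq.ne hi Rep.one (by decide +kernel))
  have c1 : ∀ g, s1 * (s1 * g) = g := fun g => by rw [← mul_assoc, h.ss, one_mul]
  have c2 : ∀ g, s2 * (s2 * g) = g := fun g => by rw [← mul_assoc, h.ss2, one_mul]
  have c3 : ∀ g, s3 * (s3 * g) = g := fun g => by rw [← mul_assoc, h.ss3, one_mul]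
  have eb : wval val bW = d.j1 := by simp [bW, e1, sval, v1, c1]
  have ec : wval val cW = d.j2 * d.j3 := by simp [cW, sval, v3, v5, v6, v7, c2, c3, mul_assoc]
  have er : wval val rW = s1 * (s2 * s3) := by simp [rW, e1, sval, v6, v7]
  have ey' : wval val y'W = s2 * d.j2 * (s3 * d.j3) * z1 * (s3 * d.j3) * (s2 * d.j2) := by
    simp [y'W, sval, v3, v4, v5, mul_assoc]
  have ey : wval val yW = s2 * s3 * (s2 * d.j2 * (s3 * d.j3) * z1 * (s3 * d.j3) * (s2 * d.j2)) * s3 *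
      s2 := by simp [yW, sval, v3, v4, v5, v6, v7, mul_assoc]
  have et : wval val tW = z1 * (wval val yW * wval val y'W) := by
    rw [tW, wval_cons, mW, wval_append, ← v4]; rfl
  obtain ⟨k1, k2⟩ := h.toLoc.rebase (x := wval val (W7.getD 4 [])) (t := wval val tW)
    (w := wval val (W7.getD 6 [])) (u := s2 * s3) (rels_sub hψ (by decide) chkR7 rfl rfl
      fun a _ _ => by
        interval_cases a
        exacts [eb, by simp [W7, sval, v3, v6, c2, LD.val, lv], by simp [W7, sval, v5, v7, c3, LD.val, lv],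
          rfl, rfl, rfl, by simp [W7, sval, v6, v7, LD.val, lv]])
  have mP : ∀ a, 1 ≤ a → a ≤ 7 → val a ∈ gcl val 7 := fun a => mem_gcl
  have m2 : s2 ∈ gcl val 7 := v6 ▸ mP 6 (by norm_num) (by norm_num)
  have m3 : s3 ∈ gcl val 7 := v7 ▸ mP 7 (by norm_num) (by norm_num)
  have m4 : s2 * d.j2 ∈ gcl val 7 := v3 ▸ mP 3 (by norm_num) (by norm_num)
  have m5 : s3 * d.j3 ∈ gcl val 7 := v5 ▸ mP 5 (by norm_num) (by norm_num)
  have hJ : d.J ≤ gcl val 7 := d.J_le (eb ▸ hψ.mem _ (by decide))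
    (c2 d.j2 ▸ mul_mem m2 m4) (c3 d.j3 ▸ mul_mem m3 m5)
  have hH : d.H ≤ gcl val 7 := k2 ▸ LD.H_le _ (LD.B_le _ (LD.J_le _ (hJ d.j1_mem) (hJ d.j2_mem)
    (hJ d.j3_mem)) (hψ.mem _ (by decide))
    (hψ.mem _ (by decide))) (hψ.mem _ (by decide))
  have hK : K6 s2 (s2 * d.j2) z1 (s3 * d.j3) s3 ≤ gcl val 7 :=
    K6_le m2 m4 (v4 ▸ mP 4 (by norm_num) (by norm_num)) m5 m3
  have hP : SE 3 (gcl val 7) := h.se hH (e1 ▸ hψ.mem _ (by decide)) fun g hg => by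
    obtain ⟨ζ, h1, k, h2, rfl⟩ := h.f1.gen g hg
    exact mul_mem (zpowers_le.2 (hJ d.j1_mem) h1) (hK h2)
  obtain ⟨q, hq, iz⟩ : ∃ q ∈ gcl val 7, q * s1 * q⁻¹ = z1 := by
    obtain ⟨q, hq, e⟩ := h.f1.symm.conj_ec
    exact ⟨_, mul_mem (hK ((K6_symm _ _ _ _ _).le hq)) (hH (d.B_le_H d.x_mem)), cj_comp h.e2 e⟩
  have at' : d.Act (wval val tW) mT := k1.act_t
  have i1 : IsConj s1 z1 := isConj_iff.2 ⟨q, iz⟩
  have i2 : IsConj d.t (z1 * (wval val yW * wval val y'W)) := et ▸ h.it at' k1.tt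
  have i3 : IsConj (s2 * s3) (wval val yW * wval val y'W) :=
    isConj_iff.2 ⟨_, by rw [ey, ey']; exact h.f1.s6.vf.2.2.2.2⟩
  obtain ⟨T, f, hf⟩ := exists_FF hψ hi v4 rfl rfl er eb ec
    (fun e => h.nc_ts (i2.trans (i1.trans e).symm)) (fun e => h.nc_su h.hu ((i1.trans e).trans i3.symm))
    (fun e => h.nc_sr (i1.trans e)) (fun e => h.nc_tu h.hu ((i2.trans e).trans i3.symm))
    (fun e => h.nc_tr (i2.trans e)) fun e => h.nc_ur (i3.trans e)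
  have hb := h.b9 (v := ![1, 0, 0]) (w := ![0, 1, 1]) (by decide)
  have hE := h.syl_t at'
  have hD := h.D9_q (v := ![1, 0, 0]) (w := ![0, 1, 1]) (by decide)
    (p := fun v => v = 0 ∨ (v ≠ 0 ∧ qf v ≠ 1) ∨ v = ![1, 0, 0] ∨ v = -![1, 0, 0]) (by decide)
  rw [d.jv_e0, h.jv_c, LD.c] at hb hE hD
  rw [et] at hE
  obtain ⟨p1, p2, p3, p4, p5⟩ := mem_K6 s2 (s2 * d.j2) z1 (s3 * d.j3) s3
  have p6 := mul_mem (mul_mem (mul_mem (mul_mem p2 p4) p3) p4) p2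
  have p7 := mul_mem (mul_mem (mul_mem (mul_mem p1 p5) p6) p5) p1
  have hS := (h.syl_s).cjj q
  rw [cj_C1, iz] at hS
  have h9 : Nat.card (cj q (D9 (d.jv ![0, 1, 0]) (d.jv ![0, 0, 1]))) = 9 := by
    rw [card_cj, (h.b9 (by decide)).card]
  refine hf.eq_top hP hb hE ?_ (fun e => h.nc_ts (i2.trans (i1.trans e).symm))
    (fun g hg e1 e2 e3 K k1 k2 k3 => ?_) (fun e he e1 g hg e2 => ne57 ?_) ?_ ?_ fun e => ?_
  · rw [ey, ey']
    exact h.hm (h.f1.cent (mul_mem p7 p6)) fun k hk e => h.f1.s6.cent_ae hk (Or.inr (mem_C1.1 e))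
  · rw [ey] at e2 k2
    rw [ey'] at e3 k3
    obtain ⟨ζ, k4, k, k5, e, -, k6⟩ := h.f1.split hg
    have k7 := h.f1.s6.cent_U k5 (mem_C1.1 (k6 _ (h.f1.cent p3) e1)) (mem_C1.1 (k6 _ (h.f1.cent p7) e2))
      (mem_C1.1 (k6 _ (h.f1.cent p6) e3)) k1 k2 k3
    rw [e, h.f1.comm k4 k5]
    rcases mem_zpowers_three h.c1 k4 with rfl | rfl | rfl <;> simp [k7]
  · obtain ⟨v, rfl, hv⟩ := hD e he
    rcases hv with rfl | hv | hv
    · exact absurd d.jv_zero e1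
    · exact h.pow648 hv.1 hv.2 (mem_C1.2 e2)
    · rw [ey, ey'] at hg
      refine h.f1.pow36 h.c1 ?_ (h.f1.cent (mul_mem p3 (mul_mem p7 p6))) hg
        fun k hk e => h.f1.s6.cent_w hk e
      rcases hv with rfl | rfl <;> simpa only [h.jv_neg, d.jv_e0, C1_inv] using mem_C1.2 e2
  · refine (show 3 ^ 2 = 9 by rfl) ▸ h9 ▸ card_dvd_of_le' (le_inf hS.le fun g hg => ?_)
    simpa [mul_assoc] using mul_mem (mul_mem hq (hJ (Loc0.D9_le_J _ _ (mem_cj.1 hg)))) (inv_mem hq)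
  · exact (show 3 ^ 3 = 27 by rfl) ▸ h.card_J ▸ card_dvd_of_le' hJ
  · have := pow_dvd_of_sylIn Nat.prime_three hS e
    rw [h9] at this
    omega

end B2

end CfsgH9.P43
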