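import Cfsg.Agent.H9.E7EG

/-! Centralizers of the form `⟨j⟩ × S₆`. -/

set_option autoImplicit false
set_option maxRecDepth 100000

namespace CfsgH9.P43

open Subgroup CfsgH5 CfsgH6 CfsgFT CfsgH8 CfsgH7 CfsgH3.TC Matrix E7

universe u
variable {G : Type u} [Group G] [Finite G]

omit [Finite G] in
theorem cj_of_cube {a b : G} (ha : a * a = 1) (hb : b * b = 1) (h : (a * b) ^ 3 = 1) :
    a * b * a * (a * b)⁻¹ = b := by
  rw [braid_of_cube ha hb h]; group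

omit [Finite G] in
theorem cj_K6 (g a b c d e : G) : cj g (K6 a b c d e) =
    K6 (g * a * g⁻¹) (g * b * g⁻¹) (g * c * g⁻¹) (g * d * g⁻¹) (g * e * g⁻¹) := by
  have key : ∀ g a b c d e : G, K6 (g * a * g⁻¹) (g * b * g⁻¹) (g * c * g⁻¹) (g * d * g⁻¹)
      (g * e * g⁻¹) ≤ cj g (K6 a b c d e) := fun g a b c d e => by
    obtain ⟨h1, h2, h3, h4, h5⟩ := mem_K6 a b c d e
    exact K6_le (conj_mem_cj.2 h1) (conj_mem_cj.2 h2) (conj_mem_cj.2 h3) (conj_mem_cj.2 h4)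
      (conj_mem_cj.2 h5)
  refine le_antisymm ?_ (key g a b c d e)
  have := cj_mono (g := g) (key g⁻¹ (g * a * g⁻¹) (g * b * g⁻¹) (g * c * g⁻¹) (g * d * g⁻¹) (g * e * g⁻¹))
  simpa only [cj_cj_inv, cj_swap rfl] using this

/-- `C(j) = ⟨j⟩ × S₆` -/
structure Fr (j a b c d e : G) : Prop where
  s6 : S6 a b c d e
  cent : K6 a b c d e ≤ C1 j
  gen : ∀ g ∈ C1 j, ∃ ζ ∈ zpowers j, ∃ k ∈ K6 a b c d e, g = ζ * k

namespace Fr

variable {j a b c d e : G} (h : Fr j a b c d e)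
include h

omit [Finite G] in
theorem conj (g : G) : Fr (g * j * g⁻¹) (g * a * g⁻¹) (g * b * g⁻¹) (g * c * g⁻¹) (g * d * g⁻¹)
    (g * e * g⁻¹) := by
  refine ⟨h.s6.conj g, by rw [← cj_K6, ← cj_C1]; exact cj_mono h.cent, fun y hy => ?_⟩
  rw [← cj_C1, mem_cj] at hy
  obtain ⟨ζ, h1, k, h2, e⟩ := h.gen _ hy
  refine ⟨g * ζ * g⁻¹, by rw [← cj_zpowers]; exact conj_mem_cj.2 h1, g * k * g⁻¹,
    by rw [← cj_K6]; exact conj_mem_cj.2 h2, by rw [conj_mul, ← e]; group⟩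

theorem symm : Fr j e d c b a :=
  ⟨h.s6.symm h.s6.ne_ed, K6_symm a b c d e ▸ h.cent, K6_symm a b c d e ▸ h.gen⟩

omit [Finite G] in
theorem comm {ζ k : G} (h1 : ζ ∈ zpowers j) (h2 : k ∈ K6 a b c d e) : ζ * k = k * ζ :=
  mem_C.1 (C_zpowers j ▸ h.cent h2) ζ h1

theorem eq_one {ζ : G} (h1 : ζ ∈ zpowers j) (h2 : ζ ∈ K6 a b c d e) : ζ = 1 := by
  obtain ⟨k1, k2, k3, k4, -⟩ := mem_K6 a b c d e
  exact h.s6.eq_one_of_cent h2 (h.comm h1 k1) (h.comm h1 k2) (h.comm h1 k3) (h.comm h1 k4)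

omit [Finite G] in
theorem split {g : G} (hg : g ∈ C1 j) : ∃ ζ ∈ zpowers j, ∃ k ∈ K6 a b c d e, g = ζ * k ∧
    (∀ n : ℕ, g ^ n = ζ ^ n * k ^ n) ∧ ∀ y ∈ C1 j, g ∈ C1 y → k ∈ C1 y := by
  obtain ⟨ζ, h1, k, h2, rfl⟩ := h.gen g hg
  refine ⟨ζ, h1, k, h2, rfl, fun n => (show Commute ζ k from h.comm h1 h2).mul_pow n, fun y hy e => ?_⟩
  simpa using mul_mem (inv_mem (zpowers_le.2 (mem_C1_comm.1 hy) h1)) e

theorem mem_of_pow {p n : ℕ} (hp : j ^ p = 1) (hn : n.Coprime p) {g : G} (hg : g ∈ C1 j)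
    (e1 : g ^ n = 1) : g ∈ K6 a b c d e := by
  obtain ⟨ζ, h1, k, h2, rfl, h3, -⟩ := h.split hg
  have h4 : ζ ^ n = 1 := h.eq_one (pow_mem h1 n) (by
    rw [eq_inv_of_mul_eq_one_left ((h3 n).symm.trans e1)]; exact inv_mem (pow_mem h2 n))
  have h5 : ζ ^ p = 1 := by
    obtain ⟨m, rfl⟩ := mem_zpowers_iff.1 h1
    rw [← _root_.zpow_natCast, ← _root_.zpow_mul, mul_comm, _root_.zpow_mul, _root_.zpow_natCast, hp,
      _root_.one_zpow]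
  rwa [mem_bot.1 (mem_of_pow_coprime (C := ⊥) hn h4 h5), one_mul]

theorem mem2 (hp : j ^ 3 = 1) {g : G} (hg : g ∈ C1 j) (e1 : g * g = 1) : g ∈ K6 a b c d e :=
  h.mem_of_pow hp (n := 2) (by norm_num) hg (by rwa [pow_two])

omit [Finite G] in
theorem conj_ec : ∃ k ∈ K6 a b c d e, k * e * k⁻¹ = c := by
  obtain ⟨-, -, k3, k4, k5⟩ := mem_K6 a b c d e
  exact ⟨_, mul_mem (mul_mem k4 k3) (mul_mem k5 k4),
    cj_comp (cj_of_cube h.s6.ee h.s6.dd (cube_symm h.s6.de)) (cj_of_cube h.s6.dd h.s6.cc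
      (cube_symm h.s6.cd))⟩

end Fr

theorem Loc.rebase {d : LD G} (h : Loc d) {x t w u : G}
    (hR : RelsHold ((⟨d.j1, d.j2, d.j3, x, t, w⟩ : LD G).val u 1) P43.R7) :
    Loc0 ⟨d.j1, d.j2, d.j3, x, t, w⟩ ∧ (⟨d.j1, d.j2, d.j3, x, t, w⟩ : LD G).H = d.H := by
  have ha : wval ((⟨d.j1, d.j2, d.j3, x, t, w⟩ : LD G).val u 1) [2, 4, 6] ≠ 1 := by
    simpa [sval, LD.val, lv, LD.a, mul_assoc] using h.a_ne
  obtain ⟨ψ, hψ, hi⟩ := wm7 rfl hR ha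
  have hc : Nat.card (⟨d.j1, d.j2, d.j3, x, t, w⟩ : LD G).H = 648 := by
    rw [LD.H, ← LD.gcl_val _ u 1 le_rfl, ← hψ.imS_gcl (by norm_num),
      card_imS hi (gcl_mono _ (by norm_num)), gl_card6]
  have h1 := loc0_of_rels (RelsHold.congr (n := 6) rfl rfl (fun a _ _ => by interval_cases a <;> rfl)
    (hR.mono (R' := P43.R6) (by decide)) (by decide)) hc
  exact ⟨h1, eq_of_le_of_card_ge (h1.H_le_C1.trans h.cent) (by rw [hc, h.card])⟩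

namespace RS

variable {d : LD G} {s1 s2 s3 : G} (h : RS d s1 s2 s3)
include h

theorem pow648 {v : V3} (h0 : v ≠ 0) (h1 : qf v ≠ 1) {g : G} (hg : g ∈ C1 (d.jv v)) : g ^ 648 = 1 := by
  have h2 : ∀ v : V3, v = 0 ∨ qf v = 1 ∨ qf v = 2 ∨
    SP48.any (fun A => decide (A *ᵥ v = ![1, 1, 1])) = true := by decide +kernel
  rcases h2 v with e | e | e | e
  · exact absurd e h0
  · exact absurd e h1
  · rw [show g ^ 648 = (g ^ 36) ^ 18 by rw [← pow_mul], h.locU.pow36 (h.cent2 e hg), one_pow]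
  obtain ⟨A, hA, e⟩ := List.any_eq_true.1 e
  obtain ⟨k, hk⟩ := h.exists48 hA
  have h3 : k * g * k⁻¹ ∈ d.H := h.cent (by
    rw [← d.jv_a, ← of_decide_eq_true e, ← hk, ← cj_C1, conj_mem_cj]; exact hg)
  have h4 : (k * g * k⁻¹) ^ 648 = 1 := by
    rw [← h.card]; exact congrArg Subtype.val (pow_card_eq_one' (x := (⟨_, h3⟩ : d.H)))
  rwa [conj_pow, conj_eq_one_iff] at h4

theorem i12 : IsConj s1 s2 := isConj_iff.2 ⟨_, h.e2⟩
theorem i13 : IsConj s1 s3 := h.i12.trans (isConj_iff.2 ⟨_, h.e3⟩)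
theorem iu31 : IsConj (s2 * s3) (s3 * s1) := isConj_iff.2 ⟨d.x, by rw [← conj_mul, h.e3, h.e1]⟩
theorem iu12 : IsConj (s2 * s3) (s1 * s2) :=
  h.iu31.trans (isConj_iff.2 ⟨d.x, by rw [← conj_mul, h.e1, h.e2]⟩)

theorem irt : IsConj (s1 * (s2 * s3)) (d.t * s1) := by
  obtain ⟨n, -, e⟩ := h.isConj_of_act (h.act_t.mul h.act1) h.act_rt (by
    rw [(show Commute d.t s1 from h.st).symm.mul_mul_mul_comm, h.tt, h.ss, one_mul]) (by
    rw [(show Commute d.t _ from mul_inv_eq_iff_eq_mul.1 h.tr).mul_mul_mul_comm, h.tt, h.rr, one_mul])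
    (P := mS2) (by decide +kernel) (by decide)
  exact h.r_rt.symm.trans (isConj_iff.2 ⟨n, e⟩)

theorem it {τ : G} (h1 : d.Act τ mT) (h2 : τ * τ = 1) : IsConj d.t τ := by
  obtain ⟨j, -, e⟩ := h.conj_of_act h1 h.act_t h2 h.tt
  exact isConj_iff.2 ⟨j, e⟩

theorem sj1 : s1 * d.j1 * s1⁻¹ = d.j1⁻¹ := by
  rw [← d.jv_e0, h.act1, ← h.jv_neg]; congr 1; decide
theorem sj2 : s1 * d.j2 * s1⁻¹ = d.j2 := by rw [← d.jv_e1, h.act1]; congr 1; decide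
theorem sj3 : s1 * d.j3 * s1⁻¹ = d.j3 := by rw [← d.jv_e2, h.act1]; congr 1; decide

end RS

end CfsgH9.P43
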