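import Cfsg.Agent.H9.P43SE
import Cfsg.Agent.H9.Pres4

/-! Finite facts about the centralizer `H` and about a Sylow 2-subgroup of `PSp₄(3)`. -/

set_option autoImplicit false
set_option maxRecDepth 100000

namespace CfsgH9.P43

open Subgroup CfsgH5 CfsgH6 CfsgFT CfsgH8 CfsgH7 CfsgH3.TC Matrix

noncomputable def t64_s : NT := (.node (.node (.node (.leaf (nat_lit 41287798291594451450968536252489)) (.leaf (nat_lit 40564838550125680310197088681985))) (.leaf (nat_lit 5793716884895825086561195954249))) (.node (.leaf (nat_lit 40655208518391646455983568621569)) (.leaf (nat_lit 5161127111028937269669458382849))))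
noncomputable def t64_t : NT := (.node (.node (.node (.node (.node (.node (.leaf (nat_lit 40564838550125678058396201254913)) (.leaf (nat_lit 5793716884231739727521695924297))) (.node (.leaf (nat_lit 5793716884895824766044846985289)) (.leaf (nat_lit 40564838550789763413587425267713)))) (.node (.node (.leaf (nat_lit 40564838550125680626865161670657)) (.leaf (nat_lit 5070757143427054219576762994689))) (.node (.leaf (nat_lit 5161127111693020017358939619329)) (.leaf (nat_lit 5793716884231741983170859405385))))) (.node (.node (.node (.leaf (nat_lit 5161127111028937269669458382849)) (.leaf (nat_lit 41287798290930368703279055016009))) (.node (.leaf (nat_lit 5161127111693020056391721979905)) (.leaf (nat_lit 40655208517727563352661951774721)))) (.node (.node (.leaf (nat_lit 41289036235693315034647321641033)) (.leaf (nat_lit 5070757144091136971114520248321))) (.node (.leaf (nat_lit 40564838550125678375064274243585)) (.leaf (nat_lit 5794954828994688947943991672905))))))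 (.node (.node (.node (.node (.leaf (nat_lit 40655208518391646455983568621569)) (.leaf (nat_lit 5793716884231742295990656340041))) (.node (.leaf (nat_lit 5161127111028936984406335459329)) (.leaf (nat_lit 5070757144091137006299026591745)))) (.node (.node (.leaf (nat_lit 41287798291594449238200431149129)) (.leaf (nat_lit 5793716884895824801229353254985))) (.node (.leaf (nat_lit 41289036235693315316199608062025)) (.leaf (nat_lit 5070757143427053938093196349441))))) (.node (.node (.node (.leaf (nat_lit 5070757143427051651107802578945)) (.leaf (nat_lit 5794954829658773700997860556873))) (.node (.leaf (nat_lit 40655208517727563669261305024513)) (.leaf (nat_lit 40655208518391644168929455112193)))) (.node (.node (.leaf (nat_lit 40655208518391644207962237472769)) (.leaf (nat_lit 41287798291594449203015924879433))) (.node (.leaf (nat_lit 5794954829658773669661630304329)) (.leaf (nat_lit 40564838550789761161786537840641))))))) (.node (.node (.node (.node (.node (.leaf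 (nat_lit 41287798291594451450968536252489)) (.leaf (nat_lit 5794954828994690879228530167881))) (.node (.leaf (nat_lit 41289036236357400350805763293257)) (.leaf (nat_lit 5161127111693019739654929252353)))) (.node (.node (.leaf (nat_lit 5794954829658773982550146977865)) (.leaf (nat_lit 41289036236357400389838545653833))) (.node (.leaf (nat_lit 41287798290930366134810094600265)) (.leaf (nat_lit 41287798290930366412445385265225))))) (.node (.node (.node (.leaf (nat_lit 40564838550125680310197088681985)) (.leaf (nat_lit 40564838550789761126602031497217))) (.node (.leaf (nat_lit 41287798291594451486153042595913)) (.leaf (nat_lit 5161127111028934982752784351233)))) (.node (.node (.leaf (nat_lit 40564838550789763378402918924289)) (.leaf (nat_lit 5161127111693019770991159578625))) (.node (.leaf (nat_lit 5161127111028934697352221949953)) (.leaf (nat_lit 5070757144091136689630953603073)))))) (.node (.node (.node (.node (.leaf (nat_lit 5793716884895825086561195954249))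 (.leaf (nat_lit 41289036235693317317853159096393))) (.node (.leaf (nat_lit 5793716884895825051376689610825)) (.leaf (nat_lit 41287798290930368417947212316745)))) (.node (.node (.leaf (nat_lit 5794954828994691199676159397961)) (.leaf (nat_lit 5794954828994688627358922965065))) (.node (.leaf (nat_lit 40655208517727561104640620625921)) (.leaf (nat_lit 41289036236357398098936156164169))))) (.node (.node (.node (.leaf (nat_lit 41289036235693317599268006039625)) (.leaf (nat_lit 41289036236357398137968938451017))) (.node (.leaf (nat_lit 5070757143427051932591369224193)) (.leaf (nat_lit 5793716884231740048038044893257)))) (.node (.node (.leaf (nat_lit 5794954829658773951213916651593)) (.leaf (nat_lit 40655208517727561421377413353473))) (.node (.leaf (nat_lit 40655208518391646424647338295297)) (.leaf (nat_lit 5070757144091136724815459946497))))))))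
noncomputable def t64_P : NT := (.node (.node (.node (.node (.node (.node (.leaf (nat_lit 0)) (.leaf (nat_lit 58))) (.node (.leaf (nat_lit 19)) (.leaf (nat_lit 123)))) (.node (.node (.leaf (nat_lit 7)) (.leaf (nat_lit 97))) (.node (.leaf (nat_lit 37)) (.leaf (nat_lit 174))))) (.node (.node (.node (.leaf (nat_lit 3)) (.leaf (nat_lit 67))) (.node (.leaf (nat_lit 31)) (.leaf (nat_lit 139)))) (.node (.node (.leaf (nat_lit 12)) (.leaf (nat_lit 103))) (.node (.leaf (nat_lit 44)) (.leaf (nat_lit 219)))))) (.node (.node (.node (.node (.leaf (nat_lit 1)) (.leaf (nat_lit 63))) (.node (.leaf (nat_lit 24)) (.leaf (nat_lit 127)))) (.node (.node (.leaf (nat_lit 9)) (.leaf (nat_lit 99))) (.node (.leaf (nat_lit 39)) (.leaf (nat_lit 204))))) (.node (.node (.node (.leaf (nat_lit 5)) (.leaf (nat_lit 79))) (.node (.leaf (nat_lit 33)) (.leaf (nat_lit 159)))) (.node (.node (.leaf (nat_lit 14)) (.leaf (nat_lit 109))) (.node (.leaf (nat_lit 49)) (.leaf (nat_lit 244))))))) (.node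 (.node (.node (.node (.node (.leaf (nat_lit 0)) (.leaf (nat_lit 59))) (.node (.leaf (nat_lit 22)) (.leaf (nat_lit 124)))) (.node (.node (.leaf (nat_lit 8)) (.leaf (nat_lit 98))) (.node (.leaf (nat_lit 38)) (.leaf (nat_lit 184))))) (.node (.node (.node (.leaf (nat_lit 4)) (.leaf (nat_lit 69))) (.node (.leaf (nat_lit 32)) (.leaf (nat_lit 149)))) (.node (.node (.leaf (nat_lit 13)) (.leaf (nat_lit 104))) (.node (.leaf (nat_lit 47)) (.leaf (nat_lit 224)))))) (.node (.node (.node (.node (.leaf (nat_lit 2)) (.leaf (nat_lit 64))) (.node (.leaf (nat_lit 30)) (.leaf (nat_lit 129)))) (.node (.node (.leaf (nat_lit 10)) (.leaf (nat_lit 102))) (.node (.leaf (nat_lit 43)) (.leaf (nat_lit 209))))) (.node (.node (.node (.leaf (nat_lit 6)) (.leaf (nat_lit 89))) (.node (.leaf (nat_lit 34)) (.leaf (nat_lit 164)))) (.node (.node (.leaf (nat_lit 18)) (.leaf (nat_lit 114))) (.node (.leaf (nat_lit 57)) (.leaf (nat_lit 254))))))))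
noncomputable def t64_H : NT := (.node (.node (.node (.node (.node (.node (.node (.node (.node (.leaf (nat_lit 1)) (.leaf (nat_lit 33))) (.leaf (nat_lit 11))) (.node (.leaf (nat_lit 35)) (.leaf (nat_lit 52)))) (.node (.node (.node (.leaf (nat_lit 21)) (.leaf (nat_lit 38))) (.leaf (nat_lit 44))) (.node (.leaf (nat_lit 11)) (.leaf (nat_lit 61))))) (.node (.node (.node (.node (.leaf (nat_lit 12)) (.leaf (nat_lit 60))) (.leaf (nat_lit 8))) (.node (.leaf (nat_lit 23)) (.leaf (nat_lit 1)))) (.node (.node (.node (.leaf (nat_lit 19)) (.leaf (nat_lit 43))) (.leaf (nat_lit 56))) (.node (.leaf (nat_lit 15)) (.leaf (nat_lit 34)))))) (.node (.node (.node (.node (.node (.leaf (nat_lit 9)) (.leaf (nat_lit 27))) (.leaf (nat_lit 48))) (.node (.leaf (nat_lit 33)) (.leaf (nat_lit 3)))) (.node (.node (.node (.leaf (nat_lit 21)) (.leaf (nat_lit 10))) (.leaf (nat_lit 10))) (.node (.leaf (nat_lit 45)) (.leaf (nat_lit 58))))) (.node (.node (.node (.node (.leaf (nat_lit 18)) (.leaf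 (nat_lit 37))) (.leaf (nat_lit 47))) (.node (.leaf (nat_lit 3)) (.leaf (nat_lit 3)))) (.node (.node (.node (.leaf (nat_lit 1)) (.leaf (nat_lit 56))) (.leaf (nat_lit 57))) (.node (.leaf (nat_lit 12)) (.leaf (nat_lit 58))))))) (.node (.node (.node (.node (.node (.node (.leaf (nat_lit 5)) (.leaf (nat_lit 30))) (.leaf (nat_lit 14))) (.node (.leaf (nat_lit 20)) (.leaf (nat_lit 16)))) (.node (.node (.node (.leaf (nat_lit 19)) (.leaf (nat_lit 16))) (.leaf (nat_lit 55))) (.node (.leaf (nat_lit 7)) (.leaf (nat_lit 5))))) (.node (.node (.node (.node (.leaf (nat_lit 9)) (.leaf (nat_lit 26))) (.leaf (nat_lit 8))) (.node (.leaf (nat_lit 3)) (.leaf (nat_lit 5)))) (.node (.node (.node (.leaf (nat_lit 23)) (.leaf (nat_lit 18))) (.leaf (nat_lit 48))) (.node (.leaf (nat_lit 47)) (.leaf (nat_lit 62)))))) (.node (.node (.node (.node (.node (.leaf (nat_lit 12)) (.leaf (nat_lit 63))) (.leaf (nat_lit 42))) (.node (.leaf (nat_lit 34)) (.leaf (nat_lit 58)))) (.node (.node (.node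 (.leaf (nat_lit 28)) (.leaf (nat_lit 14))) (.leaf (nat_lit 13))) (.node (.leaf (nat_lit 17)) (.leaf (nat_lit 5))))) (.node (.node (.node (.node (.leaf (nat_lit 14)) (.leaf (nat_lit 34))) (.leaf (nat_lit 8))) (.node (.leaf (nat_lit 30)) (.leaf (nat_lit 25)))) (.node (.node (.node (.leaf (nat_lit 31)) (.leaf (nat_lit 49))) (.leaf (nat_lit 47))) (.node (.leaf (nat_lit 49)) (.leaf (nat_lit 32)))))))) (.node (.node (.node (.node (.node (.node (.node (.leaf (nat_lit 3)) (.leaf (nat_lit 59))) (.leaf (nat_lit 49))) (.node (.leaf (nat_lit 22)) (.leaf (nat_lit 15)))) (.node (.node (.node (.leaf (nat_lit 23)) (.leaf (nat_lit 10))) (.leaf (nat_lit 48))) (.node (.leaf (nat_lit 41)) (.leaf (nat_lit 61))))) (.node (.node (.node (.node (.leaf (nat_lit 15)) (.leaf (nat_lit 31))) (.leaf (nat_lit 50))) (.node (.leaf (nat_lit 28)) (.leaf (nat_lit 58)))) (.node (.node (.node (.leaf (nat_lit 28)) (.leaf (nat_lit 14))) (.leaf (nat_lit 46))) (.node (.leaf (nat_lit 47)) (.leaf (nat_lit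 25)))))) (.node (.node (.node (.node (.node (.leaf (nat_lit 11)) (.leaf (nat_lit 28))) (.leaf (nat_lit 40))) (.node (.leaf (nat_lit 2)) (.leaf (nat_lit 1)))) (.node (.node (.node (.leaf (nat_lit 19)) (.leaf (nat_lit 55))) (.leaf (nat_lit 50))) (.node (.leaf (nat_lit 43)) (.leaf (nat_lit 21))))) (.node (.node (.node (.node (.leaf (nat_lit 18)) (.leaf (nat_lit 63))) (.leaf (nat_lit 9))) (.node (.leaf (nat_lit 39)) (.leaf (nat_lit 36)))) (.node (.node (.node (.leaf (nat_lit 32)) (.leaf (nat_lit 48))) (.leaf (nat_lit 45))) (.node (.leaf (nat_lit 11)) (.leaf (nat_lit 36))))))) (.node (.node (.node (.node (.node (.node (.leaf (nat_lit 7)) (.leaf (nat_lit 39))) (.leaf (nat_lit 7))) (.node (.leaf (nat_lit 35)) (.leaf (nat_lit 57)))) (.node (.node (.node (.leaf (nat_lit 25)) (.leaf (nat_lit 40))) (.leaf (nat_lit 55))) (.node (.leaf (nat_lit 43)) (.leaf (nat_lit 5))))) (.node (.node (.node (.node (.leaf (nat_lit 17)) (.leaf (nat_lit 30))) (.leaf (nat_lit 53))) (.node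 (.leaf (nat_lit 36)) (.leaf (nat_lit 19)))) (.node (.node (.node (.leaf (nat_lit 1)) (.leaf (nat_lit 51))) (.leaf (nat_lit 44))) (.node (.leaf (nat_lit 45)) (.leaf (nat_lit 62)))))) (.node (.node (.node (.node (.node (.leaf (nat_lit 14)) (.leaf (nat_lit 26))) (.leaf (nat_lit 46))) (.node (.leaf (nat_lit 21)) (.leaf (nat_lit 32)))) (.node (.node (.node (.leaf (nat_lit 25)) (.leaf (nat_lit 49))) (.leaf (nat_lit 56))) (.node (.leaf (nat_lit 41)) (.leaf (nat_lit 61))))) (.node (.node (.node (.node (.leaf (nat_lit 19)) (.leaf (nat_lit 35))) (.leaf (nat_lit 50))) (.node (.leaf (nat_lit 4)) (.leaf (nat_lit 34)))) (.node (.node (.node (.leaf (nat_lit 20)) (.leaf (nat_lit 52))) (.leaf (nat_lit 18))) (.node (.leaf (nat_lit 41)) (.leaf (nat_lit 63))))))))) (.node (.node (.node (.node (.node (.node (.node (.node (.leaf (nat_lit 2)) (.leaf (nat_lit 37))) (.leaf (nat_lit 51))) (.node (.leaf (nat_lit 32)) (.leaf (nat_lit 56)))) (.node (.node (.node (.leaf (nat_lit 22))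 (.leaf (nat_lit 36))) (.leaf (nat_lit 9))) (.node (.leaf (nat_lit 40)) (.leaf (nat_lit 60))))) (.node (.node (.node (.node (.leaf (nat_lit 6)) (.leaf (nat_lit 28))) (.leaf (nat_lit 15))) (.node (.leaf (nat_lit 38)) (.leaf (nat_lit 59)))) (.node (.node (.node (.leaf (nat_lit 30)) (.leaf (nat_lit 56))) (.leaf (nat_lit 54))) (.node (.leaf (nat_lit 0)) (.leaf (nat_lit 29)))))) (.node (.node (.node (.node (.node (.leaf (nat_lit 10)) (.leaf (nat_lit 59))) (.leaf (nat_lit 9))) (.node (.leaf (nat_lit 23)) (.leaf (nat_lit 31)))) (.node (.node (.node (.leaf (nat_lit 24)) (.leaf (nat_lit 18))) (.leaf (nat_lit 11))) (.node (.leaf (nat_lit 40)) (.leaf (nat_lit 60))))) (.node (.node (.node (.node (.leaf (nat_lit 16)) (.leaf (nat_lit 60))) (.leaf (nat_lit 51))) (.node (.leaf (nat_lit 39)) (.leaf (nat_lit 2)))) (.node (.node (.node (.leaf (nat_lit 31)) (.leaf (nat_lit 53))) (.leaf (nat_lit 57))) (.node (.leaf (nat_lit 40)) (.leaf (nat_lit 24))))))) (.node (.node (.node (.node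 (.node (.node (.leaf (nat_lit 6)) (.leaf (nat_lit 58))) (.leaf (nat_lit 42))) (.node (.leaf (nat_lit 37)) (.leaf (nat_lit 53)))) (.node (.node (.node (.leaf (nat_lit 24)) (.leaf (nat_lit 54))) (.leaf (nat_lit 54))) (.node (.leaf (nat_lit 0)) (.leaf (nat_lit 20))))) (.node (.node (.node (.node (.leaf (nat_lit 13)) (.leaf (nat_lit 61))) (.leaf (nat_lit 53))) (.node (.leaf (nat_lit 29)) (.leaf (nat_lit 33)))) (.node (.node (.node (.leaf (nat_lit 26)) (.leaf (nat_lit 44))) (.leaf (nat_lit 15))) (.node (.leaf (nat_lit 42)) (.leaf (nat_lit 33)))))) (.node (.node (.node (.node (.node (.leaf (nat_lit 13)) (.leaf (nat_lit 29))) (.leaf (nat_lit 52))) (.node (.leaf (nat_lit 4)) (.leaf (nat_lit 4)))) (.node (.node (.node (.leaf (nat_lit 22)) (.leaf (nat_lit 57))) (.leaf (nat_lit 43))) (.node (.leaf (nat_lit 46)) (.leaf (nat_lit 59))))) (.node (.node (.node (.node (.leaf (nat_lit 0)) (.leaf (nat_lit 61))) (.leaf (nat_lit 7))) (.node (.leaf (nat_lit 37)) (.leaf (nat_lit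 4)))) (.node (.node (.node (.leaf (nat_lit 21)) (.leaf (nat_lit 57))) (.leaf (nat_lit 13))) (.node (.leaf (nat_lit 13)) (.leaf (nat_lit 24)))))))) (.node (.node (.node (.node (.node (.node (.node (.leaf (nat_lit 4)) (.leaf (nat_lit 25))) (.leaf (nat_lit 51))) (.node (.leaf (nat_lit 36)) (.leaf (nat_lit 47)))) (.node (.node (.node (.leaf (nat_lit 2)) (.leaf (nat_lit 53))) (.leaf (nat_lit 7))) (.node (.leaf (nat_lit 42)) (.leaf (nat_lit 26))))) (.node (.node (.node (.node (.leaf (nat_lit 16)) (.leaf (nat_lit 62))) (.leaf (nat_lit 41))) (.node (.leaf (nat_lit 35)) (.leaf (nat_lit 59)))) (.node (.node (.node (.leaf (nat_lit 30)) (.leaf (nat_lit 51))) (.leaf (nat_lit 12))) (.node (.leaf (nat_lit 46)) (.leaf (nat_lit 31)))))) (.node (.node (.node (.node (.node (.leaf (nat_lit 6)) (.leaf (nat_lit 38))) (.leaf (nat_lit 52))) (.node (.leaf (nat_lit 27)) (.leaf (nat_lit 29)))) (.node (.node (.node (.leaf (nat_lit 27)) (.leaf (nat_lit 41))) (.leaf (nat_lit 17))) (.node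 (.leaf (nat_lit 0)) (.leaf (nat_lit 38))))) (.node (.node (.node (.node (.leaf (nat_lit 10)) (.leaf (nat_lit 39))) (.leaf (nat_lit 43))) (.node (.leaf (nat_lit 23)) (.leaf (nat_lit 60)))) (.node (.node (.node (.leaf (nat_lit 33)) (.leaf (nat_lit 55))) (.leaf (nat_lit 55))) (.node (.leaf (nat_lit 48)) (.leaf (nat_lit 27))))))) (.node (.node (.node (.node (.node (.node (.leaf (nat_lit 8)) (.leaf (nat_lit 62))) (.leaf (nat_lit 17))) (.node (.leaf (nat_lit 37)) (.leaf (nat_lit 17)))) (.node (.node (.node (.leaf (nat_lit 26)) (.leaf (nat_lit 52))) (.leaf (nat_lit 45))) (.node (.leaf (nat_lit 44)) (.leaf (nat_lit 39))))) (.node (.node (.node (.node (.leaf (nat_lit 6)) (.leaf (nat_lit 32))) (.leaf (nat_lit 42))) (.node (.leaf (nat_lit 22)) (.leaf (nat_lit 24)))) (.node (.node (.node (.leaf (nat_lit 20)) (.leaf (nat_lit 54))) (.leaf (nat_lit 12))) (.node (.leaf (nat_lit 6)) (.leaf (nat_lit 35)))))) (.node (.node (.node (.node (.node (.leaf (nat_lit 8)) (.leaf (nat_lit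 63))) (.leaf (nat_lit 49))) (.node (.leaf (nat_lit 38)) (.leaf (nat_lit 27)))) (.node (.node (.node (.leaf (nat_lit 29)) (.leaf (nat_lit 16))) (.leaf (nat_lit 45))) (.node (.leaf (nat_lit 44)) (.leaf (nat_lit 22))))) (.node (.node (.node (.node (.leaf (nat_lit 20)) (.leaf (nat_lit 62))) (.leaf (nat_lit 54))) (.node (.leaf (nat_lit 0)) (.leaf (nat_lit 2)))) (.node (.node (.node (.leaf (nat_lit 34)) (.leaf (nat_lit 50))) (.leaf (nat_lit 46))) (.node (.leaf (nat_lit 50)) (.leaf (nat_lit 63))))))))))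
noncomputable def t64_I : NT := (.node (.node (.node (.node (.node (.leaf (nat_lit 4)) (.leaf (nat_lit 7))) (.node (.node (.leaf (nat_lit 56)) (.leaf (nat_lit 1))) (.node (.node (.leaf (nat_lit 50)) (.leaf (nat_lit 61))) (.leaf (nat_lit 13))))) (.node (.node (.node (.leaf (nat_lit 9)) (.leaf (nat_lit 52))) (.leaf (nat_lit 0))) (.node (.leaf (nat_lit 0)) (.node (.node (.node (.leaf (nat_lit 12)) (.leaf (nat_lit 20))) (.leaf (nat_lit 53))) (.leaf (nat_lit 40)))))) (.node (.node (.node (.node (.leaf (nat_lit 31)) (.leaf (nat_lit 23))) (.node (.node (.leaf (nat_lit 38)) (.leaf (nat_lit 51))) (.leaf (nat_lit 0)))) (.node (.node (.leaf (nat_lit 35)) (.node (.leaf (nat_lit 17)) (.leaf (nat_lit 21)))) (.node (.node (.leaf (nat_lit 0)) (.node (.leaf (nat_lit 63)) (.leaf (nat_lit 39)))) (.leaf (nat_lit 48))))) (.node (.node (.node (.node (.leaf (nat_lit 0)) (.node (.leaf (nat_lit 0)) (.node (.leaf (nat_lit 42)) (.leaf (nat_lit 47))))) (.node (.leaf (nat_lit 34)) (.leaf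 (nat_lit 49)))) (.node (.leaf (nat_lit 44)) (.leaf (nat_lit 14)))) (.node (.node (.leaf (nat_lit 26)) (.leaf (nat_lit 29))) (.node (.leaf (nat_lit 0)) (.node (.leaf (nat_lit 0)) (.node (.node (.leaf (nat_lit 18)) (.leaf (nat_lit 58))) (.leaf (nat_lit 0))))))))) (.node (.node (.node (.node (.leaf (nat_lit 0)) (.node (.leaf (nat_lit 33)) (.node (.leaf (nat_lit 15)) (.leaf (nat_lit 3))))) (.node (.leaf (nat_lit 0)) (.node (.leaf (nat_lit 6)) (.node (.leaf (nat_lit 22)) (.leaf (nat_lit 45)))))) (.node (.node (.node (.node (.leaf (nat_lit 27)) (.node (.leaf (nat_lit 54)) (.leaf (nat_lit 43)))) (.leaf (nat_lit 25))) (.node (.node (.node (.leaf (nat_lit 2)) (.leaf (nat_lit 37))) (.leaf (nat_lit 0))) (.leaf (nat_lit 16)))) (.node (.leaf (nat_lit 0)) (.node (.leaf (nat_lit 0)) (.node (.leaf (nat_lit 0)) (.node (.leaf (nat_lit 36)) (.leaf (nat_lit 46)))))))) (.node (.node (.node (.node (.node (.node (.leaf (nat_lit 10)) (.leaf (nat_lit 32))) (.leaf (nat_lit 0))) (.leaf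 (nat_lit 0))) (.node (.node (.leaf (nat_lit 8)) (.leaf (nat_lit 5))) (.leaf (nat_lit 0)))) (.node (.leaf (nat_lit 24)) (.node (.leaf (nat_lit 41)) (.node (.leaf (nat_lit 28)) (.node (.leaf (nat_lit 0)) (.leaf (nat_lit 30))))))) (.node (.node (.leaf (nat_lit 57)) (.node (.node (.leaf (nat_lit 62)) (.leaf (nat_lit 11))) (.leaf (nat_lit 60)))) (.node (.node (.leaf (nat_lit 59)) (.leaf (nat_lit 19))) (.leaf (nat_lit 55)))))))

def t64_W : List (List ℕ) := [[12], [2, 12, 3], [14, 12, 14], [14, 2, 12, 3, 14], [14]]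

noncomputable def t64_lv : List (ℕ × NT) := [(nat_lit 64, t64_t)]

theorem t64_hs : allLt 5 (fun a => Nat.beq (t64_s.get a) (glM.wcode glT (t64_W.getD a []))) = true := by
  decide +kernel

theorem t64_mem : ∀ a, a < 5 → glM.Mem (gcl glval 7) (t64_s.get a) :=
  gl_tab9.mem_gens gl_h0 (by norm_num) (by decide) t64_hs

theorem t64_tree : allLt 64 (glM.treeF 5 t64_s t64_t t64_P) = true := by decide +kernel

theorem t64_sch : allLt (64 * 5) (glM.schF 5 t64_s 64 t64_t [] t64_H) = true := by decide +kernel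

theorem t64_chain : glM.Chain (glM.gen 5 t64_s) t64_lv :=
  Model.chain_cons (by norm_num) (Model.valid_of_mem t64_mem) glM.chain_bot bot_le (by norm_num)
    t64_tree t64_sch

theorem t64_card : Nat.card (glM.gen 5 t64_s) = 64 :=
  t64_chain.card_eq_hash (by decide +kernel) 523 (I := t64_I) (by decide +kernel)

theorem t64_gen (a : ℕ) (ha : a < 5) : glM.Mem (glM.gen 5 t64_s) (glM.wcode glT (t64_W.getD a [])) := by
  rw [← Nat.eq_of_beq_eq_true (allLt_iff.1 t64_hs a ha)]
  exact (Model.valid_of_mem t64_mem).mem_gen ha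

def q8L : List (List ℕ) := [[], [0], [1], [0, 0], [1, 0], [0, 1], [0, 0, 0], [1, 0, 0]]

def k64 : List (List ℕ) := [[], [], [], [], [], [], [], [], [4, 9, 12, 14, 12, 7], [4, 12, 5, 14, 8, 12], [], [], [5, 12, 7, 14, 9, 12], [5, 12, 4, 14, 12, 6], [], [], [], [], [], [], [], [], [], [8, 14, 9], [4, 12, 4, 14, 8, 12], [4, 8, 12, 14, 12, 4], [], [4, 12, 6, 14, 12, 4], [12, 8, 14, 9], [5, 8, 14, 12, 6], [], [4, 9, 14, 12, 4], [5, 12, 14, 9, 12], [], [5, 8, 12, 14, 12, 5], [], [4, 12, 14, 8, 12], [2, 12, 8, 14, 9], [], [], [8, 14, 9, 12], [4, 8, 14, 12, 5], [], [5, 9, 14, 12, 7], [2, 8, 14, 9, 12], [], [], [], [4, 12, 7, 14, 12, 7], [], [3, 8, 14, 9, 12], [], [], [], [], [], [], [], [12], [], [], [2, 12], [3, 12, 8, 14, 9], [3, 12]]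

def l28 : List ℕ := [40564838550125678058396201254913, 40564838550125680310197088681985, 5070757143427051651107802578945, 40564838550125680626865161670657, 5794954829658773982550146977865, 41289036235693315034647321641033, 40564838550789763378402918924289, 5070757143427051932591369224193, 5161127111693020017358939619329, 41287798290930366134810094600265, 40655208517727561104640620625921, 40564838550125678375064274243585, 5161127111028934697352221949953, 40655208518391646424647338295297, 5793716884231739727521695924297, 5793716884231742295990656340041, 41287798290930368703279055016009, 40564838550789761126602031497217, 5070757143427054219576762994689, 41289036236357400389838545653833, 5794954828994688627358922965065, 5070757144091136971114520248321, 40564838550789763413587425267713, 5070757144091137006299026591745, 5070757143427053938093196349441, 5070757144091136689630953603073, 40564838550789761161786537840641, 5070757144091136724815459946497]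

def w45 : List (List ℕ) := [[], [4], [5], [8], [9], [2, 8], [2, 9], [3, 8], [3, 9], [14, 8], [14, 9], [2, 14, 8], [2, 14, 9], [3, 14, 8], [3, 14, 9], [8, 14, 9], [12, 14, 8], [12, 14, 9], [2, 12, 14, 8], [2, 12, 14, 9], [3, 12, 14, 8], [3, 12, 14, 9], [4, 8, 14, 9], [4, 12, 14, 8], [4, 12, 14, 9], [5, 8, 14, 9], [5, 12, 14, 8], [5, 12, 14, 9], [6, 12, 14, 8], [7, 12, 14, 9], [8, 12, 14, 8], [8, 12, 14, 9], [9, 12, 14, 8], [9, 12, 14, 9], [12, 8, 14, 9], [2, 4, 12, 14, 8], [2, 4, 12, 14, 9], [2, 5, 12, 14, 9], [2, 6, 12, 14, 8], [2, 8, 12, 14, 9], [2, 9, 12, 14, 8], [2, 12, 8, 14, 9], [3, 4, 12, 14, 8], [3, 5, 12, 14, 9], [3, 12, 8, 14, 9]]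

theorem chkH1 : glM.allC gl_lv6 (fun c => bimp (glM.cm c (glM.wcode glT [10]))
    (bimp (Nat.beq (glM.pow 3 c 4) glM.one)
      (band (memL ((q8L.map (blk [[12], [2, 12, 3]])).map (glM.wcode glT)) c)
        (bimp (Nat.beq (glM.mul c c) glM.one) (memL ([[], [10]].map (glM.wcode glT)) c)))))
    = true := by decide +kernel

theorem chkH2 : glM.allC gl_lv6 (fun c => bimp (glM.cm c (glM.wcode glT [12]))
    (bimp (glM.cm c (glM.wcode glT [2, 12, 3]))
      (memL ([[], [10], [2, 4, 6], [10, 2, 4, 6], [7, 5, 3], [10, 7, 5, 3]].map (glM.wcode glT)) c)))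
    = true := by decide +kernel

theorem chkH3 : glM.allC gl_lv6 (fun c => bimp (Nat.beq (glM.mul c c) (glM.wcode glT [10]))
    (bimp (Nat.beq (glM.mul c (glM.wcode glT [5, 6])) (glM.mul (glM.wcode glT [8]) c))
      (Nat.beq c (glM.wcode glT [12])))) = true := by decide +kernel

theorem chkT : allLt 64 (fun i => (fun c k => band (glM.cm c (glM.wcode glT [10]))
    (bimp (Nat.beq (glM.mul c c) glM.one) (band (memL l28 c) (bor (Nat.beq c glM.one)
      (band (bor (Nat.beq (glM.mul k (glM.wcode glT [10])) (glM.mul c k))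
          (Nat.beq (glM.mul k (glM.wcode glT [14])) (glM.mul c k)))
        (bimp (allLt 5 fun a => glM.cm c (glM.wcode glT (t64_W.getD a [])))
          (Nat.beq c (glM.wcode glT [10]))))))))
    (glM.elt t64_lv i) (glM.wcode glT (k64.getD i []))) = true := by decide +kernel

theorem chk45 : (w45.map fun w => glM.wcode glT (w ++ [10] ++ invW w)).Nodup := by decide +kernel

theorem chk40 : ∀ ω ∈ l7W, Nat.beq (glM.wcode glT (ω ++ [2, 4, 6] ++ invW ω ++ [2, 4, 6])) glM.one = false := by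
  decide +kernel

universe u
variable {G : Type u} [Group G] [Finite G]

namespace Loc0

variable {d : LD G} (h : Loc0 d)
include h

theorem wm6 : ∃ ψ, WM glM glT glval 9 6 (d.val 1 1) ψ ∧ Function.Injective ψ := by
  obtain ⟨ψ, hψ⟩ := exists_wm (val := d.val 1 1) (n := 6) gl_tab9 (by norm_num) gl_h0 rfl
    (bd6 (Prod.ext (subVal_zero _ _) rfl)
      (((gl_rels.mono (by decide)).subVal gl_h0 (by decide)).prod (h.rels 1 1))) gl_card6.ge
  exact ⟨ψ, hψ, hψ.injective (gl_card6.trans h.card.symm).le⟩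

theorem finH1 {g : G} (hg : g ∈ d.H) (h1 : g * d.t = d.t * g) (h2 : g ^ 4 = 1) :
    (∀ K : Subgroup G, d.w ∈ K → d.j1 * d.w * d.j1⁻¹ ∈ K → g ∈ K) ∧ (g * g = 1 → g = 1 ∨ g = d.t) := by
  obtain ⟨ψ, hψ, hi⟩ := h.wm6
  obtain ⟨c, hc, e⟩ := hψ.all le_rfl gl_ch6 chkH1 hg
  obtain ⟨e1, e2⟩ := band_iff.1 (bimp_iff.1 (bimp_iff.1 e (hc.cm hi (hψ.rep [10] (by decide))
    (by simpa [sval, LD.val, lv] using h1))) ((hc.pow 3 4 (by norm_num) (by norm_num)).beq hi Rep.one h2))
  refine ⟨fun K h3 h4 => ?_, fun h3 => ?_⟩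
  · obtain ⟨w, hw, rfl⟩ := hψ.of_memL _ (by decide) hc e1
    obtain ⟨l, -, rfl⟩ := List.mem_map.1 hw
    exact wval_blk_mem (by simpa [sval, LD.val, lv, mul_assoc] using And.intro h3 h4) l
  · simpa [sval, LD.val, lv] using hψ.of_memL _ (by decide) hc
      (bimp_iff.1 e2 ((hc.mul hc).beq hi Rep.one h3))

theorem finH2 {g : G} (hg : g ∈ d.H) (h1 : g ∈ C1 d.w) (h2 : g ∈ C1 (d.j1 * d.w * d.j1⁻¹)) :
    g ∈ zpowers d.t ∨ g * d.a⁻¹ ∈ zpowers d.t ∨ g * d.a ∈ zpowers d.t := by
  obtain ⟨ψ, hψ, hi⟩ := h.wm6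
  obtain ⟨c, hc, e⟩ := hψ.all le_rfl gl_ch6 chkH2 hg
  obtain ⟨w, hw, rfl⟩ := hψ.of_memL _ (by decide) hc (bimp_iff.1 (bimp_iff.1 e
    (hc.cm hi (hψ.rep [12] (by decide)) (by simpa [sval, LD.val, lv] using mem_C1.1 h1)))
    (hc.cm hi (hψ.rep [2, 12, 3] (by decide)) (by simpa [sval, LD.val, lv, mul_assoc] using mem_C1.1 h2)))
  simp only [List.mem_cons, List.not_mem_nil, or_false] at hw
  rcases hw with rfl | rfl | rfl | rfl | rfl | rfl <;> simp [sval, LD.val, lv, LD.a, mul_assoc]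

theorem finH3 {g : G} (hg : g ∈ d.H) (h1 : g * g = d.t) (h2 : g * d.e * g⁻¹ = d.x) : g = d.w := by
  obtain ⟨ψ, hψ, hi⟩ := h.wm6
  obtain ⟨c, hc, e⟩ := hψ.all le_rfl gl_ch6 chkH3 hg
  simpa [sval, LD.val, lv] using hc.eq' (hψ.rep [12] (by decide)) (bimp_iff.1 (bimp_iff.1 e
    ((hc.mul hc).beq hi (hψ.rep [10] (by decide)) (by simpa [sval, LD.val, lv] using h1)))
    ((hc.mul (hψ.rep [5, 6] (by decide))).beq hi ((hψ.rep [8] (by decide)).mul hc)
      (by simpa [sval, LD.val, lv, LD.e] using mul_inv_eq_iff_eq_mul.1 h2)))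

theorem w_inv : d.w * (d.j1 * d.w * d.j1⁻¹) * d.w⁻¹ = (d.j1 * d.w * d.j1⁻¹)⁻¹ := by
  obtain ⟨ψ, hψ, -⟩ := h.wm6
  simpa [sval, LD.val, lv, mul_assoc] using hψ.eq_of [12, 2, 12, 3, 13] [2, 13, 3] (by decide)
    (by decide +kernel)

end Loc0

variable {val : ℕ → G}

omit [Finite G] in
theorem wm7 (h0 : val 0 = 1) (hR : RelsHold val R7) (ha : wval val [2, 4, 6] ≠ 1) :
    ∃ ψ, WM glM glT glval 9 7 val ψ ∧ Function.Injective ψ := by
  obtain ⟨ψ, h1, h2⟩ := exists_hom7 h0 hR ha
  exact ⟨ψ, ⟨gl_tab9, by norm_num, gl_h0, h0, h2⟩, h1⟩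

theorem card7 (h0 : val 0 = 1) (hR : RelsHold val R7) (ha : wval val [2, 4, 6] ≠ 1) :
    Nat.card (gcl val 7) = 25920 := by
  obtain ⟨ψ, hψ, hi⟩ := wm7 h0 hR ha
  rw [← hψ.imS_gcl le_rfl, card_imS hi le_rfl, gl_card7]

theorem le_relIndex_t (h0 : val 0 = 1) (hR : RelsHold val R7) (ha : wval val [2, 4, 6] ≠ 1) :
    45 ≤ (C1 (val 5)).relIndex (gcl val 7) := by
  obtain ⟨ψ, hψ, hi⟩ := wm7 h0 hR ha
  have h1 := hψ.le_relIndex hi [10] (by decide) w45 (by decide) chk45
  rw [show wval val [10] = val 5 from wval_single val 5] at h1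
  exact h1

omit [Finite G] in
theorem nonreal (h0 : val 0 = 1) (hR : RelsHold val R7) (ha : wval val [2, 4, 6] ≠ 1)
    (hH : gcl val 6 ≤ C1 (wval val [2, 4, 6])) {g : G} (hg : g ∈ gcl val 7) :
    g * wval val [2, 4, 6] * g⁻¹ ≠ (wval val [2, 4, 6])⁻¹ := fun e => by
  obtain ⟨ψ, hψ, hi⟩ := wm7 h0 hR ha
  obtain ⟨ω, hω, h1⟩ := l7_cos h0 hR g hg
  have h2 := mem_C1_iff_conj.1 (inv_mem (hH h1))
  have h3 := (hψ.rep (ω ++ [2, 4, 6] ++ invW ω ++ [2, 4, 6])
    ((by decide : ∀ ω ∈ l7W, ∀ c ∈ ω ++ [2, 4, 6] ++ invW ω ++ [2, 4, 6], c < 2 * 7 + 2) ω hω)).beq hi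
    Rep.one (by
      rw [wval_append, wval_append, wval_append, wval_invW, mul_eq_one_iff_eq_inv]
      generalize wval val [2, 4, 6] = a at *
      generalize wval val ω = k at *
      calc k * a * k⁻¹ = (g * k⁻¹)⁻¹ * (g * a * g⁻¹) * (g * k⁻¹)⁻¹⁻¹ := by group
        _ = ((g * k⁻¹)⁻¹ * a * (g * k⁻¹)⁻¹⁻¹)⁻¹ := by rw [e]; group
        _ = a⁻¹ := by rw [h2])
  rw [chk40 ω hω] at h3
  exact absurd h3 (by decide)

theorem exists_T (h0 : val 0 = 1) (hR : RelsHold val R7) (ha : wval val [2, 4, 6] ≠ 1) :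
    ∃ T : Subgroup G, SylIn 2 T (gcl val 7) ∧
      (∀ g ∈ T, g * g = 1 → g = 1 ∨ ∃ k ∈ gcl val 7, k * val 5 * k⁻¹ = g ∨ k * val 7 * k⁻¹ = g) ∧
      ∀ R ≤ T, 16 ∣ Nat.card R → val 5 ∈ R := by
  haveI : Fact (Nat.Prime 2) := ⟨Nat.prime_two⟩
  obtain ⟨ψ, hψ, hi⟩ := wm7 h0 hR ha
  have hc : Nat.card (imS ψ (glM.gen 5 t64_s)) = 64 := by
    rw [card_imS hi (Model.gen_le t64_mem), t64_card]
  have hle : imS ψ (glM.gen 5 t64_s) ≤ gcl val 7 := hψ.range ▸ imS_le _
  have hp : IsPGroup 2 (imS ψ (glM.gen 5 t64_s)) := IsPGroup.of_card (n := 6) hc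
  have rt : Rep glM ψ (val 5) (glM.wcode glT [10]) := by simpa [sval] using hψ.rep [10] (by decide)
  have ru : Rep glM ψ (val 7) (glM.wcode glT [14]) := by simpa [sval] using hψ.rep [14] (by decide)
  have ht : val 5 ∈ imS ψ (glM.gen 5 t64_s) := rt.mem_imS (by
    rw [show glM.wcode glT [10] = glM.elt t64_lv 6 by decide +kernel]; exact t64_chain.1 _)
  have key : ∀ g ∈ imS ψ (glM.gen 5 t64_s), g * val 5 = val 5 * g ∧ (g * g = 1 →
      (∃ c ∈ l28, Rep glM ψ g c) ∧ (g = 1 ∨ (∃ k ∈ gcl val 7, k * val 5 * k⁻¹ = g ∨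
        k * val 7 * k⁻¹ = g) ∧ ((∀ s ∈ imS ψ (glM.gen 5 t64_s), s * g = g * s) → g = val 5))) := by
    intro g hg
    obtain ⟨i, h1, h2⟩ := rep_of_chain t64_chain (n := 64) (by decide +kernel) hg
    obtain ⟨e1, e2⟩ := band_iff.1 (allLt_iff.1 chkT i h1)
    refine ⟨h2.comm rt e1, fun h3 => ?_⟩
    obtain ⟨e3, e4⟩ := band_iff.1 (bimp_iff.1 e2 ((h2.mul h2).beq hi Rep.one h3))
    refine ⟨⟨_, memL_iff.1 e3, h2⟩, (bor_iff.1 e4).imp (h2.eq' Rep.one) fun e5 => ?_⟩
    obtain ⟨e6, e7⟩ := band_iff.1 e5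
    have hk := getD_lt (n := 2 * 7 + 2) (Ws := k64) (by decide) i
    refine ⟨⟨_, wval_mem_gcl h0 hk, (bor_iff.1 e6).imp ((hψ.rep _ hk).conj rt h2)
      ((hψ.rep _ hk).conj ru h2)⟩, fun h4 => h2.eq' rt (bimp_iff.1 e7 (allLt_iff.2 fun a ha => ?_))⟩
    have h5 := hψ.rep _ (getD_lt (n := 2 * 7 + 2) (Ws := t64_W) (by decide) a)
    exact h2.cm hi h5 (h4 _ (h5.mem_imS (t64_gen a ha))).symm
  generalize imS ψ (glM.gen 5 t64_s) = T at *
  refine ⟨T, sylIn_of_not_dvd hle hp ?_, fun g hg h1 => ((key g hg).2 h1).2.imp_right And.left,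
    fun R hR h16 => by_contra fun h1 => ?_⟩
  · rw [relIndex_eq_of_mul hle (n := 405) (by rw [hc, card7 h0 hR ha])]; norm_num
  have tt : val 5 * val 5 = 1 := (rt.mul rt).eq' Rep.one (by decide +kernel)
  have hn : Nrm R (zpowers (val 5)) := nrm_of_le_C (hR.trans (by
    rw [C_zpowers]; exact fun g hg => mem_C1.2 (key g hg).1))
  have hm : ∀ g ∈ R ⊔ zpowers (val 5), g * g ∈ R := fun g hg => by
    obtain ⟨s, hs, k, hk, rfl⟩ := Nrm.exists_mul_of_mem_sup hn hg
    rcases mem_zpowers_order_two' tt hk with rfl | rfl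
    · simpa using mul_mem hs hs
    · rw [mul_assoc, ← mul_assoc (val 5), ← (key s (hR hs)).1, mul_assoc, tt, mul_one]
      exact mul_mem hs hs
  have hle' : R ⊔ zpowers (val 5) ≤ T := sup_le hR (zpowers_le.2 ht)
  have h32 : 32 ≤ Nat.card (R ⊔ zpowers (val 5) : Subgroup G) := by
    have h2 := card_lt_of_lt (lt_of_le_of_ne (le_sup_left : R ≤ R ⊔ zpowers (val 5))
      fun e => h1 (e ▸ mem_sup_right (mem_zpowers _)))
    have h3 := Nat.le_of_dvd Nat.card_pos h16
    have h4 := h16.trans (card_dvd_of_le' (le_sup_left : R ≤ R ⊔ zpowers (val 5)))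
    omega
  have hN : Nrm T (R ⊔ zpowers (val 5)) := by
    have h2 := card_mul_relIndex hle'
    have h3 := relIndex_pos (R ⊔ zpowers (val 5)) T
    have h5 : ¬ 3 ≤ (R ⊔ zpowers (val 5)).relIndex T := fun h4 => by
      have := Nat.mul_le_mul h32 h4
      omega
    rcases (by omega :
      (R ⊔ zpowers (val 5)).relIndex T = 1 ∨ (R ⊔ zpowers (val 5)).relIndex T = 2) with e | e
    · exact Nrm.of_le (relIndex_eq_one.1 e)
    · exact idx2_nrm hle' e
  have hK : closure {y | ∃ g ∈ R ⊔ zpowers (val 5), g * g = y} ≤ R := by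
    rw [closure_le]; rintro _ ⟨g, hg, rfl⟩; exact hm g hg
  have h2 : closure {y | ∃ g ∈ R ⊔ zpowers (val 5), g * g = y} = ⊥ := by
    by_contra h2
    obtain ⟨w, hw, w1, w2, h3⟩ := exists_pow_central Nat.prime_two (hp.to_le (hK.trans hR)) hp
      (Nrm.closure (by
        rintro s hs _ ⟨g, hg, rfl⟩
        exact subset_closure ⟨_, hN s hs g hg, by group⟩)) h2
    rw [pow_two] at w2
    exact h1 ((((key w (hR (hK hw))).2 w2).2.resolve_left w1).2 h3 ▸ hK hw)
  have h3 := card_le_of_rep (R := R ⊔ zpowers (val 5)) fun g hg =>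
    ((key g (hle' hg)).2 (mem_bot.1 (h2 ▸ subset_closure ⟨g, hg, rfl⟩))).1
  exact absurd (h32.trans h3) (by decide)

end CfsgH9.P43
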