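import Cfsg.Agent.H9.P43SE
import Cfsg.Agent.H9.P43Fin

/-! The non-real case: `G` is `PSp₄(3)`. -/

set_option autoImplicit false

namespace CfsgH9.P43

open Subgroup CfsgH5 CfsgH6 CfsgFT CfsgH8 CfsgH7 CfsgH3.TC Matrix

universe u
variable {G : Type u} [Group G] [Finite G]

omit [Finite G] in
theorem ne57 {z : G} (h : z ^ 648 = 1) : orderOf z ≠ 5 ∧ orderOf z ≠ 7 := by
  have := orderOf_dvd_of_pow_eq_one h
  constructor <;> intro e <;> rw [e] at this <;> norm_num at this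

theorem se_not_dvd {P : Subgroup G} (h : SE 3 P) {j : G} (hj : j ∉ P) :
    ¬ 3 ∣ Nat.card (P ⊓ cj j P : Subgroup G) := fun h3 => by
  obtain ⟨y, hy, e⟩ := exists_mem_orderOf_eq Nat.prime_three h3
  refine hj (inv_mem_iff.1 (h y (mem_inf.1 hy).1 (fun h1 => ?_) (e ▸ pow_orderOf_eq_one y) j⁻¹ ?_))
  · rw [h1, orderOf_one] at e; omega
  · simpa using mem_cj.1 (mem_inf.1 hy).2

theorem pow_dvd_of_sylIn {p n : ℕ} (hp : p.Prime) {S X : Subgroup G} (h : SylIn p S X)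
    (hd : p ^ n ∣ Nat.card X) : p ^ n ∣ Nat.card S := by
  rw [h.card_eq_pow hp]
  exact pow_dvd_pow _ ((hp.pow_dvd_iff_le_factorization (card_ne_zero X)).1 hd)

namespace Loc0

variable {d : LD G} (h : Loc0 d)
include h

omit [Finite G] in
theorem jv_mem_zp {v w : V3} : d.jv w ∈ zpowers (d.jv v) ↔ w = 0 ∨ w = v ∨ w = -v := by
  refine ⟨fun e => ?_, ?_⟩
  · rcases mem_zpowers_three (h.exp _ (d.jv_mem v)) e with e | e | e
    · exact Or.inl (h.jv_inj (e.trans d.jv_zero.symm))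
    · exact Or.inr (Or.inl (h.jv_inj e))
    · exact Or.inr (Or.inr (h.jv_inj (e.trans (h.jv_neg v).symm)))
  · rintro (rfl | rfl | rfl)
    · rw [d.jv_zero]; exact one_mem _
    · exact mem_zpowers _
    · rw [h.jv_neg]; exact inv_mem (mem_zpowers _)

omit [Finite G] in
theorem jv_ne {v : V3} (hv : v ≠ 0) : d.jv v ≠ 1 := fun e => hv (h.jv_inj (e.trans d.jv_zero.symm))

omit [Finite G] in
theorem b9 {v w : V3} (hv : v ≠ 0 ∧ ¬ (w = 0 ∨ w = v ∨ w = -v)) : B9 (d.jv v) (d.jv w) :=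
  ⟨h.exp _ (d.jv_mem _), h.exp _ (d.jv_mem _), h.ab.comm (d.jv_mem _) (d.jv_mem _), h.jv_ne hv.1,
    fun e => hv.2 (h.jv_mem_zp.1 e)⟩

omit [Finite G] h in
theorem D9_le_J (v w : V3) : D9 (d.jv v) (d.jv w) ≤ d.J := D9_le (d.jv_mem _) (d.jv_mem _)

omit [Finite G] in
theorem mem_D9 {v w y : V3} (e : ∃ k l : ZMod 3, y = k • v + l • w) :
    d.jv y ∈ D9 (d.jv v) (d.jv w) := by
  obtain ⟨k, l, rfl⟩ := e
  rw [h.jv_add, h.jv_smul, h.jv_smul]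
  exact mul_mem (pow_mem (left_mem_D9 _ _) _) (pow_mem (right_mem_D9 _ _) _)

omit [Finite G] in
theorem fix_iff {g : G} {A : M3} (hA : d.Act g A) {v : V3} : g ∈ C1 (d.jv v) ↔ A *ᵥ v = v := by
  rw [mem_C1_iff_conj, hA]
  exact ⟨fun e => h.jv_inj e, fun e => by rw [e]⟩

omit [Finite G] in
theorem fix_iff' {g : G} {A : M3} (hA : d.Act g A) {v : V3} : d.jv v ∈ C1 g ↔ A *ᵥ v = v := by
  rw [mem_C1_comm, h.fix_iff hA]

omit [Finite G] in
theorem comm_act {g k : G} {A B : M3} (h1 : d.Act g A) (h2 : d.Act k B) (e : g ∈ C1 k) :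
    A * B = B * A := h.act_uniq (h1.mul h2) (mem_C1.1 e ▸ h2.mul h1)

omit [Finite G] h in
theorem jv_b : d.jv ![1, 0, 0] = d.b := d.jv_e0

/-- a lifted copy inside a subgroup -/
def lift (d : LD G) (L : Subgroup G) (hL : d.H ≤ L) : LD L :=
  ⟨⟨d.j1, hL (d.J_le_H d.j1_mem)⟩, ⟨d.j2, hL (d.J_le_H d.j2_mem)⟩, ⟨d.j3, hL (d.J_le_H d.j3_mem)⟩,
    ⟨d.x, hL (d.B_le_H d.x_mem)⟩, ⟨d.t, hL (d.B_le_H d.t_mem)⟩, ⟨d.w, hL d.w_mem⟩⟩

end Loc0

namespace LocU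

variable {d : LD G} {u : G} (h : LocU d u)
include h

theorem cent_all (hb : C1 d.b ≤ N d.J) (hc : C1 d.c ≤ N d.J) {P : Subgroup G} (hH : d.H ≤ P)
    (hN : N d.J ≤ P) (y : G) (hy : y ∈ d.J) (h1 : y ≠ 1) : C1 y ≤ P := fun g hg => by
  obtain ⟨v, rfl⟩ := h.jv_surj hy
  have h2 : ∀ v : V3, v = 0 ∨ SP24.any (fun P => decide (P *ᵥ v = ![1, 0, 0] ∨ P *ᵥ v = ![0, 1, 1] ∨
    P *ᵥ v = ![1, 1, 1] ∨ P *ᵥ v = -![1, 1, 1])) = true := by decide +kernel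
  rcases h2 v with rfl | h3
  · exact absurd d.jv_zero h1
  obtain ⟨A, hA, h3⟩ := List.any_eq_true.1 h3
  obtain ⟨k, hk', hk⟩ := h.exists_act_SP hA
  have kP := hN (h.W_le_N hk')
  have h4 : k * g * k⁻¹ ∈ C1 (d.jv (A *ᵥ v)) := by
    rw [← hk, ← cj_C1, conj_mem_cj]; exact hg
  have h5 : k * g * k⁻¹ ∈ P := by
    rcases of_decide_eq_true h3 with e | e | e | e <;> rw [e] at h4
    · exact hN (hb (by rwa [d.jv_e0] at h4))
    · exact hN (hc (h.jv_c ▸ h4))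
    · exact hH (h.cent (d.jv_a ▸ h4))
    · rw [h.jv_neg, d.jv_a, C1_inv] at h4
      exact hH (h.cent h4)
  simpa [mul_assoc] using mul_mem (mul_mem (inv_mem kP) h5) kP

theorem a_word (r : G) : wval (d.val u r) [2, 4, 6] = d.a := by
  simp [sval, LD.val, lv, LD.a, mul_assoc]

theorem t_mem_D : d.t ∈ D (C1 d.t) := by
  have h1 := mem_map_of_mem (C1 d.t).subtype (h.w_mem_D ⟨d.w, h.w_mem_t⟩ rfl)
  rw [D_top, ← D_eq_map_commutator] at h1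
  have h2 := mul_mem h1 h1
  rwa [show (C1 d.t).subtype ⟨d.w, h.w_mem_t⟩ = d.w from rfl, h.ww] at h2

theorem mem_E {j : G} (hj : j ∈ d.J) (ht : j ∈ C1 d.t) :
    j ∈ D9 (d.jv ![1, 0, 0]) (d.jv ![0, 1, 1]) := by
  obtain ⟨v, rfl⟩ := h.jv_surj hj
  rw [h.fix_iff' h.act_t] at ht
  refine h.mem_D9 ?_
  clear hj
  revert v; decide +kernel

theorem E_le : D9 (d.jv ![1, 0, 0]) (d.jv ![0, 1, 1]) ≤ C1 d.t :=
  D9_le ((h.fix_iff' h.act_t).2 (by decide)) ((h.fix_iff' h.act_t).2 (by decide))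

theorem nine_dvd : 9 ∣ Nat.card (C1 d.t) :=
  (h.b9 (v := ![1, 0, 0]) (w := ![0, 1, 1]) (by decide)).card ▸ card_dvd_of_le' h.E_le

variable (nr : ∀ r, ¬ d.Act r (-1))
include nr

theorem se7 : SE 3 (gcl (d.val u 1) 7) :=
  h.se (h.H_le 1) ((h.N_le nr).trans (h.W_le 1))
    (h.cent_all (h.cent_b nr) (h.cent_c nr) (h.H_le 1) ((h.N_le nr).trans (h.W_le 1)))

theorem act_NE {g : G} (hg : g ∈ C1 d.t) (hn : g ∈ N (D9 (d.jv ![1, 0, 0]) (d.jv ![0, 1, 1]))) :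
    d.Act g 1 ∨ d.Act g (mT * mU) ∨ d.Act g mT ∨ d.Act g mU :=
  h.cent_t' nr hg (h.fus (Or.inr rfl) (h.cent_c nr)
    (Loc0.D9_le_J _ _ (by rw [← h.jv_c]; exact conj_mem_of_mem_N hn (right_mem_D9 _ _))))

theorem sylE : SylIn 3 (D9 (d.jv ![1, 0, 0]) (d.jv ![0, 1, 1])) (C1 d.t) := by
  refine sylIn_of_sq (h.b9 (by decide)).isPGroup h.E_le fun g hg hn =>
    Or.inl (h.mem_E ?_ (pow_mem hg 2))
  rw [pow_two]
  rcases h.act_NE nr hg hn with e | e | e | e <;> exact h.mul_mem_J e e (by decide)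

theorem E_inf_D :
    D9 (d.jv ![1, 0, 0]) (d.jv ![0, 1, 1]) ⊓ D (C1 d.t) ≤ zpowers (d.jv ![0, 1, 1]) := by
  rw [(h.sylE nr).inf_D_eq_of_ab Nat.prime_three (h.b9 (by decide)).ab, commutator_le]
  intro j hj k hk
  obtain ⟨v, rfl⟩ := h.jv_surj (Loc0.D9_le_J _ _ hj)
  have h2 := (h.fix_iff' h.act_t).1 (h.E_le hj)
  rw [commutatorElement_def, mul_assoc, mul_assoc, ← mul_assoc k, ← h.jv_neg]
  rcases h.act_NE nr (mem_inf.1 hk).1 (mem_inf.1 hk).2 with e | e | e | e <;>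
    rw [e, ← h.jv_add, h.jv_mem_zp] <;> clear hj <;> revert v <;> decide +kernel

omit nr in
theorem c_mem_D : d.jv ![0, 1, 1] ∈ D (C1 d.t) := by
  have h1 := commutator_mem_commutator (mem_C1.2 h.ut : u ∈ C1 d.t) (h.E_le (right_mem_D9 _ _))
  rwa [commutatorElement_def, h.act_u, ← h.jv_neg, ← h.jv_add,
    show mU *ᵥ ![0, 1, 1] + -![0, 1, 1] = ![0, 1, 1] by decide] at h1

theorem cent_c_D {g : G} (hg : g ∈ D (C1 d.t)) (e : g * d.jv ![0, 1, 1] = d.jv ![0, 1, 1] * g) :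
    g ∈ zpowers d.t ∨ g * (d.jv ![0, 1, 1])⁻¹ ∈ zpowers d.t ∨ g * d.jv ![0, 1, 1] ∈ zpowers d.t := by
  have key : ∀ s ∈ zpowers d.t, g * s⁻¹ ∈ d.J → g ∈ zpowers d.t ∨
      g * (d.jv ![0, 1, 1])⁻¹ ∈ zpowers d.t ∨ g * d.jv ![0, 1, 1] ∈ zpowers d.t := fun s hs hj => by
    have h1 := mul_mem hg (inv_mem (zpowers_le.2 h.t_mem_D hs))
    have h2 : s * d.jv ![0, 1, 1] = d.jv ![0, 1, 1] * s :=
      (mem_C1.1 (C1_le_C1_of_mem_zpowers hs (h.E_le (right_mem_D9 _ _)))).symm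
    rcases mem_zpowers_three (h.exp _ (d.jv_mem _))
      (h.E_inf_D nr (mem_inf.2 ⟨h.mem_E hj (D_le _ h1), h1⟩)) with e | e | e
    · exact Or.inl (by rwa [mul_inv_eq_one.1 e])
    · exact Or.inr (Or.inl (by rwa [mul_inv_eq_iff_eq_mul.1 e, ← h2, mul_inv_cancel_right]))
    · exact Or.inr (Or.inr (by rwa [mul_inv_eq_iff_eq_mul.1 e, mul_assoc, h2, inv_mul_cancel_left]))
  rw [h.jv_c] at e
  rcases h.cent_c' nr (mem_C1.2 e) (h.cent_c nr (mem_C1.2 e)) with h1 | h1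
  · exact key 1 (one_mem _) (by simpa using h1)
  · exact key _ (mem_zpowers _) h1

theorem cent_t : C1 d.t ≤ gcl (d.val u 1) 7 := by
  have hJ := d.J_le_H.trans (h.H_le 1)
  exact ft3_le (h.se7 nr) (h.b9 (by decide)) (hJ (d.jv_mem _)) (hJ (d.jv_mem _)) (normalIn_D _)
    (h.sylE nr) (zpowers_le.2 h.t_mem_D)
    (fun g hg z hz => mem_C1.1 (C1_le_C1_of_mem_zpowers hz (D_le _ hg)))
    (isP_zp (by rw [pow_two, h.tt])) h.c_mem_D (hJ (d.jv_mem _)) (h.jv_ne (by decide))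
    (h.exp _ (d.jv_mem _)) (fun g hg e => h.cent_c_D nr hg e) fun y hy h1 z _ e =>
      ne57 (h.pow648 (h.cent_b nr) (h.cent_c nr) (Loc0.D9_le_J _ _ hy) h1 e)

theorem not_nine : ¬ 9 ∣ Nat.card (C1 u) := fun h9 => by
  have hS : SylIn 3 (zpowers (d.jv ![1, 0, 0])) (C1 u) := by
    refine sylIn_of_sq (isP_zp (h.exp _ (d.jv_mem _)))
      (zpowers_le.2 ((h.fix_iff' h.act_u).2 (by decide))) fun g hg hn => Or.inr ?_
    have h1 := conj_mem_of_mem_N hn (mem_zpowers _)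
    obtain ⟨A, hA, h2⟩ := h.signed' nr (h.fus (Or.inl rfl) (h.cent_b nr)
      (zpowers_le.2 (d.jv_mem _) (by rwa [← Loc0.jv_b])))
    have h3 : ∀ A ∈ SP24, A * mU = mU * A → A * A * (A * A) = 1 := ball_of_all (by decide +kernel)
    obtain ⟨v, e⟩ := h.jv_surj (h.mul_mem_J (h2.mul h2) (h2.mul h2)
      (h3 A hA (h.comm_act h2 h.act_u hg)))
    have h4 := mul_mem (mul_mem hg hg) (mul_mem hg hg)
    rw [show g ^ 4 = g * g * (g * g) by simp only [pow_succ, pow_zero, one_mul, mul_assoc], ← e,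
      h.jv_mem_zp]
    rw [← e, h.fix_iff' h.act_u] at h4
    clear e
    revert v; decide +kernel
  have h1 := pow_dvd_of_sylIn (n := 2) Nat.prime_three hS h9
  rw [Nat.card_zpowers, orderOf_three (h.jv_ne (by decide)) (h.exp _ (d.jv_mem _))] at h1
  norm_num at h1

theorem eq_top : gcl (d.val u 1) 7 = ⊤ := by
  haveI : Fact (Nat.Prime 2) := ⟨Nat.prime_two⟩
  have hR := h.rels7 (h.wu4 nr) 1
  have ha : wval (d.val u 1) [2, 4, 6] ≠ 1 := h.a_word 1 ▸ h.a_ne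
  obtain ⟨T, hT, h1, h2⟩ := exists_T rfl hR ha
  have h45 := le_relIndex_t rfl hR ha
  have hc := card7 rfl hR ha
  have hC := h.cent_t nr
  have hS := h.se7 nr
  change ∀ g ∈ T, _ → _ ∨ ∃ k ∈ _, k * d.t * k⁻¹ = g ∨ k * u * k⁻¹ = g at h1
  change ∀ R ≤ T, _ → d.t ∈ R at h2
  change 45 ≤ (C1 d.t).relIndex _ at h45
  generalize gcl (d.val u 1) 7 = P at *
  have hf : ∀ g, g * d.t * g⁻¹ ∈ P → g ∈ P := fun g hg => by
    have tt : g * d.t * g⁻¹ * (g * d.t * g⁻¹) = 1 := by rw [conj_mul, h.tt]; simp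
    obtain ⟨k, hk, h3⟩ := hT.exists_le_cj (zpowers_le.2 hg) (isP_zp (by rw [pow_two, tt]))
    rcases h1 _ (mem_cj.1 (h3 (mem_zpowers _))) (by
      rw [show k⁻¹ * (g * d.t * g⁻¹) * k * (k⁻¹ * (g * d.t * g⁻¹) * k) =
        k⁻¹ * (g * d.t * g⁻¹ * (g * d.t * g⁻¹)) * k by group, tt]; simp) with e | ⟨m, hm, e | e⟩
    · refine absurd (h.act_uniq h.act_t (B := 1) ?_) (by decide)
      rw [show d.t = g⁻¹ * k * (k⁻¹ * (g * d.t * g⁻¹) * k) * (g⁻¹ * k)⁻¹ by group, e]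
      simpa using LD.Act.one
    · have h4 : g⁻¹ * (k * m) ∈ P := hC (mem_C1_iff_conj.2 (by
        rw [show g⁻¹ * (k * m) * d.t * (g⁻¹ * (k * m))⁻¹ = g⁻¹ * k * (m * d.t * m⁻¹) * k⁻¹ * g by group,
          e]; group))
      simpa [mul_assoc] using inv_mem (mul_mem h4 (inv_mem (mul_mem hk hm)))
    · refine absurd ?_ (h.not_nine nr)
      rw [← card_cj (g⁻¹ * k * m), cj_C1, show g⁻¹ * k * m * u * (g⁻¹ * k * m)⁻¹ =
        g⁻¹ * k * (m * u * m⁻¹) * k⁻¹ * g by group, e,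
        show g⁻¹ * k * (k⁻¹ * (g * d.t * g⁻¹) * k) * k⁻¹ * g = d.t by group]
      exact h.nine_dvd
  by_contra hne
  obtain ⟨j, hj, h3⟩ := bender_count h.tt hf hne
  have h4 := se_not_dvd hS hj
  have h5 : 45 ≤ Nat.card (P ⊓ cj j P : Subgroup G) := by
    rw [← card_mul_relIndex hC] at h3
    exact h45.trans (Nat.le_of_mul_le_mul_left h3 (card_pos _))
  have h6 : Nat.card (P ⊓ cj j P : Subgroup G) ∣ 320 := by
    refine Nat.Coprime.dvd_of_dvd_mul_left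
      (((Nat.prime_three.coprime_iff_not_dvd).2 h4).symm.pow_right 4) ?_
    exact (by norm_num : 25920 = 3 ^ 4 * 320) ▸ hc ▸ card_dvd_of_le' inf_le_left
  have h7 : 2 ^ 4 ∣ Nat.card (P ⊓ cj j P : Subgroup G) := by
    have : ∀ n ∈ Nat.divisors 320, 45 ≤ n → 2 ^ 4 ∣ n := by decide +kernel
    exact this _ (Nat.mem_divisors.2 ⟨h6, by norm_num⟩) h5
  obtain ⟨R, hR⟩ := exists_sylIn 2 (P ⊓ cj j P)
  obtain ⟨k, hk, h8⟩ := hT.exists_le_cj (hR.le.trans inf_le_left) hR.isPGroup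
  have h9 := h2 _ (le_cj_iff.1 h8) (by rw [card_cj]; exact pow_dvd_of_sylIn Nat.prime_two hR h7)
  have h10 := hf (j⁻¹ * k) (by simpa [mul_assoc] using mem_cj.1 (hR.le (mem_cj.1 h9)).2)
  exact hj (by simpa using inv_mem (mul_mem h10 (inv_mem hk)))

theorem psp_top (F : Type*) [Field F] [Fintype F] (hF : Fintype.card F = 3) :
    Nonempty (G ≃* Cfsg.PSp 2 F) := by
  obtain ⟨e⟩ := h.psp (h.wu4 nr) 1 F hF
  exact ⟨(topEquiv.symm.trans (MulEquiv.subgroupCongr (h.eq_top nr).symm)).trans e⟩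

end LocU

end CfsgH9.P43
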