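import Cfsg.Agent.H9.P43NR
import Cfsg.Agent.H9.Loc3Q
import Cfsg.Agent.H6.TIEven

/-! The real case with automizer `±S₃`: `⟨a⟩` is normal. -/

set_option autoImplicit false
set_option maxRecDepth 100000

namespace CfsgH9.P43

open Subgroup CfsgH5 CfsgH6 CfsgFT CfsgH8 CfsgH7 CfsgH3.TC Matrix

def q27L : List (List ℕ) := [[], [0], [0, 0]].flatMap fun i => [[], [1], [1, 1]].flatMap fun j =>
  [[], [2], [2, 2]].map fun k => i ++ j ++ k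

noncomputable def pH4 (q : ℕ) : Bool :=
  band (memL ((q27L.map (blk [[2, 4, 6], [5, 6], [8]])).map (glM.wcode glT)) q)
    ((fun z => band (Nat.beq (glM.mul (glM.mul (glM.mul q (glM.wcode glT [7, 4])) (glM.mul q q))
      (glM.wcode glT [5, 6])) z)
      (bor (Nat.beq z (glM.wcode glT [2, 4, 6])) (bor (Nat.beq z (glM.wcode glT [7, 5, 3]))
        (band (glM.cm q (glM.wcode glT [2])) (band (glM.cm q (glM.wcode glT [4]))
          (glM.cm q (glM.wcode glT [6])))))))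
      (glM.mul (glM.mul (glM.mul (glM.wcode glT [5, 6]) q) (glM.wcode glT [7, 4])) (glM.mul q q)))

theorem chkH4 : glM.allC gl_lv6 (fun c => band (Nat.beq (glM.pow 6 c 36) glM.one)
    (pH4 (glM.mul (glM.mul c (glM.wcode glT [5, 6])) (glM.pow 6 c 35)))) = true := by decide +kernel

theorem chkH5 : glM.allC gl_lv6 (fun c => bimp (glM.cm c (glM.wcode glT [5, 6]))
    (band (glM.cm c (glM.wcode glT [2])) (band (glM.cm c (glM.wcode glT [4]))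
      (glM.cm c (glM.wcode glT [6]))))) = true := by decide +kernel

universe u
variable {G : Type u} [Group G] [Finite G]

namespace Loc0

variable {d : LD G} (h : Loc0 d)
include h

theorem mem_J_of_comm {g : G} (hg : g ∈ d.H) (h1 : g * d.j1 = d.j1 * g) (h2 : g * d.j2 = d.j2 * g)
    (h3 : g * d.j3 = d.j3 * g) : g ∈ d.J :=
  h.mem_J hg (h.act_of_comm fun _ hj => mem_C1.1 (d.J_le (K := C1 g) (mem_C1.2 h1.symm)
    (mem_C1.2 h2.symm) (mem_C1.2 h3.symm) hj))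

omit [Finite G] in
theorem e_mem : d.e ∈ d.J := h.jv_e ▸ d.jv_mem _

theorem finH4 {g : G} (hg : g ∈ d.H) : g ^ 36 = 1 ∧
    (∀ K : Subgroup G, d.a ∈ K → d.e ∈ K → d.x ∈ K → g * d.e * g⁻¹ ∈ K) ∧ ∃ z,
    g * d.e * g⁻¹ * d.e⁻¹ * (g * d.e * g⁻¹)⁻¹ * d.e = z ∧
    d.e * (g * d.e * g⁻¹) * d.e⁻¹ * (g * d.e * g⁻¹)⁻¹ = z ∧
    (z = d.a ∨ z = d.a⁻¹ ∨ g * d.e * g⁻¹ ∈ d.J) := by
  obtain ⟨ψ, hψ, hi⟩ := h.wm6
  obtain ⟨c, hc, e⟩ := hψ.all le_rfl gl_ch6 chkH4 hg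
  obtain ⟨e1, e2⟩ := band_iff.1 e
  have h1 : g ^ 36 = 1 := (hc.pow 6 36 (by norm_num) (by norm_num)).eq' Rep.one e1
  have re : Rep glM ψ d.e (glM.wcode glT [5, 6]) := by
    simpa [sval, LD.val, lv, LD.e] using hψ.rep [5, 6] (by decide)
  have ri : Rep glM ψ d.e⁻¹ (glM.wcode glT [7, 4]) := by
    simpa [sval, LD.val, lv, LD.e] using hψ.rep [7, 4] (by decide)
  have rq := (hc.mul re).mul (hc.pow 6 35 (by norm_num) (by norm_num))
  rw [eq_inv_of_mul_eq_one_left (show g ^ 35 * g = 1 by rw [← pow_succ, h1])] at rq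
  have rqi := rq.mul rq
  rw [eq_inv_of_mul_eq_one_left (show g * d.e * g⁻¹ * (g * d.e * g⁻¹) * (g * d.e * g⁻¹) = 1 by
    rw [← pow_three', conj_pow, h.exp _ h.e_mem]; simp)] at rqi
  have hq : g * d.e * g⁻¹ ∈ d.H := mul_mem (mul_mem hg (d.J_le_H h.e_mem)) (inv_mem hg)
  generalize g * d.e * g⁻¹ = q at *
  obtain ⟨e3, e4⟩ := band_iff.1 e2
  obtain ⟨e5, e6⟩ := band_iff.1 e4
  have rz := ((re.mul rq).mul ri).mul rqi
  refine ⟨h1, fun K ha he hx => ?_, _, (((rq.mul ri).mul rqi).mul re).eq' rz e5, rfl, ?_⟩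
  · obtain ⟨w, hw, rfl⟩ := hψ.of_memL _ (by decide) rq e3
    obtain ⟨l, -, rfl⟩ := List.mem_map.1 hw
    exact wval_blk_mem (by
      simpa [sval, LD.val, lv, LD.a, LD.e, mul_assoc] using And.intro ha (And.intro he hx)) l
  · refine (bor_iff.1 e6).imp (fun e => ?_) fun e => (bor_iff.1 e).imp (fun e => ?_) fun e => ?_
    · simpa [sval, LD.val, lv, LD.a, mul_assoc] using rz.eq' (hψ.rep [2, 4, 6] (by decide)) e
    · simpa [sval, LD.val, lv, LD.a, mul_assoc] using rz.eq' (hψ.rep [7, 5, 3] (by decide)) e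
    · simp only [band_iff] at e
      exact h.mem_J_of_comm hq
        (by simpa [sval, LD.val, lv] using rq.comm (hψ.rep [2] (by decide)) e.1)
        (by simpa [sval, LD.val, lv] using rq.comm (hψ.rep [4] (by decide)) e.2.1)
        (by simpa [sval, LD.val, lv] using rq.comm (hψ.rep [6] (by decide)) e.2.2)

theorem finH5 {g : G} (hg : g ∈ d.H) (h1 : g ∈ C1 d.e) : g ∈ d.J := by
  obtain ⟨ψ, hψ, hi⟩ := h.wm6
  obtain ⟨c, hc, e⟩ := hψ.all le_rfl gl_ch6 chkH5 hg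
  have e := bimp_iff.1 e (hc.cm hi (hψ.rep [5, 6] (by decide))
    (by simpa [sval, LD.val, lv, LD.e] using mem_C1.1 h1))
  simp only [band_iff] at e
  exact h.mem_J_of_comm hg
    (by simpa [sval, LD.val, lv] using hc.comm (hψ.rep [2] (by decide)) e.1)
    (by simpa [sval, LD.val, lv] using hc.comm (hψ.rep [4] (by decide)) e.2.1)
    (by simpa [sval, LD.val, lv] using hc.comm (hψ.rep [6] (by decide)) e.2.2)

omit [Finite G] in
theorem t_e : d.t * d.e * d.t⁻¹ = d.e⁻¹ := by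
  rw [← h.jv_e, h.act_t, ← h.jv_neg]; congr 1; decide

omit [Finite G] in
theorem t_ne : d.t ≠ 1 := fun e => absurd (h.act_uniq h.act_t (e ▸ LD.Act.one)) (by decide)

omit [Finite G] in
theorem a3 : d.a ^ 3 = 1 := h.exp _ d.a_mem

omit [Finite G] in
theorem nx_of_mem {g : G} (hg : g ∈ N (zpowers d.a)) : NX d.a g := by
  rcases mem_zpowers_three h.a3 (conj_mem_of_mem_N hg (mem_zpowers _)) with e | e | e
  · exact absurd (by simpa using e) h.a_ne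
  exacts [Or.inl e, Or.inr e]

end Loc0

namespace Loc

variable {d : LD G} (h : Loc d)
include h

theorem mem_N_of {y g : G} (hy : y ∈ d.J) (hC : C1 y ≤ N d.J) (hg : g * y * g⁻¹ ∈ d.J) :
    g ∈ N d.J := by
  obtain ⟨n, hn, e⟩ := h.fusJ hy hg
  simpa using mul_mem hn (hC (x := n⁻¹ * g) (mem_C1_iff_conj.2 (by
    rw [show n⁻¹ * g * y * (n⁻¹ * g)⁻¹ = n⁻¹ * (g * y * g⁻¹) * n by group, ← e]; group)))

theorem H_le_K : d.H ≤ N (zpowers d.a) := fun _ hg =>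
  mem_N_zpowers (Or.inl (mem_C1_iff_conj.1 (h.H_le_C1 hg)))

theorem cent_conj {P : Subgroup G} {g : G} {A : M3} (hA : d.Act g A) (hg : g ∈ P) {v : V3}
    (hv : C1 (d.jv (A *ᵥ v)) ≤ P) : C1 (d.jv v) ≤ P := fun k hk => by
  have h1 : g * k * g⁻¹ ∈ P := hv (by rw [← hA, ← cj_C1, conj_mem_cj]; exact hk)
  simpa [mul_assoc] using mul_mem (mul_mem (inv_mem hg) h1) hg

variable (hA : ∀ g A, d.Act g A → A ∈ B0 ∨ -A ∈ B0)
include hA

theorem actN {g : G} (hg : g ∈ N d.J) : ∃ P ∈ B0, d.Act g P ∨ d.Act g (-P) := by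
  obtain ⟨A, h1⟩ := h.exists_act hg
  rcases hA g A h1 with e | e
  · exact ⟨A, e, Or.inl h1⟩
  · exact ⟨-A, e, Or.inr (by rwa [neg_neg])⟩

theorem N_le_K : N d.J ≤ N (zpowers d.a) := fun g hg => by
  obtain ⟨A, h1⟩ := h.exists_act hg
  exact mem_N_zpowers (h.nx_of_B0 h1 (hA g A h1))

theorem nx_of {g : G} (hg : g * d.a * g⁻¹ ∈ d.J) : NX d.a g := by
  obtain ⟨n, hn, e⟩ := h.fusJ d.a_mem hg
  unfold NX
  rw [← e]
  exact h.nx_of_mem (h.N_le_K hA hn)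

theorem cent_sum {v : V3} (hv : v 0 + v 1 + v 2 ≠ 0) : C1 (d.jv v) ≤ N d.J := by
  have h1 : ∀ v : V3, v 0 + v 1 + v 2 ≠ 0 → B0.any (fun P => B0.all fun A =>
      decide ((A *ᵥ (P *ᵥ v) = P *ᵥ v → A = 1 ∨ A = mT) ∧ (-A) *ᵥ (P *ᵥ v) ≠ P *ᵥ v)) = true := by
    decide +kernel
  obtain ⟨P, hP, h2⟩ := List.any_eq_true.1 (h1 v hv)
  have h3 := ball_of_all h2
  obtain ⟨k, hk, h4⟩ := h.exists_B_act hP
  refine h.cent_conj h4 (h.B_le_N hk) ?_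
  refine h.sig.le_N_of_refl h.exp h.ab (le_C1_iff.2 (h.ab (d.jv_mem _))) (ρ := d.t)
    (y := d.jv ![0, -1, 1]) (d.jv_mem _) (by rw [pow_two, h.tt]; exact one_mem _) (fun j hj => ?_)
    fun g hg hn => ?_
  · obtain ⟨v, rfl⟩ := h.jv_surj hj
    rw [h.act_t, ← h.jv_neg, ← h.jv_add, h.jv_mem_zp]
    clear hj
    revert v; decide +kernel
  · obtain ⟨A, h5, e | e⟩ := h.actN hA hn
    · rcases (h3 A h5).1 ((h.fix_iff e).1 hg) with rfl | rfl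
      exacts [Or.inl (h.mem_J' e), Or.inr (h.div_mem_J e h.act_t)]
    · exact absurd ((h.fix_iff e).1 hg) (h3 A h5).2

variable {r : G} (hr : d.Act r (-1))
include hr

theorem cent_e : C1 d.e ≤ N d.J := by
  have key : ∀ g ∈ C1 d.e, g ∈ N d.J → d.Act g 1 ∨ d.Act g (-1 * mT) := fun g hg hn => by
    have h1 : ∀ A ∈ B0, (A *ᵥ ![0, -1, 1] = ![0, -1, 1] → A = 1) ∧
      ((-A) *ᵥ ![0, -1, 1] = ![0, -1, 1] → -A = -1 * mT) := ball_of_all (by decide +kernel)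
    rw [← h.jv_e] at hg
    obtain ⟨A, h5, e | e⟩ := h.actN hA hn
    · exact Or.inl ((h1 A h5).1 ((h.fix_iff e).1 hg) ▸ e)
    · exact Or.inr ((h1 A h5).2 ((h.fix_iff e).1 hg) ▸ e)
  have hZ : zpowers d.e ≤ d.J := zpowers_le.2 h.e_mem
  refine cc9_sec (ρ := r * d.t) le_rfl (le_C1_iff.2 (h.ab h.e_mem)) h.e_mem
    (h.jv_e ▸ h.jv_ne (by decide)) h.exp h.ab h.card_J (fun y hy h1 g hg h2 => ?_) d.a_mem
    (d.jv_mem ![1, 0, 0]) ?_ ?_ (fun g hg h2 => ?_) fun g hg hn => (key g hg hn).imp h.mem_J'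
      fun e => h.div_mem_J e (hr.mul h.act_t)
  · have h3 : g * y * g⁻¹ ∈ d.J := by simpa using mul_mem (hZ h2) hy
    obtain ⟨v, rfl⟩ := h.jv_surj hy
    by_cases h4 : v 0 + v 1 + v 2 = 0
    · have h5 : ∀ v : V3, v 0 + v 1 + v 2 = 0 → (v = 0 ∨ v = ![0, -1, 1] ∨ v = -![0, -1, 1]) ∨
          ∃ k l : ZMod 3, ![1, 1, 1] = k • v + l • ![0, -1, 1] := by decide +kernel
      rw [← h.jv_e, h.jv_mem_zp] at h1
      obtain ⟨k, l, e⟩ := (h5 v h4).resolve_left h1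
      have h6 : g * d.a * g⁻¹ = (g * d.jv v * g⁻¹) ^ k.val * d.e ^ l.val := by
        rw [← d.jv_a, e, h.jv_add, h.jv_smul, h.jv_smul, h.jv_e, conj_pow, ← conj_mul,
          mem_C1_iff_conj.1 (C1_le_C1_pow _ l.val hg)]
      obtain ⟨y, e1⟩ := h.jv_surj h3
      rw [← e1, ← h.jv_neg, ← h.jv_add, ← h.jv_e, h.jv_mem_zp] at h2
      have h7 := h.nx_of hA (h6 ▸ mul_mem (pow_mem h3 _) (pow_mem h.e_mem _))
      refine h.finH5 (h.cent (mem_C1_iff_conj.2 (h7.resolve_right fun e2 => ?_))) hg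
      rw [h6, ← e1, ← h.jv_e, ← h.jv_smul, ← h.jv_smul, ← h.jv_add, ← d.jv_a, ← h.jv_neg] at e2
      have h8 := h.jv_inj e2
      rw [← sub_eq_add_neg, sub_eq_iff_eq_add, sub_eq_iff_eq_add, sub_eq_iff_eq_add] at h2
      clear e1 h6 h3 hy e2 h1 h4
      rcases h2 with rfl | rfl | rfl <;> revert v k l <;> decide +kernel
    · rcases key g hg (h.mem_N_of hy (h.cent_sum hA h4) h3) with e | e
      · exact h.mem_J' e
      · rw [e, ← h.jv_neg, ← h.jv_add, ← h.jv_e, h.jv_mem_zp] at h2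
        clear hy h1 h3
        exfalso
        revert v; decide +kernel
  · rw [← d.jv_a, ← h.jv_e, h.jv_mem_zp]; decide
  · rw [← h.jv_e, h.jv_mem_zp]; decide
  · rcases h.nx_of hA (by simpa using mul_mem (hZ h2) (d.jv_mem ![1, 0, 0])) with e | e <;>
      rw [e, ← d.jv_a, ← h.jv_e] at h2 <;> simp only [← h.jv_neg, ← h.jv_add, h.jv_mem_zp] at h2 <;>
      revert h2 <;> decide

theorem cent_all (y : G) (hy : y ∈ d.J) (h1 : y ≠ 1) : C1 y ≤ N (zpowers d.a) := by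
  obtain ⟨v, rfl⟩ := h.jv_surj hy
  have h2 : ∀ v : V3, v 0 + v 1 + v 2 = 0 → v = 0 ∨ v = ![1, 1, 1] ∨ v = -![1, 1, 1] ∨
    B0.any (fun P => decide (P *ᵥ v = ![0, -1, 1])) = true := by decide +kernel
  by_cases h3 : v 0 + v 1 + v 2 = 0
  · rcases h2 v h3 with rfl | rfl | rfl | h4
    · exact absurd d.jv_zero h1
    · rw [d.jv_a]; exact h.cent.trans h.H_le_K
    · rw [h.jv_neg, d.jv_a, C1_inv]; exact h.cent.trans h.H_le_K
    · obtain ⟨P, hP, h4⟩ := List.any_eq_true.1 h4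
      obtain ⟨k, hk, h5⟩ := h.exists_B_act hP
      refine h.cent_conj h5 (h.H_le_K (d.B_le_H hk)) ?_
      rw [of_decide_eq_true h4, h.jv_e]
      exact (h.cent_e hA hr).trans (h.N_le_K hA)
  · exact (h.cent_sum hA h3).trans (h.N_le_K hA)

theorem seK : SE 3 (N (zpowers d.a)) := h.se h.H_le_K (h.N_le_K hA) (h.cent_all hA hr)

omit hA in
theorem div_mem_H {k : G} (hk : k * d.a * k⁻¹ = d.a⁻¹) : k * r⁻¹ ∈ d.H :=
  h.cent (mem_C1_iff_conj.2 (by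
    have h1 : r⁻¹ * d.a * r = d.a⁻¹ := by
      rw [← _root_.inv_inj, inv_inv, show (r⁻¹ * d.a * r)⁻¹ = r⁻¹ * d.a⁻¹ * r by group, ← h.inv_a hr]; group
    rw [show k * r⁻¹ * d.a * (k * r⁻¹)⁻¹ = k * (r⁻¹ * d.a * r) * k⁻¹ by group, h1,
      show k * d.a⁻¹ * k⁻¹ = (k * d.a * k⁻¹)⁻¹ by group, hk, inv_inv]))

omit hA in
theorem conj_e {k : G} (hk : k * d.a * k⁻¹ = d.a⁻¹) : ∃ g ∈ d.H, g * d.e * g⁻¹ = k * d.e * k⁻¹ := by
  refine ⟨k * r⁻¹ * d.t, mul_mem (h.div_mem_H hr hk) (d.B_le_H d.t_mem), ?_⟩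
  have h1 : r * d.e * r⁻¹ = d.e⁻¹ := by rw [← h.jv_e, hr, ← h.jv_neg]; congr 1; decide
  rw [show k * r⁻¹ * d.t * d.e * (k * r⁻¹ * d.t)⁻¹ = k * r⁻¹ * (d.t * d.e * d.t⁻¹) * r * k⁻¹ by group,
    h.t_e, ← h1]
  group

theorem sq_t {k : G} (hk : k ∈ N (zpowers d.a)) (e : k * k = d.t) : k ∈ d.H := by
  refine h.cent (mem_C1_iff_conj.2 ((h.nx_of_mem hk).resolve_right fun h1 => ?_))
  obtain ⟨g, hg, h2⟩ := h.conj_e hr h1
  obtain ⟨-, -, z, h3, h4, h5⟩ := h.finH4 hg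
  rw [h2] at h3 h4 h5
  have h6 : k * z * k⁻¹ = z := by
    rw [← h4, show k * (d.e * (k * d.e * k⁻¹) * d.e⁻¹ * (k * d.e * k⁻¹)⁻¹) * k⁻¹ =
      k * d.e * k⁻¹ * (k * k * d.e * (k * k)⁻¹) * (k * d.e * k⁻¹)⁻¹ * (k * k * d.e * (k * k)⁻¹)⁻¹ by
        group, e, h.t_e, inv_inv, h3, h4]
  rcases h5 with rfl | rfl | h5
  · exact h.a_ne_inv (h6.symm.trans h1)
  · rw [show k * d.a⁻¹ * k⁻¹ = (k * d.a * k⁻¹)⁻¹ by group, h1, inv_inv] at h6
    exact h.a_ne_inv h6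
  · have h7 : ∀ P ∈ B0, P * P ≠ mT ∧ -P * -P ≠ mT := ball_of_all (by decide +kernel)
    obtain ⟨P, hP, h8 | h8⟩ := h.actN hA (h.mem_N_of h.e_mem (h.cent_e hA hr) h5)
    · exact (h7 P hP).1 (h.act_uniq (h8.mul h8) (e ▸ h.act_t))
    · exact (h7 P hP).2 (h.act_uniq (h8.mul h8) (e ▸ h.act_t))

omit hA in
theorem exists_cent {s : G} (h1 : s * d.a * s⁻¹ = d.a⁻¹) (h2 : s * s = 1) :
    ∃ y ∈ d.H, y ≠ 1 ∧ y ^ 3 = 1 ∧ y * s = s * y := by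
  let Q : Subgroup G := closure {q | ∃ g ∈ d.H, g * d.e * g⁻¹ = q}
  have hQ : Q ≤ d.S := by
    rw [closure_le]
    rintro _ ⟨g, hg, rfl⟩
    exact (h.finH4 hg).2.1 _ (Loc0.J_le_S d.a_mem) (Loc0.J_le_S h.e_mem) Loc0.x_mem_S
  have hn : ∀ q ∈ Q, s * q * s⁻¹ ∈ Q := (Nrm.closure (A := zpowers s) (by
    rintro m hm _ ⟨g, hg, rfl⟩
    rcases mem_zpowers_order_two' h2 hm with rfl | rfl
    · exact subset_closure ⟨g, hg, by group⟩
    · obtain ⟨k, hk, e⟩ := h.conj_e hr (k := m * g) (by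
        rw [show m * g * d.a * (m * g)⁻¹ = m * (g * d.a * g⁻¹) * m⁻¹ by group,
          mem_C1_iff_conj.1 (h.H_le_C1 hg), h1])
      exact subset_closure ⟨k, hk, by rw [e]; group⟩)) s (mem_zpowers s)
  by_contra hc
  push Not at hc
  have h3 := comm_of_inverts (inverts_of_fpf h2 hn fun q hq e => by
    by_contra h4
    obtain ⟨y, hy, e1⟩ := exists_mem_orderOf_eq Nat.prime_three (X := zpowers q) (by
      obtain ⟨n, hn⟩ := (IsPGroup.iff_card (p := 3)).1 (h.isPGroup_S.to_le (zpowers_le.2 (hQ hq)))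
      rcases n with _ | n
      · exact absurd (zpowers_eq_bot.1 (card_eq_one_iff.1 hn)) h4
      · rw [hn]; exact dvd_pow_self 3 (by omega))
    exact hc y (d.B_le_H (Loc0.S_le_B (zpowers_le.2 (hQ hq) hy)))
      (fun e2 => by rw [e2, orderOf_one] at e1; omega) (e1 ▸ pow_orderOf_eq_one y)
      (mem_C1.1 (C1_le_C1_of_mem_zpowers hy (mem_C1.2 e))).symm) d.x
    (subset_closure ⟨d.w, d.w_mem, h.wd⟩) d.e (subset_closure ⟨1, one_mem _, by group⟩)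
  rw [← mem_C1, ← h.jv_e, h.fix_iff h.act_x] at h3
  revert h3; decide

omit hA hr in
theorem mem_E' {j : G} (hj : j ∈ d.J) (ht : j ∈ C1 d.t) :
    j ∈ D9 (d.jv ![1, 1, 1]) (d.jv ![1, 0, 0]) := by
  obtain ⟨v, rfl⟩ := h.jv_surj hj
  rw [h.fix_iff' h.act_t] at ht
  refine h.mem_D9 ?_
  clear hj
  revert v; decide +kernel

theorem N_R_le : N (C (zpowers d.w ⊔ zpowers (d.j1 * d.w * d.j1⁻¹))) ⊓ C1 d.t ≤ N (zpowers d.a) := by
  have hw' : d.j1 * d.w * d.j1⁻¹ ∈ d.H :=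
    mul_mem (mul_mem (d.J_le_H d.j1_mem) d.w_mem) (inv_mem (d.J_le_H d.j1_mem))
  have wt : d.w ∈ C1 d.t := mem_C1.2 (by rw [← h.ww, mul_assoc])
  have jt : d.j1 ∈ C1 d.t := mem_C1_iff_conj'.2 h.t1
  have w't : d.j1 * d.w * d.j1⁻¹ ∈ C1 d.t := mul_mem (mul_mem jt wt) (inv_mem jt)
  set R := zpowers d.w ⊔ zpowers (d.j1 * d.w * d.j1⁻¹) with hR
  have m1 : d.w ∈ R := mem_sup_left (mem_zpowers _)
  have m2 : d.j1 * d.w * d.j1⁻¹ ∈ R := mem_sup_right (mem_zpowers _)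
  have aR : d.a ∈ C R := le_C1_iff.1 (sup_le (zpowers_le.2 (h.H_le_C1 d.w_mem))
    (zpowers_le.2 (h.H_le_C1 hw')))
  have tR : d.t ∈ C R := le_C1_iff.1 (sup_le (zpowers_le.2 wt) (zpowers_le.2 w't))
  have Rt : C R ≤ C1 d.t := (C_le_C1 m1).trans (h.ww ▸ pow_two d.w ▸ C1_le_C1_pow _ 2)
  have jR : d.j1 ∈ N R := by
    refine mem_N_of_cj_le ?_
    rw [hR, CfsgFT.cj_sup, cj_zpowers, cj_zpowers]
    refine sup_le le_sup_right (zpowers_le.2 ((h.finH1 (mul_mem (mul_mem (d.J_le_H d.j1_mem) hw')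
      (inv_mem (d.J_le_H d.j1_mem))) (mem_C1.1 (mul_mem (mul_mem jt w't) (inv_mem jt))) ?_).1 _ m1 m2))
    rw [conj_pow, conj_pow, show d.w ^ 4 = d.w * d.w * (d.w * d.w) by
      simp only [pow_succ, pow_zero, one_mul, mul_assoc], h.ww, h.tt]
    simp
  have hab := h.b9 (v := ![1, 1, 1]) (w := ![1, 0, 0]) (by decide)
  have hEY : D9 (d.jv ![1, 1, 1]) (d.jv ![1, 0, 0]) ≤ N (C R) ⊓ C1 d.t :=
    D9_le (by rw [d.jv_a]; exact ⟨le_N _ aR, Rt aR⟩) (by rw [d.jv_e0]; exact ⟨(nrm_N_C R).le_N jR, jt⟩)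
  have hK := d.J_le_H.trans h.H_le_K
  refine ft3_le (h.seK hA hr) hab (hK (d.jv_mem _)) (hK (d.jv_mem _))
    (X := C R) ⟨le_inf (le_N _) Rt, (nrm_N _).mono inf_le_left⟩ ?_ (zpowers_le.2 tR)
    (fun g hg z hz => mem_C1.1 (C1_le_C1_of_mem_zpowers hz (Rt hg)))
    (isP_zp (by rw [pow_two, h.tt])) aR (hK d.a_mem) h.a_ne h.a3
    (fun g hg e => h.finH2 (h.cent (mem_C1.2 e)) (C_le_C1 m1 hg) (C_le_C1 m2 hg))
    fun y hy h1 z _ e => ?_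
  · refine sylIn_of_sq hab.isPGroup hEY fun g hg hn => Or.inl (h.mem_E' ?_ (pow_mem (mem_inf.1 hg).2 2))
    have h2 : ∀ P ∈ B0, (P * mT = mT * P → P * P = 1) ∧ (-P * mT = mT * -P → -P * -P = 1) :=
      ball_of_all (by decide +kernel)
    rw [pow_two]
    obtain ⟨P, hP, e | e⟩ := h.actN hA (h.mem_N_of (d.jv_mem _) (h.cent_sum hA (by decide))
      (Loc0.D9_le_J _ _ (conj_mem_of_mem_N hn (right_mem_D9 _ _))))
    · exact h.mul_mem_J e e ((h2 P hP).1 (h.comm_act e h.act_t (mem_inf.1 hg).2))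
    · exact h.mul_mem_J e e ((h2 P hP).2 (h.comm_act e h.act_t (mem_inf.1 hg).2))
  · have h2 := orderOf_dvd_of_pow_eq_one ((pow_mul z 2 36).trans (h.finH4 (h.cent (nx_sq
      (h.nx_of_mem (h.cent_all hA hr y (Loc0.D9_le_J _ _ hy) h1 (mem_C1.2 e)))))).1)
    constructor <;> intro e <;> rw [e] at h2 <;> norm_num at h2

theorem exists_T_le : ∃ T, SylIn 2 T (C1 d.t) ∧ T ≤ N (zpowers d.a) := by
  haveI : Fact (Nat.Prime 2) := ⟨Nat.prime_two⟩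
  have hY := h.N_R_le hA hr
  have wt : d.w ∈ C1 d.t := mem_C1.2 (by rw [← h.ww, mul_assoc])
  have jt : d.j1 ∈ C1 d.t := mem_C1_iff_conj'.2 h.t1
  have w't : d.j1 * d.w * d.j1⁻¹ ∈ C1 d.t := mul_mem (mul_mem jt wt) (inv_mem jt)
  have hw' : d.j1 * d.w * d.j1⁻¹ ∈ d.H :=
    mul_mem (mul_mem (d.J_le_H d.j1_mem) d.w_mem) (inv_mem (d.J_le_H d.j1_mem))
  have ww' : d.j1 * d.w * d.j1⁻¹ * (d.j1 * d.w * d.j1⁻¹) = d.t := by
    rw [conj_mul, h.ww, mem_C1_iff_conj.1 jt]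
  have p4 : ∀ k : G, k * k = d.t → k ^ 2 ^ 2 = 1 := fun k e => by
    rw [show k ^ 2 ^ 2 = k * k * (k * k) by
      rw [show 2 ^ 2 = 2 * 2 by rfl, pow_mul, pow_two, pow_two],
      e, h.tt]
  have hp : IsPGroup 2 (zpowers d.w ⊔ zpowers (d.j1 * d.w * d.j1⁻¹) : Subgroup G) :=
    Nrm.isPGroup_sup (nrm_zpowers_iff.2 (mem_N_zpowers (Or.inr h.w_inv)))
      (isPGroup_zpowers_of_pow (p4 _ h.ww)) (isPGroup_zpowers_of_pow (p4 _ ww'))
  obtain ⟨T, h1, hT⟩ := exists_sylIn_ge (sup_le (zpowers_le.2 wt) (zpowers_le.2 w't)) hp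
  have m1 : d.w ∈ zpowers d.w ⊔ zpowers (d.j1 * d.w * d.j1⁻¹) := mem_sup_left (mem_zpowers _)
  have m2 : d.j1 * d.w * d.j1⁻¹ ∈ zpowers d.w ⊔ zpowers (d.j1 * d.w * d.j1⁻¹) :=
    mem_sup_right (mem_zpowers _)
  refine ⟨T, hT, by_contra fun h2 => ?_⟩
  obtain ⟨g, hg, h3, h4⟩ := exists_nrm_of_lt (X := T ⊓ N (zpowers d.a)) hT.isPGroup
    (lt_of_le_of_ne inf_le_left fun e => h2 (e ▸ inf_le_right))
  have key : ∀ k ∈ zpowers d.w ⊔ zpowers (d.j1 * d.w * d.j1⁻¹), k ∈ d.H → k * k = d.t →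
      g * k * g⁻¹ ∈ zpowers d.w ⊔ zpowers (d.j1 * d.w * d.j1⁻¹) := fun k hk hk' e => by
    have h5 := conj_mem_of_mem_N h4 (mem_inf.2 ⟨h1 hk, h.H_le_K hk'⟩)
    have h6 : g * k * g⁻¹ * (g * k * g⁻¹) = d.t := by
      rw [conj_mul, e, mem_C1_iff_conj.1 (hT.le hg)]
    exact (h.finH1 (h.sq_t hA hr (mem_inf.1 h5).2 h6) (mem_C1.1 (hT.le (mem_inf.1 h5).1))
      (p4 _ h6)).1 _ m1 m2
  refine h3 ⟨hg, hY ⟨(nrm_N_C _).le_N (mem_N_of_cj_le ?_), hT.le hg⟩⟩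
  rw [CfsgFT.cj_sup, cj_zpowers, cj_zpowers]
  exact sup_le (zpowers_le.2 (key _ m1 d.w_mem h.ww)) (zpowers_le.2 (key _ m2 hw' ww'))

theorem K_eq_top : N (zpowers d.a) = ⊤ := by
  haveI : Fact (Nat.Prime 2) := ⟨Nat.prime_two⟩
  have hK := h.seK hA hr
  refine eq_top_of_isolated h.sig hK h.sylS (Loc0.S_le_B.trans (d.B_le_H.trans h.H_le_K)) h.t_ne h.tt
    fun g hc => ?_
  obtain ⟨T, hT, h1⟩ := h.exists_T_le hA hr
  have ss : ∀ k : G, k * d.t * k⁻¹ * (k * d.t * k⁻¹) = 1 := fun k => by rw [conj_mul, h.tt]; simp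
  obtain ⟨k, hk, h2⟩ := hT.exists_le_cj (zpowers_le.2 (mem_C1.2 hc.eq.symm))
    (isP_zp (by rw [pow_two, ss]))
  have h3 := mem_cj.1 (h2 (mem_zpowers _))
  rw [show k⁻¹ * (g * d.t * g⁻¹) * k = k⁻¹ * g * d.t * (k⁻¹ * g)⁻¹ by group] at h3
  have tH := d.B_le_H d.t_mem
  have h4 : k⁻¹ * g * d.t * (k⁻¹ * g)⁻¹ ∈ d.H := by
    refine h.cent (mem_C1_iff_conj.2 ((h.nx_of_mem (h1 h3)).resolve_right fun e => ?_))
    obtain ⟨y, hy, y1, y3, e1⟩ := h.exists_cent hr e (ss _)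
    obtain ⟨m, hm, e2⟩ := hK.fusion Nat.prime_three (h.H_le_K (d.J_le_H d.a_mem)) h.a_ne h.a3
      (mem_C1.1 (h.H_le_C1 tH)).symm (h.H_le_K hy) y1 y3 e1
    have h5 : m * d.t * m⁻¹ ∈ C1 d.a := by
      rw [← C_zpowers]
      exact nrm_N_C _ m hm _ (C_zpowers d.a ▸ h.H_le_C1 tH)
    rw [e2, mem_C1_iff_conj, e] at h5
    exact h.a_ne_inv h5.symm
  rcases (h.finH1 h4 (mem_C1.1 (hT.le h3)) (by
    rw [show (4 : ℕ) = 2 * 2 by rfl, pow_mul, pow_two (_ * _ * _), ss, one_pow])).2 (ss _) with e | e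
  · exact absurd (conj_eq_one_iff.1 e) h.t_ne
  · rw [show g * d.t * g⁻¹ = k * (k⁻¹ * g * d.t * (k⁻¹ * g)⁻¹) * k⁻¹ by group, e,
      mem_C1_iff_conj.1 hk]

end Loc

end CfsgH9.P43
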