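import Cfsg.Agent.H9.P43Nrm
import Cfsg.Agent.H9.Loc3G

/-! Sylow 3-subgroups, fusion in `J` and strong 3-embedding. -/

set_option autoImplicit false

namespace CfsgH9.P43

open Subgroup CfsgH5 CfsgH6 CfsgFT CfsgH8 CfsgH7 CfsgH3.TC Matrix

universe u
variable {G : Type u} [Group G] [Finite G]

def LD.S (d : LD G) : Subgroup G := d.J ⊔ zpowers d.x

omit [Finite G] in
theorem isP_zp {p : ℕ} {x : G} (hx : x ^ p = 1) : IsPGroup p (zpowers x) :=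
  isPGroup_zpowers_of_pow (k := 1) (by rwa [pow_one])

omit [Finite G] in
theorem nx_sq {a g : G} (h : NX a g) : g ^ 2 ∈ C1 a := by
  rw [mem_C1_iff_conj, show g ^ 2 * a * (g ^ 2)⁻¹ = g * (g * a * g⁻¹) * g⁻¹ by rw [pow_two]; group]
  rcases h with e | e
  · rw [e, e]
  · rw [e, show g * a⁻¹ * g⁻¹ = (g * a * g⁻¹)⁻¹ by group, e, inv_inv]

theorem B0_sq : ∀ P ∈ B0, P * P = 1 ∨ P * P = mX ∨ P * P = mX * mX := ball_of_all (by decide +kernel)
theorem B0_cube : ∀ P ∈ B0, P * P * P = 1 → P = 1 ∨ P = mX ∨ P * mX = 1 :=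
  ball_of_all (by decide +kernel)
theorem x_fix : ∀ v : V3, mX *ᵥ v = v → v = 0 ∨ v = ![1, 1, 1] ∨ v = -![1, 1, 1] := by decide +kernel
theorem x_img : ∀ v : V3, v + mX *ᵥ v + mX *ᵥ (mX *ᵥ v) = 0 → ∃ k : V3, v = k + mX *ᵥ (-k) := by
  decide +kernel

namespace Loc0

variable {d : LD G} (h : Loc0 d)
include h

omit h [Finite G] in
theorem J_le_S : d.J ≤ d.S := le_sup_left
omit h [Finite G] in
theorem x_mem_S : d.x ∈ d.S := mem_sup_right (mem_zpowers _)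
omit h [Finite G] in
theorem S_le_B : d.S ≤ d.B := sup_le d.J_le_B (zpowers_le.2 d.x_mem)

theorem isPGroup_S : IsPGroup 3 d.S := by
  rw [LD.S, sup_comm]
  exact Nrm.isPGroup_sup (nrm_of_le_N (zpowers_le.2 (h.B_le_N d.x_mem)))
    (isP_zp h.cx) h.isPGroup_J

theorem div_J {g k : G} {A : M3} (hg : g ∈ d.H) (hk : k ∈ d.H) (h1 : d.Act g A) (h2 : d.Act k A) :
    g * k⁻¹ ∈ d.J := by
  obtain ⟨A', h3, e⟩ := h.act_inv h2
  exact h.mem_J (mul_mem hg (inv_mem hk)) (mul_eq_one_comm.1 e ▸ h1.mul h3)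

theorem sq_mem_S {g : G} (hg : g ∈ d.B) : g * g ∈ d.S := by
  obtain ⟨P, hP, h1, -⟩ := h.B_act hg
  have h2 := h1.mul h1
  have hH := d.B_le_H (mul_mem hg hg)
  have hx := d.B_le_H d.x_mem
  rcases B0_sq P hP with e | e | e <;> rw [e] at h2
  · exact J_le_S (h.mem_J hH h2)
  · simpa using mul_mem (J_le_S (h.div_J hH hx h2 h.act_x)) x_mem_S
  · exact (mul_mem_cancel_right (inv_mem (mul_mem x_mem_S x_mem_S))).1
      (J_le_S (h.div_J hH (mul_mem hx hx) h2 (h.act_x.mul h.act_x)))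

theorem mem_N_of_le {g : G} (hg : cj g d.J ≤ d.B) : g ∈ N d.J :=
  mem_N.2 (h.eq_J hg (ab_iff.2 fun x hx y hy => by
      have := h.ab.comm (mem_cj.1 hx) (mem_cj.1 hy)
      calc x * y = g * (g⁻¹ * x * g * (g⁻¹ * y * g)) * g⁻¹ := by group
        _ = y * x := by rw [this]; group)
    (fun x hx => by
      have := h.exp _ (mem_cj.1 hx)
      rwa [show g⁻¹ * x * g = g⁻¹ * x * g⁻¹⁻¹ by simp, conj_pow, mul_inv_eq_one, mul_eq_left] at this) (by rw [card_cj, h.card_J]))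

theorem conj_x {y : G} (hy : y ∈ d.H) (h1 : d.Act y mX) (h3 : y ^ 3 = 1) :
    ∃ k ∈ d.H, k * d.e * k⁻¹ = y := by
  obtain ⟨v, hv⟩ := h.jv_surj (h.div_J hy (d.B_le_H d.x_mem) h1 h.act_x)
  rw [eq_mul_inv_iff_mul_eq] at hv
  subst hv
  have h4 : (d.jv v * d.x) ^ 3 = d.jv v * (d.x * d.jv v * d.x⁻¹) *
      (d.x * (d.x * d.jv v * d.x⁻¹) * d.x⁻¹) * d.x ^ 3 := by rw [pow_three, pow_three]; group
  rw [h3, h.cx, h.act_x, h.act_x, ← h.jv_add, ← h.jv_add, mul_one, ← d.jv_zero] at h4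
  obtain ⟨k, hk⟩ := x_img v (h.jv_inj h4).symm
  refine ⟨d.jv k * d.w, mul_mem (d.J_le_H (d.jv_mem _)) d.w_mem, ?_⟩
  rw [hk, h.jv_add, ← h.act_x, h.jv_neg, ← h.wd, LD.e]
  group

/-- elements of order three of `B` are conjugate into `J` -/
theorem conj_into {y : G} (hy : y ∈ d.B) (h3 : y ^ 3 = 1) : ∃ k ∈ d.H, ∃ j ∈ d.J, k * j * k⁻¹ = y := by
  obtain ⟨P, hP, h1, h2⟩ := h.B_act hy
  have h4 : P * P * P = 1 := by
    rw [← pow_three']; exact h.act_uniq (h1.pow 3) (h3 ▸ LD.Act.one)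
  have he : d.e ∈ d.J := h.jv_e ▸ d.jv_mem _
  rcases B0_cube P hP h4 with e | e | e
  · exact ⟨1, one_mem _, y, h2 e, by simp⟩
  · obtain ⟨k, hk, e'⟩ := h.conj_x (d.B_le_H hy) (e ▸ h1) h3
    exact ⟨k, hk, _, he, e'⟩
  · obtain ⟨k, hk, e'⟩ := h.conj_x (inv_mem (d.B_le_H hy)) (h1.inv e) (by rw [inv_pow, h3, inv_one])
    exact ⟨k, hk, _, inv_mem he, by rw [← inv_inv y, ← e']; group⟩

omit [Finite G] in
theorem nx_of_comm {g : G} (hg : g * d.a * g⁻¹ ∈ d.J)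
    (hx : d.x * (g * d.a * g⁻¹) * d.x⁻¹ = g * d.a * g⁻¹) : NX d.a g := by
  obtain ⟨v, hv⟩ := h.jv_surj hg
  rw [← hv, h.act_x] at hx
  rcases x_fix v (h.jv_inj hx) with rfl | rfl | rfl
  · rw [d.jv_zero] at hv
    exact absurd (by simpa using hv.symm) h.a_ne
  · exact Or.inl (by rw [← hv, d.jv_a])
  · exact Or.inr (by rw [← hv, h.jv_neg, d.jv_a])

end Loc0

namespace Loc

variable {d : LD G} (h : Loc d)
include h

theorem C_eq : C1 d.a = d.H := le_antisymm h.cent h.H_le_C1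

theorem N_S_le {g : G} (hg : cj g d.S = d.S) : g ∈ N d.J :=
  h.mem_N_of_le ((cj_mono Loc0.J_le_S).trans (hg.le.trans Loc0.S_le_B))

theorem sylS : SylIn 3 d.S ⊤ := by
  refine sylIn_of_sq h.isPGroup_S le_top fun g _ hg => Or.inr ?_
  have h1 := h.N_S_le (mem_N.1 hg)
  have h2 : g⁻¹ * d.x * g⁻¹⁻¹ ∈ C1 d.a := h.H_le_C1 (d.B_le_H (Loc0.S_le_B
    (conj_mem_of_mem_N (inv_mem hg) Loc0.x_mem_S)))
  have h3 := h.nx_of_comm (conj_mem_of_mem_N h1 d.a_mem) (by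
    calc _ = g * (g⁻¹ * d.x * g⁻¹⁻¹ * d.a * (g⁻¹ * d.x * g⁻¹⁻¹)⁻¹) * g⁻¹ := by group
      _ = _ := by rw [mem_C1_iff_conj.1 h2])
  rw [show g ^ 4 = g ^ 2 * g ^ 2 by rw [← pow_add]]
  exact h.sq_mem_S (h.mem_B (h.cent (nx_sq h3)) (pow_mem h1 2))

/-- the normalizer of `J` controls fusion in `J` -/
theorem fusJ {y g : G} (hy : y ∈ d.J) (hg : g * y * g⁻¹ ∈ d.J) :
    ∃ n ∈ N d.J, n * y * n⁻¹ = g * y * g⁻¹ := by
  haveI : Fact (Nat.Prime 3) := ⟨Nat.prime_three⟩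
  have h1 : d.J ≤ C1 (g * y * g⁻¹) := le_C1_iff.2 (h.ab hg)
  have h2 : cj g d.J ≤ C1 (g * y * g⁻¹) := cj_C1 g y ▸ cj_mono (le_C1_iff.2 (h.ab hy))
  obtain ⟨R, hR, hS⟩ := exists_sylIn_ge h1 h.isPGroup_J
  obtain ⟨c, hc, h3⟩ := hS.exists_le_cj h2 (isPGroup_cj h.isPGroup_J g)
  obtain ⟨m, -, h4⟩ := h.sylS.exists_le_cj le_top hS.isPGroup
  rw [le_cj_iff] at h3 h4
  have h5 := h.mem_N_of_le ((cj_mono hR).trans (h4.trans Loc0.S_le_B))
  have h6 := h.mem_N_of_le (g := m⁻¹ * (c⁻¹ * g)) (by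
    rw [← cj_cj, ← cj_cj]; exact (cj_mono h3).trans (h4.trans Loc0.S_le_B))
  refine ⟨c⁻¹ * g, by simpa using mul_mem (inv_mem h5) h6, ?_⟩
  calc _ = c⁻¹ * (g * y * g⁻¹) * c⁻¹⁻¹ := by group
    _ = _ := mem_C1_iff_conj.1 (inv_mem hc)

theorem se {P : Subgroup G} (hH : d.H ≤ P) (hN : N d.J ≤ P) (hC : ∀ y ∈ d.J, y ≠ 1 → C1 y ≤ P) :
    SE 3 P := by
  refine se_of Nat.prime_three h.sylS (Loc0.S_le_B.trans (d.B_le_H.trans hH))
    (fun g hg => hN (h.N_S_le hg)) fun y hy h1 h3 g hg => ?_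
  obtain ⟨k, hk, j, hj, rfl⟩ := h.conj_into (Loc0.S_le_B hy) h3
  have h4 := hC j hj (fun e => h1 (by simp [e])) (x := k⁻¹ * g * k) (mem_C1.2 (by
    calc _ = k⁻¹ * (g * (k * j * k⁻¹)) * k := by group
      _ = _ := by rw [hg]; group))
  simpa [mul_assoc] using mul_mem (mul_mem (hH hk) h4) (inv_mem (hH hk))

/-- every element of order three is conjugate into `J` -/
theorem conj_J {y : G} (h3 : y ^ 3 = 1) : ∃ k, ∃ j ∈ d.J, k * j * k⁻¹ = y := by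
  haveI : Fact (Nat.Prime 3) := ⟨Nat.prime_three⟩
  obtain ⟨g, -, hg⟩ := h.sylS.exists_le_cj le_top (isP_zp h3)
  obtain ⟨k, -, j, hj, e⟩ := h.conj_into (Loc0.S_le_B (mem_cj.1 (hg (mem_zpowers y))))
    (by rw [show g⁻¹ * y * g = g⁻¹ * y * g⁻¹⁻¹ by simp, conj_pow, h3]; simp)
  refine ⟨g * k, j, hj, ?_⟩
  calc _ = g * (k * j * k⁻¹) * g⁻¹ := by group
    _ = y := by rw [e]; group

theorem exists_lam : ∃ f : d.H →* Multiplicative (ZMod 3), ∀ g : d.H, g = d.j1 → f g ≠ 1 := by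
  let ω : Multiplicative (ZMod 3) := Multiplicative.ofAdd 1
  obtain ⟨φ, hφ⟩ := exists_hom_of_bd (vK := subVal (d.val 1 1) 6) (vG := lv [ω, ω, ω, 1, 1, 1])
    (n := 6) (N := 648) (bd6 (Prod.ext (subVal_zero _ _) rfl)
      (((h.rels 1 1).subVal rfl (by decide)).prod (by
        intro w hw; revert w; decide +kernel))) h.card.ge (gcl_subVal_top _ _)
  refine ⟨φ, fun g e => ?_⟩
  obtain rfl : g = subVal (d.val 1 1) 6 1 := Subtype.ext (e.trans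
    (coe_subVal (val := d.val 1 1) (n := 6) (a := 1) le_rfl (by norm_num)).symm)
  exact (hφ 1 le_rfl (by norm_num)).trans_ne (by decide)

theorem cube_mem {y : G} (hy : y ∈ d.S) : y ^ 3 ∈ zpowers d.a := by
  obtain ⟨k, hk⟩ := h.isPGroup_S ⟨y, hy⟩
  obtain ⟨P, hP, h1, -⟩ := h.B_act (Loc0.S_le_B hy)
  have h2 : P ^ 3 ^ k = 1 := h.act_uniq (h1.pow _) (by
    rw [show y ^ 3 ^ k = 1 from congrArg Subtype.val hk]; exact LD.Act.one)
  have h3 : ∀ P ∈ B0, (P * P * P = 1 ∧ ∀ v : V3, P *ᵥ v = v → P = 1 ∨ v = 0 ∨ v = ![1, 1, 1] ∨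
    v = -![1, 1, 1]) ∨ (P * P = 1 ∧ P ≠ 1) := ball_of_all (by decide +kernel)
  rcases h3 P hP with ⟨e, h4⟩ | ⟨e, h4⟩
  · obtain ⟨v, hv⟩ := h.jv_surj (h.mem_J' (by rw [← e, ← pow_three']; exact h1.pow 3))
    have h5 := h1 v
    rw [hv, ((Commute.refl _).pow_right 3).eq, mul_inv_cancel_right, ← hv] at h5
    rcases h4 v (h.jv_inj h5).symm with rfl | rfl | rfl | rfl
    · rw [h.exp y (h.mem_J' h1)]; exact one_mem _
    · rw [← hv, d.jv_zero]; exact one_mem _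
    · rw [← hv, d.jv_a]; exact mem_zpowers _
    · rw [← hv, h.jv_neg, d.jv_a]; exact inv_mem (mem_zpowers _)
  · exfalso
    obtain ⟨m, hm⟩ : Odd (3 ^ k) := Odd.pow (by decide)
    rw [hm, pow_succ, pow_mul, pow_two, e, one_pow, one_mul] at h2
    exact h4 h2

/-- the non-real case with small automizer -/
theorem index_three (hN : N d.J ≤ d.B) (nr : ∀ g, g * d.a * g⁻¹ ≠ d.a⁻¹) :
    ∃ L : Subgroup G, L.Normal ∧ L.index = 3 := by
  obtain ⟨f, hf⟩ := h.exists_lam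
  have hc : ∀ k y : d.H, f (k * y * k⁻¹) = f y := fun k y => by
    rw [map_mul, map_mul, map_inv, mul_right_comm, mul_inv_cancel, one_mul]
  have hS : d.S ≤ d.H := Loc0.S_le_B.trans d.B_le_H
  have h1 : d.S ⊓ D ⊤ ≤ f.ker.map d.H.subtype := by
    refine h.sylS.inf_D_le Nat.prime_three fun y hy g _ hg => ?_
    refine ⟨⟨y, hS hy⟩⁻¹ * ⟨_, hS hg⟩, ?_, rfl⟩
    rw [SetLike.mem_coe, MonoidHom.mem_ker, map_mul, map_inv, inv_mul_eq_one]
    by_cases h3 : y ^ 3 = 1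
    · obtain ⟨k, hk, j, hj, rfl⟩ := h.conj_into (Loc0.S_le_B hy) h3
      obtain ⟨k', hk', j', hj', e⟩ := h.conj_into (Loc0.S_le_B hg) (by rw [conj_pow, h3]; simp)
      obtain ⟨n, hn, e'⟩ := h.fusJ (g := k'⁻¹ * g * k) hj (by
        rw [show k'⁻¹ * g * k * j * (k'⁻¹ * g * k)⁻¹ = k'⁻¹ * (g * (k * j * k⁻¹) * g⁻¹) * k' by group,
          ← e]; simpa [mul_assoc] using hj')
      have hn' := d.B_le_H (hN hn)
      rw [← hc (⟨k', hk'⟩ * ⟨n, hn'⟩ * ⟨k, hk⟩⁻¹)]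
      congr 1
      apply Subtype.ext
      change k' * n * k⁻¹ * (k * j * k⁻¹) * (k' * n * k⁻¹)⁻¹ = g * (k * j * k⁻¹) * g⁻¹
      calc _ = k' * (n * j * n⁻¹) * k'⁻¹ := by group
        _ = _ := by rw [e']; group
    · have a3 := h.exp _ d.a_mem
      have h4 := h.cube_mem hg
      rw [conj_pow] at h4
      have h5 : g ∈ C1 d.a := by
        rw [mem_C1_iff_conj]
        rcases mem_zpowers_three a3 (h.cube_mem hy) with e | e | e
        · exact absurd e h3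
        · rw [e] at h4
          rcases mem_zpowers_three a3 h4 with e | e | e
          exacts [absurd (by simpa using e) h.a_ne, e, absurd e (nr g)]
        · rw [e, ← conj_inv, inv_mem_iff] at h4
          rcases mem_zpowers_three a3 h4 with e | e | e
          exacts [absurd (by simpa using e) h.a_ne, e, absurd e (nr g)]
      exact (hc ⟨g, h.cent h5⟩ ⟨y, hS hy⟩).symm
  obtain ⟨L, -, h2, h3⟩ := exists_normalIn_relIndex_eq_of_D (M := (⊤ : Subgroup G)) Nat.prime_three (by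
    by_contra h2
    have hj := Loc0.J_le_S d.j1_mem
    obtain ⟨g, hg, e⟩ := h1 ⟨hj, h.sylS.le_D Nat.prime_three h2 hj⟩
    exact hf g e hg)
  exact ⟨L, nrm_top_iff.1 h2.nrm, by rwa [relIndex_top_right] at h3⟩

end Loc

end CfsgH9.P43
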