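import Cfsg.Agent.H9.SE2

set_option autoImplicit false
set_option linter.unusedSectionVars false
set_option maxHeartbeats 400000

/-! SE library, part 3: a semiregular family `A` centralised by `E`: (DI), (M0), (CY), (NV). -/

namespace CfsgSE

open Subgroup CfsgH5 CfsgH6 CfsgFT CfsgSZ CfsgSZ.PS
open scoped commutatorElement

universe u

variable {G Ω : Type u} [Group G] [Finite G] [MulAction G Ω]
  {a b c d e : Ω} {X Y T B : Subgroup G} {u t x y j k g : G} {p r : ℕ} {A : Ω → Subgroup G}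

/-- an equivariant family of semiregular `r`-groups centralised by the involutions at the point. -/
structure Fam (A : Ω → Subgroup G) (r : ℕ) : Prop where
  pr : r.Prime
  grp : ∀ a, IsPGroup r (A a)
  ne : ∀ a, A a ≠ ⊥
  le : ∀ a, A a ≤ St G a
  cjA : ∀ (g : G) a, cj g (A a) = A (g • a)
  sr : ∀ a b, a ≠ b → A a ⊓ St G b = ⊥
  cE : ∀ a, EE G a ≤ C (A a)

/-- 2-transitivity. -/
def Two (G Ω : Type u) [Group G] [MulAction G Ω] : Prop :=
  ∀ a b c d : Ω, a ≠ b → c ≠ d → ∃ g : G, g • a = c ∧ g • b = d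

/-- a `p`-group containing a subgroup with a unique fixed point fixes that point. -/
theorem le_St_of_fix1 (hp : p.Prime) (hT : IsPGroup p T) (h : Y ≤ T) (h1 : Y ≤ St G a)
    (h2 : ∀ b : Ω, Y ≤ St G b → b = a) : T ≤ St G a := by
  have := eq_of_nilpotent_of_N_le (nilpotent_of_isPGroup hp hT) (inf_le_left (b := St G a))
    fun g hg => ⟨hg.1, h2 _ ((le_inf h h1).trans (le_St_smul inf_le_right hg.2))⟩
  exact this.ge.trans inf_le_right

/-- a `p`-group acting with every element trivial or fixed point free has abelian image. -/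
theorem D_le_C_of_dich (hp : p.Prime) (h2 : p ≠ 2) (hr : r.Prime) (hX : IsPGroup p X)
    (hB : IsPGroup r B) (h0 : B ≠ ⊥) (hn : Nrm X B) (h : ∀ x ∈ X, x ∈ C B ∨ B ⊓ C1 x = ⊥) :
    D X ≤ C B := by
  by_cases e : p = r
  · subst e
    refine (D_le X).trans fun x hx => (h x hx).resolve_right ?_
    rw [← C_zpowers]
    exact inf_C_ne_bot_of_isPGroup hp hB (hX.to_le (zpowers_le.2 hx)) (hn.mono (zpowers_le.2 hx)) h0
  have n1 : Nrm X (X ⊓ C B) := (Nrm.self X).inf hn.C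
  have n2 : Nrm B (X ⊓ C B) := nrm_of_le_C (le_C_comm.1 inf_le_right)
  have i : B ⊓ X = ⊥ := by
    have := Fact.mk hp; have := Fact.mk hr
    exact disjoint_iff.1 (IsPGroup.disjoint_of_ne r p (Ne.symm e) B X hB hX)
  have s : SemiReg (quo (X ⊓ C B) B) (quo (X ⊓ C B) X) := fun y hy y1 => by
    obtain ⟨x, x1, x2, rfl⟩ := mem_img'.1 hy
    refine eq_bot_iff.2 fun z hz => ?_
    obtain ⟨w, w1, w2, rfl⟩ := mem_img'.1 hz.1
    have f := mem_C1.1 hz.2
    rw [← map_mul, ← map_mul, qm_eq_iff] at f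
    have f1 : (w * x)⁻¹ * (x * w) ∈ B ⊓ X := ⟨by
      have := mul_mem (hn x⁻¹ (inv_mem x1) _ (inv_mem w1)) w1
      simpa [mul_assoc] using this, f.1⟩
    rw [i, mem_bot, inv_mul_eq_one] at f1
    have f2 := (h x x1).resolve_left fun c => y1 (qm_eq_one.2 ⟨x1, c⟩)
    have : w = 1 := mem_bot.1 (f2 ▸ (⟨w1, mem_C1.2 f1⟩ : w ∈ B ⊓ C1 x))
    subst this
    exact mem_bot.2 (map_one _)
  have q := isPGroup_quo (X ⊓ C B) hX
  have := s.isCyclic_of_nilpotent (hn.quo _) (fun f => h0 (eq_bot_iff.2 (i ▸ le_inf le_rfl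
    (((quo_eq_bot n2).1 f).trans inf_le_left)))) (pt_odd_of_isPGroup hp h2 q)
    (nilpotent_of_isPGroup hp q)
  exact ((ab_quo_iff n1).1 (ab_of_isCyclic this)).trans inf_le_right

namespace Fam

variable (F : Fam A r)
include F

theorem eq_of_le (h0 : Y ≠ ⊥) (h : Y ≤ A a) (h1 : Y ≤ St G b) : b = a := by
  by_contra e
  exact h0 (eq_bot_iff.2 (F.sr a b (Ne.symm e) ▸ le_inf h h1))

theorem nrm (a : Ω) : Nrm (St G a) (A a) :=
  nrm_of_le_N fun g hg => by rw [CfsgFT.mem_N, F.cjA, show g • a = a from hg]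

theorem N_le (a : Ω) : N (A a) ≤ St G a := fun g hg =>
  F.eq_of_le (F.ne a) le_rfl (by nth_rewrite 1 [← mem_N.1 hg]; rw [F.cjA]; exact F.le _)

theorem C_le (a : Ω) : C (A a) ≤ St G a := (C_le_N _).trans (F.N_le a)

theorem cjC (g : G) (a : Ω) : cj g (C (A a)) = C (A (g • a)) := by rw [cj_C, F.cjA]

/-- (DI) -/
theorem di (hx : x ∈ C (A a)) (h : A c ⊓ C1 x ≠ ⊥) : x ∈ C (A c) := by
  have := Fact.mk F.pr
  have a1 : A a ≤ C1 x := le_C1_iff.2 hx
  obtain ⟨T, t1, t2⟩ := exists_sylIn_ge a1 (F.grp a)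
  obtain ⟨g, g1, g2⟩ := t2.exists_le_cj (inf_le_right (a := A c)) ((F.grp c).to_le inf_le_left)
  have b1 : T ≤ St G a := le_St_of_fix1 F.pr t2.isPGroup t1 (F.le a)
    fun b f => F.eq_of_le (F.ne a) le_rfl f
  have b2 : g • a = c := F.eq_of_le h inf_le_left (g2.trans (cj_St g a ▸ cj_mono b1))
  rw [← b2, ← F.cjC, mem_cj]
  have : g⁻¹ * x * g = x := by rw [mul_assoc, ← mem_C1.1 g1, inv_mul_cancel_left]
  simpa [this] using hx

end Fam

namespace SE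

variable (S : SE G Ω) (F : Fam A r) (W : Two G Ω)
include S F W

/-- (M0): the centraliser of `C(A_c) ∩ C(A_d)` has even order. -/
theorem m0_even (hy : Iv y) (hj : Iv j) (hne : j ≠ y) (hc : j * y = y * j) (h : c ≠ d) :
    ¬ Odd (Nat.card (C (C (A c) ⊓ C (A d)))) := fun ho => by
  set M := C (A c) ⊓ C (A d) with hM
  have n : ∀ g : G, M ≤ C (A (g • c)) → M ≤ C (A (g • d)) → g ∈ N M := fun g h1 h2 => by
    rw [CfsgFT.mem_N]
    refine (eq_of_le_of_card_ge ?_ (card_cj g M).le).symm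
    rw [hM, cj_inf, F.cjC, F.cjC]
    exact le_inf h1 h2
  have l1 : M ≤ C (A c) := inf_le_left
  have l2 : M ≤ C (A d) := inf_le_right
  have A1 : A d ≤ C M := le_C_comm.1 l2
  -- an element of `C(M)` moving `c` to `d`
  obtain ⟨z, z1, z2⟩ := (bot_or_exists_ne_one (A d)).resolve_left (F.ne d)
  have z3 : z • c ≠ c := fun f => z2 (mem_bot.1 (F.sr d c h.symm ▸ (⟨z1, f⟩ : z ∈ A d ⊓ St G c)))
  have z4 : M ≤ C (A (z • c)) := by
    rw [← F.cjC, ← mem_N.1 (C_le_N M (A1 z1))]; exact cj_mono l1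
  obtain ⟨g, g1, g2⟩ := W c d c (z • c) h z3.symm
  have g3 : g ∈ N M := n g (g1.symm ▸ l1) (g2.symm ▸ z4)
  have w1 : g⁻¹ * z * g⁻¹⁻¹ ∈ C M := conj_mem_of_mem_N ((nrm_N_C M).le_N (inv_mem g3)) (A1 z1)
  have w2 : (g⁻¹ * z * g⁻¹⁻¹) • c = d := by
    rw [inv_inv, mul_smul, mul_smul, g1, ← g2, inv_smul_smul]
  generalize g⁻¹ * z * g⁻¹⁻¹ = w at w1 w2
  -- an involution of `N(M)` at `c`
  obtain ⟨u, u1, u2⟩ := S.exists_J h
  have u3 : u ∈ N M := n u (u2.symm ▸ l2) ((swap_back u1.sq u2).symm ▸ l1)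
  have u4 : u ∈ N (C M) := (nrm_N_C M).le_N u3
  have v1 : u * w ∈ N M ⊓ St G c :=
    ⟨mul_mem u3 (C_le_N M w1), mem_St.2 (by rw [mul_smul, w2, swap_back u1.sq u2])⟩
  have v2 : ¬ Odd (orderOf (u * w)) := fun o => by
    have b : u * w * (u * w) ∈ C M := by
      have := mul_mem (conj_mem_of_mem_N u4 w1) w1
      rwa [u1.inv, mul_assoc (u * w)] at this
    exact u1.not_mem ho ((mul_mem_cancel_right w1).1 (pt_mem_of_sq o b))
  obtain ⟨t, t1, t2⟩ := exists_iv (X := zpowers (u * w)) (by rwa [Nat.card_zpowers])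
  have t3 := zpowers_le.2 v1 t1
  have I : ∀ s : G, Iv s → s • c = c → s ∈ N (C M) := fun s s1 s2 => by
    obtain ⟨g, g1, rfl⟩ := S.conj_D h t2 s1 t3.2 s2
    have g2 : g ∈ N M := n g ((show g • c = c from g1.1).symm ▸ l1)
      ((show g • d = d from g1.2).symm ▸ l2)
    exact (nrm_N_C M).le_N (mul_mem (mul_mem g2 t3.1) (inv_mem g2))
  obtain ⟨e, he⟩ := S.ex y hy
  obtain ⟨g, rfl⟩ := S.trans e c
  have := S.le_St ho (hy.conj g) (I _ (hy.conj g) (conj_smul he g)) (conj_smul he g)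
    (I _ (hj.conj g) (conj_smul (S.smul_eq hy he hc) g)) (hj.conj g)
    (fun f => hne (by simpa using f)) (by
      calc _ = g * (j * y) * g⁻¹ := by group
        _ = _ := by rw [hc]; group)
  exact h (F.eq_of_le (F.ne d) le_rfl (A1.trans this))

/-- (M0): no element of `C(A_c) ∩ C(A_{uc})` is inverted by `u`. -/
theorem m0 (hy : Iv y) (hj : Iv j) (hne : j ≠ y) (hc : j * y = y * j) (hu : Iv u)
    (h : u • c ≠ c) (hk : k ∈ C (A c)) (hi : u * k * u⁻¹ = k⁻¹) : k = 1 := by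
  by_contra k1
  have hk' : k ∈ C (A (u • c)) := by
    rw [← F.cjC, ← inv_mem_iff, ← hi]; exact conj_mem_cj.2 hk
  obtain ⟨t, t1, t2⟩ := exists_iv (S.m0_even F W hy hj hne hc h.symm)
  obtain ⟨e, he⟩ := S.ex u hu
  have := S.C1_le_of_bad hu he k1 (S.odd_of_fix (F.C_le _ hk) (F.C_le _ hk') h.symm) hi t2
    (mem_centralizer_iff.1 t1 k ⟨hk, hk'⟩)
  exact h (F.eq_of_le (F.ne c) le_rfl ((le_C1_iff.2 hk).trans this) ▸ he)

theorem nv_core (hp : p.Prime) (h2 : p ≠ 2) (hX : IsPGroup p X) (h1 : X ≤ St G e)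
    (h3 : X ≤ St G c) (h : c ≠ e) (hy : Iv y) (hj : Iv j) (ye : y • e = e) (hne : j ≠ y)
    (hc : j * y = y * j) (yn : y ∈ N X) (jn : j ∈ N X) (n1 : ¬ X ⊓ C1 y ≤ C1 j)
    (n2 : ¬ X ⊓ C1 j ≤ C1 y) : False := by
  have ho := pt_odd_of_isPGroup hp h2 hX
  have je : j • e = e := S.smul_eq hy ye hc
  have hz := hy.mul hj hc hne
  have ze : (j * y) • e = e := by rw [mul_smul, ye, je]
  have get : ∀ y j : G, Iv j → j * y = y * j → j ∈ N X → ¬ X ⊓ C1 y ≤ C1 j →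
      ∃ x ∈ X, x ≠ 1 ∧ y * x * y⁻¹ = x ∧ j * x * j⁻¹ = x⁻¹ := fun y j hj hc jn n => by
    obtain ⟨g, g1, g2⟩ := SetLike.not_le_iff_exists.1 n
    have a : j ∈ C1 y := mem_C1.2 hc
    refine ⟨_, pt_comm_mem hj.sq jn g1.1, fun f => g2 (mem_C1_iff_conj.2
      ((eq_inv_of_mul_eq_one_left f).trans hj.inv)), ?_, pt_inv_comm hj.sq g⟩
    have := mem_C1.1 (mul_mem (mul_mem (mul_mem g1.2 a) (inv_mem g1.2)) a)
    rw [← this, mul_inv_cancel_right]
  obtain ⟨x1, a1, a2, a3, a4⟩ := get y j hj hc jn n1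
  obtain ⟨x2, b1, b2, b3, b4⟩ := get j y hy hc.symm yn n2
  have cE : ∀ t : G, Iv t → t • e = e → ∀ x ∈ X, t * x * t⁻¹ = x⁻¹ → x ∈ C (A e) :=
    fun t t1 t2 x m i => by
      have := mul_mem (mem_EE t1 t2) (mem_EE (t1.mul_of_inv (pt_odd_mem ho m) i)
        (by rw [mul_smul, show x • e = e from h1 m, t2]))
      rw [← mul_assoc, t1.sq, one_mul] at this
      exact F.cE e this
  have c1 : x1 ∈ X ⊓ C (A e) := ⟨a1, cE j hj je x1 a1 a4⟩
  have c2 : x2 ∈ X ⊓ C (A e) := ⟨b1, cE y hy ye x2 b1 b4⟩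
  have dl : ∀ b : Ω, X ≤ St G b → D (X ⊓ C (A e)) ≤ C (A b) := fun b hb =>
    D_le_C_of_dich hp h2 F.pr (hX.to_le inf_le_left) (F.grp b) (F.ne b)
      ((F.nrm b).mono (inf_le_left.trans hb)) fun x hx => by
        by_cases f : A b ⊓ C1 x = ⊥
        · exact .inr f
        · exact .inl (F.di hx.2 f)
  have yc := S.moves hy ye h
  set M := X ⊓ (C (A c) ⊓ C (A (y • c))) with hM
  have h4 : X ≤ St G (y • c) := le_St_smul h3 yn
  have m1 : y ∈ N M := by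
    rw [CfsgFT.mem_N, hM, cj_inf, cj_inf, mem_N.1 yn, F.cjC, F.cjC, swap_back hy.sq rfl,
      inf_comm (C (A (y • c)))]
  have m2 : Nrm X M := (Nrm.self X).inf (((F.nrm c).mono h3).C.inf ((F.nrm _).mono h4).C)
  have m3 : y ∈ C M := le_C1_iff.1 fun g hg => mem_C1_iff_conj.2
    ((eq_inv_of_mul_eq_one_left (S.m0 F W hy hj hne hc hy yc (pt_comm_mem hy.sq m1 hg).2.1
      (pt_inv_comm hy.sq g))).trans hy.inv)
  have m4 : x2 ∈ C M := by
    obtain ⟨v, v1, v2⟩ := pt_conj_of_inv b4 (pt_odd_mem ho b1)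
    have := mul_mem m3 (conj_mem_of_mem_N (m2.C.le_N (zpowers_le.2 b1 v1)) m3)
    rwa [← v2, ← mul_assoc, hy.sq, one_mul] at this
  have w0 : ⁅x1, x2⁆ ∈ D (X ⊓ C (A e)) := commutator_mem_commutator c1 c2
  have w1 : ⁅x1, x2⁆ ∈ M := ⟨(D_le _ w0).1, dl c h3 w0, dl _ h4 w0⟩
  have cm : x1 * x2 = x2 * x1 := by
    have e1 := mem_centralizer_iff.1 m3 _ w1
    have e2 := mem_centralizer_iff.1 m4 _ w1
    have e3 : y * ⁅x1, x2⁆ * y⁻¹ = x2⁻¹ * ⁅x1, x2⁆⁻¹ * x2 := by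
      calc _ = (y * x1 * y⁻¹) * (y * x2 * y⁻¹) * (y * x1 * y⁻¹)⁻¹ * (y * x2 * y⁻¹)⁻¹ := by
            rw [commutatorElement_def]; group
        _ = _ := by rw [a3, b4, commutatorElement_def]; group
    rw [← e1, mul_inv_cancel_right, ← mul_inv_rev, e2, mul_inv_rev, mul_assoc, inv_mul_cancel,
      mul_one] at e3
    exact commutatorElement_eq_one_iff_mul_comm.1 (pt_eq_one (pt_odd_mem ho w1.1)
      (by nth_rewrite 1 [e3]; exact inv_mul_cancel _))
  have z1 : j * y * x1 * (j * y)⁻¹ = x1⁻¹ := by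
    rw [← a4]; nth_rewrite 2 [← a3]; group
  have z2 : j * y * x2 * (j * y)⁻¹ = x2⁻¹ := by
    rw [hc, ← b4]; nth_rewrite 2 [← b3]; group
  have l : zpowers x1 ≤ C (zpowers x2) := by rw [C_zpowers, zpowers_le, mem_C1]; exact cm
  have ab : Ab (zpowers x1 ⊔ zpowers x2) := (ab_zpowers x1).sup (ab_zpowers x2) l
  have le : zpowers x1 ⊔ zpowers x2 ≤ X ⊓ C (A e) := sup_le (zpowers_le.2 c1) (zpowers_le.2 c2)
  have sr : SemiReg (A c) (zpowers x1 ⊔ zpowers x2) := fun x hx x1' => by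
    by_contra f
    refine x1' (S.m0 F W hy hj hne hc hz (S.moves hz ze h) (F.di (le hx).2 f) ?_)
    obtain ⟨v, v1, w, w1, rfl⟩ := (mem_sup_nrm' (nrm_of_le_C (le_C_comm.1 l))).1 hx
    have := mem_centralizer_iff.1 (l v1) w w1
    calc _ = (j * y * v * (j * y)⁻¹) * (j * y * w * (j * y)⁻¹) := by group
      _ = _ := by rw [pt_inv_zp z1 v1, pt_inv_zp z2 w1, ← this, mul_inv_rev]
  have cy := sr.isCyclic_of_ab ((F.nrm c).mono (le.trans (inf_le_left.trans h3))) (F.ne c) ab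
  obtain ⟨v, v1, v2⟩ := (bot_or_exists_ne_one _).resolve_left (inf_ne_bot_of_isCyclic hp cy
    (hX.to_le (le.trans inf_le_left)) le_sup_left le_sup_right (zpowers_eq_bot.not.2 a2)
    (zpowers_eq_bot.not.2 b2))
  have e1 := pt_inv_zp b4 v1.2
  have e2 : y ∈ C (zpowers x1) := by
    rw [C_zpowers, mem_C1]; exact mul_inv_eq_iff_eq_mul.1 a3
  rw [← mem_centralizer_iff.1 e2 v v1.1, mul_inv_cancel_right] at e1
  exact v2 (pt_eq_one (pt_odd_mem ho (zpowers_le.2 a1 v1.1))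
    (by nth_rewrite 1 [e1]; exact inv_mul_cancel _))

/-- (NV) -/
theorem nv (hp : p.Prime) (h2 : p ≠ 2) (hX : IsPGroup p X) (h1 : X ≤ St G e)
    (h3 : X ≤ St G c) (h : c ≠ e) (hy : Iv y) (hj : Iv j) (ye : y • e = e) (hne : j ≠ y)
    (hc : j * y = y * j) (yn : y ∈ N X) (jn : j ∈ N X) :
    X ≤ C1 y ∨ X ≤ C1 j ∨ X ≤ C1 (j * y) := by
  by_contra! hn
  have ho := pt_odd_of_isPGroup hp h2 hX
  have je : j • e = e := S.smul_eq hy ye hc
  have hz := hy.mul hj hc hne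
  have zn := mul_mem jn yn
  have f := elAb_four hy hj hc
  have ln : Ln (zpowers j ⊔ zpowers y) j y :=
    ⟨mem_sup_left (mem_zpowers j), mem_sup_right (mem_zpowers y), hj.ne, hy.ne, hne⟩
  have gen := fun K => ln.gen (K := K) f
    ((nrm_N X).mono (sup_le (zpowers_le.2 jn) (zpowers_le.2 yn))) ho
  have zy : j * y * y = y * (j * y) := by rw [← mul_assoc, ← hc]
  have zj : j * y * j = j * (j * y) := by rw [mul_assoc, ← hc]
  have zy' : j * y ≠ y := fun f => hj.ne (by simpa using f)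
  have zj' : j * y ≠ j := fun f => hy.ne (by simpa using f)
  have k1 : ∀ {g a b : G}, g ∈ C1 a → g ∈ C1 b → g ∈ C1 (a * b) := fun a b =>
    mem_C1.2 (by rw [← mul_assoc, mem_C1.1 a, mul_assoc, mem_C1.1 b, mul_assoc])
  have e1 : j * (j * y) = y := by rw [← mul_assoc, hj.sq, one_mul]
  have e2 : j * y * y = j := by rw [mul_assoc, hy.sq, mul_one]
  by_cases p1 : X ⊓ C1 y ≤ C1 j
  · by_cases p2 : X ⊓ C1 j ≤ C1 y
    · exact hn.2.2 (gen _ (fun _ g => k1 g.2 (p2 g)) (fun _ g => k1 (p1 g) g.2) inf_le_right)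
    refine S.nv_core F W hp h2 hX h1 h3 h hj hz je zj' zj jn zn
      (fun q => p2 fun _ g => e1 ▸ k1 g.2 (q g)) fun q => hn.2.1 (gen _ inf_le_right p1 q)
  · by_cases p2 : X ⊓ C1 j ≤ C1 y
    · refine S.nv_core F W hp h2 hX h1 h3 h hy hz ye zy' zy yn zn
        (fun q => p1 fun _ g => e2 ▸ k1 (q g) g.2) fun q => hn.1 (gen _ p2 inf_le_right q)
    · exact S.nv_core F W hp h2 hX h1 h3 h hy hj ye hne hc yn jn p1 p2

end SE

end CfsgSE
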