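import Cfsg.Agent.H9.ClassTab

/-! A solvable group of order `6048` with an irreducible character of degree `42`. -/

set_option autoImplicit false
set_option maxRecDepth 100000

namespace CfsgH9.Sol6048

open Cfsg CfsgL
open scoped MatrixGroups

noncomputable def M1 : Model (Equiv.Perm (Fin 8)) :=
  permModel 8 (nat_lit 3) (nat_lit 7) (nat_lit 16434824) (by decide) (by decide) (by decide +kernel)

noncomputable def a_s : NT := (.node (.leaf (nat_lit 12369168)) (.leaf (nat_lit 14570689)))

noncomputable def a_si : NT := (.node (.leaf (nat_lit 13609064)) (.leaf (nat_lit 14570689)))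

noncomputable def a_T : NT := (.node (.node (.node (.node (.node (.node (.leaf (nat_lit 16434824)) (.leaf (nat_lit 9032688))) (.node (.leaf (nat_lit 3501792)) (.leaf (nat_lit 13609064)))) (.node (.node (.leaf (nat_lit 12369168)) (.leaf (nat_lit 7542136))) (.leaf (nat_lit 4619160)))) (.node (.node (.node (.leaf (nat_lit 9924691)) (.leaf (nat_lit 12646242))) (.node (.leaf (nat_lit 10954692)) (.leaf (nat_lit 3168151)))) (.node (.node (.leaf (nat_lit 681597)) (.leaf (nat_lit 5736241))) (.leaf (nat_lit 10294830))))) (.node (.node (.node (.node (.leaf (nat_lit 11788826)) (.leaf (nat_lit 4130973))) (.node (.leaf (nat_lit 1178793)) (.leaf (nat_lit 10624691)))) (.node (.node (.leaf (nat_lit 6803622)) (.leaf (nat_lit 9235079))) (.leaf (nat_lit 13906620)))) (.node (.node (.node (.leaf (nat_lit 342391)) (.leaf (nat_lit 1809108))) (.node (.leaf (nat_lit 5822523)) (.leaf (nat_lit 7959301)))) (.node (.node (.leaf (nat_lit 9973593)) (.leaf (nat_lit 3813866))) (.leaf (nat_lit 12158055)))))) (.node (.node (.node (.node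 (.node (.leaf (nat_lit 14570689)) (.leaf (nat_lit 7744527))) (.node (.leaf (nat_lit 8631693)) (.leaf (nat_lit 6152524)))) (.node (.node (.leaf (nat_lit 13700043)) (.leaf (nat_lit 11040974))) (.leaf (nat_lit 1007370)))) (.node (.node (.node (.leaf (nat_lit 2206526)) (.leaf (nat_lit 5422662))) (.node (.leaf (nat_lit 13275423)) (.leaf (nat_lit 8817914)))) (.node (.node (.leaf (nat_lit 3077172)) (.leaf (nat_lit 2007971))) (.leaf (nat_lit 6482385))))) (.node (.node (.node (.node (.leaf (nat_lit 6852524)) (.leaf (nat_lit 11354553))) (.node (.leaf (nat_lit 8145522)) (.leaf (nat_lit 1361374)))) (.node (.node (.leaf (nat_lit 4408047)) (.leaf (nat_lit 12963349))) (.leaf (nat_lit 2870595)))) (.node (.node (.node (.leaf (nat_lit 4988389)) (.leaf (nat_lit 14968107))) (.node (.leaf (nat_lit 15598422)) (.leaf (nat_lit 15415841)))) (.node (.node (.leaf (nat_lit 16095618)) (.leaf (nat_lit 14769244))) (.leaf (nat_lit 15769845)))))))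

noncomputable def a_I : NT := (.node (.node (.node (.node (.node (.leaf (nat_lit 10)) (.leaf (nat_lit 34))) (.node (.node (.leaf (nat_lit 50)) (.leaf (nat_lit 52))) (.leaf (nat_lit 36)))) (.node (.node (.node (.node (.leaf (nat_lit 51)) (.node (.leaf (nat_lit 54)) (.leaf (nat_lit 42)))) (.node (.node (.leaf (nat_lit 53)) (.leaf (nat_lit 40))) (.node (.leaf (nat_lit 0)) (.node (.leaf (nat_lit 55)) (.leaf (nat_lit 24)))))) (.node (.node (.leaf (nat_lit 43)) (.leaf (nat_lit 46))) (.leaf (nat_lit 0)))) (.leaf (nat_lit 0)))) (.node (.node (.node (.node (.leaf (nat_lit 0)) (.node (.leaf (nat_lit 45)) (.node (.leaf (nat_lit 0)) (.node (.node (.leaf (nat_lit 3)) (.leaf (nat_lit 37))) (.leaf (nat_lit 0)))))) (.node (.leaf (nat_lit 25)) (.node (.leaf (nat_lit 20)) (.leaf (nat_lit 44))))) (.node (.leaf (nat_lit 28)) (.node (.node (.node (.leaf (nat_lit 27)) (.leaf (nat_lit 38))) (.leaf (nat_lit 0))) (.leaf (nat_lit 7))))) (.node (.node (.leaf (nat_lit 4)) (.leaf (nat_lit 31))) (.node (.node (.leaf (nat_lit 39))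 (.node (.leaf (nat_lit 2)) (.leaf (nat_lit 16)))) (.leaf (nat_lit 13)))))) (.node (.node (.node (.node (.node (.node (.node (.leaf (nat_lit 18)) (.leaf (nat_lit 9))) (.leaf (nat_lit 0))) (.leaf (nat_lit 33))) (.node (.leaf (nat_lit 0)) (.leaf (nat_lit 21)))) (.node (.leaf (nat_lit 1)) (.leaf (nat_lit 12)))) (.node (.node (.node (.node (.leaf (nat_lit 26)) (.leaf (nat_lit 17))) (.leaf (nat_lit 0))) (.leaf (nat_lit 29))) (.node (.node (.leaf (nat_lit 0)) (.node (.node (.leaf (nat_lit 8)) (.leaf (nat_lit 41))) (.leaf (nat_lit 22)))) (.node (.leaf (nat_lit 0)) (.node (.leaf (nat_lit 35)) (.leaf (nat_lit 47))))))) (.node (.node (.leaf (nat_lit 19)) (.node (.leaf (nat_lit 0)) (.node (.leaf (nat_lit 0)) (.node (.node (.leaf (nat_lit 11)) (.leaf (nat_lit 30))) (.leaf (nat_lit 0)))))) (.node (.node (.node (.leaf (nat_lit 32)) (.leaf (nat_lit 23))) (.node (.node (.leaf (nat_lit 6)) (.leaf (nat_lit 49))) (.leaf (nat_lit 48)))) (.node (.leaf (nat_lit 15)) (.node (.leaf (nat_lit 14)) (.leaf (nat_lit 5))))))))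

noncomputable def a_W : NT := (.node (.node (.node (.leaf (nat_lit 0)) (.leaf (nat_lit 13))) (.node (.leaf (nat_lit 1)) (.leaf (nat_lit 121)))) (.node (.node (.leaf (nat_lit 2)) (.leaf (nat_lit 40))) (.node (.leaf (nat_lit 4)) (.leaf (nat_lit 364)))))

def a_C : ℕ := nat_lit 19952435568899012681591626074586812789259115677157497639540552318425892948297273008901925121044248080979001553310896657188661720318208

def a_Q : ℕ := nat_lit 878676610194937835615725755050978584165650572225738071731730178102100801260980312142444223423336185214087061013357810785271325084937718258145700716903636946255732302178674570427879163741035792540995305389133195658791566671335658074394139698513913338418943256560664576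

/-- The class table. -/
noncomputable def a_D : TabData := ⟨nat_lit 2, a_s, a_si, nat_lit 56, a_T, a_I, nat_lit 823, a_C, a_Q, a_W,
  nat_lit 7, nat_lit 8⟩

theorem a_chk : allLt 56 (a_D.chk M1) = true := by decide +kernel

theorem a_sys : (∀ j, j < 56 → M1.Mem (M1.gen 2 a_s) (a_T.get j)) ∧
    Nonempty (ClassSys (M1.gen 2 a_s) 56 8 a_D.cls (a_D.mi M1)) :=
  TabData.exists_classSys (D := a_D) (Model.inv_of_valid (perm_valid_of_inv (si := a_si) (by decide +kernel)) (perm_valid_of_inv (si := a_s) (by decide +kernel)) (by decide +kernel))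
    (by decide +kernel) a_chk

theorem a_cnt : ∀ c, c < 8 → cnt 56 (fun j => Nat.beq (a_D.cls j) c) = [1, 7, 8, 8, 8, 8, 8, 8].getD c 0 := by
  decide +kernel

theorem a_ind (S : ClassSys (M1.gen 2 a_s) 56 8 a_D.cls (a_D.mi M1)) :
    ∃ χ, IsCharacter _ χ ∧ ∀ g, χ g = (([8, 0, 1, 1, 1, 1, 1, 1] : List ℤ).getD (a_D.cls (S.idx g)) 0 : ℤ) :=
  S.exists_ind a_cnt [(0, 0), (8, 0), (16, 0), (24, 0), (32, 0), (40, 0), (48, 0)] (by decide) (by decide +kernel) (by decide +kernel) (by decide +kernel)
    (fun c => ([8, 0, 1, 1, 1, 1, 1, 1] : List ℤ).getD c 0) (by decide +kernel)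

noncomputable def M2 : Model (Equiv.Perm (Fin 11)) :=
  permModel 11 (nat_lit 4) (nat_lit 15) (nat_lit 11649936536080) (by decide) (by decide) (by decide +kernel)

noncomputable def b_s : NT := (.node (.leaf (nat_lit 11635945603360)) (.leaf (nat_lit 10591666660675)))

noncomputable def b_si : NT := (.node (.leaf (nat_lit 11627642908960)) (.leaf (nat_lit 10605400492150)))

noncomputable def b_T : NT := (.node (.node (.node (.node (.node (.node (.node (.leaf (nat_lit 11649936536080)) (.leaf (nat_lit 10615114437445))) (.node (.leaf (nat_lit 11627886815350)) (.leaf (nat_lit 10605154557970)))) (.node (.node (.leaf (nat_lit 10596848730130)) (.leaf (nat_lit 11613899016070))) (.leaf (nat_lit 11649679434835)))) (.node (.node (.node (.leaf (nat_lit 11627640881170)) (.leaf (nat_lit 10587136811860))) (.node (.leaf (nat_lit 11627887921000)) (.leaf (nat_lit 10610839662850)))) (.node (.node (.leaf (nat_lit 11614152061780)) (.leaf (nat_lit 10605399385735))) (.leaf (nat_lit 10600869537640))))) (.node (.node (.node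 (.node (.leaf (nat_lit 11645905667155)) (.leaf (nat_lit 10610583668020))) (.node (.leaf (nat_lit 11614152983875)) (.leaf (nat_lit 10587634686055)))) (.node (.node (.leaf (nat_lit 11641630708240)) (.leaf (nat_lit 11641376740435))) (.leaf (nat_lit 11622201710470)))) (.node (.node (.node (.leaf (nat_lit 10583104837240)) (.leaf (nat_lit 11627642908960))) (.leaf (nat_lit 11645405581570))) (.node (.node (.leaf (nat_lit 11617927857205)) (.leaf (nat_lit 10614614536225))) (.leaf (nat_lit 10597093742215)))))) (.node (.node (.node (.node (.node (.leaf (nat_lit 11618427942790)) (.leaf (nat_lit 10591409559430))) (.node (.leaf (nat_lit 11631662794375)) (.leaf (nat_lit 10615112410420)))) (.node (.node (.leaf (nat_lit 10605155480065)) (.leaf (nat_lit 11618426837095))) (.leaf (nat_lit 11618428864120)))) (.node (.node (.node (.leaf (nat_lit 10619144385040)) (.leaf (nat_lit 10597094664310))) (.node (.leaf (nat_lit 11617926935875)) (.leaf (nat_lit 10614613430530)))) (.node (.node (.leaf (nat_lit 11622458811715)) (.leaf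 (nat_lit 10591665554260))) (.leaf (nat_lit 10605400492150))))) (.node (.node (.node (.node (.leaf (nat_lit 11635947631105)) (.leaf (nat_lit 10583360832835))) (.node (.leaf (nat_lit 11631660767350)) (.leaf (nat_lit 10596850757920)))) (.node (.node (.leaf (nat_lit 11649934508290)) (.leaf (nat_lit 10597095769960))) (.leaf (nat_lit 11641375819060)))) (.node (.node (.node (.leaf (nat_lit 10610582561605)) (.leaf (nat_lit 11649680540485))) (.leaf (nat_lit 11635945603360))) (.node (.node (.leaf (nat_lit 11641631813890)) (.leaf (nat_lit 10610584589395))) (.leaf (nat_lit 10587636713080))))))) (.node (.node (.node (.node (.node (.node (.leaf (nat_lit 11632171835680)) (.leaf (nat_lit 10601380605970))) (.node (.leaf (nat_lit 11617928962900)) (.leaf (nat_lit 10618888389445)))) (.node (.node (.leaf (nat_lit 10618889311540)) (.leaf (nat_lit 11632170729985))) (.leaf (nat_lit 11645906588485)))) (.node (.node (.node (.leaf (nat_lit 11641374712645)) (.leaf (nat_lit 10591664632885))) (.node (.leaf (nat_lit 11636191536775))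 (.leaf (nat_lit 10619143278625)))) (.node (.node (.leaf (nat_lit 11627885893255)) (.leaf (nat_lit 10600868616310))) (.leaf (nat_lit 10587135706165))))) (.node (.node (.node (.node (.leaf (nat_lit 11622203738215)) (.leaf (nat_lit 10583105943655))) (.node (.leaf (nat_lit 11636190615400)) (.leaf (nat_lit 10583106865030)))) (.node (.node (.leaf (nat_lit 11645406687265)) (.leaf (nat_lit 10587134784835))) (.leaf (nat_lit 11632172757010)))) (.node (.node (.node (.leaf (nat_lit 10601379684640)) (.leaf (nat_lit 11622202816120))) (.leaf (nat_lit 11641629786145))) (.node (.node (.leaf (nat_lit 11645404660240)) (.leaf (nat_lit 10619142357250))) (.leaf (nat_lit 10618887283795)))))) (.node (.node (.node (.node (.node (.leaf (nat_lit 11649681462580)) (.leaf (nat_lit 10605153452320))) (.node (.leaf (nat_lit 11622456783925)) (.leaf (nat_lit 10601378578945)))) (.node (.node (.leaf (nat_lit 10591411587175)) (.leaf (nat_lit 11635946709010))) (.leaf (nat_lit 11627641987585)))) (.node (.node (.node (.leaf (nat_lit 10615113516115))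 (.leaf (nat_lit 10600870643335))) (.node (.leaf (nat_lit 11614154089525)) (.leaf (nat_lit 10610837635105)))) (.node (.node (.leaf (nat_lit 11631661688680)) (.leaf (nat_lit 10610838557200))) (.leaf (nat_lit 10583359910740))))) (.node (.node (.node (.node (.leaf (nat_lit 11613896988280)) (.leaf (nat_lit 10605398464360))) (.node (.leaf (nat_lit 11622457705300)) (.leaf (nat_lit 10614612509200)))) (.node (.node (.leaf (nat_lit 11636192643190)) (.leaf (nat_lit 10583361938485))) (.leaf (nat_lit 10591666660675)))) (.node (.node (.node (.leaf (nat_lit 10587635791750)) (.leaf (nat_lit 11645904561460))) (.leaf (nat_lit 11613898094695))) (.node (.node (.leaf (nat_lit 11649935429665)) (.leaf (nat_lit 10591410665080))) (.leaf (nat_lit 10596849836545))))))))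

noncomputable def b_I : NT := (.node (.node (.node (.node (.node (.node (.node (.leaf (nat_lit 101)) (.leaf (nat_lit 104))) (.leaf (nat_lit 72))) (.node (.leaf (nat_lit 97)) (.leaf (nat_lit 77)))) (.node (.node (.leaf (nat_lit 23)) (.node (.node (.leaf (nat_lit 65)) (.leaf (nat_lit 87))) (.leaf (nat_lit 6)))) (.node (.node (.node (.node (.leaf (nat_lit 94)) (.leaf (nat_lit 88))) (.leaf (nat_lit 33))) (.leaf (nat_lit 0))) (.node (.node (.leaf (nat_lit 92)) (.leaf (nat_lit 95))) (.leaf (nat_lit 57)))))) (.node (.node (.node (.node (.leaf (nat_lit 0)) (.node (.node (.leaf (nat_lit 79)) (.leaf (nat_lit 61))) (.leaf (nat_lit 0)))) (.node (.leaf (nat_lit 52)) (.leaf (nat_lit 22)))) (.node (.node (.leaf (nat_lit 36)) (.leaf (nat_lit 2))) (.node (.node (.leaf (nat_lit 91)) (.leaf (nat_lit 100))) (.leaf (nat_lit 0))))) (.node (.node (.node (.leaf (nat_lit 0)) (.node (.leaf (nat_lit 98)) (.node (.leaf (nat_lit 51)) (.leaf (nat_lit 35))))) (.node (.node (.leaf (nat_lit 20)) (.leaf (nat_lit 82))) (.node (.leaf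 (nat_lit 93)) (.node (.node (.leaf (nat_lit 4)) (.leaf (nat_lit 9))) (.leaf (nat_lit 0)))))) (.node (.node (.leaf (nat_lit 70)) (.leaf (nat_lit 16))) (.node (.node (.leaf (nat_lit 48)) (.leaf (nat_lit 38))) (.leaf (nat_lit 60))))))) (.node (.node (.node (.node (.node (.node (.leaf (nat_lit 42)) (.leaf (nat_lit 46))) (.leaf (nat_lit 59))) (.node (.leaf (nat_lit 0)) (.node (.leaf (nat_lit 86)) (.leaf (nat_lit 64))))) (.leaf (nat_lit 19))) (.node (.node (.node (.node (.leaf (nat_lit 5)) (.leaf (nat_lit 81))) (.leaf (nat_lit 62))) (.leaf (nat_lit 17))) (.node (.node (.leaf (nat_lit 29)) (.node (.leaf (nat_lit 75)) (.leaf (nat_lit 107)))) (.leaf (nat_lit 24))))) (.node (.node (.node (.leaf (nat_lit 37)) (.leaf (nat_lit 0))) (.node (.node (.leaf (nat_lit 0)) (.node (.node (.leaf (nat_lit 76)) (.node (.leaf (nat_lit 39)) (.leaf (nat_lit 74)))) (.leaf (nat_lit 0)))) (.node (.leaf (nat_lit 0)) (.node (.leaf (nat_lit 0)) (.node (.leaf (nat_lit 105)) (.leaf (nat_lit 69))))))) (.node (.node (.node (.node (.leaf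 (nat_lit 0)) (.node (.node (.leaf (nat_lit 68)) (.leaf (nat_lit 83))) (.leaf (nat_lit 71)))) (.leaf (nat_lit 0))) (.leaf (nat_lit 47))) (.node (.node (.leaf (nat_lit 0)) (.node (.node (.leaf (nat_lit 90)) (.leaf (nat_lit 102))) (.leaf (nat_lit 0)))) (.leaf (nat_lit 0))))))) (.node (.node (.node (.node (.node (.node (.leaf (nat_lit 18)) (.node (.leaf (nat_lit 45)) (.leaf (nat_lit 34)))) (.node (.node (.node (.leaf (nat_lit 0)) (.node (.leaf (nat_lit 56)) (.leaf (nat_lit 58)))) (.leaf (nat_lit 0))) (.leaf (nat_lit 0)))) (.node (.leaf (nat_lit 3)) (.leaf (nat_lit 50)))) (.node (.node (.node (.leaf (nat_lit 0)) (.node (.leaf (nat_lit 49)) (.leaf (nat_lit 40)))) (.leaf (nat_lit 0))) (.leaf (nat_lit 27)))) (.node (.node (.node (.node (.node (.leaf (nat_lit 0)) (.node (.node (.leaf (nat_lit 14)) (.leaf (nat_lit 11))) (.leaf (nat_lit 0)))) (.leaf (nat_lit 0))) (.node (.leaf (nat_lit 0)) (.node (.node (.leaf (nat_lit 63)) (.leaf (nat_lit 73))) (.leaf (nat_lit 7))))) (.node (.leaf (nat_lit 89)) (.leaf (nat_lit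 54)))) (.node (.node (.leaf (nat_lit 0)) (.node (.leaf (nat_lit 0)) (.node (.leaf (nat_lit 0)) (.node (.leaf (nat_lit 0)) (.node (.leaf (nat_lit 12)) (.leaf (nat_lit 15))))))) (.node (.leaf (nat_lit 31)) (.node (.node (.leaf (nat_lit 66)) (.leaf (nat_lit 32))) (.leaf (nat_lit 0))))))) (.node (.node (.node (.node (.node (.leaf (nat_lit 0)) (.node (.leaf (nat_lit 0)) (.node (.node (.leaf (nat_lit 1)) (.leaf (nat_lit 8))) (.leaf (nat_lit 0))))) (.node (.leaf (nat_lit 99)) (.leaf (nat_lit 25)))) (.leaf (nat_lit 103))) (.node (.leaf (nat_lit 13)) (.node (.node (.node (.leaf (nat_lit 67)) (.leaf (nat_lit 85))) (.leaf (nat_lit 0))) (.leaf (nat_lit 0))))) (.node (.node (.node (.leaf (nat_lit 0)) (.node (.node (.leaf (nat_lit 96)) (.leaf (nat_lit 30))) (.node (.leaf (nat_lit 55)) (.leaf (nat_lit 80))))) (.node (.leaf (nat_lit 0)) (.node (.leaf (nat_lit 78)) (.leaf (nat_lit 44))))) (.node (.node (.node (.node (.leaf (nat_lit 43)) (.leaf (nat_lit 53))) (.leaf (nat_lit 0))) (.leaf (nat_lit 0))) (.node (.node (.leaf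 (nat_lit 21)) (.node (.node (.leaf (nat_lit 0)) (.node (.leaf (nat_lit 26)) (.leaf (nat_lit 28)))) (.leaf (nat_lit 0)))) (.node (.leaf (nat_lit 0)) (.node (.node (.leaf (nat_lit 84)) (.leaf (nat_lit 41))) (.node (.node (.leaf (nat_lit 10)) (.leaf (nat_lit 106))) (.leaf (nat_lit 0)))))))))))

noncomputable def b_W : NT := (.node (.node (.node (.node (.node (.leaf (nat_lit 0)) (.leaf (nat_lit 134))) (.leaf (nat_lit 368))) (.node (.leaf (nat_lit 4)) (.leaf (nat_lit 5)))) (.node (.node (.node (.leaf (nat_lit 26)) (.leaf (nat_lit 1106))) (.leaf (nat_lit 1))) (.node (.leaf (nat_lit 40)) (.leaf (nat_lit 121))))) (.node (.node (.node (.node (.leaf (nat_lit 13)) (.leaf (nat_lit 365))) (.leaf (nat_lit 3290))) (.node (.leaf (nat_lit 8)) (.leaf (nat_lit 14)))) (.node (.node (.node (.leaf (nat_lit 41)) (.leaf (nat_lit 9926))) (.leaf (nat_lit 2))) (.node (.leaf (nat_lit 44)) (.leaf (nat_lit 122))))))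

def b_C : ℕ := nat_lit 9164933654353995650571029295586748870668242239284043800090678235323686984685821465890526408163503517001088812014580069110610446528201132820370668356428045666333216368304933339864635487926259396831119700150498641068808173717738274945739962473575140073364586752

def b_Q : ℕ := nat_lit 49173619940770275600541828399014897355217281499417414694295035976144364400326794785894037115559612242734719947723462680639705126282248907411774727591535320503098334941008798228625813436631112199036386091275022545818128363127862131871959032477220516576958392333621006119546355009766464060114530009335729949599146666860993586468823561670280847928079990430069707261634265635951595018343646362838784051084293534142600480319417825947774763974865102616463925478690891113545092153867368008449224996478082091618644731147321344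

/-- The class table. -/
noncomputable def b_D : TabData := ⟨nat_lit 2, b_s, b_si, nat_lit 108, b_T, b_I, nat_lit 2927, b_C, b_Q, b_W,
  nat_lit 10, nat_lit 20⟩

theorem b_chk : allLt 108 (b_D.chk M2) = true := by decide +kernel

theorem b_sys : (∀ j, j < 108 → M2.Mem (M2.gen 2 b_s) (b_T.get j)) ∧
    Nonempty (ClassSys (M2.gen 2 b_s) 108 20 b_D.cls (b_D.mi M2)) :=
  TabData.exists_classSys (D := b_D) (Model.inv_of_valid (perm_valid_of_inv (si := b_si) (by decide +kernel)) (perm_valid_of_inv (si := b_s) (by decide +kernel)) (by decide +kernel))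
    (by decide +kernel) b_chk

theorem b_cnt : ∀ c, c < 20 → cnt 108 (fun j => Nat.beq (b_D.cls j) c) = [1, 9, 1, 9, 3, 6, 3, 6, 6, 2, 9, 6, 9, 6, 9, 6, 3, 9, 3, 2].getD c 0 := by
  decide +kernel

theorem b_ind (S : ClassSys (M2.gen 2 b_s) 108 20 b_D.cls (b_D.mi M2)) :
    ∃ χ, IsCharacter _ χ ∧ ∀ g, χ g = (([6, 0, 6, 0, 0, 0, 0, 0, 0, -3, 0, 0, 0, 0, 0, 0, 0, 0, 0, -3] : List ℤ).getD (b_D.cls (S.idx g)) 0 : ℤ) :=
  S.exists_ind b_cnt [(0, 0), (45, 1), (26, 0), (10, 0), (44, 2), (24, 1), (107, 1), (23, 0), (55, 0), (28, 2), (106, 2), (25, 1), (59, 1), (58, 0), (27, 2), (57, 2), (60, 1), (56, 2)] (by decide) (by decide +kernel) (by decide +kernel) (by decide +kernel)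
    (fun c => ([6, 0, 6, 0, 0, 0, 0, 0, 0, -3, 0, 0, 0, 0, 0, 0, 0, 0, 0, -3] : List ℤ).getD c 0) (by decide +kernel)

theorem seven_mem : Nat.card (M1.gen 2 a_s) = 56 ∧ 7 ∈ charDegrees (M1.gen 2 a_s) := by
  obtain ⟨S⟩ := a_sys.2
  obtain ⟨χ, h1, h2⟩ := a_ind S
  exact ⟨S.card_eq, (S.mem_charDegrees a_cnt (gen_sub (gen_of_char h1) gen_one)
    (V := fun c => ([8, 0, 1, 1, 1, 1, 1, 1] : List ℤ).getD c 0 - 1) (fun g => by rw [Pi.sub_apply, h2]; push_cast; rfl)
    (by decide +kernel) (by decide +kernel)).2⟩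

theorem six_mem : Nat.card (M2.gen 2 b_s) = 108 ∧ 6 ∈ charDegrees (M2.gen 2 b_s) := by
  obtain ⟨S⟩ := b_sys.2
  obtain ⟨χ, h1, h2⟩ := b_ind S
  exact ⟨S.card_eq, (S.mem_charDegrees b_cnt (gen_of_char h1)
    (V := fun c => ([6, 0, 6, 0, 0, 0, 0, 0, 0, -3, 0, 0, 0, 0, 0, 0, 0, 0, 0, -3] : List ℤ).getD c 0) h2 (by decide +kernel) (by decide +kernel)).2⟩

theorem exists_group : ∃ (H : Type) (_ : Group H) (_ : Fintype H), Group.IsSolvable H ∧
    Nat.card H = 6048 ∧ 42 ∈ charDegrees H := by
  have h1 : Group.IsSolvable (M1.gen 2 a_s) :=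
    burnside_pq' (a := 3) (b := 1) Nat.prime_two (by norm_num : Nat.Prime 7) (seven_mem.1.trans (by norm_num))
  have h2 : Group.IsSolvable (M2.gen 2 b_s) :=
    burnside_pq' (a := 2) (b := 3) Nat.prime_two Nat.prime_three (six_mem.1.trans (by norm_num))
  refine ⟨M1.gen 2 a_s × M2.gen 2 b_s, inferInstance, Fintype.ofFinite _, inferInstance, ?_,
    mul_mem_charDegrees_prod seven_mem.2 six_mem.2⟩
  rw [Nat.card_prod, seven_mem.1, six_mem.1]

end CfsgH9.Sol6048
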