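import Cfsg.Agent.H9.P43B1

/-! Generation of the `PSp₄(3)`-configuration by its local generators. -/

set_option autoImplicit false

namespace CfsgH9.P43

open Subgroup CfsgH5 CfsgH6 CfsgFT CfsgH8 CfsgH7 CfsgH3.TC Matrix

universe u
variable {G : Type u} [Group G]

theorem card6_of {val : ℕ → G} (h0 : val 0 = 1) (hR : RelsHold val R6)
    (ha : wval val [2, 4, 6] ≠ 1) : Nat.card (gcl val 6) = 648 := by
  obtain ⟨φ, hφ⟩ := exists_hom_of_bd (vK := subVal glval 6) (vG := val) (n := 6) (N := 648)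
    (bd6 (Prod.ext (subVal_zero _ _) h0)
      (((gl_rels.mono (by decide)).subVal gl_h0 (by decide)).prod hR)) gl_card6.ge (gcl_subVal_top _ _)
  have hi : Function.Injective φ := by
    refine (injective_iff_map_eq_one φ).2 fun g hg => by_contra fun h1 => ha ?_
    obtain ⟨k, hk, e⟩ := gl_nl6 (K := φ.ker.map (gcl glval 6).subtype) (by
      rintro g hg _ ⟨k, hk, rfl⟩
      exact ⟨_, φ.normal_ker.conj_mem k hk ⟨g, hg⟩, rfl⟩) g.2 ⟨g, hg, rfl⟩ fun e => h1 (Subtype.ext e)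
    rw [← map_wval_eq (subVal_zero _ _) h0 hφ (by decide),
      show wval (subVal glval 6) [2, 4, 6] = k from Subtype.ext
        ((coe_wval_subVal gl_h0 (by decide)).trans e.symm)]
    exact hk
  rw [← range_eq_gcl hφ le_rfl, card_map_of_injective hi, gcl_subVal_top, card_top, gl_card6]

theorem loc0_mk {d : LD G} (c1 : d.j1 ^ 3 = 1) (c2 : d.j2 ^ 3 = 1) (c3 : d.j3 ^ 3 = 1)
    (m12 : d.j1 * d.j2 = d.j2 * d.j1) (m13 : d.j1 * d.j3 = d.j3 * d.j1)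
    (m23 : d.j2 * d.j3 = d.j3 * d.j2) (cx : d.x ^ 3 = 1) (x1 : d.x * d.j1 * d.x⁻¹ = d.j2)
    (x2 : d.x * d.j2 * d.x⁻¹ = d.j3) (x3 : d.x * d.j3 * d.x⁻¹ = d.j1) (tt : d.t * d.t = 1)
    (t1 : d.t * d.j1 * d.t⁻¹ = d.j1) (t2 : d.t * d.j2 * d.t⁻¹ = d.j3)
    (tx : d.t * d.x * d.t⁻¹ = d.x⁻¹) (ww : d.w * d.w = d.t) (wa : d.w * d.a * d.w⁻¹ = d.a)
    (wd : d.w * (d.j2⁻¹ * d.j3) * d.w⁻¹ = d.x) (wj : (d.w * d.j1) ^ 3 = 1) :
    RelsHold (d.val 1 1) R6 := by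
  simp only [RelsHold, R6, List.forall_mem_cons, wval_cons, wval_nil, sval, LD.val, lv]
  simp only [Nat.reduceMod, Nat.reduceDiv, ↓reduceIte, List.getD_cons_succ, List.getD_cons_zero,
    mul_one, OfNat.ofNat_ne_zero, one_ne_zero, ← mul_assoc, mul_inv_eq_one]
  refine ⟨by rw [← c1, pow_three'], by rw [← c2, pow_three'], mul_inv_eq_iff_eq_mul.2 m12,
    by rw [← c3, pow_three'], mul_inv_eq_iff_eq_mul.2 m13, mul_inv_eq_iff_eq_mul.2 m23,
    by rw [← cx, pow_three'], x1, x2, x3, tt, t1, t2, by rw [tx]; simp, ww, ?_,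
    by rw [← wd]; group, by rw [← wj, pow_three']; group, by simp⟩
  rw [mul_inv_eq_iff_eq_mul, mul_inv_eq_iff_eq_mul]
  rw [LD.a] at wa
  rw [← wa]; group

theorem loc0_map {G' : Type u} [Group G'] {d : LD G} (h : RelsHold (d.val 1 1) R6) (f : G →* G')
    (ha : f d.a ≠ 1) : Loc0 (d.map f) := by
  have hR : RelsHold ((d.map f).val 1 1) R6 := (h.map f).congr (n := 6) (by simp [LD.val_zero]) rfl
    (fun a h1 h2 => by interval_cases a <;> rfl) (by decide)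
  exact loc0_of_rels hR (card6_of rfl hR (by
    simpa [sval, LD.val, lv, LD.a, LD.map, mul_assoc] using ha))

variable [Finite G]

theorem LocU.top_of {d : LD G} {u : G} (h : LocU d u) (nr : ∀ r, ¬ d.Act r (-1)) {K : Subgroup G}
    (h1 : d.H ≤ K) (h2 : u ∈ K) : K = ⊤ := by
  refine eq_top_iff.2 ((h.eq_top nr).ge.trans (gcl_le fun a _ _ => ?_))
  interval_cases a
  exacts [h1 (d.J_le_H d.j1_mem), h1 (d.J_le_H d.j2_mem), h1 (d.J_le_H d.j3_mem),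
    h1 (d.B_le_H d.x_mem), h1 (d.B_le_H d.t_mem), h1 d.w_mem, h2]

theorem RS.top_of {d : LD G} {s1 s2 s3 : G} (h : RS d s1 s2 s3) (hb : C1 d.j1 ≤ N d.J) :
    (d.w * (s2 * s3)) ^ 4 = 1 ∧ ∀ K : Subgroup G, d.H ≤ K → s2 * s3 ∈ K → s1 ∈ K → K = ⊤ := by
  obtain ⟨P, Q, h1, h2, h3, h4, h5, h6⟩ := h.exists_G1 hb
  obtain ⟨T, hT, h7, h8⟩ := le_of_se h.ss h3 h5
  obtain ⟨Y, -, hY, sY⟩ := thompson_in hT (inf_le_right (a := Q)) (by
    have k1 := relIndex_le_of_le_right h8 (h2 ▸ two_ne_zero)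
    have k2 := relIndex_pos Q T
    have k3 : Q.relIndex T ≠ 1 := fun e => h4 (relIndex_eq_one.1 e h7)
    rw [inf_relIndex_right]
    omega) (mem_top s1) (fun g _ => by rw [h.ss]; simp) fun g _ e => h6 g e.1
  have c3 : ∀ {g}, g ^ 3 = 1 → g ∈ Y := fun e => idx2_cube le_top hY (mem_top _) e
  have hw : d.w ∈ Y := by simpa using mul_mem (c3 h.wj) (inv_mem (c3 h.c1))
  have hH : d.H ≤ Y := d.H_le (d.B_le (fun j hj => c3 (h.exp j hj)) (c3 h.cx) (h.ww ▸ mul_mem hw hw)) hw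
  have hu : s2 * s3 ∈ Y := by simpa using mul_mem (c3 h.locU.ux) (inv_mem (c3 h.cx))
  have h0 : LocU (Loc0.lift d Y hH) ⟨_, hu⟩ := LocU.of_map Y.subtype Y.subtype_injective h.locU
  have nr : ∀ r, ¬ (Loc0.lift d Y hH).Act r (-1) := fun g e0 => by
    have e1 : (g : G) * d.a * (g : G)⁻¹ = d.a⁻¹ := congrArg Subtype.val (h0.inv_a e0)
    have e2 := hH (h.cent (mem_C1_iff_conj.2 (cj_comp (h.inv_a h.act_r) (by rw [cj_inv e1, inv_inv]))))
    exact sY (by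
      simpa only [inv_mul_cancel_left, mul_inv_cancel_right] using
        mul_mem (mul_mem (inv_mem g.2) e2) (inv_mem hu))
  refine ⟨congrArg Subtype.val (h0.wu4 nr), fun K k1 k2 k3 => eq_top_iff.2 fun g _ => ?_⟩
  have k4 : K.subgroupOf Y = ⊤ := h0.top_of nr (LD.H_le _ (LD.B_le _ (LD.J_le _
    (k1 (d.J_le_H d.j1_mem)) (k1 (d.J_le_H d.j2_mem)) (k1 (d.J_le_H d.j3_mem)))
    (k1 (d.B_le_H d.x_mem)) (k1 (d.B_le_H d.t_mem))) (k1 d.w_mem)) k2
  have k5 := subgroupOf_eq_top.1 k4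
  rw [relIndex_top_right] at hY
  by_cases hg : g ∈ Y
  · exact k5 hg
  · exact (mul_mem_cancel_right k3).1 (k5 ((mul_mem_iff_of_index_two hY).2 (iff_of_false hg sY)))

end CfsgH9.P43
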