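import Cfsg.Agent.H7.W3Par

/-! S3422 (FIN), part 1: abelian subgroups of order `q²` consisting of transvections. -/

set_option autoImplicit false

namespace CfsgW3.H9F

open CfsgH5 CfsgH6 CfsgFT Subgroup
open CfsgU3 (RE)

universe u

variable {G : Type u} [Group G]

/-- a group of `q²` elations -/
structure Mb (q : ℕ) (Zs : Set G) (A : Subgroup G) : Prop where
  card : Nat.card A = q ^ 2
  ab : Ab A
  sub : ∀ x ∈ A, x ≠ 1 → x ∈ Zs

theorem le_or_le {A B X : Subgroup G} (h : ∀ x ∈ X, x ∈ A ∨ x ∈ B) : X ≤ A ∨ X ≤ B := by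
  by_contra hn
  rw [not_or, SetLike.not_le_iff_exists, SetLike.not_le_iff_exists] at hn
  obtain ⟨⟨a, a1, a2⟩, b, b1, b2⟩ := hn
  rcases h _ (mul_mem a1 b1) with f | f
  · exact a2 ((A.mul_mem_cancel_right ((h b b1).resolve_right b2)).mp f)
  · exact b2 ((B.mul_mem_cancel_left ((h a a1).resolve_left a2)).mp f)

theorem ncard_sharp [Finite G] (A : Subgroup G) : ((A : Set G) \ {1}).ncard + 1 = Nat.card A := by
  rw [Set.ncard_sdiff_singleton_add_one (one_mem A)]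
  rfl

variable [Finite G] {q r d m e : ℕ} {Zs : Set G} (V : VZ G q r d m e Zs)
include V

theorem pg {P : Subgroup G} {n : ℕ} (h : Nat.card P = q ^ n) : IsPGroup r P := by
  obtain ⟨k, hk⟩ := V.par.pw
  exact IsPGroup.of_card (n := k * n) (by rw [h, hk, pow_mul])

theorem Mb.pg {A : Subgroup G} (h : Mb q Zs A) : IsPGroup r A := H9F.pg V h.card

theorem Mb.cjj {A : Subgroup G} (h : Mb q Zs A) (g : G) : Mb q Zs (cj g A) :=
  ⟨(card_cj g A).trans h.card, h.ab.cjj g, fun x hx h1 => by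
    obtain ⟨y, hy, rfl⟩ := mem_cj'.mp hx
    exact V.Zcj y (h.sub y hy fun f => h1 (by simp [f])) g⟩

theorem dvd_cube {R : Subgroup G} (hR : IsPGroup r R) : Nat.card R ∣ q ^ 3 :=
  (coprime_of_isPGroup_of_not_dvd V.par.pr hR V.par.not_dvd_r).dvd_of_dvd_mul_right (by
    rw [← mul_assoc, ← ord, ← V.card]; exact card_subgroup_dvd_card R)

theorem le_cube {R : Subgroup G} (hR : IsPGroup r R) : Nat.card R ≤ q ^ 3 :=
  Nat.le_of_dvd (by have := V.par.q2; positivity) (dvd_cube V hR)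

theorem syl {P : Subgroup G} (h : Nat.card P = q ^ 3) : SylIn r P ⊤ :=
  ⟨le_top, pg V h, fun _ _ hT hle => (eq_of_le_of_card_le hle (h ▸ le_cube V hT)).symm⟩

theorem ex_cj {P R : Subgroup G} (h : Nat.card P = q ^ 3) (hR : IsPGroup r R) :
    ∃ g, cj g R ≤ P := by
  have := Fact.mk V.par.pr
  obtain ⟨g, -, hg⟩ := (syl V h).exists_le_cj le_top hR
  exact ⟨g⁻¹, le_cj_iff.mp hg⟩

theorem ab_dvd {R : Subgroup G} (hR : IsPGroup r R) (ha : Ab R) : Nat.card R ∣ q ^ 2 := by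
  by_cases h : ∀ x ∈ R, x ≠ 1 → x ∈ Zs
  · have e1 : Zs ∩ R = (R : Set G) \ {1} :=
      Set.ext fun x => ⟨fun f => ⟨f.2, (V.Zr x f.1).1⟩, fun f => ⟨h x f.1 f.2, f.1⟩⟩
    have e2 := V.res R hR
    rw [e1, add_assoc, ← mul_one_add, add_comm 1, ncard_sharp] at e2
    exact (Nat.dvd_add_left (dvd_mul_left _ _)).mp e2
  · push Not at h
    obtain ⟨x, h1, h2, h3⟩ := h
    exact (card_dvd_of_le' (fun y hy => mem_C1.mpr (ha.comm hy h1))).trans
      (V.cu x (RE.of_mem hR h1 h2) h3)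

theorem Mb.mem {A : Subgroup G} (h : Mb q Zs A) {x : G} (h1 : x ∈ C A) (h2 : RE r x) : x ∈ A := by
  have e1 : A ≤ C (zpowers x) := le_C_symm (zpowers_le.mpr h1)
  have e2 := ab_dvd V (isPGroup_sup V.par.pr (h.pg V) h2.isPGroup (.inl (nrm_of_le_C e1)))
    (h.ab.sup (ab_zpowers x) e1)
  rw [eq_of_le_of_card_dvd (le_sup_left : A ≤ A ⊔ zpowers x) (h.card ▸ e2)]
  exact mem_sup_right (mem_zpowers x)

theorem Mb.pair {A B : Subgroup G} (hA : Mb q Zs A) (hB : Mb q Zs B) (ne : A ≠ B) (hn : Nrm B A) :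
    Nat.card ↥(A ⊓ B) = q ∧ Nat.card ↥(A ⊔ B) = q ^ 3 ∧ ∀ z ∈ Zs, z ∈ A ⊔ B → z ∈ A ∨ z ∈ B := by
  have q2 := V.par.q2
  have hR := isPGroup_sup V.par.pr (hA.pg V) (hB.pg V) (.inr hn)
  have e1 := card_sup_mul (.inr hn)
  have e2 := V.res2 _ hR
  obtain ⟨j, hj⟩ := card_dvd_of_le' (le_sup_left : A ≤ A ⊔ B)
  obtain ⟨t, ht⟩ := dvd_cube V hR
  rw [hA.card] at hj
  rw [hA.card, hB.card] at e1
  have s1 : ((A : Set G) ∪ B) \ {1} ⊆ Zs ∩ ↑(A ⊔ B) := by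
    rintro x ⟨f | f, f1⟩
    exacts [⟨hA.sub x f f1, mem_sup_left f⟩, ⟨hB.sub x f f1, mem_sup_right f⟩]
  have c1 := Set.ncard_sdiff_singleton_add_one (s := (A : Set G) ∪ B) (.inl (one_mem A))
  have c2 := Set.ncard_union_add_ncard_inter (A : Set G) B
  have c3 : ((A : Set G) ∩ B).ncard = Nat.card ↥(A ⊓ B) := rfl
  have c4 : (A : Set G).ncard = q ^ 2 := hA.card
  have c5 : (B : Set G).ncard = q ^ 2 := hB.card
  have c6 := Set.ncard_le_ncard s1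
  rw [c3, c4, c5] at c2
  have a1 : q = j * t := Nat.eq_of_mul_eq_mul_left (by positivity : 0 < q ^ 2) (by
    rw [← mul_assoc, ← hj, ← ht]; ring)
  have j0 : 0 < j := Nat.pos_of_ne_zero fun f => by rw [f] at a1; omega
  have a2 : Nat.card ↥(A ⊓ B) = q * t := Nat.eq_of_mul_eq_mul_left (by positivity : 0 < q ^ 2 * j) (by
    rw [← hj, e1, hj, show q ^ 2 * j * (q * t) = q ^ 3 * (j * t) by ring, ← a1]; ring)
  have j1 : j ≠ 1 := fun f => by
    have f1 : A = A ⊔ B := eq_of_le_of_card_eq le_sup_left (by rw [hj, f, hA.card, mul_one])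
    exact ne (eq_of_le_of_card_eq (f1 ▸ le_sup_right) (hB.card.trans hA.card.symm)).symm
  obtain ⟨n, hn'⟩ : ∃ n, (Zs ∩ ↑(A ⊔ B)).ncard = n := ⟨_, rfl⟩
  rw [hn'] at e2 c6
  have t1 : t = 1 := by
    by_contra t1
    have t0 : t ≠ 0 := fun f => by rw [f] at a1; omega
    have b1 : q * (q + 1 + n) ≤ q * (q * j + q ^ 2) := by rw [hj] at e2; nlinarith
    have b2 := Nat.le_of_mul_le_mul_left b1 (by omega)
    have b3 : q * (q + 1) ≤ q * (j + t) := by nlinarith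
    have b4 := Nat.le_of_mul_le_mul_left b3 (by omega)
    obtain ⟨j, rfl⟩ : ∃ k, j = k + 2 := ⟨j - 2, by omega⟩
    obtain ⟨t, rfl⟩ : ∃ k, t = k + 2 := ⟨t - 2, by omega⟩
    nlinarith
  rw [t1, mul_one] at a1 a2 ht
  refine ⟨a2, ht.symm, fun z h1 h2 => ?_⟩
  have b1 : q * (q + 1 + n) ≤ q * (2 * q ^ 2) := by rw [← ht] at e2; nlinarith
  have b2 := Nat.le_of_mul_le_mul_left b1 (by omega)
  have b3 := Set.eq_of_subset_of_ncard_le s1 (by omega)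
  exact (b3.ge ⟨h1, h2⟩).1

theorem Mb.nrm {A P : Subgroup G} (hA : Mb q Zs A) (hP : IsPGroup r P) (hle : A ≤ P) :
    Nrm P A := by
  have := Fact.mk V.par.pr
  by_contra hn
  have h1 : P ⊓ N A < P := lt_of_le_of_ne inf_le_left fun f => hn (nrm_of_le_N (inf_eq_left.mp f))
  obtain ⟨x, x1, x2, x3⟩ := exists_nrm_of_lt hP h1
  have h2 : A ≤ P ⊓ N A := le_inf hle (le_N A)
  have h3 : cj x A ≤ P ⊓ N A := mem_N.mp x3 ▸ cj_mono h2
  have h4 := (hA.pair V (hA.cjj V x) (fun f => x2 ⟨x1, mem_N.mpr f.symm⟩)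
    (nrm_of_le_N (h3.trans inf_le_right))).2.1
  have h5 := card_le_of_le (sup_le h2 h3)
  have h6 := card_lt_of_lt h1
  have h7 := le_cube V hP
  omega

theorem Mb.two {A B X P : Subgroup G} (hA : Mb q Zs A) (hB : Mb q Zs B) (hX : Mb q Zs X)
    (hP : IsPGroup r P) (h1 : A ≤ P) (h2 : B ≤ P) (h3 : X ≤ P) (ne : A ≠ B) : X = A ∨ X = B := by
  obtain ⟨-, e1, e2⟩ := hA.pair V hB ne fun b hb => hA.nrm V hP h1 b (h2 hb)
  have e3 : A ⊔ B = P := eq_of_le_of_card_le (sup_le h1 h2) (e1 ▸ le_cube V hP)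
  refine (le_or_le fun x hx => ?_).imp (eq_of_le_of_card_eq · (hX.card.trans hA.card.symm))
    (eq_of_le_of_card_eq · (hX.card.trans hB.card.symm))
  by_cases f : x = 1
  · exact .inl (f ▸ one_mem A)
  · exact e2 x (hX.sub x hx f) (e3 ▸ h3 hx)

/-- a transvection normalising two members that normalise each other lies in one of them -/
theorem Mb.inN {A B : Subgroup G} (hA : Mb q Zs A) (hB : Mb q Zs B) (ne : A ≠ B) (hn : Nrm B A)
    {z : G} (hz : z ∈ Zs) (h1 : z ∈ N A) (h2 : z ∈ N B) : z ∈ A ∨ z ∈ B := by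
  obtain ⟨-, e1, e2⟩ := hA.pair V hB ne hn
  refine e2 z hz ((syl V e1).le_of_nrm' V.par.pr le_top (V.Zr z hz).isPGroup
    (nrm_zpowers_iff.mpr (mem_N.mpr ?_)) (mem_zpowers z))
  rw [CfsgFT.cj_sup, mem_N.mp h1, mem_N.mp h2]

variable {E : Subgroup G} (F : FL G q r Zs E)
include F

theorem exP {z : G} (hz : z ∈ Zs) :
    ∃ P : Subgroup G, Nat.card P = q ^ 3 ∧ ∀ A, Mb q Zs A → (z ∈ A ↔ A ≤ P) := by
  obtain ⟨P, h1, h2, h3⟩ := F.clo z hz
  refine ⟨P, h1, fun A hA => ⟨fun f x hx => ?_, fun f => ?_⟩⟩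
  · by_cases f1 : x = 1
    · exact f1 ▸ one_mem P
    · exact h3 x (mem_C1.mpr (hA.ab.comm hx f)) (RE.of_mem (hA.pg V) hx f1)
  · exact hA.mem V (le_C1_iff.mp (f.trans h2)) (V.Zr z hz)

theorem Mb.adjN {A B : Subgroup G} (hA : Mb q Zs A) (hB : Mb q Zs B) (h : A ⊓ B ≠ ⊥) :
    Nrm B A := by
  obtain ⟨⟨z, z1, z2⟩, z3⟩ := ne_bot_iff_exists_ne_one.mp h
  obtain ⟨P, h1, h2⟩ := exP V F (hA.sub z z1 fun f => z3 (Subtype.ext f))
  exact fun b hb => hA.nrm V (H9F.pg V h1) ((h2 A hA).mp z1) b ((h2 B hB).mp z2 hb)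

theorem Mb.three {A B X : Subgroup G} (hA : Mb q Zs A) (hB : Mb q Zs B) (hX : Mb q Zs X) {z : G}
    (h0 : z ≠ 1) (h1 : z ∈ A) (h2 : z ∈ B) (h3 : z ∈ X) (ne : A ≠ B) : X = A ∨ X = B := by
  obtain ⟨P, e1, e2⟩ := exP V F (hA.sub z h1 h0)
  exact hA.two V hB hX (H9F.pg V e1) ((e2 A hA).mp h1) ((e2 B hB).mp h2) ((e2 X hX).mp h3) ne

/-- a member is the product of its intersections with two neighbours -/
theorem Mb.split {A B X : Subgroup G} (hA : Mb q Zs A) (hB : Mb q Zs B) (hX : Mb q Zs X)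
    (ne : A ≠ B) (n1 : X ≠ A) (n2 : X ≠ B) (h1 : X ⊓ A ≠ ⊥) (h2 : X ⊓ B ≠ ⊥) :
    X = X ⊓ A ⊔ X ⊓ B := by
  have e1 := (hX.pair V hA n1 (hX.adjN V F hA h1)).1
  have e2 := (hX.pair V hB n2 (hX.adjN V F hB h2)).1
  have e3 : X ⊓ A ⊓ (X ⊓ B) = ⊥ := eq_bot_iff.mpr fun z hz => by
    by_contra f
    exact (hA.three V F hB hX f hz.1.2 hz.2.2 hz.1.1 ne).elim n1 n2
  refine (eq_of_le_of_card_eq (sup_le inf_le_left inf_le_left) ?_).symm
  have e4 : Nrm (X ⊓ A) (X ⊓ B) := fun a ha => hX.ab.nrm inf_le_left a ha.1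
  rw [card_sup_of_inf_eq_bot (.inl e4) e3, e1, e2, hX.card, sq]

theorem Mb.tri {A B X : Subgroup G} (hA : Mb q Zs A) (hB : Mb q Zs B) (hX : Mb q Zs X)
    (ne : A ≠ B) (n1 : X ≠ A) (n2 : X ≠ B) (h1 : X ⊓ A ≠ ⊥) (h2 : X ⊓ B ≠ ⊥) : A ⊓ B = ⊥ := by
  by_contra h3
  refine (hA.two V hB hX (isPGroup_sup V.par.pr (hA.pg V) (hB.pg V) (.inr (hA.adjN V F hB h3)))
    le_sup_left le_sup_right ?_ ne).elim n1 n2
  rw [hA.split V F hB hX ne n1 n2 h1 h2]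
  exact sup_le_sup inf_le_right inf_le_right

end CfsgW3.H9F
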